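import Mathlib

/-!
Similarity of endomorphisms over a field: two endomorphisms are conjugate as soon as for every
monic irreducible polynomial `q` and every `k` the kernels of `q^k` have the same dimension.
-/

set_option autoImplicit false

namespace Cfsg.Agent.Lib.Similar

open Polynomial Module

variable {F : Type*} [Field F]

/-- dimension of the kernel of `q(T)` -/
noncomputable def kerDim {V : Type*} [AddCommGroup V] [Module F V] (T : Module.End F V)
    (q : F[X]) : ℕ :=
  finrank F (LinearMap.ker (aeval T q))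

section Model

variable {M : Type*} [AddCommGroup M] [Module F M] [Module F[X] M] [IsScalarTower F F[X] M]

/-- multiplication by a polynomial as an `F`-linear map -/
noncomputable def smulEnd (q : F[X]) : M →ₗ[F] M :=
  ((LinearMap.lsmul F[X] M) q).restrictScalars F

omit [IsScalarTower F F[X] M] in
lemma mem_ker_smulEnd [IsScalarTower F F[X] M] (q : F[X]) (x : M) :
    x ∈ LinearMap.ker (smulEnd (M := M) q) ↔ q • x = 0 := by
  simp [smulEnd]

end Model

lemma finrank_ker_smul_quot {a b g : F[X]} (ha : a ≠ 0)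
    (hg : Ideal.span {a} ⊔ Ideal.span {b} = Ideal.span {g}) :
    finrank F (LinearMap.ker (smulEnd (M := F[X] ⧸ Ideal.span {a}) b)) = g.natDegree := by
  classical
  have : Module.Finite F (F[X] ⧸ Ideal.span {a}) := (AdjoinRoot.powerBasis ha).finite
  set f := smulEnd (M := F[X] ⧸ Ideal.span {a}) b with hf
  have h1 : finrank F (LinearMap.ker f) =
      finrank F ((F[X] ⧸ Ideal.span {a}) ⧸ LinearMap.range f) := by
    have e1 := f.finrank_range_add_finrank_ker
    have e2 := Submodule.finrank_quotient_add_finrank (LinearMap.range f)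
    omega
  rw [h1]
  let π : F[X] →ₗ[F] (F[X] ⧸ Ideal.span {a}) ⧸ LinearMap.range f :=
    (LinearMap.range f).mkQ.comp ((Ideal.Quotient.mkₐ F (Ideal.span {a})).toLinearMap)
  have hsurj : Function.Surjective π :=
    (Submodule.mkQ_surjective _).comp Ideal.Quotient.mk_surjective
  have hker : LinearMap.ker π = (Ideal.span {g}).restrictScalars F := by
    ext x
    rw [← hg]
    simp only [π, LinearMap.mem_ker, LinearMap.comp_apply, Submodule.mkQ_apply,
      Submodule.Quotient.mk_eq_zero, LinearMap.mem_range, AlgHom.toLinearMap_apply,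
      Ideal.Quotient.mkₐ_eq_mk, Submodule.restrictScalars_mem, Submodule.mem_sup]
    constructor
    · rintro ⟨y, hy⟩
      obtain ⟨y, rfl⟩ := Ideal.Quotient.mk_surjective y
      refine ⟨x - b * y, ?_, b * y, Ideal.mul_mem_right _ _ (Ideal.mem_span_singleton_self b),
        by ring⟩
      rw [← Ideal.Quotient.eq]
      exact hy.symm
    · rintro ⟨u, hu, v, hv, rfl⟩
      obtain ⟨y, rfl⟩ := Ideal.mem_span_singleton'.1 hv
      refine ⟨Ideal.Quotient.mk _ y, ?_⟩
      rw [map_add, Ideal.Quotient.eq_zero_iff_mem.2 hu, zero_add, mul_comm]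
      rfl
  have e := (LinearMap.quotKerEquivOfSurjective π hsurj).finrank_eq
  rw [← e, hker]
  rw [(Submodule.Quotient.restrictScalarsEquiv F (Ideal.span {g} : Submodule F[X] F[X])).finrank_eq]
  exact finrank_quotient_span_eq_natDegree

/-- the index data of a decomposition into cyclic modules -/
structure Decomp {V : Type*} [AddCommGroup V] [Module F V] (T : Module.End F V) where
  ι : Type
  [fin : Fintype ι]
  p : ι → F[X]
  e : ι → ℕ
  monic : ∀ i, (p i).Monic
  irr : ∀ i, Irreducible (p i)
  pos : ∀ i, 1 ≤ e i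
  equiv : AEval' T ≃ₗ[F[X]] ((i : ι) → F[X] ⧸ Ideal.span {p i ^ e i})

theorem nonempty_decomp {V : Type*} [AddCommGroup V] [Module F V] [Module.Finite F V]
    (T : Module.End F V) : Nonempty (Decomp T) := by
  classical
  have htor : Module.IsTorsion F[X] (AEval' T) :=
    Module.AEval.isTorsion_of_finiteDimensional F V T
  obtain ⟨ι, fι, p, hp, e, ⟨eq0⟩⟩ := Module.equiv_directSum_of_isTorsion htor
  -- normalise and drop the zero summands
  let p' : ι → F[X] := fun i => p i * C (p i).leadingCoeff⁻¹
  have hspan : ∀ i, Ideal.span {p' i ^ e i} = (F[X] ∙ p i ^ e i) := fun i => by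
    apply Ideal.span_singleton_eq_span_singleton.2
    apply Associated.pow_pow
    refine Associated.symm (associated_mul_unit_right _ _ ?_)
    exact isUnit_C.2 (IsUnit.mk0 _ (inv_ne_zero (leadingCoeff_ne_zero.2 (hp i).ne_zero)))
  let s : Type _ := {i : ι // 1 ≤ e i}
  let k := Fintype.card s
  let σ : Fin k ≃ s := (Fintype.equivFin s).symm
  let M : ι → Type _ := fun i => F[X] ⧸ (F[X] ∙ p i ^ e i)
  let res : ((i : ι) → M i) →ₗ[F[X]] ((j : Fin k) → M (σ j).1) :=
    LinearMap.pi (fun j => LinearMap.proj (σ j).1)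
  have hbij : Function.Bijective res := by
    constructor
    · intro x y hxy
      funext i
      by_cases h : 1 ≤ e i
      · have h1 := congrFun hxy (σ.symm ⟨i, h⟩)
        have h2 : (σ (σ.symm ⟨i, h⟩)).1 = i := by simp
        simp only [res, LinearMap.pi_apply, LinearMap.proj_apply] at h1
        generalize hj : (σ (σ.symm ⟨i, h⟩)).1 = j at h1 h2
        subst h2
        exact h1
      · have he : e i = 0 := by omega
        have : Subsingleton (M i) := by
          apply Submodule.Quotient.subsingleton_iff.2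
          simp [he]
        exact Subsingleton.elim _ _
    · intro z
      refine ⟨fun i => if h : 1 ≤ e i then
        (congrArg (fun t : s => M t.1) (σ.apply_symm_apply ⟨i, h⟩)) ▸ z (σ.symm ⟨i, h⟩) else 0, ?_⟩
      funext j
      simp only [res, LinearMap.pi_apply, LinearMap.proj_apply, dif_pos (σ j).2]
      have : σ.symm ⟨(σ j).1, (σ j).2⟩ = j := by simp
      generalize_proofs hh hh'
      revert hh'
      rw [this]
      intro hh'
      rfl
  let eqv : AEval' T ≃ₗ[F[X]] ((j : Fin k) → M (σ j).1) :=
    (eq0.trans (DirectSum.linearEquivFunOnFintype F[X] ι M)).trans (LinearEquiv.ofBijective res hbij)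
  exact ⟨{ ι := Fin k, p := fun j => p' (σ j).1, e := fun j => e (σ j).1
           monic := fun j => monic_mul_leadingCoeff_inv (hp _).ne_zero
           irr := fun j => (irreducible_mul_leadingCoeff_inv).2 (hp _)
           pos := fun j => (σ j).2
           equiv := eqv.trans (LinearEquiv.piCongrRight fun j =>
             Submodule.quotEquivOfEq _ _ (hspan (σ j).1).symm) }⟩

attribute [instance] Decomp.fin

variable {V : Type*} [AddCommGroup V] [Module F V] {T : Module.End F V}

theorem kerDim_eq_sum (D : Decomp T) (b : F[X]) :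
    kerDim T b = ∑ i, finrank F (LinearMap.ker (smulEnd (M := F[X] ⧸ Ideal.span {D.p i ^ D.e i}) b)) := by
  classical
  let φ : V ≃ₗ[F] ((i : D.ι) → F[X] ⧸ Ideal.span {D.p i ^ D.e i}) :=
    (AEval'.of T).trans (D.equiv.restrictScalars F)
  have hφ : ∀ v, φ (aeval T b v) = b • φ v := fun v => by
    simp only [φ, LinearEquiv.trans_apply, LinearEquiv.restrictScalars_apply]
    rw [← map_smul, ← AEval.of_aeval_smul]
    rfl
  let e1 : LinearMap.ker (aeval T b) ≃ₗ[F]
      ((i : D.ι) → LinearMap.ker (smulEnd (M := F[X] ⧸ Ideal.span {D.p i ^ D.e i}) b)) :=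
    { toFun := fun v i => ⟨φ v.1 i, by
        have h := congrFun (hφ v.1) i
        rw [LinearMap.mem_ker.1 v.2, map_zero] at h
        rw [mem_ker_smulEnd]
        simpa using h.symm⟩
      map_add' := fun v w => by ext i; simp
      map_smul' := fun c v => by ext i; simp
      invFun := fun z => ⟨φ.symm (fun i => (z i).1), by
        rw [LinearMap.mem_ker]
        apply φ.injective
        rw [hφ, LinearEquiv.apply_symm_apply, map_zero]
        funext i
        exact (mem_ker_smulEnd b _).1 (z i).2⟩
      left_inv := fun v => by ext; simp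
      right_inv := fun z => by ext i; simp }
  rw [kerDim, e1.finrank_eq]
  have : ∀ i, Module.Finite F (F[X] ⧸ Ideal.span {D.p i ^ D.e i}) := fun i =>
    (AdjoinRoot.powerBasis (pow_ne_zero _ (D.irr i).ne_zero)).finite
  exact Module.finrank_pi_fintype F

open scoped Classical in
theorem kerDim_pow (D : Decomp T) {q : F[X]} (hq : Irreducible q) (hm : q.Monic) (k : ℕ) :
    kerDim T (q ^ k) = q.natDegree * ∑ i, if D.p i = q then min (D.e i) k else 0 := by
  rw [kerDim_eq_sum D, Finset.mul_sum]
  refine Finset.sum_congr rfl fun i _ => ?_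
  by_cases h : D.p i = q
  · rw [if_pos h]
    subst h
    rw [finrank_ker_smul_quot (g := D.p i ^ min (D.e i) k) (pow_ne_zero _ (D.irr i).ne_zero),
      natDegree_pow, mul_comm]
    rcases le_total (D.e i) k with hle | hle
    · rw [min_eq_left hle, sup_eq_left, Ideal.span_singleton_le_span_singleton]
      exact pow_dvd_pow _ hle
    · rw [min_eq_right hle, sup_eq_right, Ideal.span_singleton_le_span_singleton]
      exact pow_dvd_pow _ hle
  · rw [if_neg h, mul_zero, finrank_ker_smul_quot (g := 1) (pow_ne_zero _ (D.irr i).ne_zero),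
      natDegree_one]
    have hco : IsCoprime (D.p i ^ D.e i) (q ^ k) := by
      apply IsCoprime.pow
      exact (D.irr i).coprime_iff_not_dvd.2 fun h' => h (eq_of_monic_of_associated (D.monic i) hm
          ((D.irr i).associated_of_dvd hq h'))
    rw [Ideal.span_singleton_one, ← Ideal.isCoprime_iff_sup_eq, Ideal.isCoprime_span_singleton_iff]
    exact hco

theorem card_fiber_eq {V' : Type*} [AddCommGroup V'] [Module F V'] {T' : Module.End F V'}
    (D : Decomp T) (D' : Decomp T')
    (h : ∀ q : F[X], Irreducible q → q.Monic → ∀ k, kerDim T (q ^ k) = kerDim T' (q ^ k))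
    (y : F[X] × ℕ) :
    Nat.card {i // (D.p i, D.e i) = y} = Nat.card {i // (D'.p i, D'.e i) = y} := by
  classical
  obtain ⟨q, e⟩ := y
  by_cases hq : Irreducible q ∧ q.Monic ∧ 1 ≤ e
  swap
  · have z : ∀ (W : Type _) [AddCommGroup W] [Module F W] (S : Module.End F W) (E : Decomp S),
        Nat.card {i // (E.p i, E.e i) = (q, e)} = 0 := by
      intro W _ _ S E
      rw [Nat.card_eq_zero]
      left
      constructor
      rintro ⟨i, hi⟩
      simp only [Prod.mk.injEq] at hi
      exact hq ⟨hi.1 ▸ E.irr i, hi.1 ▸ E.monic i, hi.2 ▸ E.pos i⟩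
    rw [z V T D]
    rw [Nat.card_eq_zero.2]
    left
    constructor
    rintro ⟨i, hi⟩
    simp only [Prod.mk.injEq] at hi
    exact hq ⟨hi.1 ▸ D'.irr i, hi.1 ▸ D'.monic i, hi.2 ▸ D'.pos i⟩
  obtain ⟨hirr, hm, he⟩ := hq
  let g : ∀ {ι : Type} [Fintype ι] (p : ι → F[X]) (f : ι → ℕ) (k : ℕ), ℕ :=
    fun p f k => ∑ i, if p i = q then min (f i) k else 0
  have hg : ∀ k, g D.p D.e k = g D'.p D'.e k := fun k => by
    have := h q hirr hm k
    rw [kerDim_pow D hirr hm, kerDim_pow D' hirr hm] at this
    exact Nat.eq_of_mul_eq_mul_left (hirr.natDegree_pos) this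
  have hid : ∀ {ι : Type} [Fintype ι] (p : ι → F[X]) (f : ι → ℕ),
      Nat.card {i // (p i, f i) = (q, e)} + g p f (e - 1) + g p f (e + 1) = 2 * g p f e := by
    intro ι _ p f
    rw [Nat.card_eq_fintype_card, Fintype.card_subtype, Finset.card_filter, Finset.mul_sum,
      ← Finset.sum_add_distrib, ← Finset.sum_add_distrib]
    refine Finset.sum_congr rfl fun i _ => ?_
    simp only [Prod.mk.injEq]
    by_cases hpi : p i = q
    · simp only [hpi, if_true, true_and]
      split_ifs <;> omega
    · simp [hpi]
  have h1 := hid D.p D.e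
  have h2 := hid D'.p D'.e
  rw [hg, hg, hg] at h1
  omega

/-- Two endomorphisms with the same kernel dimensions of all prime powers are conjugate. -/
theorem exists_conj_of_kerDim_eq [Module.Finite F V] {V' : Type*} [AddCommGroup V'] [Module F V']
    [Module.Finite F V'] (T : Module.End F V) (T' : Module.End F V')
    (h : ∀ q : F[X], Irreducible q → q.Monic → ∀ k, kerDim T (q ^ k) = kerDim T' (q ^ k)) :
    ∃ u : V ≃ₗ[F] V', ∀ v, u (T v) = T' (u v) := by
  classical
  obtain ⟨D⟩ := nonempty_decomp T
  obtain ⟨D'⟩ := nonempty_decomp T'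
  let key : D.ι → F[X] × ℕ := fun i => (D.p i, D.e i)
  let key' : D'.ι → F[X] × ℕ := fun i => (D'.p i, D'.e i)
  have efib : ∀ y, {i // key i = y} ≃ {i // key' i = y} := fun y =>
    Classical.choice (Finite.card_eq.1 (card_fiber_eq D D' h y))
  let σ : D.ι ≃ D'.ι := Equiv.ofFiberEquiv efib
  have hσ : ∀ i, key' (σ i) = key i := fun i => Equiv.ofFiberEquiv_map efib i
  have hsp : ∀ i, Ideal.span {D.p i ^ D.e i} = Ideal.span {D'.p (σ i) ^ D'.e (σ i)} := fun i => by
    have := hσ i
    simp only [key, key', Prod.mk.injEq] at this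
    rw [this.1, this.2]
  let E : AEval' T ≃ₗ[F[X]] AEval' T' :=
    (D.equiv.trans (LinearEquiv.piCongrRight fun i => Submodule.quotEquivOfEq _ _ (hsp i))).trans
      ((LinearEquiv.piCongrLeft F[X] (fun j => F[X] ⧸ Ideal.span {D'.p j ^ D'.e j}) σ).trans
        D'.equiv.symm)
  refine ⟨(AEval'.of T).trans ((E.restrictScalars F).trans (AEval'.of T').symm), fun v => ?_⟩
  simp only [LinearEquiv.trans_apply, LinearEquiv.restrictScalars_apply]
  rw [← AEval'.X_smul_of, map_smul, AEval'.of_symm_X_smul]

section Matrices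

variable {n : Type*} [Fintype n] [DecidableEq n]

theorem isConj_of_kerDim_eq (A B : Matrix n n F)
    (h : ∀ q : F[X], Irreducible q → q.Monic → ∀ k,
      kerDim (Matrix.toLinAlgEquiv' A) (q ^ k) = kerDim (Matrix.toLinAlgEquiv' B) (q ^ k)) :
    IsConj A B := by
  obtain ⟨u, hu⟩ := exists_conj_of_kerDim_eq _ _ h
  let P : (Matrix n n F)ˣ :=
    { val := LinearMap.toMatrixAlgEquiv' u.toLinearMap
      inv := LinearMap.toMatrixAlgEquiv' u.symm.toLinearMap
      val_inv := by rw [← map_mul]; convert map_one (LinearMap.toMatrixAlgEquiv' (R := F) (n := n)); ext v; simp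
      inv_val := by rw [← map_mul]; convert map_one (LinearMap.toMatrixAlgEquiv' (R := F) (n := n)); ext v; simp }
  refine ⟨P, ?_⟩
  show (P : Matrix n n F) * A = B * P
  apply Matrix.toLinAlgEquiv'.injective
  apply LinearMap.ext
  intro v
  simp only [map_mul, Module.End.mul_apply, P, Matrix.toLinAlgEquiv'_toMatrixAlgEquiv']
  exact hu v

end Matrices

end Cfsg.Agent.Lib.Similar
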