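import Mathlib
import Cfsg.Agent.Lib.Similar.Basic

/-!
Semisimple endomorphisms: conjugacy is determined by the characteristic polynomial; the
centraliser has surjective determinant over a finite field.
-/

set_option autoImplicit false

namespace Cfsg.Agent.Lib.Similar

open Polynomial Module

variable {F : Type*} [Field F]

section Block

variable {R : Type*} [CommRing R] {ι : Type*} [Fintype ι] [DecidableEq ι]

theorem det_blockDiag' {m : ι → Type*} [∀ i, Fintype (m i)] [∀ i, DecidableEq (m i)]
    (M : ∀ i, Matrix (m i) (m i) R) : (Matrix.blockDiagonal' M).det = ∏ i, (M i).det := by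
  let _ : LinearOrder ι := LinearOrder.lift' (Fintype.equivFin ι) (Fintype.equivFin ι).injective
  rw [Matrix.BlockTriangular.det_fintype (Matrix.blockTriangular_blockDiagonal' M)]
  refine Finset.prod_congr rfl fun k _ => ?_
  let e : {a : Σ i, m i // a.1 = k} ≃ m k := Equiv.sigmaSubtype k
  rw [← Matrix.det_submatrix_equiv_self e.symm]
  congr 1
  ext a b
  simp [e, Matrix.toSquareBlock, Matrix.toSquareBlockProp, Equiv.sigmaSubtype]

theorem charmatrix_blockDiag' {m : ι → Type*} [∀ i, Fintype (m i)] [∀ i, DecidableEq (m i)]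
    (M : ∀ i, Matrix (m i) (m i) R) :
    Matrix.charmatrix (Matrix.blockDiagonal' M) = Matrix.blockDiagonal' (fun i => Matrix.charmatrix (M i)) := by
  ext ⟨i, a⟩ ⟨j, b⟩
  by_cases h : i = j
  · subst h
    rw [Matrix.charmatrix_apply, Matrix.blockDiagonal'_apply_eq, Matrix.blockDiagonal'_apply_eq,
      Matrix.charmatrix_apply]
    by_cases hab : a = b
    · subst hab
      simp
    · simp [hab]
  · rw [Matrix.charmatrix_apply_ne _ _ _ (by simp [h]), Matrix.blockDiagonal'_apply_ne _ _ _ h,
      Matrix.blockDiagonal'_apply_ne _ _ _ h]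
    simp

variable {W : ι → Type*} [∀ i, AddCommGroup (W i)] [∀ i, Module F (W i)]
  [∀ i, Module.Finite F (W i)]

/-- componentwise endomorphism -/
def piEnd (f : ∀ i, Module.End F (W i)) : Module.End F ((i : ι) → W i) :=
  LinearMap.pi fun i => (f i).comp (LinearMap.proj i)

theorem piEnd_apply (f : ∀ i, Module.End F (W i)) (x : (i : ι) → W i) (i : ι) :
    piEnd f x i = f i (x i) := rfl

theorem toMatrix_piEnd {m : ι → Type*} [∀ i, Fintype (m i)] [∀ i, DecidableEq (m i)]
    (b : ∀ i, Basis (m i) F (W i)) (f : ∀ i, Module.End F (W i)) :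
    LinearMap.toMatrix (Pi.basis b) (Pi.basis b) (piEnd f) =
      Matrix.blockDiagonal' (fun i => LinearMap.toMatrix (b i) (b i) (f i)) := by
  ext ⟨i, a⟩ ⟨j, c⟩
  rw [LinearMap.toMatrix_apply, Pi.basis_repr, piEnd_apply]
  by_cases h : i = j
  · subst h
    rw [Matrix.blockDiagonal'_apply_eq, LinearMap.toMatrix_apply]
    simp [Pi.basis_apply]
  · rw [Matrix.blockDiagonal'_apply_ne _ _ _ h]
    simp [Pi.basis_apply, Pi.single_eq_of_ne h]

theorem charpoly_piEnd (f : ∀ i, Module.End F (W i)) :
    (piEnd f).charpoly = ∏ i, (f i).charpoly := by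
  classical
  let b : ∀ i, Basis (Fin (finrank F (W i))) F (W i) := fun i => finBasis F (W i)
  rw [← LinearMap.charpoly_toMatrix (piEnd f) (Pi.basis b), toMatrix_piEnd b f, Matrix.charpoly,
    charmatrix_blockDiag', det_blockDiag']
  refine Finset.prod_congr rfl fun i _ => ?_
  rw [← LinearMap.charpoly_toMatrix (f i) (b i)]
  rfl

theorem det_piEnd (f : ∀ i, Module.End F (W i)) :
    LinearMap.det (piEnd f) = ∏ i, LinearMap.det (f i) := by
  classical
  let b : ∀ i, Basis (Fin (finrank F (W i))) F (W i) := fun i => finBasis F (W i)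
  rw [← LinearMap.det_toMatrix (Pi.basis b) (piEnd f), toMatrix_piEnd b f, det_blockDiag']
  exact Finset.prod_congr rfl fun i _ => LinearMap.det_toMatrix (b i) (f i)

end Block

lemma finite_quot {f : F[X]} (hf : f ≠ 0) : Module.Finite F (F[X] ⧸ Ideal.span {f}) :=
  (AdjoinRoot.powerBasis hf).finite

/-- multiplication by `X` on `F[X]/(f)` -/
noncomputable def mulX (f : F[X]) : Module.End F (F[X] ⧸ Ideal.span {f}) :=
  smulEnd (X : F[X])

theorem charpoly_mulX {f : F[X]} (hf : f.Monic) [Module.Finite F (F[X] ⧸ Ideal.span {f})] :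
    (mulX f).charpoly = f := by
  classical
  let pb : PowerBasis F (AdjoinRoot f) := AdjoinRoot.powerBasis' hf
  have h := charpoly_leftMulMatrix pb
  have hg : pb.gen = AdjoinRoot.root f := rfl
  have : Module.Finite F (AdjoinRoot f) := pb.finite
  rw [Algebra.leftMulMatrix_apply, hg, AdjoinRoot.minpoly_root hf.ne_zero, hf.leadingCoeff, inv_one,
    map_one, mul_one] at h
  have h2 := LinearMap.charpoly_toMatrix (Algebra.lmul F (AdjoinRoot f) (AdjoinRoot.root f)) pb.basis
  rw [h] at h2
  conv_rhs => rw [h2]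
  rfl

variable {V : Type*} [AddCommGroup V] [Module F V] {T : Module.End F V}

/-- the `F`-linear model isomorphism of a decomposition -/
noncomputable def Decomp.linEquiv (D : Decomp T) :
    V ≃ₗ[F] ((i : D.ι) → F[X] ⧸ Ideal.span {D.p i ^ D.e i}) :=
  (AEval'.of T).trans (D.equiv.restrictScalars F)

theorem Decomp.linEquiv_aeval (D : Decomp T) (b : F[X]) (v : V) :
    D.linEquiv (aeval T b v) = b • D.linEquiv v := by
  simp only [Decomp.linEquiv, LinearEquiv.trans_apply, LinearEquiv.restrictScalars_apply]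
  rw [← map_smul, ← AEval.of_aeval_smul]
  rfl

theorem Decomp.linEquiv_apply_T (D : Decomp T) (v : V) :
    D.linEquiv (T v) = piEnd (fun i => mulX (D.p i ^ D.e i)) (D.linEquiv v) := by
  have h := D.linEquiv_aeval X v
  rw [aeval_X] at h
  rw [h]
  rfl

theorem Decomp.charpoly_eq [Module.Finite F V] (D : Decomp T) :
    T.charpoly = ∏ i, D.p i ^ D.e i := by
  classical
  have : ∀ i, Module.Finite F (F[X] ⧸ Ideal.span {D.p i ^ D.e i}) := fun i =>
    finite_quot (pow_ne_zero _ (D.irr i).ne_zero)
  have h1 : D.linEquiv.conj T = piEnd (fun i => mulX (D.p i ^ D.e i)) := by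
    apply LinearMap.ext
    intro x
    rw [LinearEquiv.conj_apply_apply, D.linEquiv_apply_T, LinearEquiv.apply_symm_apply]
  rw [← D.linEquiv.charpoly_conj T, h1, charpoly_piEnd]
  exact Finset.prod_congr rfl fun i _ => charpoly_mulX ((D.monic i).pow _)

theorem Decomp.e_eq_one (D : Decomp T) {s : F[X]} (hs : Squarefree s) (hT : aeval T s = 0)
    (i : D.ι) : D.e i = 1 := by
  classical
  have h := D.linEquiv_aeval s (D.linEquiv.symm (fun j => 1))
  rw [hT, LinearMap.zero_apply, map_zero, LinearEquiv.apply_symm_apply] at h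
  have h1 := congrFun h i
  have h2 : (Ideal.Quotient.mk (Ideal.span {D.p i ^ D.e i})) s = 0 := by
    rw [← mul_one (Ideal.Quotient.mk _ s)]
    exact h1.symm
  rw [Ideal.Quotient.eq_zero_iff_mem, Ideal.mem_span_singleton] at h2
  have hp := D.pos i
  by_contra hne
  have h3 : D.p i * D.p i ∣ s := by
    refine dvd_trans ?_ h2
    rw [← pow_two]
    exact pow_dvd_pow _ (by omega)
  exact (D.irr i).not_isUnit (hs _ h3)

/-- conjugacy of semisimple endomorphisms is decided by the characteristic polynomial -/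
theorem exists_conj_of_charpoly_eq [Module.Finite F V] {V' : Type*} [AddCommGroup V'] [Module F V']
    [Module.Finite F V'] (T : Module.End F V) (T' : Module.End F V') {s s' : F[X]}
    (hs : Squarefree s) (hT : aeval T s = 0) (hs' : Squarefree s') (hT' : aeval T' s' = 0)
    (hc : T.charpoly = T'.charpoly) : ∃ u : V ≃ₗ[F] V', ∀ v, u (T v) = T' (u v) := by
  classical
  obtain ⟨D⟩ := nonempty_decomp T
  obtain ⟨D'⟩ := nonempty_decomp T'
  have he := D.e_eq_one hs hT
  have he' := D'.e_eq_one hs' hT'
  rw [D.charpoly_eq, D'.charpoly_eq] at hc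
  simp only [he, he', pow_one] at hc
  have key : ∀ {ι : Type} [Fintype ι] (p : ι → F[X]), (∀ i, (p i).Monic) → (∀ i, Irreducible (p i)) →
      UniqueFactorizationMonoid.normalizedFactors (∏ i, p i) = Finset.univ.val.map p := by
    intro ι _ p hm hi
    rw [show ∏ i, p i = (Finset.univ.val.map p).prod from rfl,
      UniqueFactorizationMonoid.normalizedFactors_prod_eq _ (by simp; exact hi), Multiset.map_map]
    exact Multiset.map_congr rfl fun i _ => (hm i).normalize_eq_self
  have hms : Finset.univ.val.map D.p = Finset.univ.val.map D'.p := by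
    rw [← key D.p D.monic D.irr, hc, key D'.p D'.monic D'.irr]
  refine exists_conj_of_kerDim_eq T T' fun q hq hm k => ?_
  rw [kerDim_pow D hq hm, kerDim_pow D' hq hm]
  simp only [he, he']
  congr 1
  have h2 := congrArg (fun M : Multiset F[X] => (M.map fun x => if x = q then min 1 k else 0).sum) hms
  simp only [Multiset.map_map, Function.comp_def] at h2
  exact h2

/-- over a finite field a nonzero semisimple endomorphism commutes with maps of every determinant -/
theorem exists_commute_det_eq [Finite F] [Module.Finite F V] [Nontrivial V] (T : Module.End F V)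
    {s : F[X]} (hs : Squarefree s) (hT : aeval T s = 0) (c : Fˣ) :
    ∃ u : V ≃ₗ[F] V, (∀ v, u (T v) = T (u v)) ∧ LinearMap.det (u : V →ₗ[F] V) = c := by
  classical
  obtain ⟨D⟩ := nonempty_decomp T
  have he := D.e_eq_one hs hT
  have hne : Nonempty D.ι := by
    by_contra h
    rw [not_nonempty_iff] at h
    exact not_subsingleton V D.linEquiv.toEquiv.subsingleton
  obtain ⟨i0⟩ := hne
  have hfld : (Ideal.span {D.p i0 ^ D.e i0}).IsMaximal := by
    rw [he i0, pow_one]
    exact PrincipalIdealRing.isMaximal_of_irreducible (D.irr i0)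
  have hfin : ∀ i, Module.Finite F (F[X] ⧸ Ideal.span {D.p i ^ D.e i}) := fun i =>
    finite_quot (pow_ne_zero _ (D.irr i).ne_zero)
  have hlam : ∃ l : F[X] ⧸ Ideal.span {D.p i0 ^ D.e i0}, Algebra.norm F l = (c : F) := by
    let _ : Field (F[X] ⧸ Ideal.span {D.p i0 ^ D.e i0}) := Ideal.Quotient.field _
    have : Finite (F[X] ⧸ Ideal.span {D.p i0 ^ D.e i0}) := Module.finite_of_finite F
    exact FiniteField.norm_surjective F _ (c : F)
  obtain ⟨l, hl⟩ := hlam
  let f : ∀ i, Module.End F (F[X] ⧸ Ideal.span {D.p i ^ D.e i}) := fun i =>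
    if h : i = i0 then h ▸ Algebra.lmul F _ l else 1
  have hdet : ∀ i, LinearMap.det (f i) = if i = i0 then (c : F) else 1 := by
    intro i
    by_cases h : i = i0
    · subst h
      simp only [f, dif_pos, if_true]
      rw [← hl]
      rfl
    · simp [f, h]
  have hcomm : ∀ i, ∀ x, f i (mulX (D.p i ^ D.e i) x) = mulX (D.p i ^ D.e i) (f i x) := by
    intro i x
    by_cases h : i = i0
    · subst h
      simp only [f, dif_pos]
      simp [mulX, smulEnd, mul_smul_comm]
    · simp [f, h]
  let g : Module.End F V := D.linEquiv.symm.conj (piEnd f)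
  have hgdet : LinearMap.det g = c := by
    show LinearMap.det (D.linEquiv.symm.conj (piEnd f)) = _
    rw [show D.linEquiv.symm.conj (piEnd f) = D.linEquiv.symm.toLinearMap ∘ₗ piEnd f ∘ₗ D.linEquiv.symm.symm.toLinearMap from rfl,
      LinearMap.det_conj, det_piEnd]
    simp [hdet]
  let u : V ≃ₗ[F] V := LinearMap.equivOfDetNeZero g (by rw [hgdet]; exact c.ne_zero)
  have hu : ∀ v, u v = g v := fun v => rfl
  refine ⟨u, fun v => ?_, ?_⟩
  · rw [hu, hu]
    apply D.linEquiv.injective
    simp only [g, LinearEquiv.conj_apply_apply, LinearEquiv.symm_symm, LinearEquiv.apply_symm_apply,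
      D.linEquiv_apply_T]
    funext i
    simp only [piEnd_apply]
    exact hcomm i _
  · exact hgdet

end Cfsg.Agent.Lib.Similar
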