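import Mathlib
import Cfsg.Agent.Lib.Similar.Semisimple

/-!
Similarity of invertible matrices: semisimple elements of `GL_n` over a finite field.
-/

set_option autoImplicit false

namespace Cfsg.Agent.Lib.Similar

open Polynomial Module

variable {F : Type*} [Field F] {n : Type*} [Fintype n] [DecidableEq n]

/-- the endomorphism of a matrix -/
noncomputable abbrev toEnd (A : Matrix n n F) : Module.End F (n → F) := Matrix.toLinAlgEquiv' A

theorem charpoly_toEnd (A : Matrix n n F) : (toEnd A).charpoly = A.charpoly :=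
  Matrix.charpoly_toLin' A

/-- the invertible matrix of a linear equivalence -/
noncomputable def toGL (u : (n → F) ≃ₗ[F] (n → F)) : GL n F :=
  { val := LinearMap.toMatrixAlgEquiv' u.toLinearMap
    inv := LinearMap.toMatrixAlgEquiv' u.symm.toLinearMap
    val_inv := by rw [← map_mul]; convert map_one (LinearMap.toMatrixAlgEquiv' (R := F) (n := n)); ext v; simp
    inv_val := by rw [← map_mul]; convert map_one (LinearMap.toMatrixAlgEquiv' (R := F) (n := n)); ext v; simp }

theorem toEnd_toGL (u : (n → F) ≃ₗ[F] (n → F)) : toEnd (toGL u : Matrix n n F) = u.toLinearMap :=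
  Matrix.toLinAlgEquiv'_toMatrixAlgEquiv' _

theorem det_toGL (u : (n → F) ≃ₗ[F] (n → F)) :
    (toGL u : Matrix n n F).det = LinearMap.det u.toLinearMap := by
  rw [show (toGL u : Matrix n n F) = LinearMap.toMatrix' u.toLinearMap from rfl, LinearMap.det_toMatrix']

theorem toGL_mul_eq {u : (n → F) ≃ₗ[F] (n → F)} {A B : Matrix n n F}
    (h : ∀ v, u (toEnd A v) = toEnd B (u v)) :
    (toGL u : Matrix n n F) * A = B * (toGL u : Matrix n n F) := by
  apply Matrix.toLinAlgEquiv'.injective
  apply LinearMap.ext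
  intro v
  simp only [map_mul, Module.End.mul_apply]
  have e : Matrix.toLinAlgEquiv' (toGL u : Matrix n n F) = u.toLinearMap := toEnd_toGL u
  rw [e]
  exact h v

theorem toGL_conj_eq {u : (n → F) ≃ₗ[F] (n → F)} {x y : GL n F}
    (h : ∀ v, u (toEnd (x : Matrix n n F) v) = toEnd (y : Matrix n n F) (u v)) :
    toGL u * x * (toGL u)⁻¹ = y := by
  rw [mul_inv_eq_iff_eq_mul]
  apply Units.ext
  simp only [Units.val_mul]
  exact toGL_mul_eq h

section Semisimple

variable {p : ℕ} [Fact p.Prime] [CharP F p]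

theorem squarefree_X_pow_sub_one {m : ℕ} (hm : m.Coprime p) : Squarefree (X ^ m - 1 : F[X]) := by
  have hdvd : ¬ p ∣ m := by
    rw [← (Fact.out : p.Prime).coprime_iff_not_dvd]
    exact hm.symm
  simpa using (separable_X_pow_sub_C' (F := F) p m 1 hdvd one_ne_zero).squarefree

omit [Fact p.Prime] [CharP F p] in
theorem aeval_toEnd_pow_sub_one (x : GL n F) :
    aeval (toEnd (x : Matrix n n F)) (X ^ orderOf x - 1 : F[X]) = 0 := by
  rw [map_sub, map_one, map_pow, aeval_X, ← map_pow, ← Units.val_pow_eq_pow_val, pow_orderOf_eq_one]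
  simp

theorem isConj_of_charpoly_eq {x y : GL n F} (hx : (orderOf x).Coprime p)
    (hy : (orderOf y).Coprime p)
    (hc : (x : Matrix n n F).charpoly = (y : Matrix n n F).charpoly) : IsConj x y := by
  obtain ⟨u, hu⟩ := exists_conj_of_charpoly_eq (toEnd (x : Matrix n n F)) (toEnd (y : Matrix n n F))
    (squarefree_X_pow_sub_one hx) (aeval_toEnd_pow_sub_one x) (squarefree_X_pow_sub_one hy)
    (aeval_toEnd_pow_sub_one y) (by rw [charpoly_toEnd, charpoly_toEnd, hc])
  exact isConj_iff.2 ⟨toGL u, toGL_conj_eq hu⟩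

theorem exists_det_one_conj [Finite F] (x g : GL n F) (hx : (orderOf x).Coprime p) :
    ∃ h : GL n F, (h : Matrix n n F).det = 1 ∧ h * x * h⁻¹ = g * x * g⁻¹ := by
  rcases isEmpty_or_nonempty n with hn | hn
  · exact ⟨g, Matrix.det_isEmpty, rfl⟩
  obtain ⟨u, hu, hdet⟩ := exists_commute_det_eq (toEnd (x : Matrix n n F))
    (squarefree_X_pow_sub_one hx) (aeval_toEnd_pow_sub_one x)
    (Matrix.GeneralLinearGroup.det g)⁻¹
  refine ⟨g * toGL u, ?_, ?_⟩
  · rw [Units.val_mul, Matrix.det_mul, det_toGL, hdet]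
    have := (Matrix.GeneralLinearGroup.det g).mul_inv
    simpa using this
  · conv_rhs => rw [← toGL_conj_eq (x := x) (y := x) hu]
    group

end Semisimple

end Cfsg.Agent.Lib.Similar
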