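import Mathlib
import Cfsg.Agent.Lib.Similar.GL

/-!
Counting semisimple classes of `GL_n` by characteristic polynomials.
-/

set_option autoImplicit false

namespace Cfsg.Agent.Lib.Similar

open Polynomial Module

variable {F : Type*} [Field F] {n : Type*} [Fintype n] [DecidableEq n]

theorem aeval_smulEnd_X {M : Type*} [AddCommGroup M] [Module F M] [Module F[X] M]
    [IsScalarTower F F[X] M] (s : F[X]) : aeval (smulEnd (M := M) (X : F[X])) s = smulEnd s := by
  have h := Polynomial.aeval_algHom_apply (Algebra.lsmul F F M : F[X] →ₐ[F] Module.End F M) X s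
  rw [aeval_X_left_apply] at h
  exact h

/-- a semisimple invertible matrix with prescribed irreducible factors of the characteristic
polynomial -/
theorem exists_gl_of_factors {ι : Type} [Fintype ι] [DecidableEq ι] (f : ι → F[X])
    (hm : ∀ i, (f i).Monic) (h0 : ∀ i, (f i).coeff 0 ≠ 0)
    (hdeg : ∑ i, (f i).natDegree = Fintype.card n) {s : F[X]} (hs : ∀ i, f i ∣ s) :
    ∃ x : GL n F, (x : Matrix n n F).charpoly = ∏ i, f i ∧
      aeval (toEnd (x : Matrix n n F)) s = 0 := by
  classical
  have : ∀ i, Module.Finite F (F[X] ⧸ Ideal.span {f i}) := fun i => finite_quot (hm i).ne_zero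
  have hr : finrank F (n → F) = finrank F ((i : ι) → F[X] ⧸ Ideal.span {f i}) := by
    rw [finrank_fintype_fun_eq_card, finrank_pi_fintype F, ← hdeg]
    exact Finset.sum_congr rfl fun i _ => (finrank_quotient_span_eq_natDegree).symm
  let e : (n → F) ≃ₗ[F] ((i : ι) → F[X] ⧸ Ideal.span {f i}) := LinearEquiv.ofFinrankEq _ _ hr
  let T : Module.End F ((i : ι) → F[X] ⧸ Ideal.span {f i}) := smulEnd (X : F[X])
  let A : Matrix n n F := LinearMap.toMatrixAlgEquiv' (e.symm.conjAlgEquiv F T)
  have hA : toEnd A = e.symm.conjAlgEquiv F T := Matrix.toLinAlgEquiv'_toMatrixAlgEquiv' _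
  have hc : A.charpoly = ∏ i, f i := by
    rw [← charpoly_toEnd, hA]
    show (e.symm.conj T).charpoly = _
    rw [LinearEquiv.charpoly_conj]
    show (piEnd fun i => mulX (f i)).charpoly = _
    rw [charpoly_piEnd]
    exact Finset.prod_congr rfl fun i _ => charpoly_mulX (hm i)
  have hdet : A.det ≠ 0 := by
    rw [Matrix.det_eq_sign_charpoly_coeff, hc, coeff_zero_prod]
    exact mul_ne_zero (pow_ne_zero _ (by simp)) (Finset.prod_ne_zero_iff.2 fun i _ => h0 i)
  refine ⟨Matrix.GeneralLinearGroup.mkOfDetNeZero A hdet, hc, ?_⟩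
  show aeval (toEnd A) s = 0
  rw [hA]
  show aeval ((e.symm.conjAlgEquiv F).toAlgHom T) s = 0
  rw [Polynomial.aeval_algHom_apply, aeval_smulEnd_X]
  have hz : smulEnd (M := (i : ι) → F[X] ⧸ Ideal.span {f i}) s = 0 := by
    apply LinearMap.ext
    intro x
    funext i
    obtain ⟨y, hy⟩ := Ideal.Quotient.mk_surjective (x i)
    show s • x i = 0
    rw [← hy]
    show Ideal.Quotient.mk (Ideal.span {f i}) (s * y) = 0
    rw [Ideal.Quotient.eq_zero_iff_mem, Ideal.mem_span_singleton]
    exact dvd_mul_of_dvd_left (hs i) y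
  rw [hz, map_zero]

theorem orderOf_coprime_of_squarefree [Finite F] {p : ℕ} [Fact p.Prime] [CharP F p] (x : GL n F)
    {s : F[X]} (hs : Squarefree s) (hx : aeval (toEnd (x : Matrix n n F)) s = 0) :
    (orderOf x).Coprime p := by
  have hp : p.Prime := Fact.out
  rcases isEmpty_or_nonempty n with hn | hn
  · rw [show orderOf x = 1 from orderOf_eq_one_iff.2 (Subsingleton.elim _ _)]
    simp
  rw [Nat.coprime_comm, hp.coprime_iff_not_dvd]
  intro hdvd
  have hpos : 0 < orderOf x := orderOf_pos x
  obtain ⟨c, hc⟩ := hdvd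
  have hcpos : 0 < c := by
    rcases Nat.eq_zero_or_pos c with h | h
    · exact absurd (show orderOf x = 0 by rw [hc, h, mul_zero]) hpos.ne'
    · exact h
  have hne : x ^ c ≠ 1 := pow_ne_one_of_lt_orderOf (by omega) (by
    rw [hc]; exact lt_mul_left hcpos hp.one_lt)
  have hcp : (x ^ c) ^ p = 1 := by rw [← pow_mul, mul_comm, ← hc, pow_orderOf_eq_one]
  have hT : (toEnd (x : Matrix n n F)).IsSemisimple :=
    Module.End.isSemisimple_of_squarefree_aeval_eq_zero hs hx
  have hss : (toEnd (x : Matrix n n F) ^ c - algebraMap F (Module.End F (n → F)) 1).IsSemisimple :=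
    Module.End.isSemisimple_sub_algebraMap_iff.2 (hT.pow c)
  have hnil : IsNilpotent (toEnd (x : Matrix n n F) ^ c - algebraMap F (Module.End F (n → F)) 1) := by
    have : CharP (Module.End F (n → F)) p :=
      charP_of_injective_algebraMap (algebraMap F (Module.End F (n → F))).injective p
    refine ⟨p, ?_⟩
    rw [map_one, sub_pow_char_of_commute (p := p) (h := Commute.one_right _), one_pow, ← map_pow, ← map_pow,
      ← Units.val_pow_eq_pow_val, ← Units.val_pow_eq_pow_val, hcp]
    simp
  have h0 := Module.End.eq_zero_of_isNilpotent_isSemisimple hnil hss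
  rw [map_one, sub_eq_zero, ← map_pow, ← Units.val_pow_eq_pow_val] at h0
  apply hne
  apply Units.ext
  apply (Matrix.toLinAlgEquiv' (R := F) (n := n)).injective
  rw [Units.val_one, map_one]
  exact h0

/-- the factors of the characteristic polynomial of a squarefree-annihilated matrix -/
theorem exists_factors (x : Matrix n n F) {s : F[X]} (hs : Squarefree s)
    (hx : aeval (toEnd x) s = 0) :
    ∃ m : Multiset F[X], (∀ f ∈ m, f.Monic ∧ Irreducible f ∧ f ∣ s) ∧ x.charpoly = m.prod := by
  classical
  obtain ⟨D⟩ := nonempty_decomp (toEnd x)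
  have he := D.e_eq_one hs hx
  refine ⟨Finset.univ.val.map D.p, ?_, ?_⟩
  · intro f hf
    obtain ⟨i, -, rfl⟩ := Multiset.mem_map.1 hf
    refine ⟨D.monic i, D.irr i, ?_⟩
    have h := D.linEquiv_aeval s (D.linEquiv.symm (fun j => 1))
    rw [hx, LinearMap.zero_apply, map_zero, LinearEquiv.apply_symm_apply] at h
    have h1 := congrFun h i
    have h2 : (Ideal.Quotient.mk (Ideal.span {D.p i ^ D.e i})) s = 0 := by
      rw [← mul_one (Ideal.Quotient.mk _ s)]
      exact h1.symm
    rw [Ideal.Quotient.eq_zero_iff_mem, Ideal.mem_span_singleton, he i, pow_one] at h2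
    exact h2
  · rw [← charpoly_toEnd, D.charpoly_eq]
    simp only [he, pow_one]
    rfl

/-- characteristic polynomial of a conjugacy class -/
noncomputable def classCharpoly (c : ConjClasses (GL n F)) : F[X] :=
  Quotient.liftOn c (fun x => (x : Matrix n n F).charpoly) (by
    intro a b h
    obtain ⟨g, rfl⟩ := isConj_iff.1 h
    rw [Units.val_mul, Units.val_mul]
    rw [Matrix.coe_units_inv]
    exact (Matrix.charpoly_units_conj g (a : Matrix n n F)).symm)

theorem classCharpoly_mk (x : GL n F) :
    classCharpoly (ConjClasses.mk x) = (x : Matrix n n F).charpoly := rfl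

theorem coeff_zero_charpoly_ne_zero (x : GL n F) : (x : Matrix n n F).charpoly.coeff 0 ≠ 0 := by
  intro h
  have h1 := Matrix.det_eq_sign_charpoly_coeff (x : Matrix n n F)
  rw [h, mul_zero] at h1
  exact (Matrix.GeneralLinearGroup.det x).ne_zero (by simpa using h1)

end Cfsg.Agent.Lib.Similar
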