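import Mathlib
import Cfsg.Agent.Lib.Similar.Count

/-!
Classification of the conjugacy classes of `GL_n` over a field by elementary divisors.
-/

set_option autoImplicit false

namespace Cfsg.Agent.Lib.Similar

open Polynomial Module

variable {F : Type*} [Field F]

section General

variable {V : Type*} [AddCommGroup V] [Module F V] {T : Module.End F V}
variable {V' : Type*} [AddCommGroup V'] [Module F V'] {T' : Module.End F V'}

theorem kerDim_eq_of_conj (u : V ≃ₗ[F] V') (h : ∀ v, u (T v) = T' (u v)) (q : F[X]) :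
    kerDim T q = kerDim T' q := by
  have h1 : u.conjAlgEquiv F T = T' := by
    apply LinearMap.ext
    intro w
    show u (T (u.symm w)) = T' w
    rw [h, LinearEquiv.apply_symm_apply]
  have h2 : aeval T' q = u.conjAlgEquiv F (aeval T q) := by
    rw [← h1]
    exact Polynomial.aeval_algHom_apply (u.conjAlgEquiv F).toAlgHom T q
  rw [kerDim, kerDim]
  have h3 : LinearMap.ker (aeval T' q) = (LinearMap.ker (aeval T q)).map (u : V →ₗ[F] V') := by
    ext w
    rw [h2, Submodule.mem_map_equiv, LinearMap.mem_ker, LinearMap.mem_ker]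
    show u (aeval T q (u.symm w)) = 0 ↔ _
    exact u.map_eq_zero_iff
  rw [h3]
  exact (u.submoduleMap _).finrank_eq

/-- the elementary divisors of a decomposition, as pairs (irreducible, exponent) -/
noncomputable def Decomp.inv (D : Decomp T) : Multiset (F[X] × ℕ) :=
  Finset.univ.val.map fun i => (D.p i, D.e i)

theorem count_inv [DecidableEq F[X]] (D : Decomp T) (y : F[X] × ℕ) :
    D.inv.count y = Nat.card {i // (D.p i, D.e i) = y} := by
  classical
  rw [Decomp.inv, Multiset.count_map, Nat.card_eq_fintype_card, Fintype.card_subtype]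
  show _ = (Finset.filter _ Finset.univ).val.card
  rw [Finset.filter_val]
  congr 1
  exact Multiset.filter_congr fun i _ => eq_comm

theorem inv_eq_of_kerDim_eq (D : Decomp T) (D' : Decomp T')
    (h : ∀ q : F[X], Irreducible q → q.Monic → ∀ k, kerDim T (q ^ k) = kerDim T' (q ^ k)) :
    D.inv = D'.inv := by
  classical
  ext y
  rw [count_inv, count_inv]
  exact card_fiber_eq D D' h y

theorem kerDim_eq_of_inv_eq (D : Decomp T) (D' : Decomp T') (h : D.inv = D'.inv) (q : F[X])
    (hq : Irreducible q) (hm : q.Monic) (k : ℕ) : kerDim T (q ^ k) = kerDim T' (q ^ k) := by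
  classical
  rw [kerDim_pow D hq hm, kerDim_pow D' hq hm]
  congr 1
  have h2 := congrArg (fun M : Multiset (F[X] × ℕ) =>
    (M.map fun x => if x.1 = q then min x.2 k else 0).sum) h
  simp only [Decomp.inv, Multiset.map_map, Function.comp_def] at h2
  exact h2

theorem Decomp.aeval_eq_zero_iff (D : Decomp T) (s : F[X]) :
    aeval T s = 0 ↔ ∀ y ∈ D.inv, y.1 ^ y.2 ∣ s := by
  classical
  constructor
  · intro hT y hy
    obtain ⟨i, -, rfl⟩ := Multiset.mem_map.1 hy
    have h := D.linEquiv_aeval s (D.linEquiv.symm (fun j => 1))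
    rw [hT, LinearMap.zero_apply, map_zero, LinearEquiv.apply_symm_apply] at h
    have h1 := congrFun h i
    have h2 : (Ideal.Quotient.mk (Ideal.span {D.p i ^ D.e i})) s = 0 := by
      rw [← mul_one (Ideal.Quotient.mk _ s)]
      exact h1.symm
    rwa [Ideal.Quotient.eq_zero_iff_mem, Ideal.mem_span_singleton] at h2
  · intro h
    apply LinearMap.ext
    intro v
    rw [LinearMap.zero_apply]
    apply D.linEquiv.injective
    rw [D.linEquiv_aeval, map_zero]
    funext i
    obtain ⟨y, hy⟩ := Ideal.Quotient.mk_surjective (D.linEquiv v i)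
    show s • D.linEquiv v i = 0
    rw [← hy]
    show Ideal.Quotient.mk (Ideal.span {D.p i ^ D.e i}) (s * y) = 0
    rw [Ideal.Quotient.eq_zero_iff_mem, Ideal.mem_span_singleton]
    exact dvd_mul_of_dvd_left (h _ (Multiset.mem_map.2 ⟨i, Finset.mem_univ i, rfl⟩)) y

end General

variable {n : Type*} [Fintype n] [DecidableEq n]

/-- the elementary divisors of a matrix -/
noncomputable def matInv (A : Matrix n n F) : Multiset (F[X] × ℕ) :=
  (nonempty_decomp (toEnd A)).some.inv

theorem matInv_eq (A : Matrix n n F) (D : Decomp (toEnd A)) : matInv A = D.inv :=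
  inv_eq_of_kerDim_eq _ D fun _ _ _ _ => rfl

theorem matInv_conj (x : GL n F) (A : Matrix n n F) :
    matInv ((x : Matrix n n F) * A * ((x⁻¹ : GL n F) : Matrix n n F)) = matInv A := by
  refine inv_eq_of_kerDim_eq _ _ fun q _ _ k => (kerDim_eq_of_conj ?_ ?_ (q ^ k)).symm
  · exact LinearEquiv.ofLinear (toEnd (x : Matrix n n F)) (toEnd ((x⁻¹ : GL n F) : Matrix n n F))
      (by rw [← Module.End.mul_eq_comp, ← map_mul, Units.mul_inv, map_one]; rfl)
      (by rw [← Module.End.mul_eq_comp, ← map_mul, Units.inv_mul, map_one]; rfl)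
  · intro v
    show toEnd (x : Matrix n n F) (toEnd A v) = toEnd _ (toEnd (x : Matrix n n F) v)
    rw [← Module.End.mul_apply, ← Module.End.mul_apply, ← map_mul, ← map_mul]
    rw [mul_assoc, Units.inv_mul, mul_one]

/-- the elementary divisors of a conjugacy class of `GL_n` -/
noncomputable def classInv (c : ConjClasses (GL n F)) : Multiset (F[X] × ℕ) :=
  Quotient.liftOn c (fun x => matInv (x : Matrix n n F)) (by
    intro a b h
    obtain ⟨g, rfl⟩ := isConj_iff.1 h
    rw [Units.val_mul, Units.val_mul]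
    exact (matInv_conj g (a : Matrix n n F)).symm)

theorem classInv_mk (x : GL n F) : classInv (ConjClasses.mk x) = matInv (x : Matrix n n F) := rfl

theorem classInv_injective : Function.Injective (classInv (F := F) (n := n)) := by
  intro c d h
  obtain ⟨x, rfl⟩ := ConjClasses.mk_surjective c
  obtain ⟨y, rfl⟩ := ConjClasses.mk_surjective d
  rw [classInv_mk, classInv_mk] at h
  rw [ConjClasses.mk_eq_mk_iff_isConj]
  obtain ⟨u, hu⟩ := exists_conj_of_kerDim_eq (toEnd (x : Matrix n n F)) (toEnd (y : Matrix n n F))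
    (kerDim_eq_of_inv_eq _ _ h)
  exact isConj_iff.2 ⟨toGL u, toGL_conj_eq hu⟩

theorem charpoly_eq_matInv (A : Matrix n n F) :
    A.charpoly = ((matInv A).map fun y => y.1 ^ y.2).prod := by
  rw [← charpoly_toEnd, (nonempty_decomp (toEnd A)).some.charpoly_eq, matInv, Decomp.inv,
    Multiset.map_map]
  rfl

theorem aeval_eq_zero_iff_matInv (A : Matrix n n F) (s : F[X]) :
    aeval (toEnd A) s = 0 ↔ ∀ y ∈ matInv A, y.1 ^ y.2 ∣ s :=
  Decomp.aeval_eq_zero_iff _ s

theorem matInv_spec (x : GL n F) :
    (∀ y ∈ matInv (x : Matrix n n F), y.1.Monic ∧ Irreducible y.1 ∧ y.1.coeff 0 ≠ 0 ∧ 1 ≤ y.2) ∧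
      ((matInv (x : Matrix n n F)).map fun y => y.2 * y.1.natDegree).sum = Fintype.card n := by
  set D := (nonempty_decomp (toEnd (x : Matrix n n F))).some with hD
  constructor
  · intro y hy
    have h0 := coeff_zero_charpoly_ne_zero x
    rw [charpoly_eq_matInv, coeff_zero_multiset_prod, Multiset.map_map] at h0
    obtain ⟨i, -, rfl⟩ := Multiset.mem_map.1 hy
    refine ⟨D.monic i, D.irr i, ?_, D.pos i⟩
    intro hz
    apply h0
    rw [Multiset.prod_eq_zero_iff, Multiset.mem_map]
    refine ⟨(D.p i, D.e i), hy, ?_⟩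
    show ((D.p i) ^ (D.e i)).coeff 0 = 0
    rw [coeff_zero_eq_eval_zero, eval_pow, ← coeff_zero_eq_eval_zero, hz,
      zero_pow (by have := D.pos i; omega)]
  · have h := Matrix.charpoly_natDegree_eq_dim (x : Matrix n n F)
    rw [charpoly_eq_matInv, natDegree_multiset_prod_of_monic] at h
    · rw [← h, Multiset.map_map]
      congr 1
      exact Multiset.map_congr rfl fun y _ => (natDegree_pow _ _).symm
    · intro g hg
      obtain ⟨y, hy, rfl⟩ := Multiset.mem_map.1 hg
      obtain ⟨i, -, rfl⟩ := Multiset.mem_map.1 hy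
      exact (D.monic i).pow _

/-- every admissible family of elementary divisors is realised in `GL_n` -/
theorem exists_gl_matInv (m : Multiset (F[X] × ℕ))
    (hm : ∀ y ∈ m, y.1.Monic ∧ Irreducible y.1 ∧ y.1.coeff 0 ≠ 0 ∧ 1 ≤ y.2)
    (hsum : (m.map fun y => y.2 * y.1.natDegree).sum = Fintype.card n) :
    ∃ x : GL n F, matInv (x : Matrix n n F) = m := by
  classical
  let ι := Fin m.toList.length
  let P : ι → F[X] := fun i => (m.toList.get i).1
  let E : ι → ℕ := fun i => (m.toList.get i).2
  have hi : ∀ i : ι, (P i).Monic ∧ Irreducible (P i) ∧ (P i).coeff 0 ≠ 0 ∧ 1 ≤ E i := fun i =>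
    hm _ (Multiset.mem_toList.1 (List.get_mem _ _))
  have hlist : (Finset.univ : Finset ι).val.map (fun i => (P i, E i)) = m := by
    show Multiset.map m.toList.get (Finset.univ : Finset (Fin m.toList.length)).val = m
    rw [Fin.univ_val_map, List.ofFn_get, Multiset.coe_toList]
  have : ∀ i : ι, Module.Finite F (F[X] ⧸ Ideal.span {P i ^ E i}) := fun i =>
    finite_quot (pow_ne_zero _ (hi i).2.1.ne_zero)
  have hr : finrank F (n → F) = finrank F ((i : ι) → F[X] ⧸ Ideal.span {P i ^ E i}) := by
    rw [finrank_fintype_fun_eq_card, finrank_pi_fintype F, ← hsum]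
    conv_lhs => rw [← hlist, Multiset.map_map]
    exact Finset.sum_congr rfl fun i _ => by
      rw [finrank_quotient_span_eq_natDegree, natDegree_pow]
      rfl
  let e : (n → F) ≃ₗ[F] ((i : ι) → F[X] ⧸ Ideal.span {P i ^ E i}) := LinearEquiv.ofFinrankEq _ _ hr
  let A : Matrix n n F := LinearMap.toMatrixAlgEquiv' (e.symm.conjAlgEquiv F (smulEnd (X : F[X])))
  have hA : toEnd A = e.symm.conjAlgEquiv F (smulEnd (X : F[X])) :=
    Matrix.toLinAlgEquiv'_toMatrixAlgEquiv' _
  have he : ∀ v, e (toEnd A v) = (X : F[X]) • e v := fun v => by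
    rw [hA]
    show e (e.symm ((X : F[X]) • e v)) = _
    rw [LinearEquiv.apply_symm_apply]
  let D : Decomp (toEnd A) :=
    { ι := ι, p := P, e := E
      monic := fun i => (hi i).1
      irr := fun i => (hi i).2.1
      pos := fun i => (hi i).2.2.2
      equiv := LinearEquiv.ofAEval (toEnd A) e fun v => he v }
  have hinv : matInv A = m := (matInv_eq A D).trans hlist
  have hdet : A.det ≠ 0 := by
    rw [Matrix.det_eq_sign_charpoly_coeff, charpoly_eq_matInv, hinv, coeff_zero_multiset_prod,
      Multiset.map_map]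
    refine mul_ne_zero (pow_ne_zero _ (by simp)) ?_
    rw [ne_eq, Multiset.prod_eq_zero_iff, Multiset.mem_map]
    rintro ⟨y, hy, h⟩
    simp only [Function.comp_apply, coeff_zero_eq_eval_zero, eval_pow] at h
    exact (hm y hy).2.2.1 (by rw [coeff_zero_eq_eval_zero]; exact eq_zero_of_pow_eq_zero h)
  exact ⟨Matrix.GeneralLinearGroup.mkOfDetNeZero A hdet, hinv⟩

end Cfsg.Agent.Lib.Similar
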