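import Mathlib
import Cfsg.Agent.Lib.Similar.Classes

/-!
Element orders in `GL_n` over a finite field through elementary divisors.
-/

set_option autoImplicit false

namespace Cfsg.Agent.Lib.Similar

open Polynomial Module

variable {F : Type*} [Field F] {n : Type*} [Fintype n] [DecidableEq n]

theorem pow_eq_one_iff_matInv (x : GL n F) (k : ℕ) :
    x ^ k = 1 ↔ ∀ y ∈ matInv (x : Matrix n n F), y.1 ^ y.2 ∣ X ^ k - 1 := by
  rw [← aeval_eq_zero_iff_matInv, map_sub, map_one, map_pow, aeval_X, sub_eq_zero, ← map_pow,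
    ← Units.val_pow_eq_pow_val]
  constructor
  · intro h
    rw [h, Units.val_one]
    simp [toEnd]
  · intro h
    apply Units.ext
    apply (Matrix.toLinAlgEquiv' (R := F) (n := n)).injective
    rw [Units.val_one, map_one]
    exact h

theorem dvd_X_pow_card_sub_one [Fintype F] {f : F[X]} (hf : Irreducible f) (h0 : f.coeff 0 ≠ 0) :
    f ∣ X ^ (Fintype.card F ^ f.natDegree - 1) - 1 := by
  have : Fact (Irreducible f) := ⟨hf⟩
  have : Module.Finite F (AdjoinRoot f) := (AdjoinRoot.powerBasis hf.ne_zero).finite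
  have : Finite (AdjoinRoot f) := Module.finite_of_finite F
  let _ : Fintype (AdjoinRoot f) := Fintype.ofFinite _
  have hc : Fintype.card (AdjoinRoot f) = Fintype.card F ^ f.natDegree := by
    rw [Module.card_eq_pow_finrank (K := F), (AdjoinRoot.powerBasis hf.ne_zero).finrank,
      AdjoinRoot.powerBasis_dim]
  have hr : AdjoinRoot.root f ≠ 0 := by
    intro h
    have h1 : f ∣ X := by
      rw [← AdjoinRoot.mk_eq_zero, AdjoinRoot.mk_X]
      exact h
    have h2 : (X : F[X]) ∣ f := (hf.associated_of_dvd irreducible_X h1).symm.dvd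
    exact h0 (X_dvd_iff.1 h2)
  rw [← AdjoinRoot.mk_eq_zero, map_sub, map_pow, map_one, AdjoinRoot.mk_X, ← hc,
    FiniteField.pow_card_sub_one_eq_one _ hr, sub_self]

/-- an irreducible polynomial of degree `d` whose roots generate the multiplicative group -/
theorem exists_irreducible_primitive [Fintype F] {d : ℕ} (hd : 1 ≤ d) :
    ∃ f : F[X], f.Monic ∧ Irreducible f ∧ f.coeff 0 ≠ 0 ∧ f.natDegree = d ∧
      ∀ k, f ∣ X ^ k - 1 ↔ Fintype.card F ^ d - 1 ∣ k := by
  classical
  obtain ⟨p, hp⟩ := CharP.exists F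
  have : NeZero d := ⟨by omega⟩
  have : Fact p.Prime := ⟨CharP.char_is_prime F p⟩
  let K := FiniteField.Extension F p d
  let _ : Fintype K := Fintype.ofFinite K
  obtain ⟨ζ, hζ⟩ := IsCyclic.exists_generator (α := Kˣ)
  have hcard : Nat.card Kˣ = Fintype.card F ^ d - 1 := by
    rw [Nat.card_units, FiniteField.natCard_extension, Nat.card_eq_fintype_card]
  have hord : orderOf ζ = Fintype.card F ^ d - 1 := by
    rw [orderOf_eq_card_of_forall_mem_zpowers hζ, hcard]
  have hint : IsIntegral F (ζ : K) := IsIntegral.of_finite F _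
  refine ⟨minpoly F (ζ : K), minpoly.monic hint, minpoly.irreducible hint,
    minpoly.coeff_zero_ne_zero hint ζ.ne_zero, ?_, fun k => ?_⟩
  · have htop : Algebra.adjoin F {(ζ : K)} = ⊤ := by
      rw [eq_top_iff]
      intro x _
      rcases eq_or_ne x 0 with rfl | hx
      · exact zero_mem _
      · obtain ⟨k, hk⟩ := mem_powers_iff_mem_zpowers.2 (hζ (Units.mk0 x hx))
        have : x = (ζ : K) ^ k := by
          rw [← Units.val_pow_eq_pow_val]
          exact (congrArg Units.val hk).symm
        rw [this]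
        exact pow_mem (Algebra.self_mem_adjoin_singleton F _) k
    have h1 := (PowerBasis.ofAdjoinEqTop hint htop).finrank
    rw [PowerBasis.ofAdjoinEqTop_dim, FiniteField.finrank_extension] at h1
    exact h1.symm
  · rw [minpoly.dvd_iff, map_sub, map_pow, map_one, aeval_X, sub_eq_zero, ← hord,
      orderOf_dvd_iff_pow_eq_one, ← Units.val_pow_eq_pow_val, Units.val_eq_one]

end Cfsg.Agent.Lib.Similar
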