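import Mathlib
import Cfsg.Agent.Lib.Similar.Classes

/-!
Determinants on centralisers in `GL_n`: the classes of `SL_n` inside one class of `GL_n`.
-/

set_option autoImplicit false

namespace Cfsg.Agent.Lib.Similar

open Polynomial Module

variable {F : Type*} [Field F]

theorem det_aeval_eq {k : Type*} [Fintype k] [DecidableEq k] (M : Matrix k k F) (h : F[X]) :
    algebraMap F (AlgebraicClosure F) (aeval M h).det =
      (algebraMap F (AlgebraicClosure F) h.leadingCoeff) ^ Fintype.card k *
        ((h.map (algebraMap F (AlgebraicClosure F))).roots.map fun b =>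
          (-1) ^ Fintype.card k * ((M.charpoly).map (algebraMap F (AlgebraicClosure F))).eval b).prod := by
  classical
  let K := AlgebraicClosure F
  have hsplit := (IsAlgClosed.splits (h.map (algebraMap F K))).eq_prod_roots
  have e1 : (algebraMap F K).mapMatrix (aeval M h) = aeval ((algebraMap F K).mapMatrix M) (h.map (algebraMap F K)) := by
    rw [aeval_map_algebraMap]
    exact (aeval_algHom_apply ((Algebra.ofId F K).mapMatrix) M h).symm
  let Φ : K[X] →* K := (Matrix.detMonoidHom : Matrix k k K →* K).comp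
    (aeval ((algebraMap F K).mapMatrix M)).toMonoidHom
  have hΦ : ∀ f, Φ f = (aeval ((algebraMap F K).mapMatrix M) f).det := fun f => rfl
  rw [RingHom.map_det, e1, ← hΦ]
  conv_lhs => rw [hsplit]
  rw [map_mul, map_multiset_prod, Multiset.map_map, leadingCoeff_map]
  congr 1
  · rw [hΦ, aeval_C, Algebra.algebraMap_eq_smul_one, Matrix.det_smul, Matrix.det_one, mul_one]
  refine congrArg _ (Multiset.map_congr rfl fun b _ => ?_)
  rw [Function.comp_apply, hΦ, map_sub, aeval_X, aeval_C, ← Matrix.charpoly_map, Matrix.eval_charpoly,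
    ← Matrix.det_neg, neg_sub]
  rfl

theorem det_aeval_pow {m l : Type*} [Fintype m] [DecidableEq m] [Fintype l] [DecidableEq l]
    (A : Matrix m m F) (B : Matrix l l F) (e : ℕ) (hc : A.charpoly = B.charpoly ^ e) (h : F[X]) :
    (aeval A h).det = (aeval B h).det ^ e := by
  classical
  apply (algebraMap F (AlgebraicClosure F)).injective
  have hcard : Fintype.card m = Fintype.card l * e := by
    have := congrArg natDegree hc
    rwa [Matrix.charpoly_natDegree_eq_dim, natDegree_pow, Matrix.charpoly_natDegree_eq_dim, mul_comm e] at this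
  rw [map_pow, det_aeval_eq A, det_aeval_eq B, mul_pow, ← pow_mul, hcard, ← Multiset.prod_map_pow, hc]
  congr 2
  refine Multiset.map_congr rfl fun b _ => ?_
  rw [Polynomial.map_pow, eval_pow, mul_pow, ← pow_mul]

theorem det_aeval_end {W W' : Type*} [AddCommGroup W] [Module F W] [Module.Finite F W]
    [AddCommGroup W'] [Module F W'] [Module.Finite F W'] (S : Module.End F W) (S' : Module.End F W') (e : ℕ)
    (hc : S.charpoly = S'.charpoly ^ e) (h : F[X]) :
    LinearMap.det (aeval S h) = LinearMap.det (aeval S' h) ^ e := by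
  classical
  let b := finBasis F W
  let b' := finBasis F W'
  rw [← LinearMap.det_toMatrix b, ← LinearMap.det_toMatrix b']
  have e1 : LinearMap.toMatrix b b (aeval S h) = aeval (LinearMap.toMatrix b b S) h :=
    (aeval_algHom_apply (LinearMap.toMatrixAlgEquiv b).toAlgHom S h).symm
  have e2 : LinearMap.toMatrix b' b' (aeval S' h) = aeval (LinearMap.toMatrix b' b' S') h :=
    (aeval_algHom_apply (LinearMap.toMatrixAlgEquiv b').toAlgHom S' h).symm
  rw [e1, e2]
  exact det_aeval_pow _ _ e (by rw [LinearMap.charpoly_toMatrix, LinearMap.charpoly_toMatrix, hc]) h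

variable [Fintype F] {n : Type*} [Fintype n] [DecidableEq n]

/-- The centraliser contains elements of determinant `c ^ e` for each exponent `e`. -/
theorem exists_commute_det_pow (x : GL n F) {y : F[X] × ℕ} (hy : y ∈ matInv (x : Matrix n n F)) (c : Fˣ) :
    ∃ h : GL n F, h * x = x * h ∧ Matrix.GeneralLinearGroup.det h = c ^ y.2 := by
  classical
  obtain ⟨D⟩ := nonempty_decomp (toEnd (x : Matrix n n F))
  rw [matInv_eq _ D] at hy
  obtain ⟨i0, -, rfl⟩ := Multiset.mem_map.1 hy
  have hfin : ∀ i, Module.Finite F (F[X] ⧸ Ideal.span {D.p i ^ D.e i}) := fun i =>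
    finite_quot (pow_ne_zero _ (D.irr i).ne_zero)
  have : Module.Finite F (F[X] ⧸ Ideal.span {D.p i0}) := finite_quot (D.irr i0).ne_zero
  obtain ⟨h0, hh0⟩ : ∃ h0 : F[X], LinearMap.det (aeval (mulX (D.p i0)) h0) = c := by
    have hmax : (Ideal.span {D.p i0}).IsMaximal := PrincipalIdealRing.isMaximal_of_irreducible (D.irr i0)
    let _ : Field (F[X] ⧸ Ideal.span {D.p i0}) := Ideal.Quotient.field _
    have : Finite (F[X] ⧸ Ideal.span {D.p i0}) := Module.finite_of_finite F
    obtain ⟨l, hl⟩ := FiniteField.norm_surjective F (F[X] ⧸ Ideal.span {D.p i0}) (c : F)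
    obtain ⟨h0, rfl⟩ := Ideal.Quotient.mk_surjective l
    refine ⟨h0, ?_⟩
    rw [← hl, mulX, aeval_smulEnd_X, Algebra.norm_apply]
    congr 1
  let f : ∀ i, Module.End F (F[X] ⧸ Ideal.span {D.p i ^ D.e i}) := fun i =>
    if i = i0 then aeval (mulX (D.p i ^ D.e i)) h0 else 1
  have hdet : ∀ i, LinearMap.det (f i) = if i = i0 then (c : F) ^ D.e i0 else 1 := by
    intro i
    by_cases h : i = i0
    · subst h
      simp only [f, if_true]
      rw [det_aeval_end (mulX (D.p i ^ D.e i)) (mulX (D.p i)) (D.e i)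
        (by rw [charpoly_mulX ((D.monic i).pow _), charpoly_mulX (D.monic i)]), hh0]
    · simp [f, h]
  have hcomm : ∀ i, Commute (f i) (mulX (D.p i ^ D.e i)) := by
    intro i
    simp only [f]
    split_ifs
    · have := (Commute.all h0 X).map (aeval (mulX (D.p i ^ D.e i)))
      rwa [aeval_X] at this
    · exact Commute.one_left _
  let g : Module.End F (n → F) := D.linEquiv.symm.conj (piEnd f)
  have hgdet : LinearMap.det g = (c : F) ^ D.e i0 := by
    show LinearMap.det (D.linEquiv.symm.conj (piEnd f)) = _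
    rw [show D.linEquiv.symm.conj (piEnd f) = D.linEquiv.symm.toLinearMap ∘ₗ piEnd f ∘ₗ D.linEquiv.symm.symm.toLinearMap from rfl,
      LinearMap.det_conj, det_piEnd]
    simp [hdet]
  let u : (n → F) ≃ₗ[F] (n → F) := LinearMap.equivOfDetNeZero g (by rw [hgdet]; exact pow_ne_zero _ c.ne_zero)
  have hu : ∀ v, u v = g v := fun v => rfl
  refine ⟨toGL u, ?_, Units.ext ?_⟩
  · have key := toGL_conj_eq (x := x) (y := x) (u := u) (fun v => ?_)
    · exact mul_inv_eq_iff_eq_mul.mp key
    rw [hu, hu]
    apply D.linEquiv.injective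
    simp only [g, LinearEquiv.conj_apply_apply, LinearEquiv.symm_symm, LinearEquiv.apply_symm_apply,
      D.linEquiv_apply_T]
    funext i
    simp only [piEnd_apply]
    exact congrFun (congrArg DFunLike.coe (hcomm i).eq) _
  · rw [Units.val_pow_eq_pow_val]
    show (toGL u : Matrix n n F).det = _
    rw [det_toGL]
    exact hgdet

/-- The greatest common divisor of `q - 1` and the exponents. -/
def gw (q : ℕ) (m : Multiset (F[X] × ℕ)) : ℕ := (m.map Prod.snd).fold Nat.gcd (q - 1)

omit [Fintype F] in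
theorem dvd_gw {q : ℕ} {m : Multiset (F[X] × ℕ)} {k : ℕ} (hq : k ∣ q - 1) (hm : ∀ y ∈ m, k ∣ y.2) :
    k ∣ gw q m := by
  unfold gw
  induction m using Multiset.induction with
  | empty => simpa using hq
  | cons y m ih =>
    rw [Multiset.map_cons, Multiset.fold_cons_left]
    exact Nat.dvd_gcd (hm y (Multiset.mem_cons_self _ _)) (ih fun z hz => hm z (Multiset.mem_cons_of_mem hz))

omit [Fintype F] in
theorem gw_dvd {q : ℕ} {m : Multiset (F[X] × ℕ)} : gw q m ∣ q - 1 ∧ ∀ y ∈ m, gw q m ∣ y.2 := by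
  unfold gw
  induction m using Multiset.induction with
  | empty => simp
  | cons y m ih =>
    rw [Multiset.map_cons, Multiset.fold_cons_left]
    refine ⟨(Nat.gcd_dvd_right _ _).trans ih.1, fun z hz => ?_⟩
    rcases Multiset.mem_cons.1 hz with rfl | hz
    · exact Nat.gcd_dvd_left _ _
    · exact (Nat.gcd_dvd_right _ _).trans (ih.2 z hz)

omit [Fintype F] in
theorem gw_pos {q : ℕ} (hq : 2 ≤ q) (m : Multiset (F[X] × ℕ)) : 0 < gw q m :=
  Nat.pos_of_dvd_of_pos gw_dvd.1 (by omega)

omit [Fintype F] in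
theorem gw_le {q : ℕ} (hq : 2 ≤ q) (m : Multiset (F[X] × ℕ)) : gw q m ≤ q - 1 :=
  Nat.le_of_dvd (by omega) gw_dvd.1

variable {n : ℕ}

/-- The class of `GL_n` containing a class of `SL_n`. -/
noncomputable def glClass (C : ConjClasses (Matrix.SpecialLinearGroup (Fin n) F)) : ConjClasses (GL (Fin n) F) :=
  C.map (Matrix.SpecialLinearGroup.toGL : Matrix.SpecialLinearGroup (Fin n) F →* GL (Fin n) F)

theorem card_fibre_le (x : GL (Fin n) F) :
    Nat.card {C : ConjClasses (Matrix.SpecialLinearGroup (Fin n) F) // glClass C = ConjClasses.mk x} ≤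
      gw (Fintype.card F) (matInv (x : Matrix (Fin n) (Fin n) F)) := by
  classical
  let Z : Subgroup Fˣ := (Subgroup.centralizer ({x} : Set (GL (Fin n) F))).map Matrix.GeneralLinearGroup.det
  have hk : Nat.card (Fˣ ⧸ Z) ∣ gw (Fintype.card F) (matInv (x : Matrix (Fin n) (Fin n) F)) := by
    refine dvd_gw ?_ fun y hy => ?_
    · have := Subgroup.card_quotient_dvd_card Z
      rwa [Nat.card_eq_fintype_card (α := Fˣ), Fintype.card_units] at this
    · rw [← IsCyclic.exponent_eq_card]
      refine Monoid.exponent_dvd_of_forall_pow_eq_one fun a => ?_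
      obtain ⟨c, rfl⟩ := QuotientGroup.mk_surjective a
      obtain ⟨h, h1, h2⟩ := exists_commute_det_pow x hy c
      rw [← QuotientGroup.mk_pow, QuotientGroup.eq_one_iff, ← h2]
      exact Subgroup.mem_map_of_mem _ (Subgroup.mem_centralizer_singleton_iff.2 h1)
  refine le_trans ?_ (Nat.le_of_dvd (gw_pos Fintype.one_lt_card _) hk)
  have hex : ∀ C : {C : ConjClasses (Matrix.SpecialLinearGroup (Fin n) F) // glClass C = ConjClasses.mk x},
      ∃ (s : Matrix.SpecialLinearGroup (Fin n) F) (g : GL (Fin n) F),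
        ConjClasses.mk s = C.1 ∧ g * x * g⁻¹ = Matrix.SpecialLinearGroup.toGL s := by
    rintro ⟨C, hC⟩
    obtain ⟨s, rfl⟩ := ConjClasses.mk_surjective C
    obtain ⟨g, hg⟩ := isConj_iff.1 (ConjClasses.mk_eq_mk_iff_isConj.1 (hC.symm.trans rfl))
    exact ⟨s, g, rfl, hg⟩
  choose s g hs hg using hex
  refine Nat.card_le_card_of_injective (fun C => (QuotientGroup.mk (Matrix.GeneralLinearGroup.det (g C)) : Fˣ ⧸ Z))
    fun C C' h => Subtype.ext ?_
  rw [QuotientGroup.eq] at h
  obtain ⟨z, hz, hz'⟩ := Subgroup.mem_map.1 h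
  rw [← hs C, ← hs C', ConjClasses.mk_eq_mk_iff_isConj]
  obtain ⟨k, hk⟩ : ∃ k, k = g C' * (g C * z)⁻¹ := ⟨_, rfl⟩
  have hkd : Matrix.GeneralLinearGroup.det k = 1 := by
    rw [hk, map_mul, map_inv, map_mul, hz', mul_inv_cancel_left, mul_inv_cancel]
  let k' : Matrix.SpecialLinearGroup (Fin n) F := ⟨(k : Matrix (Fin n) (Fin n) F), congrArg Units.val hkd⟩
  have hk' : Matrix.SpecialLinearGroup.toGL k' = k := Units.ext rfl
  refine isConj_iff.2 ⟨k', Matrix.SpecialLinearGroup.toGL_injective ?_⟩
  rw [map_mul, map_mul, map_inv, hk', ← hg C, ← hg C', hk]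
  have hzx : z * x = x * z := Subgroup.mem_centralizer_singleton_iff.1 hz
  calc g C' * (g C * z)⁻¹ * (g C * x * (g C)⁻¹) * (g C' * (g C * z)⁻¹)⁻¹
      = g C' * (z⁻¹ * (x * z)) * (g C')⁻¹ := by group
    _ = g C' * x * (g C')⁻¹ := by rw [← hzx, inv_mul_cancel_left]

/-- The classes of `SL_n` are bounded by the exponents' common divisors over the classes of `GL_n`. -/
theorem card_classes_le_sum (t : Finset (Multiset (F[X] × ℕ)))
    (P : ConjClasses (Matrix.SpecialLinearGroup (Fin n) F) → Prop)
    (hP : ∀ s, P (ConjClasses.mk s) → matInv (s : Matrix (Fin n) (Fin n) F) ∈ t) :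
    Nat.card {C // P C} ≤ ∑ m ∈ t, gw (Fintype.card F) m := by
  classical
  have hmem : ∀ C : {C // P C}, classInv (glClass C.1) ∈ t := by
    rintro ⟨C, hC⟩
    obtain ⟨s, rfl⟩ := ConjClasses.mk_surjective C
    exact hP s hC
  rw [Nat.card_eq_fintype_card, ← Finset.card_univ,
    Finset.card_eq_sum_card_fiberwise (f := fun C : {C // P C} => classInv (glClass C.1)) (t := t) (fun C _ => hmem C)]
  refine Finset.sum_le_sum fun m _ => ?_
  by_cases hm : ∃ C : {C // P C}, classInv (glClass C.1) = m
  · obtain ⟨C, rfl⟩ := hm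
    obtain ⟨x, hx⟩ := ConjClasses.mk_surjective (glClass C.1)
    rw [← hx, classInv_mk]
    refine le_trans ?_ (card_fibre_le x)
    rw [Nat.card_eq_fintype_card, ← Finset.card_univ]
    refine Finset.card_le_card_of_injOn (fun C' => if h : glClass C'.1 = ConjClasses.mk x then ⟨C'.1, h⟩ else ⟨C.1, hx.symm⟩) (fun _ _ => Finset.mem_univ _) ?_
    intro a ha b hb hab
    simp only [Finset.coe_filter, Set.mem_setOf_eq, Finset.mem_univ, true_and] at ha hb
    have ha' : glClass a.1 = ConjClasses.mk x := classInv_injective (ha.trans (classInv_mk x).symm)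
    have hb' : glClass b.1 = ConjClasses.mk x := classInv_injective (hb.trans (classInv_mk x).symm)
    simp only [dif_pos ha', dif_pos hb', Subtype.mk.injEq] at hab
    exact Subtype.ext hab
  · rw [Finset.card_eq_zero.2 (Finset.filter_eq_empty_iff.2 fun C _ h => hm ⟨C, h⟩)]
    exact Nat.zero_le _

end Cfsg.Agent.Lib.Similar
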