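import Mathlib
import Cfsg.Agent.S2478
import Cfsg.Agent.Lib.Similar.SLFibre

/-!
Counting families of elementary divisors with exponents bounded below and prescribed determinant.
-/

set_option autoImplicit false

namespace Cfsg.Agent.Lib.FamCount

open Polynomial Cfsg.Agent.Lib.Similar
open Cfsg.Agent.S2478 (Mon finite_mon card_mon_succ card_mon_zero)

variable (F : Type*) [Field F] [Fintype F]

/-- Families with exponents at least `a` and total degree `n`. -/
def FamGE (a n : ℕ) : Set (Multiset (F[X] × ℕ)) :=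
  {m | (∀ y ∈ m, y.1.Monic ∧ Irreducible y.1 ∧ y.1.coeff 0 ≠ 0 ∧ 1 ≤ y.2 ∧ a ≤ y.2) ∧
    (m.map fun y => y.2 * y.1.natDegree).sum = n}

theorem finite_famGE (a n : ℕ) : (FamGE F a n).Finite := by
  have := (Cfsg.Agent.S2478.finite_fam (F := F) n n).1
  refine Set.Finite.subset (Set.toFinite (Cfsg.Agent.S2478.Fam F n n)) fun m hm => ⟨fun y hy => ?_, hm.2⟩
  obtain ⟨h1, h2, h3, h4, -⟩ := hm.1 y hy
  refine ⟨h1, h2, h3, h4, ?_⟩
  have h5 := Multiset.single_le_sum (by simp) _ (Multiset.mem_map_of_mem (fun y : F[X] × ℕ => y.2 * y.1.natDegree) hy)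
  have h6 := Nat.le_mul_of_pos_right y.2 h2.natDegree_pos
  have := hm.2
  omega

/-- Families as a finset. -/
noncomputable def fam (a n : ℕ) : Finset (Multiset (F[X] × ℕ)) := (finite_famGE F a n).toFinset

/-- Number of families. -/
noncomputable def N (a n : ℕ) : ℕ := (fam F a n).card

variable {F}

theorem mem_fam {a n : ℕ} {m : Multiset (F[X] × ℕ)} : m ∈ fam F a n ↔ m ∈ FamGE F a n :=
  (finite_famGE F a n).mem_toFinset

/-- The determinant of a family. -/
noncomputable def dt (m : Multiset (F[X] × ℕ)) : F := (m.map fun y => y.1.coeff 0 ^ y.2).prod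

theorem dt_ne_zero {a n : ℕ} {m : Multiset (F[X] × ℕ)} (hm : m ∈ fam F a n) : dt m ≠ 0 := by
  refine Multiset.prod_ne_zero fun h => ?_
  obtain ⟨y, hy, hy0⟩ := Multiset.mem_map.1 h
  exact pow_ne_zero _ ((mem_fam.1 hm).1 y hy).2.2.1 hy0

/-- The part of exponent `a`. -/
noncomputable def piece (a : ℕ) (m : Multiset (F[X] × ℕ)) : F[X] :=
  ((m.filter fun y => y.2 = a).map Prod.fst).prod

/-- Multiset of a polynomial with a fixed exponent. -/
noncomputable def powFam [DecidableEq F] (a : ℕ) (g : F[X]) : Multiset (F[X] × ℕ) :=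
  (UniqueFactorizationMonoid.normalizedFactors g).map fun f => (f, a)

variable [DecidableEq F]

omit [Fintype F] in
theorem mem_factors {g f : F[X]} (h0 : g.coeff 0 ≠ 0) (hf : f ∈ UniqueFactorizationMonoid.normalizedFactors g) :
    f.Monic ∧ Irreducible f ∧ f.coeff 0 ≠ 0 := by
  refine ⟨?_, UniqueFactorizationMonoid.irreducible_of_normalized_factor f hf, fun h => h0 ?_⟩
  · rw [← UniqueFactorizationMonoid.normalize_normalized_factor f hf]
    exact monic_normalize (UniqueFactorizationMonoid.irreducible_of_normalized_factor f hf).ne_zero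
  · obtain ⟨c, hc⟩ := UniqueFactorizationMonoid.dvd_of_mem_normalizedFactors hf
    rw [hc, mul_coeff_zero, h, zero_mul]

omit [Fintype F] in
theorem prod_factors {g : F[X]} (hg : g.Monic) : (UniqueFactorizationMonoid.normalizedFactors g).prod = g := by
  rw [UniqueFactorizationMonoid.prod_normalizedFactors_eq hg.ne_zero, hg.normalize_eq_self]

omit [Fintype F] in
theorem factors_prod {s : Multiset F[X]} (h : ∀ f ∈ s, f.Monic ∧ Irreducible f) :
    UniqueFactorizationMonoid.normalizedFactors s.prod = s := by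
  rw [UniqueFactorizationMonoid.normalizedFactors_prod_eq s fun f hf => (h f hf).2]
  conv_rhs => rw [← Multiset.map_id s]
  exact Multiset.map_congr rfl fun f hf => (h f hf).1.normalize_eq_self

omit [Fintype F] in
theorem weight_powFam (a : ℕ) {g : F[X]} (hg : g.Monic) (h0 : g.coeff 0 ≠ 0) :
    ((powFam a g).map fun y => y.2 * y.1.natDegree).sum = a * g.natDegree := by
  conv_rhs => rw [← prod_factors hg, natDegree_multiset_prod_of_monic _ fun f hf => (mem_factors h0 hf).1,
    ← Multiset.sum_map_mul_left]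
  rw [powFam, Multiset.map_map]
  rfl

omit [Fintype F] in
theorem dt_powFam (a : ℕ) {g : F[X]} (hg : g.Monic) : dt (powFam a g) = g.coeff 0 ^ a := by
  conv_rhs => rw [← prod_factors hg, coeff_zero_multiset_prod, ← Multiset.prod_map_pow]
  rw [dt, powFam, Multiset.map_map]
  rfl

omit [Fintype F] [DecidableEq F] in
theorem dt_add (s t : Multiset (F[X] × ℕ)) : dt (s + t) = dt s * dt t := by
  rw [dt, dt, dt, Multiset.map_add, Multiset.prod_add]

theorem piece_spec {a n : ℕ} {m : Multiset (F[X] × ℕ)} (hm : m ∈ fam F a n) :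
    piece a m ∈ Mon F (piece a m).natDegree ∧ powFam a (piece a m) = m.filter (fun y => y.2 = a) := by
  have hs : ∀ f ∈ (m.filter fun y => y.2 = a).map Prod.fst, f.Monic ∧ Irreducible f ∧ f.coeff 0 ≠ 0 := by
    intro f hf
    obtain ⟨y, hy, rfl⟩ := Multiset.mem_map.1 hf
    obtain ⟨h1, h2, h3, -⟩ := (mem_fam.1 hm).1 y (Multiset.mem_filter.1 hy).1
    exact ⟨h1, h2, h3⟩
  have hmon : (piece a m).Monic := by simpa [piece] using monic_multiset_prod_of_monic _ id fun f hf => (hs f hf).1
  refine ⟨⟨hmon, rfl, ?_⟩, ?_⟩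
  · rw [piece, coeff_zero_multiset_prod]
    refine Multiset.prod_ne_zero fun h => ?_
    obtain ⟨f, hf, hf0⟩ := Multiset.mem_map.1 h
    exact (hs f hf).2.2 hf0
  · rw [powFam, piece, factors_prod fun f hf => ⟨(hs f hf).1, (hs f hf).2.1⟩, Multiset.map_map]
    conv_rhs => rw [← Multiset.map_id (m.filter fun y => y.2 = a)]
    exact Multiset.map_congr rfl fun y hy => Prod.ext rfl (Multiset.mem_filter.1 hy).2.symm

theorem split_spec {a n : ℕ} {m : Multiset (F[X] × ℕ)} (hm : m ∈ fam F a n) :
    a * (piece a m).natDegree ≤ n ∧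
      (m.filter fun y => ¬ y.2 = a) ∈ fam F (a + 1) (n - a * (piece a m).natDegree) ∧
      powFam a (piece a m) + (m.filter fun y => ¬ y.2 = a) = m := by
  obtain ⟨⟨h1, -, h3⟩, h4⟩ := piece_spec hm
  have hsplit : powFam a (piece a m) + (m.filter fun y => ¬ y.2 = a) = m := by
    rw [h4, Multiset.filter_add_not]
  have hw := (mem_fam.1 hm).2
  rw [← hsplit, Multiset.map_add, Multiset.sum_add, weight_powFam a h1 h3] at hw
  refine ⟨by omega, mem_fam.2 ⟨fun y hy => ?_, by omega⟩, hsplit⟩
  obtain ⟨hy1, hy2⟩ := Multiset.mem_filter.1 hy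
  obtain ⟨k1, k2, k3, k4, k5⟩ := (mem_fam.1 hm).1 y hy1
  exact ⟨k1, k2, k3, k4, by omega⟩

theorem join_spec {a n d : ℕ} (ha : 1 ≤ a) {g : F[X]} {m : Multiset (F[X] × ℕ)} (hg : g ∈ Mon F d)
    (hd : a * d ≤ n) (hm : m ∈ fam F (a + 1) (n - a * d)) :
    powFam a g + m ∈ fam F a n ∧ piece a (powFam a g + m) = g ∧
      ((powFam a g + m).filter fun y => ¬ y.2 = a) = m := by
  have hne : ∀ y ∈ m, ¬ y.2 = a := fun y hy => by have := ((mem_fam.1 hm).1 y hy).2.2.2.2; omega
  have hall : ∀ y ∈ powFam a g, y.2 = a := fun y hy => by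
    obtain ⟨f, -, rfl⟩ := Multiset.mem_map.1 hy; rfl
  refine ⟨mem_fam.2 ⟨fun y hy => ?_, ?_⟩, ?_, ?_⟩
  · rcases Multiset.mem_add.1 hy with hy | hy
    · obtain ⟨f, hf, rfl⟩ := Multiset.mem_map.1 hy
      obtain ⟨k1, k2, k3⟩ := mem_factors hg.2.2 hf
      exact ⟨k1, k2, k3, ha, le_rfl⟩
    · obtain ⟨k1, k2, k3, k4, k5⟩ := (mem_fam.1 hm).1 y hy
      exact ⟨k1, k2, k3, k4, by omega⟩
  · rw [Multiset.map_add, Multiset.sum_add, weight_powFam a hg.1 hg.2.2, hg.2.1, (mem_fam.1 hm).2]
    omega
  · rw [piece, Multiset.filter_add, Multiset.filter_eq_self.2 hall, Multiset.filter_eq_nil.2 hne, add_zero, powFam,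
      Multiset.map_map]
    show (Multiset.map (fun f => f) _).prod = g
    rw [Multiset.map_id', prod_factors hg.1]
  · rw [Multiset.filter_add, Multiset.filter_eq_nil.2 (fun y hy => not_not.2 (hall y hy)),
      Multiset.filter_eq_self.2 hne, zero_add]

variable (F) in
/-- The splitting-off sum. -/
noncomputable def L (a n : ℕ) : ℕ :=
  ∑ e ∈ Finset.range n, if a * (e + 1) ≤ n then Fintype.card F ^ e * N F (a + 1) (n - a * (e + 1)) else 0

/-- The families whose exponent-`a` part has degree `d`. -/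
theorem card_degree_eq {a n d : ℕ} (ha : 1 ≤ a) (hd : a * d ≤ n) :
    ((fam F a n).filter fun m => (piece a m).natDegree = d).card = Nat.card (Mon F d) * N F (a + 1) (n - a * d) := by
  have := finite_mon (F := F) d
  let _ := Fintype.ofFinite (Mon F d)
  rw [Nat.card_eq_fintype_card, N, ← Finset.card_univ, ← Finset.card_product]
  refine Finset.card_bij' (fun m hm => (⟨piece a m, ?_⟩, m.filter fun y => ¬ y.2 = a))
    (fun x _ => powFam a x.1.1 + x.2) ?_ ?_ ?_ ?_
  · obtain ⟨hm1, hm2⟩ := Finset.mem_filter.1 hm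
    exact hm2 ▸ (piece_spec hm1).1
  · intro m hm
    obtain ⟨hm1, hm2⟩ := Finset.mem_filter.1 hm
    exact Finset.mem_product.2 ⟨Finset.mem_univ _, hm2 ▸ (split_spec hm1).2.1⟩
  · rintro ⟨g, m⟩ hx
    obtain ⟨h1, h2, -⟩ := join_spec ha g.2 hd (Finset.mem_product.1 hx).2
    exact Finset.mem_filter.2 ⟨h1, by rw [h2]; exact g.2.2.1⟩
  · intro m hm
    exact (split_spec (Finset.mem_filter.1 hm).1).2.2
  · rintro ⟨g, m⟩ hx
    obtain ⟨-, h2, h3⟩ := join_spec ha g.2 hd (Finset.mem_product.1 hx).2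
    exact Prod.ext (Subtype.ext h2) h3

theorem card_split {a n : ℕ} (ha : 1 ≤ a) (P : Multiset (F[X] × ℕ) → Prop) [DecidablePred P] :
    ((fam F a n).filter P).card = ((fam F a n).filter fun m => P m ∧ (piece a m).natDegree = 0).card +
      ∑ e ∈ Finset.range n, ((fam F a n).filter fun m => P m ∧ (piece a m).natDegree = e + 1).card := by
  rw [add_comm, ← Finset.sum_range_succ' (fun d => ((fam F a n).filter fun m => P m ∧ (piece a m).natDegree = d).card),
    Finset.card_eq_sum_card_fiberwise (f := fun m => (piece a m).natDegree) (t := Finset.range (n + 1))]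
  · simp only [Finset.filter_filter]
  · intro m hm
    rw [Finset.mem_coe, Finset.mem_range]
    show (piece a m).natDegree < n + 1
    have := (split_spec (Finset.mem_filter.1 hm).1).1
    have := Nat.le_mul_of_pos_left (piece a m).natDegree (show 0 < a by omega)
    omega

/-- The recursion. -/
theorem N_rec {a n : ℕ} (ha : 1 ≤ a) : N F a n = N F (a + 1) n + (Fintype.card F - 1) * L F a n := by
  have h := card_split (F := F) (n := n) ha (fun _ => True)
  simp only [Finset.filter_true, true_and] at h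
  rw [N, h, card_degree_eq ha (by simp), card_mon_zero, one_mul, mul_zero, Nat.sub_zero, L, Finset.mul_sum]
  refine congrArg _ (Finset.sum_congr rfl fun e _ => ?_)
  split_ifs with he
  · rw [card_degree_eq ha he, card_mon_succ, mul_assoc]
  · rw [mul_zero, Finset.card_eq_zero, Finset.filter_eq_empty_iff]
    intro m hm hd
    exact he (hd ▸ (split_spec hm).1)

theorem card_mon_coeff_le {d : ℕ} (S : Finset F) :
    Nat.card {g : Mon F (d + 1) // g.1.coeff 0 ∈ S} ≤ S.card * Fintype.card F ^ d := by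
  refine le_trans (Nat.card_le_card_of_injective
    (fun g => ((⟨g.1.1.coeff 0, g.2⟩ : S), fun i : Fin d => g.1.1.coeff (i + 1))) fun g h e => ?_) ?_
  · obtain ⟨e1, e2⟩ := Prod.ext_iff.1 e
    refine Subtype.ext (Subtype.ext (Polynomial.ext fun i => ?_))
    rcases i with _ | i
    · exact congrArg Subtype.val e1
    rcases lt_trichotomy i d with hi | rfl | hi
    · exact congrFun e2 ⟨i, hi⟩
    · have k1 := g.1.2.1.coeff_natDegree
      have k2 := h.1.2.1.coeff_natDegree
      rw [g.1.2.2.1] at k1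
      rw [h.1.2.2.1] at k2
      rw [k1, k2]
    · rw [coeff_eq_zero_of_natDegree_lt (by rw [g.1.2.2.1]; omega), coeff_eq_zero_of_natDegree_lt (by rw [h.1.2.2.1]; omega)]
  · simp [Nat.card_prod]

/-- Prescribing the determinant costs a factor `q - 1` up to the roots of unity of order `a`. -/
theorem card_dt_le {a n : ℕ} (ha : 1 ≤ a) (v : F) :
    ((fam F a n).filter fun m => dt m = v ∧ (piece a m).natDegree ≠ 0).card ≤ a * L F a n := by
  have h := card_split (F := F) (n := n) ha (fun m => dt m = v ∧ (piece a m).natDegree ≠ 0)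
  rw [h, (Finset.card_eq_zero.2 (Finset.filter_eq_empty_iff.2 fun m _ hm => hm.1.2 hm.2)), zero_add, L, Finset.mul_sum]
  refine Finset.sum_le_sum fun e _ => ?_
  split_ifs with he
  · let T : Multiset (F[X] × ℕ) → Finset F := fun r => Finset.univ.filter fun c => c ^ a * dt r = v
    let S := ((fam F a n).filter fun m => (dt m = v ∧ (piece a m).natDegree ≠ 0) ∧ (piece a m).natDegree = e + 1)
    refine le_trans (Finset.card_le_mul_card_image_of_maps_to (f := fun m => m.filter fun y => ¬ y.2 = a)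
      (s := S) (t := fam F (a + 1) (n - a * (e + 1))) (fun m hm => ?_) (a * Fintype.card F ^ e) fun r hr => ?_) (le_of_eq ?_)
    · obtain ⟨hm1, -, hm2⟩ := Finset.mem_filter.1 hm
      exact hm2 ▸ (split_spec hm1).2.1
    · have := finite_mon (F := F) (e + 1)
      have hroot : (T r).card ≤ a := by
        refine le_trans (Finset.card_le_card (t := (Multiset.toFinset (nthRoots a (v / dt r)))) fun c hc => ?_) ?_
        · rw [Multiset.mem_toFinset, mem_nthRoots (by omega)]
          rw [Finset.mem_filter] at hc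
          rw [← hc.2, mul_div_cancel_right₀ _ (dt_ne_zero hr)]
        · exact (Multiset.toFinset_card_le _).trans (card_nthRoots _ _)
      refine le_trans ?_ ((card_mon_coeff_le (T r)).trans (Nat.mul_le_mul_right _ hroot))
      let _ := Fintype.ofFinite {g : Mon F (e + 1) // g.1.coeff 0 ∈ T r}
      rw [Nat.card_eq_fintype_card, ← Fintype.card_coe]
      have key : ∀ m : S.filter (fun m => (m.filter fun y => ¬ y.2 = a) = r),
          piece a m.1 ∈ Mon F (e + 1) ∧ (piece a m.1).coeff 0 ∈ T r := by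
        rintro ⟨m, hm⟩
        obtain ⟨hm, hr'⟩ := Finset.mem_filter.1 hm
        obtain ⟨hm1, ⟨hv, -⟩, hm2⟩ := Finset.mem_filter.1 hm
        refine ⟨hm2 ▸ (piece_spec hm1).1, Finset.mem_filter.2 ⟨Finset.mem_univ _, ?_⟩⟩
        rw [← dt_powFam a (piece_spec hm1).1.1, ← hr', ← dt_add, (split_spec hm1).2.2, hv]
      refine Fintype.card_le_of_injective (fun m => ⟨⟨piece a m.1, (key m).1⟩, (key m).2⟩) fun x y hxy => Subtype.ext ?_
      simp only [Subtype.mk.injEq] at hxy
      obtain ⟨hx, hx'⟩ := Finset.mem_filter.1 x.2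
      obtain ⟨hy, hy'⟩ := Finset.mem_filter.1 y.2
      rw [← (split_spec (Finset.mem_filter.1 hx).1).2.2, ← (split_spec (Finset.mem_filter.1 hy).1).2.2, hx', hy', hxy]
    · rw [N]; ring
  · rw [mul_zero, Nat.le_zero, Finset.card_eq_zero, Finset.filter_eq_empty_iff]
    intro m hm hd
    exact he (hd.2 ▸ (split_spec hm).1)

theorem N_of_lt {a n : ℕ} (ha : n < a) (hn : 1 ≤ n) : N F a n = 0 := by
  rw [N, Finset.card_eq_zero, Finset.eq_empty_iff_forall_notMem]
  intro m hm
  obtain ⟨h1, h2⟩ := mem_fam.1 hm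
  rcases Multiset.empty_or_exists_mem m with rfl | ⟨y, hy⟩
  · simp at h2; omega
  · obtain ⟨-, k2, -, -, k5⟩ := h1 y hy
    have h5 := Multiset.single_le_sum (by simp) _ (Multiset.mem_map_of_mem (fun y : F[X] × ℕ => y.2 * y.1.natDegree) hy)
    have h6 := Nat.le_mul_of_pos_right y.2 k2.natDegree_pos
    omega

theorem N_zero (a : ℕ) : N F a 0 = 1 := by
  rw [N, Finset.card_eq_one]
  refine ⟨0, Finset.eq_singleton_iff_unique_mem.2 ⟨mem_fam.2 ⟨by simp, by simp⟩, fun m hm => ?_⟩⟩
  obtain ⟨h1, h2⟩ := mem_fam.1 hm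
  refine Multiset.eq_zero_of_forall_notMem fun y hy => ?_
  obtain ⟨-, k2, -, k4, -⟩ := h1 y hy
  have h5 := Multiset.single_le_sum (by simp) _ (Multiset.mem_map_of_mem (fun y : F[X] × ℕ => y.2 * y.1.natDegree) hy)
  have h6 := Nat.le_mul_of_pos_right y.2 k2.natDegree_pos
  omega

omit [DecidableEq F] in
theorem L_rec {a n : ℕ} (ha : 1 ≤ a) (hn : a ≤ n) :
    L F a n = N F (a + 1) (n - a) + Fintype.card F * L F a (n - a) := by
  obtain ⟨l, rfl⟩ : ∃ l, n = l + a := ⟨n - a, by omega⟩
  rw [Nat.add_sub_cancel]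
  rw [L, L, show l + a = (l + (a - 1)) + 1 by omega, Finset.sum_range_succ', add_comm (N F _ _), Finset.mul_sum]
  congr 1
  · symm
    refine Eq.trans (Finset.sum_subset (Finset.range_mono (show l ≤ l + (a - 1) by omega)) fun e _ he => ?_)
      (Finset.sum_congr rfl fun e _ => ?_)
    · rw [Finset.mem_range] at he
      have := Nat.le_mul_of_pos_left (e + 1) (show 0 < a by omega)
      rw [if_neg (by omega), mul_zero]
    · have h : a * (e + 1 + 1) = a * (e + 1) + a := by ring
      by_cases hc : a * (e + 1) ≤ l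
      · rw [if_pos hc, if_pos (by omega), show l + (a - 1) + 1 - a * (e + 1 + 1) = l - a * (e + 1) by omega, pow_succ]
        ring
      · rw [if_neg hc, if_neg (by omega), mul_zero]
  · rw [zero_add, mul_one, if_pos (by omega), pow_zero, one_mul, show l + (a - 1) + 1 - a = l by omega]

omit [DecidableEq F] in
theorem L_of_lt {a n : ℕ} (hn : n < a) : L F a n = 0 :=
  Finset.sum_eq_zero fun e _ => if_neg fun h => by
    have := Nat.le_mul_of_pos_right a (show 0 < e + 1 by omega)
    omega

end Cfsg.Agent.Lib.FamCount
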