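import Mathlib
import Cfsg.Agent.Lib.Similar.FamCount

/-!
Bounds for the weighted count of elementary divisor families with prescribed determinant.
-/

set_option autoImplicit false

namespace Cfsg.Agent.Lib.FamCount

open Polynomial Cfsg.Agent.Lib.Similar

variable {F : Type*} [Field F] [Fintype F] [DecidableEq F]

/-- The weighted count of families with determinant `v` and exponents at least `a`. -/
noncomputable def Sv (a n : ℕ) (v : F) : ℕ :=
  ∑ m ∈ (fam F a n).filter (fun m => dt m = v), gw (Fintype.card F) m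

theorem piece_eq_zero {a n : ℕ} {m : Multiset (F[X] × ℕ)} (hm : m ∈ fam F a n)
    (h : (piece a m).natDegree = 0) : m ∈ fam F (a + 1) n := by
  obtain ⟨⟨h1, -, -⟩, h4⟩ := piece_spec hm
  obtain ⟨-, h5, h6⟩ := split_spec hm
  rw [h, mul_zero, Nat.sub_zero] at h5
  have h7 : powFam a (piece a m) = 0 := by
    rw [h1.natDegree_eq_zero.1 h, powFam, UniqueFactorizationMonoid.normalizedFactors_one, Multiset.map_zero]
  rw [h7, zero_add] at h6
  rwa [h6] at h5

theorem Sv_le_N {a n : ℕ} (v : F) : Sv a n v ≤ (Fintype.card F - 1) * N F a n := by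
  refine (Finset.sum_le_card_nsmul _ _ (Fintype.card F - 1) fun m _ => gw_le Fintype.one_lt_card m).trans ?_
  rw [smul_eq_mul, mul_comm]
  exact Nat.mul_le_mul_left _ (Finset.card_filter_le _ _)

theorem Sv_step {a n : ℕ} (ha : 1 ≤ a) (v : F) : Sv a n v ≤ a * a * L F a n + Sv (a + 1) n v := by
  rw [Sv, ← Finset.sum_filter_add_sum_filter_not _ (fun m => (piece a m).natDegree ≠ 0)]
  simp only [Finset.filter_filter]
  refine add_le_add ((Finset.sum_le_card_nsmul _ _ a fun m hm => ?_).trans ?_) ?_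
  · obtain ⟨hm, -, hd⟩ := Finset.mem_filter.1 hm
    obtain ⟨y, hy⟩ : ∃ y, y ∈ m.filter fun y => y.2 = a := by
      refine Multiset.exists_mem_of_ne_zero fun h => hd ?_
      rw [piece, h]
      simp
    obtain ⟨hy1, hy2⟩ := Multiset.mem_filter.1 hy
    exact Nat.le_of_dvd ha (hy2 ▸ gw_dvd.2 y hy1)
  · rw [smul_eq_mul, mul_comm _ a, mul_assoc]
    exact Nat.mul_le_mul_left _ (card_dt_le ha v)
  · refine Finset.sum_le_sum_of_subset fun m hm => ?_
    obtain ⟨hm, hv, hd⟩ := Finset.mem_filter.1 hm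
    exact Finset.mem_filter.2 ⟨piece_eq_zero hm (not_not.1 hd), hv⟩

theorem N_one_le {n : ℕ} (hn : 1 ≤ n) : N F 1 n + 1 ≤ Fintype.card F ^ n := by
  have hf := Cfsg.Agent.S2478.finite_fam (F := F) n n
  have := hf.1
  have h1 : N F 1 n ≤ Cfsg.Agent.S2478.num F n n := by
    refine le_trans ?_ hf.2
    rw [N, ← Nat.card_eq_finsetCard]
    have hmem : ∀ m : fam F 1 n, m.1 ∈ Cfsg.Agent.S2478.Fam F n n := by
      intro m
      obtain ⟨h, h2⟩ := mem_fam.1 m.2
      refine ⟨fun y hy => ⟨(h y hy).1, (h y hy).2.1, (h y hy).2.2.1, (h y hy).2.2.2.1, ?_⟩, h2⟩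
      have h5 := Multiset.single_le_sum (by simp) _ (Multiset.mem_map_of_mem (fun y : F[X] × ℕ => y.2 * y.1.natDegree) hy)
      have h6 := Nat.le_mul_of_pos_right y.2 (h y hy).2.1.natDegree_pos
      omega
    exact Nat.card_le_card_of_injective (fun m : fam F 1 n => (⟨m.1, hmem m⟩ : Cfsg.Agent.S2478.Fam F n n))
      fun x y h => Subtype.ext (congrArg Subtype.val h :)
  have h2 := Cfsg.Agent.S2478.num_le (F := F) n n hn
  have hq : 1 ≤ Fintype.card F ^ n := Nat.one_le_pow _ _ Fintype.card_pos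
  rw [pow_add] at h2
  by_contra hc
  have h3 := Nat.mul_le_mul_right (Fintype.card F ^ n) (show Fintype.card F ^ n ≤ Cfsg.Agent.S2478.num F n n by omega)
  omega

theorem L_self {a : ℕ} (ha : 1 ≤ a) : L F a a = 1 := by
  rw [L_rec ha le_rfl, Nat.sub_self, N_zero, L_of_lt (by omega), mul_zero, add_zero]

theorem L_small {a n : ℕ} (ha : a < n) (h2 : n < 2 * a) : L F a n = 0 := by
  rw [L_rec (by omega) ha.le, N_of_lt (by omega) (by omega), L_of_lt (by omega), mul_zero, add_zero]

theorem N_small : ∀ (k a n : ℕ), n = a + k → k < a → N F a n ≤ Fintype.card F - 1 := by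
  intro k
  induction k with
  | zero =>
    intro a n hn ha
    rw [hn, Nat.add_zero, N_rec (by omega), N_of_lt (by omega) (by omega), L_self (by omega), mul_one, zero_add]
  | succ k ih =>
    intro a n hn ha
    rw [N_rec (by omega), L_small (by omega) (by omega), mul_zero, add_zero]
    exact ih (a + 1) n (by omega) (by omega)

theorem bounds (hq : 3 ≤ Fintype.card F) : ∀ n a : ℕ, 2 ≤ a → a ≤ n →
    N F a n ≤ Fintype.card F ^ (n - a + 1) ∧
      (2 * a ≤ n → 2 * L F a n ≤ 3 * Fintype.card F ^ (n - 2 * a) +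
        (if a ∣ n then 2 * Fintype.card F ^ (n / a - 1) else 0)) := by
  intro n
  induction n using Nat.strong_induction_on with
  | _ n ih =>
  obtain ⟨q, hqd⟩ : ∃ q, Fintype.card F = q := ⟨_, rfl⟩
  have hL : ∀ a, 2 ≤ a → 2 * a ≤ n → 2 * L F a n ≤ 3 * q ^ (n - 2 * a) +
      (if a ∣ n then 2 * q ^ (n / a - 1) else 0) := by
    intro a ha h2
    obtain ⟨l, rfl⟩ : ∃ l, n = l + a := ⟨n - a, by omega⟩
    rw [L_rec (by omega) (by omega), Nat.add_sub_cancel, hqd]
    have hN : N F (a + 1) l ≤ q ^ (l - a) := by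
      rcases Nat.lt_or_ge a l with h | h
      · have := (ih l (by omega) (a + 1) (by omega) h).1
        rwa [hqd, show l - (a + 1) + 1 = l - a by omega] at this
      · rw [N_of_lt (by omega) (by omega)]; exact Nat.zero_le _
    rw [show l + a - 2 * a = l - a by omega]
    have hdiv : (l + a) / a - 1 = l / a := by rw [Nat.add_div_right _ (by omega)]; exact Nat.add_sub_cancel _ _
    rw [hdiv]
    by_cases hl : 2 * a ≤ l
    · have hl' := (ih l (by omega) a ha (by omega)).2 hl
      rw [hqd] at hl'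
      have hp : 3 * (q * q ^ (l - 2 * a)) ≤ q ^ (l - a) := by
        have e : q ^ (l - a) = q ^ (a - 1) * (q * q ^ (l - 2 * a)) := by
          rw [← pow_succ', ← pow_add]; congr 1; omega
        rw [e]
        refine Nat.mul_le_mul_right _ ?_
        exact le_trans (hqd ▸ hq) (Nat.le_self_pow (by omega) _)
      by_cases hd : a ∣ l
      · rw [if_pos hd] at hl'
        rw [if_pos (Nat.dvd_add_self_right.2 hd)]
        have hk : 1 ≤ l / a := Nat.div_pos (by omega) (by omega)
        have e : q ^ (l / a) = q * q ^ (l / a - 1) := by rw [← pow_succ']; congr 1; omega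
        have := Nat.mul_le_mul_left q hl'
        rw [e]
        nlinarith
      · rw [if_neg hd] at hl'
        rw [if_neg (fun h => hd (Nat.dvd_add_self_right.1 h))]
        have := Nat.mul_le_mul_left q hl'
        nlinarith
    · rcases Nat.lt_or_ge a l with h | h
      · rw [L_small h (by omega), mul_zero, add_zero]
        omega
      · obtain rfl : l = a := by omega
        rw [L_self (by omega), if_pos (Nat.dvd_add_self_right.2 (dvd_refl _)), Nat.div_self (by omega), pow_one,
          N_of_lt (by omega) (by omega), mul_one, zero_add]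
        omega
  intro a
  induction h : n - a generalizing a with
  | zero =>
    intro ha han
    refine ⟨?_, fun h2 => by omega⟩
    rw [show n = a by omega, Nat.zero_add, pow_one]
    exact (N_small 0 a a rfl (by omega)).trans (Nat.sub_le _ _)
  | succ k ihk =>
    intro ha han
    refine ⟨?_, fun h2 => ?_⟩
    · rw [N_rec (by omega)]
      have h1 := (ihk (a + 1) (by omega) (by omega) (by omega)).1
      rw [pow_succ] at h1 ⊢
      have h3 : L F a n ≤ q ^ (k + 1) := by
        rcases Nat.lt_or_ge n (2 * a) with h2 | h2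
        · rw [L_small (by omega) h2]; exact Nat.zero_le _
        · have h4 := hL a ha h2
          have h5 : 3 * q ^ (n - 2 * a) ≤ q ^ (k + 1) := by
            rw [show k + 1 = (n - 2 * a) + a by omega, pow_add, mul_comm (q ^ (n - 2 * a))]
            exact Nat.mul_le_mul_right _ (le_trans (hqd ▸ hq) (Nat.le_self_pow (by omega) _))
          have h6 : (if a ∣ n then 2 * q ^ (n / a - 1) else 0) ≤ q ^ (k + 1) := by
            split_ifs with hd
            · obtain ⟨j, rfl⟩ := hd
              rw [Nat.mul_div_cancel_left _ (by omega)]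
              have hj : 2 ≤ j := Nat.le_of_mul_le_mul_left (show a * 2 ≤ a * j by rw [mul_comm a 2]; exact h2) (by omega)
              have : j - 1 + 1 ≤ k + 1 := by
                have := Nat.mul_le_mul ha (le_refl j)
                have : a + j ≤ a * j := by nlinarith
                omega
              refine le_trans ?_ (Nat.pow_le_pow_right (by omega) this)
              rw [pow_succ, mul_comm]
              exact Nat.mul_le_mul_left _ (by omega)
            · exact Nat.zero_le _
          omega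
      rw [hqd] at h1 ⊢
      have h7 := Nat.mul_le_mul_left (q - 1) h3
      obtain ⟨r, rfl⟩ : ∃ r, q = r + 1 := ⟨q - 1, by omega⟩
      rw [Nat.add_sub_cancel] at h7 ⊢
      rw [pow_succ] at h7 ⊢
      nlinarith
    · have := hL a ha h2
      rwa [← hqd] at this

theorem N_bound (hq : 3 ≤ Fintype.card F) (a n : ℕ) (ha : 2 ≤ a) (h2 : 2 * a ≤ n) :
    2 * N F a n ≤ 3 * Fintype.card F ^ (n - 2 * a + 1) + 2 * Fintype.card F ^ (n / a) := by
  induction h : n - 2 * a using Nat.strong_induction_on generalizing a with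
  | _ k ih =>
  obtain ⟨q, hqd⟩ : ∃ q, Fintype.card F = q := ⟨_, rfl⟩
  have hL := (bounds hq n a ha (by omega)).2 h2
  rw [N_rec (by omega)]
  rw [hqd] at hL ⊢
  have h3 := Nat.mul_le_mul_left (q - 1) hL
  obtain ⟨r, rfl⟩ : ∃ r, q = r + 1 := ⟨q - 1, by omega⟩
  rw [Nat.add_sub_cancel] at h3 ⊢
  rw [h] at h3
  have hone : 1 ≤ (r + 1) ^ k := Nat.one_le_pow _ _ (by omega)
  have hjm : n / (a + 1) ≤ n / a := Nat.div_le_div_left (by omega) (by omega)
  rcases Nat.lt_or_ge n (2 * (a + 1)) with hlt | hge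
  · have h1 : N F (a + 1) n ≤ r := by
      have := N_small (F := F) (n - (a + 1)) (a + 1) n (by omega) (by omega)
      omega
    have hj : 1 ≤ n / a - 1 := by
      have : 2 ≤ n / a := (Nat.le_div_iff_mul_le (by omega)).2 (by omega)
      omega
    have e : (r + 1) ^ (n / a) = (r + 1) ^ (n / a - 1) * (r + 1) := by rw [← pow_succ]; congr 1; omega
    have e2 : r + 1 ≤ (r + 1) ^ (n / a - 1) := Nat.le_self_pow (by omega) _
    rw [e, pow_succ]
    split_ifs at h3 <;> nlinarith
  · have h1 := ih (n - 2 * (a + 1)) (by omega) (a + 1) (by omega) hge rfl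
    rw [hqd] at h1
    have h4 : (r + 1) ^ (n - 2 * (a + 1) + 1) ≤ (r + 1) ^ k := Nat.pow_le_pow_right (by omega) (by omega)
    rw [pow_succ]
    split_ifs at h3 with hd
    · obtain ⟨j, rfl⟩ := hd
      rw [Nat.mul_div_cancel_left _ (by omega)] at hjm h3 ⊢
      have hj : 2 ≤ j := Nat.le_of_mul_le_mul_left (show a * 2 ≤ a * j by rw [mul_comm a 2]; exact h2) (by omega)
      have hlt2 : a * j / (a + 1) ≤ j - 1 := by
        refine Nat.le_of_lt_succ ?_
        rw [Nat.div_lt_iff_lt_mul (by omega), show (j - 1).succ = j by omega]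
        nlinarith
      have e2 : (r + 1) ^ (a * j / (a + 1)) ≤ (r + 1) ^ (j - 1) := Nat.pow_le_pow_right (by omega) hlt2
      have e : (r + 1) ^ j = (r + 1) ^ (j - 1) * (r + 1) := by rw [← pow_succ]; congr 1; omega
      rw [e]
      nlinarith
    · have e2 : (r + 1) ^ (n / (a + 1)) ≤ (r + 1) ^ (n / a) := Nat.pow_le_pow_right (by omega) hjm
      nlinarith

theorem L_one_two : L F 1 2 = Fintype.card F := by
  rw [L_rec le_rfl (by omega), show 2 - 1 = 1 from rfl, N_of_lt (by omega) le_rfl, L_self le_rfl, mul_one, zero_add]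

theorem N_two_two : N F 2 2 = Fintype.card F - 1 := by
  rw [N_rec (by omega), N_of_lt (by omega) (by omega), L_self (by omega), mul_one, zero_add]

theorem L_one_three : L F 1 3 = Fintype.card F - 1 + Fintype.card F * Fintype.card F := by
  rw [L_rec le_rfl (by omega), show 3 - 1 = 2 from rfl, N_two_two, L_one_two]

theorem Sv_one (v : F) : Sv 1 1 v ≤ 1 := by
  refine (Sv_step le_rfl v).trans ?_
  have := Sv_le_N (a := 2) (n := 1) v
  rw [N_of_lt (by omega) le_rfl] at this
  rw [L_self le_rfl]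
  simp only [Nat.reduceAdd] at *
  omega

theorem Sv_two (v : F) : Sv 1 2 v ≤ Fintype.card F + 4 := by
  refine (Sv_step le_rfl v).trans ?_
  have h1 := Sv_step (n := 2) (show 1 ≤ 2 by omega) v
  have h2 := Sv_le_N (a := 3) (n := 2) v
  rw [N_of_lt (by omega) (by omega)] at h2
  rw [L_self (by omega)] at h1
  rw [L_one_two]
  simp only [Nat.reduceAdd, Nat.reduceMul] at *
  omega

theorem Sv_three (v : F) : Sv 1 3 v ≤ Fintype.card F * Fintype.card F + Fintype.card F + 8 ∧
    Sv 1 3 v ≤ Fintype.card F - 1 + Fintype.card F * Fintype.card F + (Fintype.card F - 1) * (Fintype.card F - 1) := by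
  have h1 := Sv_step (n := 3) (le_refl 1) v
  have h2 := Sv_step (n := 3) (show 1 ≤ 2 by omega) v
  have h3 := Sv_step (n := 3) (show 1 ≤ 3 by omega) v
  have h4 := Sv_le_N (a := 4) (n := 3) v
  have h5 := Sv_le_N (a := 3) (n := 3) v
  have h6 : N F 3 3 = Fintype.card F - 1 := by
    rw [N_rec (by omega), N_of_lt (by omega) (by omega), L_self (by omega), mul_one, zero_add]
  rw [L_self (by omega)] at h3
  rw [N_of_lt (by omega) (by omega)] at h4
  rw [L_small (by omega) (by omega)] at h2
  rw [h6] at h5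
  rw [L_one_three] at h1
  simp only [Nat.reduceAdd, Nat.reduceMul] at *
  have := Fintype.one_lt_card (α := F)
  omega

theorem Sv_four (v : F) : Sv 1 4 v ≤ Fintype.card F ^ 3 + 2 * Fintype.card F ^ 2 + 2 * Fintype.card F := by
  have h1 := Sv_step (n := 4) (le_refl 1) v
  have h2 := Sv_step (n := 4) (show 1 ≤ 2 by omega) v
  have h3 := Sv_le_N (a := 3) (n := 4) v
  have h4 : N F 3 4 ≤ Fintype.card F - 1 := N_small 1 3 4 rfl (by omega)
  have h5 : L F 2 4 = Fintype.card F := by
    rw [L_rec (by omega) (by omega), show 4 - 2 = 2 from rfl, L_self (by omega), N_of_lt (by omega) (by omega),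
      mul_one, zero_add]
  have h6 : N F 2 3 = Fintype.card F - 1 := by
    rw [N_rec (by omega), N_rec (show 1 ≤ 3 by omega), N_of_lt (by omega) (by omega), L_self (by omega),
      L_small (by omega) (by omega), mul_one, zero_add, mul_zero, add_zero]
  have h7 : L F 1 4 = Fintype.card F - 1 + Fintype.card F * (Fintype.card F - 1 + Fintype.card F * Fintype.card F) := by
    rw [L_rec le_rfl (by omega), show 4 - 1 = 3 from rfl, h6, L_one_three]
  rw [h5] at h2
  rw [h7] at h1
  obtain ⟨r, hr⟩ : ∃ r, Fintype.card F = r + 1 := ⟨Fintype.card F - 1, by have := Fintype.card_pos (α := F); omega⟩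
  rw [hr, Nat.add_sub_cancel] at h1 h3 h4
  rw [hr] at h2 ⊢
  have := Nat.mul_le_mul_left r h4
  simp only [mul_one, one_mul] at h1
  nlinarith

theorem Sv_large (hq : 3 ≤ Fintype.card F) {n : ℕ} (hn : 5 ≤ n) (v : F) :
    Sv 1 n v ≤ Fintype.card F ^ (n - 1) + 3 * Fintype.card F ^ (n - 2) := by
  obtain ⟨q, hqd⟩ : ∃ q, Fintype.card F = q := ⟨_, rfl⟩
  have h1 := Sv_step (n := n) (le_refl 1) v
  have h2 := Sv_step (n := n) (show 1 ≤ 2 by omega) v
  have h3 := Sv_le_N (a := 3) (n := n) v
  have h4 := N_rec (F := F) (n := n) (le_refl 1)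
  have h5 := N_one_le (F := F) (show 1 ≤ n by omega)
  simp only [one_mul, Nat.reduceAdd, Nat.reduceMul] at h1 h2 h4
  rw [hqd] at h3 h4 h5 ⊢
  have hq' : 3 ≤ q := hqd ▸ hq
  suffices key : 8 * L F 2 n + 2 * ((q - 1) * N F 3 n) ≤ 3 * q ^ (n - 2) by
    obtain ⟨r, rfl⟩ : ∃ r, q = r + 1 := ⟨q - 1, by omega⟩
    rw [Nat.add_sub_cancel] at h3 h4 key
    have e : (r + 1) ^ n = (r + 1) * (r + 1) ^ (n - 1) := by rw [← pow_succ']; congr 1; omega
    have e2 : (r + 1) ^ (n - 1) = (r + 1) * (r + 1) ^ (n - 2) := by rw [← pow_succ']; congr 1; omega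
    refine Nat.le_of_mul_le_mul_left (?_ : 2 * r * _ ≤ 2 * r * _) (by omega)
    have k1 := Nat.mul_le_mul_left r key
    have k2 : 2 * r * Sv 1 n v ≤ 2 * (r * L F 1 n) + r * (8 * L F 2 n + 2 * (r * N F 3 n)) := by
      have := Nat.mul_le_mul_left (2 * r) (show Sv 1 n v ≤ L F 1 n + 4 * L F 2 n + r * N F 3 n by omega)
      nlinarith
    have k3 : 2 * (r + 1) ≤ 3 * r := by omega
    have k4 := Nat.mul_le_mul_right ((r + 1) ^ (n - 2)) k3
    rw [e, e2] at h5
    rw [e2]
    nlinarith
  rcases Nat.lt_or_ge n 6 with h | h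
  · obtain rfl : n = 5 := by omega
    have a1 : L F 2 5 = N F 3 3 := by
      rw [L_rec (by omega) (by omega), show 5 - 2 = 3 from rfl, L_small (by omega) (by omega), mul_zero, add_zero]
    have a2 := N_small (F := F) 2 3 5 rfl (by omega)
    have a3 := N_small (F := F) 0 3 3 rfl (by omega)
    rw [hqd] at a2 a3
    rw [a1, show 5 - 2 = 3 from rfl, pow_succ, pow_succ, pow_one]
    have := Nat.mul_le_mul_left (q - 1) a2
    have a4 : (q - 1) * (q - 1) ≤ q * q := Nat.mul_le_mul (by omega) (by omega)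
    have a5 : 3 * (q * q) ≤ q * q * q := by rw [mul_comm (q * q) q]; exact Nat.mul_le_mul_right _ (by omega)
    have a6 : 3 * q ≤ q * q := Nat.mul_le_mul_right q hq'
    omega
  rcases Nat.lt_or_ge n 7 with h' | h'
  · obtain rfl : n = 6 := by omega
    have a1 : L F 2 6 = N F 3 4 + q * q := by
      rw [L_rec (by omega) (by omega), show 6 - 2 = 4 from rfl, L_rec (by omega) (show 2 ≤ 4 by omega), show 4 - 2 = 2 from rfl, L_self (by omega),
        N_of_lt (show 2 < 3 by omega) (by omega), hqd, zero_add, mul_one]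
    have a2 := N_small (F := F) 1 3 4 rfl (by omega)
    have a3 := N_bound hq 3 6 (by omega) (by omega)
    rw [hqd] at a2 a3
    norm_num at a3
    rw [a1, show 6 - 2 = 4 from rfl]
    obtain ⟨r, rfl⟩ : ∃ r, q = r + 1 := ⟨q - 1, by omega⟩
    rw [Nat.add_sub_cancel] at a2 ⊢
    have := Nat.mul_le_mul_left r a3
    obtain ⟨s, rfl⟩ : ∃ s, r = s + 2 := ⟨r - 2, by omega⟩
    nlinarith [Nat.zero_le (s * s), Nat.zero_le (s * s * s), Nat.zero_le (s * s * s * s)]
  have a1 := (bounds hq n 2 le_rfl (by omega)).2 (by omega)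
  have a2 := N_bound hq 3 n (by omega) (by omega)
  rw [hqd] at a1 a2
  have p1 : q ^ (n - 2 * 2) = q * q ^ (n - 5) := by rw [← pow_succ']; congr 1; omega
  have p2 : q ^ (n - 2) = q * q * q * q ^ (n - 5) := by
    rw [show n - 2 = 3 + (n - 5) by omega, pow_add, pow_succ, pow_two]
  have p3 : q ^ (n - 2 * 3 + 1) = q ^ (n - 5) := by congr 1; omega
  have p4 : q ^ (n / 3) ≤ q ^ (n - 5) := Nat.pow_le_pow_right (by omega) (by omega)
  have p5 : (if 2 ∣ n then 2 * q ^ (n / 2 - 1) else 0) ≤ 2 * q ^ (n - 5) := by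
    split_ifs with hd
    · exact Nat.mul_le_mul_left _ (Nat.pow_le_pow_right (by omega) (by omega))
    · exact Nat.zero_le _
  rw [p1] at a1
  rw [p3] at a2
  rw [p2]
  have a3 := Nat.mul_le_mul_left (q - 1) a2
  have a4 : (q - 1) * (3 * q ^ (n - 5) + 2 * q ^ (n / 3)) ≤ q * (5 * q ^ (n - 5)) := Nat.mul_le_mul (by omega) (by omega)
  have a5 : (17 * q + 8) * q ^ (n - 5) ≤ 3 * (q * q * q) * q ^ (n - 5) := by
    refine Nat.mul_le_mul_right _ ?_
    have := Nat.mul_le_mul hq' hq'
    have := Nat.mul_le_mul_right q this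
    omega
  nlinarith

theorem Sv_bound (hq : 3 ≤ Fintype.card F) {n : ℕ} (hn : 3 ≤ n) (v : F) :
    Sv 1 n v ≤ Fintype.card F ^ (n - 1) + 3 * Fintype.card F ^ (n - 2) := by
  rcases Nat.lt_or_ge n 5 with h | h
  · obtain ⟨q, hqd⟩ : ∃ q, Fintype.card F = q := ⟨_, rfl⟩
    rcases (show n = 3 ∨ n = 4 by omega) with rfl | rfl
    · obtain ⟨h1, h2⟩ := Sv_three v
      rw [hqd] at h1 h2 hq ⊢
      norm_num
      rcases Nat.eq_or_lt_of_le hq with rfl | hq'
      · omega
      · rw [pow_two]
        omega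
    · have h1 := Sv_four v
      rw [hqd] at h1 hq ⊢
      norm_num
      have : 2 * q ≤ q ^ 2 := by rw [pow_two]; exact Nat.mul_le_mul_right _ (by omega)
      omega
  · exact Sv_large hq h v

theorem Sv_uniform (hq : 3 ≤ Fintype.card F) {n : ℕ} (hn : 1 ≤ n) (v : F) :
    2 * Sv 1 n v ≤ 5 * Fintype.card F ^ (n - 1) := by
  rcases Nat.lt_or_ge n 3 with h | h
  · rcases (show n = 1 ∨ n = 2 by omega) with rfl | rfl
    · have := Sv_one v
      rw [Nat.sub_self, pow_zero]; omega
    · have := Sv_two v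
      rw [show 2 - 1 = 1 from rfl, pow_one]; omega
  · have h1 := Sv_bound hq h v
    have h2 : Fintype.card F * Fintype.card F ^ (n - 2) = Fintype.card F ^ (n - 1) := by
      rw [← pow_succ']; congr 1; omega
    have := Nat.mul_le_mul_right (Fintype.card F ^ (n - 2)) (show 2 ≤ Fintype.card F by omega)
    rw [h2] at this
    omega

theorem card_fam_det_le_two (hq : Fintype.card F = 2) {n : ℕ} (hn : 1 ≤ n) (v : F) : Sv 1 n v + 1 ≤ 2 ^ n := by
  have h1 := Sv_le_N (a := 1) (n := n) v
  have h2 := N_one_le (F := F) hn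
  rw [hq] at h1 h2
  omega

end Cfsg.Agent.Lib.FamCount
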