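import Mathlib
import Cfsg.Agent.Lib.Similar.GL

/-!
A square matrix over a field is similar to its transpose.
-/

set_option autoImplicit false

namespace Cfsg.Agent.Lib.Similar

open Polynomial Module

variable {F : Type*} [Field F] {n : Type*} [Fintype n] [DecidableEq n]

theorem kerDim_toEnd (A : Matrix n n F) (b : F[X]) :
    kerDim (toEnd A) b = Fintype.card n - (aeval A b).rank := by
  have h : aeval (toEnd A) b = Matrix.toLinAlgEquiv' (aeval A b) :=
    Polynomial.aeval_algHom_apply (Matrix.toLinAlgEquiv' (R := F) (n := n)).toAlgHom A b
  rw [kerDim, h]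
  have h2 := (Matrix.toLinAlgEquiv' (aeval A b)).finrank_range_add_finrank_ker
  rw [finrank_fintype_fun_eq_card] at h2
  have h3 : (aeval A b).rank = finrank F (LinearMap.range (Matrix.toLinAlgEquiv' (aeval A b))) := rfl
  omega

theorem aeval_transpose (A : Matrix n n F) (b : F[X]) : aeval A.transpose b = (aeval A b).transpose := by
  induction b using Polynomial.induction_on with
  | C a => simp [Matrix.algebraMap_eq_diagonal]
  | add f g hf hg => simp [hf, hg]
  | monomial k a _ =>
    simp only [map_mul, aeval_C, map_pow, aeval_X, Matrix.transpose_mul, Matrix.transpose_pow,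
      Matrix.algebraMap_eq_diagonal, Matrix.diagonal_transpose]
    exact (Algebra.commutes a (A.transpose ^ (k + 1)))

theorem isConj_transpose (A : Matrix n n F) : IsConj A A.transpose := by
  refine isConj_of_kerDim_eq A A.transpose fun q _ _ k => ?_
  rw [show Matrix.toLinAlgEquiv' A = toEnd A from rfl,
    show Matrix.toLinAlgEquiv' A.transpose = toEnd A.transpose from rfl, kerDim_toEnd, kerDim_toEnd,
    aeval_transpose, Matrix.rank_transpose]

end Cfsg.Agent.Lib.Similar
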