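import Mathlib
import Cfsg.Agent.Lib.SuSpec.Elements
import Cfsg.Agent.Lib.SuSpec.Split
import Cfsg.Prelude.Def_LieClassical

/-!
Conjugacy in the unitary groups: norms on commutative algebras with an involution.
-/

set_option autoImplicit false

namespace Cfsg.Agent.Lib.Similar

open Matrix
open Cfsg.Agent.Lib.Classical (conjHom conjHom_ne_id conjHom_conjHom mem_GU_iff)
open Cfsg.Agent.Lib.SuSpec (adj adj_mul adj_one adj_adj adj_algebraMap adj_add)

section Ring

variable {K S : Type*} [Field K] [CommRing S] [Algebra K S] [Finite S]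

/-- Hilbert's Theorem 90. -/
theorem exists_div_tau {σ : K →+* K} (hσ : σ ≠ RingHom.id K) (τ : S →+* S) (hτ2 : ∀ x, τ (τ x) = x)
    (hτ : ∀ c : K, τ (algebraMap K S c) = algebraMap K S (σ c)) (y : S) (hy : y * τ y = 1) :
    ∃ z : S, IsUnit z ∧ z = y * τ z := by
  classical
  have : Finite {m : Ideal S // m.IsMaximal} := by
    have : Finite (Ideal S) := Finite.of_injective (fun I => (I : Set S)) SetLike.coe_injective
    infer_instance
  let _ := Fintype.ofFinite {m : Ideal S // m.IsMaximal}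
  let idx := Fintype.equivFin {m : Ideal S // m.IsMaximal}
  let tm : {m : Ideal S // m.IsMaximal} → {m : Ideal S // m.IsMaximal} := fun m =>
    ⟨m.1.comap τ, @Ideal.comap_isMaximal_of_surjective S S _ _ _ _ _ τ (fun x => ⟨τ x, hτ2 x⟩) m.1 m.2⟩
  have htm : ∀ m x, x ∈ (tm m).1 ↔ τ x ∈ m.1 := fun m x => Iff.rfl
  have htm2 : ∀ m, tm (tm m) = m := fun m => Subtype.ext (Ideal.ext fun x => by rw [htm, htm, hτ2])
  have hfix : ∀ m, tm m = m → ∃ c : K, algebraMap K S c + y * algebraMap K S (σ c) ∉ m.1 := by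
    intro m _
    by_contra h
    push Not at h
    refine hσ (RingHom.ext fun c => ?_)
    have h1 := h 1
    simp only [map_one, mul_one] at h1
    have h2 := m.1.sub_mem (h c) (m.1.mul_mem_right (algebraMap K S (σ c)) h1)
    rw [add_mul, one_mul, add_sub_add_right_eq_sub, ← map_sub] at h2
    by_contra hne
    have hu : IsUnit (algebraMap K S (c - σ c)) :=
      (IsUnit.mk0 _ (sub_ne_zero.2 fun e => hne e.symm)).map (algebraMap K S)
    exact m.2.ne_top (m.1.eq_top_of_isUnit_mem h2 hu)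
  let a : {m : Ideal S // m.IsMaximal} → S := fun m => if h : tm m = m then algebraMap K S (hfix m h).choose
    else if idx m < idx (tm m) then 1 else 0
  obtain ⟨l, hl⟩ := Ideal.exists_forall_sub_mem_ideal (I := fun m : {m : Ideal S // m.IsMaximal} => m.1)
    (fun i j hij => by
      haveI := i.2; haveI := j.2
      exact Ideal.isCoprime_iff_sup_eq.2 (Ideal.IsMaximal.coprime_of_ne i.2 j.2 fun e => hij (Subtype.ext e))) a
  refine ⟨l + y * τ l, ?_, ?_⟩
  swap
  · rw [map_add, map_mul, hτ2, mul_add, ← mul_assoc, hy, one_mul, add_comm]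
  by_contra hnu
  obtain ⟨M, hM, hmem⟩ := exists_max_ideal_of_mem_nonunits hnu
  obtain ⟨m, hm⟩ : ∃ m : {m : Ideal S // m.IsMaximal}, m.1 = M := ⟨⟨M, hM⟩, rfl⟩
  rw [← hm] at hmem
  have e1 : l - a m ∈ m.1 := hl m
  have e2 : τ l - τ (a (tm m)) ∈ m.1 := by
    rw [← map_sub]; exact (htm m _).1 (hl (tm m))
  have e3 : a m + y * τ (a (tm m)) ∈ m.1 := by
    have := m.1.sub_mem (m.1.sub_mem hmem e1) (m.1.mul_mem_left y e2)
    convert this using 1
    ring
  have hy1 : y ∉ m.1 := fun h => m.2.ne_top (m.1.eq_top_of_isUnit_mem h ⟨⟨y, τ y, hy, by rw [mul_comm]; exact hy⟩, rfl⟩)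
  have h1 : (1 : S) ∉ m.1 := fun h => m.2.ne_top ((Ideal.eq_top_iff_one _).2 h)
  by_cases h : tm m = m
  · have ea : a m = algebraMap K S (hfix m h).choose := dif_pos h
    rw [h, ea, hτ] at e3
    exact (hfix m h).choose_spec e3
  · have h' : tm (tm m) ≠ tm m := fun e => h (by rw [htm2] at e; exact e.symm)
    have ea : a m = if idx m < idx (tm m) then 1 else 0 := dif_neg h
    have eb : a (tm m) = if idx (tm m) < idx m then 1 else 0 := (dif_neg h').trans (by rw [htm2])
    rw [ea, eb] at e3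
    rcases lt_or_gt_of_ne (fun e => h (idx.injective e).symm : idx m ≠ idx (tm m)) with hlt | hlt
    · rw [if_pos hlt, if_neg (not_lt.2 hlt.le), map_zero, mul_zero, add_zero] at e3
      exact h1 e3
    · rw [if_neg (not_lt.2 hlt.le), if_pos hlt, map_one, mul_one, zero_add] at e3
      exact hy1 e3

/-- Fixed units are norms. -/
theorem exists_mul_tau {σ : K →+* K} (hσ : σ ≠ RingHom.id K) (τ : S →+* S) (hτ2 : ∀ x, τ (τ x) = x)
    (hτ : ∀ c : K, τ (algebraMap K S c) = algebraMap K S (σ c)) (x : S) (hx : IsUnit x) (hxf : τ x = x) :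
    ∃ y : S, y * τ y = x := by
  classical
  let _ := Fintype.ofFinite S
  let T : Sˣ →* Sˣ := Units.map (τ : S →* S)
  have hT : ∀ u : Sˣ, ((T u : Sˣ) : S) = τ u := fun u => rfl
  let R : Subgroup Sˣ := MonoidHom.eqLocus T (MonoidHom.id _)
  let N : Sˣ →* Sˣ := MonoidHom.id Sˣ * T
  let D : Sˣ →* Sˣ := MonoidHom.id Sˣ / T
  have hN : ∀ u : Sˣ, N u = u * T u := fun u => rfl
  have hD : ∀ u : Sˣ, D u = u / T u := fun u => rfl
  have hNR : N.range ≤ R := by
    rintro _ ⟨u, rfl⟩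
    show T (N u) = N u
    have hTT : T (T u) = u := Units.ext (hτ2 u)
    rw [hN, map_mul, hTT, mul_comm]
  have hker : D.range = N.ker := by
    ext v
    constructor
    · rintro ⟨u, rfl⟩
      rw [MonoidHom.mem_ker, hN, hD, map_div]
      have hTT : T (T u) = u := Units.ext (hτ2 u)
      rw [hTT, div_mul_div_cancel, div_self']
    · intro hv
      rw [MonoidHom.mem_ker, hN] at hv
      obtain ⟨z, hz, hz'⟩ := exists_div_tau hσ τ hτ2 hτ (v : S) (by rw [← hT, ← Units.val_mul, hv, Units.val_one])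
      refine ⟨hz.unit, ?_⟩
      rw [hD, div_eq_iff_eq_mul]
      exact Units.ext hz'
  have hDker : D.ker = R := by
    ext u
    rw [MonoidHom.mem_ker, hD, div_eq_one]
    exact eq_comm
  have c1 := Subgroup.card_eq_card_quotient_mul_card_subgroup N.ker
  rw [Nat.card_congr (QuotientGroup.quotientKerEquivRange N).toEquiv] at c1
  have c2 := Subgroup.card_eq_card_quotient_mul_card_subgroup D.ker
  rw [Nat.card_congr (QuotientGroup.quotientKerEquivRange D).toEquiv, hker, hDker] at c2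
  have hpos : 0 < Nat.card N.ker := Nat.card_pos
  have hcard : Nat.card N.range = Nat.card R :=
    Nat.eq_of_mul_eq_mul_right hpos (c1.symm.trans (c2.trans (mul_comm _ _)))
  have heq : N.range = R := Subgroup.eq_of_le_of_card_ge hNR hcard.ge
  obtain ⟨u, hu⟩ : hx.unit ∈ N.range := by
    rw [heq]
    exact Units.ext hxf
  exact ⟨u, by rw [← hT, ← Units.val_mul, ← hN, hu]; rfl⟩

end Ring

variable {K : Type*} [Field K] [Fintype K] {q n : ℕ}

/-- Membership of `GU` through the adjoint. -/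
theorem mem_GU_adj (hK : Fintype.card K = q ^ 2) (g : GL (Fin n) K) :
    g ∈ Cfsg.GU n K q ↔ adj (conjHom hK) (g : Matrix (Fin n) (Fin n) K) * (g : Matrix (Fin n) (Fin n) K) = 1 := by
  rw [mem_GU_iff hK, adj, ← Matrix.transpose_eq_one, Matrix.transpose_mul, Matrix.transpose_transpose]

/-- Unitary matrices conjugate in `GL` are conjugate in `GU`. -/
theorem isConj_GU_iff (hK : Fintype.card K = q ^ 2) (A B : Cfsg.GU n K q) :
    IsConj A B ↔ IsConj (A : GL (Fin n) K) (B : GL (Fin n) K) := by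
  classical
  refine ⟨fun h => (Cfsg.GU n K q).subtype.map_isConj h, fun h => ?_⟩
  obtain ⟨g, hg⟩ := isConj_iff.1 h
  obtain ⟨σ, hσd⟩ : ∃ σ, σ = conjHom hK := ⟨_, rfl⟩
  have hσ2 : ∀ x, σ (σ x) = x := hσd ▸ conjHom_conjHom hK
  obtain ⟨G, hGd⟩ : ∃ G, G = (g : Matrix (Fin n) (Fin n) K) := ⟨_, rfl⟩
  obtain ⟨a, had⟩ : ∃ a, a = ((A : GL (Fin n) K) : Matrix (Fin n) (Fin n) K) := ⟨_, rfl⟩
  obtain ⟨b, hbd⟩ : ∃ b, b = ((B : GL (Fin n) K) : Matrix (Fin n) (Fin n) K) := ⟨_, rfl⟩
  have hA : adj σ a * a = 1 := by rw [hσd, had]; exact (mem_GU_adj hK _).1 A.2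
  have hB : adj σ b * b = 1 := by rw [hσd, hbd]; exact (mem_GU_adj hK _).1 B.2
  have hGa : G * a = b * G := by
    rw [hGd, had, hbd, ← Units.val_mul, ← Units.val_mul, ← hg, inv_mul_cancel_right]
  obtain ⟨X, hX⟩ : ∃ X, X = adj σ G * G := ⟨_, rfl⟩
  have hXs : adj σ X = X := by rw [hX, adj_mul, adj_adj hσ2]
  have hXa : X * a = a * X := by
    have h1 : adj σ a * adj σ G = adj σ G * adj σ b := by rw [← adj_mul, ← adj_mul, hGa]
    have h2 : a * adj σ a = 1 := mul_eq_one_comm.1 hA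
    have h3 : adj σ G * b = a * adj σ G := by
      calc adj σ G * b = (a * adj σ a) * adj σ G * b := by rw [h2, one_mul]
        _ = a * (adj σ a * adj σ G) * b := by rw [mul_assoc a]
        _ = a * (adj σ G * (adj σ b * b)) := by rw [h1]; simp only [mul_assoc]
        _ = a * adj σ G := by rw [hB, mul_one]
    rw [hX, mul_assoc, hGa, ← mul_assoc, h3, mul_assoc]
  have hXu : IsUnit X := by
    rw [hX, Matrix.isUnit_iff_isUnit_det, Matrix.det_mul, Cfsg.Agent.Lib.SuSpec.det_adj]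
    have h := (((Matrix.GeneralLinearGroup.det g).isUnit).map σ).mul (Matrix.GeneralLinearGroup.det g).isUnit
    rw [hGd]
    exact h
  obtain ⟨S, hS⟩ : ∃ S, S = Algebra.adjoin K ({X} : Set (Matrix (Fin n) (Fin n) K)) := ⟨_, rfl⟩
  have hcommS : ∀ Y ∈ S, ∀ Z ∈ S, Y * Z = Z * Y := by
    intro Y hY Z hZ
    rw [hS, Algebra.adjoin_singleton_eq_range_aeval] at hY hZ
    obtain ⟨f, rfl⟩ := hY
    obtain ⟨g, rfl⟩ := hZ
    exact ((Commute.all f g).map (Polynomial.aeval X)).eq
  have hclosed : ∀ Y ∈ S, adj σ Y ∈ S := by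
    intro Y hY
    rw [hS, Algebra.adjoin_singleton_eq_range_aeval] at hY ⊢
    obtain ⟨f, rfl⟩ := hY
    exact ⟨f.map σ, (by
      show Polynomial.aeval X (f.map σ) = adj σ (Polynomial.aeval X f)
      rw [Cfsg.Agent.Lib.SuSpec.adj_aeval, hXs])⟩
  let _ : CommRing S := { (inferInstance : Ring S) with mul_comm := fun u v => Subtype.ext (hcommS u.1 u.2 v.1 v.2) }
  let τ : S →+* S :=
    { toFun := fun Y => ⟨adj σ Y.1, hclosed _ Y.2⟩
      map_one' := Subtype.ext adj_one
      map_mul' := fun u v => Subtype.ext (by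
        show adj σ (u.1 * v.1) = adj σ u.1 * adj σ v.1
        rw [adj_mul, hcommS _ (hclosed _ v.2) _ (hclosed _ u.2)])
      map_zero' := Subtype.ext (by ext i j; simp [adj])
      map_add' := fun u v => Subtype.ext (adj_add _ _) }
  have hXS : X ∈ S := by rw [hS]; exact Algebra.self_mem_adjoin_singleton K X
  have hxu : IsUnit (⟨X, hXS⟩ : S) := by
    have hinj : Function.Injective fun Y : S => (⟨X, hXS⟩ : S) * Y := fun Y Z h =>
      Subtype.ext (hXu.mul_left_cancel (congrArg Subtype.val h))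
    obtain ⟨Y, hY⟩ := Finite.injective_iff_surjective.1 hinj 1
    exact ⟨⟨_, Y, hY, by rw [mul_comm]; exact hY⟩, rfl⟩
  obtain ⟨⟨Y, hYS⟩, hY⟩ := exists_mul_tau (hσd ▸ conjHom_ne_id hK) τ (fun u => Subtype.ext (adj_adj hσ2 u.1))
    (fun c => Subtype.ext (adj_algebraMap c)) ⟨X, hXS⟩ hxu (Subtype.ext hXs)
  have hY' : adj σ Y * Y = X := by
    have h : Y * adj σ Y = X := congrArg Subtype.val hY
    rwa [hcommS _ hYS _ (hclosed _ hYS)] at h
  have hYa : Y * a = a * Y := by
    exact (Algebra.commute_of_mem_adjoin_singleton_of_commute (hS ▸ hYS) hXa.symm).eq.symm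
  have hYdet : IsUnit Y.det := by
    rw [Matrix.isUnit_iff_isUnit_det, ← hY', Matrix.det_mul] at hXu
    exact isUnit_of_mul_isUnit_right hXu
  obtain ⟨y, hy⟩ := (Matrix.isUnit_iff_isUnit_det _).2 hYdet
  have hU : g * y⁻¹ ∈ Cfsg.GU n K q := by
    rw [mem_GU_adj hK, ← hσd, Units.val_mul, adj_mul, ← hGd, mul_assoc, ← mul_assoc (adj σ G), ← hX, ← hY', ← hy]
    simp only [mul_assoc, Units.mul_inv, mul_one]
    rw [← adj_mul, Units.mul_inv, adj_one]
  refine isConj_iff.2 ⟨⟨g * y⁻¹, hU⟩, Subtype.ext ?_⟩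
  show g * y⁻¹ * (A : GL (Fin n) K) * (g * y⁻¹)⁻¹ = (B : GL (Fin n) K)
  have hcy : Commute y⁻¹ (A : GL (Fin n) K) := by
    refine Commute.inv_left (Units.ext ?_)
    rw [Units.val_mul, Units.val_mul, hy, ← had, hYa]
  rw [← hg, _root_.mul_inv_rev, inv_inv, mul_assoc g, hcy.eq]
  simp only [mul_assoc, inv_mul_cancel_left]

end Cfsg.Agent.Lib.Similar
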