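import Mathlib
import Cfsg.Agent.Lib.Similar.Unitary
import Cfsg.Agent.Lib.Geometry.HermBasis

/-!
Existence of unitary elements in a linear conjugacy class.
-/

set_option autoImplicit false

namespace Cfsg.Agent.Lib.Similar

open Matrix
open Cfsg.Agent.Lib.Classical (conjHom conjHom_ne_id conjHom_conjHom)
open Cfsg.Agent.Lib.SuSpec (adj adj_mul adj_one adj_adj adj_algebraMap adj_add det_adj adj_aeval)

variable {K : Type*} [Field K] [Fintype K] {q n : ℕ}

/-- A nondegenerate Hermitian matrix is congruent to the identity. -/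
theorem exists_congr_one (hK : Fintype.card K = q ^ 2) {H : Matrix (Fin n) (Fin n) K}
    (hH : adj (conjHom hK) H = H) (hu : IsUnit H.det) :
    ∃ P : Matrix (Fin n) (Fin n) K, adj (conjHom hK) P * H * P = 1 := by
  classical
  obtain ⟨σ, hσd⟩ : ∃ σ, σ = conjHom hK := ⟨_, rfl⟩
  have hσ2 : ∀ x, σ (σ x) = x := hσd ▸ conjHom_conjHom hK
  rw [← hσd] at hH ⊢
  let B : (Fin n → K) →ₛₗ[σ] (Fin n → K) →ₗ[K] K :=
    LinearMap.mk₂'ₛₗ σ (RingHom.id K) (fun u v => (σ ∘ u) ⬝ᵥ (H *ᵥ v))
      (fun a b v => by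
        rw [show σ ∘ (a + b) = σ ∘ a + σ ∘ b from funext fun i => map_add σ _ _, add_dotProduct])
      (fun c a v => by
        rw [show σ ∘ (c • a) = σ c • (σ ∘ a) from funext fun i => map_mul σ _ _, smul_dotProduct])
      (fun a u v => by rw [mulVec_add, dotProduct_add])
      (fun c a v => by rw [mulVec_smul, dotProduct_smul, RingHom.id_apply])
  have hB : ∀ u v, B u v = (σ ∘ u) ⬝ᵥ (H *ᵥ v) := fun u v => rfl
  have hS : B.IsSymm := ⟨fun u v => by
    rw [hB, hB]
    simp only [dotProduct, mulVec, Function.comp_apply, Finset.mul_sum, map_sum, map_mul, hσ2]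
    rw [Finset.sum_comm]
    refine Finset.sum_congr rfl fun i _ => Finset.sum_congr rfl fun j _ => ?_
    have h := congrFun (congrFun hH i) j
    simp [adj] at h
    rw [h]; ring⟩
  have hl : ∀ v, (∀ u, B u v = 0) → v = 0 := fun v hv => by
    have h0 : H *ᵥ v = 0 := funext fun i => by
      have h := hv (Pi.single i 1)
      rw [hB, show σ ∘ (Pi.single i (1 : K)) = Pi.single i 1 from funext fun j => by
        rcases eq_or_ne j i with rfl | hj <;> simp [*]] at h
      simpa using h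
    exact (Matrix.mulVec_injective_iff_isUnit.2 ((Matrix.isUnit_iff_isUnit_det _).2 hu)) (h0.trans (mulVec_zero H).symm)
  have hnd : B.Nondegenerate := by
    refine ⟨fun u hu' => hl u fun v => ?_, fun v hv => hl v hv⟩
    rw [← hS.eq u v, hu' v, map_zero]
  obtain ⟨b₀, hb₀⟩ := Geometry.exists_orthonormal_basis (hσd ▸ conjHom_ne_id hK) hσ2 B hS hnd
  let b : Module.Basis (Fin n) K (Fin n → K) := b₀.reindex (finCongr (Module.finrank_fin_fun K))
  have hb : ∀ i j, B (b i) (b j) = if i = j then 1 else 0 := fun i j => by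
    simp only [b, Module.Basis.reindex_apply, hb₀]
    exact if_congr (finCongr (Module.finrank_fin_fun K)).symm.injective.eq_iff rfl rfl
  refine ⟨Matrix.of fun i j => b j i, ?_⟩
  ext i j
  rw [one_apply, ← hb i j, hB, mul_assoc, mul_apply]
  simp only [dotProduct, adj, transpose_apply, map_apply, of_apply, Function.comp_apply, mulVec, mul_apply]

/-- A linear class with an invertible invariant sesquilinear form contains a unitary element. -/
theorem exists_GU_of_adj (hK : Fintype.card K = q ^ 2) (A : GL (Fin n) K) (H : GL (Fin n) K)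
    (hH : adj (conjHom hK) (A : Matrix (Fin n) (Fin n) K) * (H : Matrix (Fin n) (Fin n) K) * (A : Matrix (Fin n) (Fin n) K) =
      (H : Matrix (Fin n) (Fin n) K)) :
    ∃ B : Cfsg.GU n K q, IsConj A (B : GL (Fin n) K) := by
  classical
  obtain ⟨σ, hσd⟩ : ∃ σ, σ = conjHom hK := ⟨_, rfl⟩
  have hσ2 : ∀ x, σ (σ x) = x := hσd ▸ conjHom_conjHom hK
  rw [← hσd] at hH
  obtain ⟨a, had⟩ : ∃ a, a = (A : Matrix (Fin n) (Fin n) K) := ⟨_, rfl⟩
  obtain ⟨h, hhd⟩ : ∃ h, h = (H : Matrix (Fin n) (Fin n) K) := ⟨_, rfl⟩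
  obtain ⟨h', hh'⟩ : ∃ h', h' = ((H⁻¹ : GL (Fin n) K) : Matrix (Fin n) (Fin n) K) := ⟨_, rfl⟩
  rw [← had, ← hhd] at hH
  have i1 : h * h' = 1 := by rw [hhd, hh', Units.mul_inv]
  have i2 : h' * h = 1 := by rw [hhd, hh', Units.inv_mul]
  have j1 : adj σ h' * adj σ h = 1 := by rw [← adj_mul, i1, adj_one]
  have j2 : adj σ h * adj σ h' = 1 := by rw [← adj_mul, i2, adj_one]
  obtain ⟨X, hX⟩ : ∃ X, X = h' * adj σ h := ⟨_, rfl⟩
  have hH' : adj σ a * adj σ h * a = adj σ h := by
    have := congrArg (adj σ) hH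
    rw [adj_mul, adj_mul, adj_adj hσ2, ← mul_assoc] at this
    exact this
  have hXa : X * a = a * X := by
    have h1 : a * h' * adj σ a * h = 1 := by
      have e1 : (h' * adj σ a * h) * a = 1 := by
        calc (h' * adj σ a * h) * a = h' * (adj σ a * h * a) := by simp only [mul_assoc]
          _ = 1 := by rw [hH, i2]
      have e2 := mul_eq_one_comm.1 e1
      simpa only [mul_assoc] using e2
    calc X * a = (a * h' * adj σ a * h) * (h' * adj σ h * a) := by rw [h1, one_mul, hX]
      _ = a * h' * adj σ a * (h * h') * adj σ h * a := by simp only [mul_assoc]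
      _ = a * (h' * (adj σ a * adj σ h * a)) := by rw [i1, mul_one]; simp only [mul_assoc]
      _ = a * X := by rw [hH', hX]
  obtain ⟨S, hS⟩ : ∃ S, S = Algebra.adjoin K ({X} : Set (Matrix (Fin n) (Fin n) K)) := ⟨_, rfl⟩
  have hXS : X ∈ S := by rw [hS]; exact Algebra.self_mem_adjoin_singleton K X
  have hcommS : ∀ Y ∈ S, ∀ Z ∈ S, Y * Z = Z * Y := by
    intro Y hY Z hZ
    rw [hS, Algebra.adjoin_singleton_eq_range_aeval] at hY hZ
    obtain ⟨f, rfl⟩ := hY
    obtain ⟨g, rfl⟩ := hZ
    exact ((Commute.all f g).map (Polynomial.aeval X)).eq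
  obtain ⟨t, ht⟩ : ∃ t : Matrix (Fin n) (Fin n) K → Matrix (Fin n) (Fin n) K, ∀ Y, t Y = h' * adj σ Y * h :=
    ⟨_, fun Y => rfl⟩
  have tmul : ∀ Y Z, t (Y * Z) = t Z * t Y := fun Y Z => by
    calc t (Y * Z) = h' * adj σ Z * (h * h') * adj σ Y * h := by rw [i1, mul_one, ht, adj_mul]; simp only [mul_assoc]
      _ = t Z * t Y := by rw [ht, ht]; simp only [mul_assoc]
  have tadd : ∀ Y Z, t (Y + Z) = t Y + t Z := fun Y Z => by rw [ht, ht, ht, adj_add, mul_add, add_mul]
  have tone : t 1 = 1 := by rw [ht, adj_one, mul_one, i2]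
  have talg : ∀ c : K, t (algebraMap K _ c) = algebraMap K _ (σ c) := fun c => by
    rw [ht, adj_algebraMap, ← Algebra.commutes, mul_assoc, i2, mul_one]
  have tX : t X * X = 1 := by
    calc t X * X = h' * (h * adj σ h') * (h * h') * adj σ h := by
          rw [ht, hX, adj_mul, adj_adj hσ2]; simp only [mul_assoc]
      _ = (h' * h) * (adj σ h' * adj σ h) := by rw [i1, mul_one]; simp only [mul_assoc]
      _ = 1 := by rw [i2, j1, one_mul]
  have hinj : ∀ Y Z, X * Y = X * Z → Y = Z := fun Y Z e => by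
    calc Y = (t X * X) * Y := by rw [tX, one_mul]
      _ = (t X * X) * Z := by rw [mul_assoc, e, mul_assoc]
      _ = Z := by rw [tX, one_mul]
  obtain ⟨⟨Xi, hXiS⟩, hXi⟩ := Finite.injective_iff_surjective.1
    (show Function.Injective (fun Y : S => (⟨X, hXS⟩ : S) * Y) from fun Y Z e =>
      Subtype.ext (hinj _ _ (congrArg Subtype.val e))) 1
  have hXi' : X * Xi = 1 := congrArg Subtype.val hXi
  have hXiX : Xi = t X := by
    calc Xi = (t X * X) * Xi := by rw [tX, one_mul]
      _ = t X := by rw [mul_assoc, hXi', mul_one]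
  have hclosed : ∀ Y ∈ S, t Y ∈ S := by
    intro Y hY
    rw [hS] at hY
    refine Algebra.adjoin_induction (p := fun Y _ => t Y ∈ S) ?_ ?_ ?_ ?_ hY
    · intro x hx
      rw [Set.mem_singleton_iff.1 hx, ← hXiX]
      exact hXiS
    · intro c
      rw [talg]
      exact S.algebraMap_mem _
    · intro x y _ _ hx hy
      rw [tadd]; exact S.add_mem hx hy
    · intro x y _ _ hx hy
      rw [tmul]; exact S.mul_mem hy hx
  have t2 : ∀ Y ∈ S, t (t Y) = Y := by
    intro Y hY
    calc t (t Y) = h' * adj σ h * Y * (adj σ h' * h) := by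
          rw [ht, ht, adj_mul, adj_mul, adj_adj hσ2]; simp only [mul_assoc]
      _ = Y * X * (adj σ h' * h) := by rw [← hX, hcommS X hXS Y hY]
      _ = Y * (h' * (adj σ h * adj σ h') * h) := by rw [hX]; simp only [mul_assoc]
      _ = Y := by rw [j2, mul_one, i2, mul_one]
  let _ : CommRing S := { (inferInstance : Ring S) with mul_comm := fun u v => Subtype.ext (hcommS u.1 u.2 v.1 v.2) }
  let τ : S →+* S :=
    { toFun := fun Y => ⟨t Y.1, hclosed _ Y.2⟩
      map_one' := Subtype.ext tone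
      map_mul' := fun u v => Subtype.ext (by
        show t (u.1 * v.1) = t u.1 * t v.1
        rw [tmul, hcommS _ (hclosed _ v.2) _ (hclosed _ u.2)])
      map_zero' := Subtype.ext (by
        show t 0 = 0
        rw [ht, show adj σ (0 : Matrix (Fin n) (Fin n) K) = 0 by ext i j; simp [adj], mul_zero, zero_mul])
      map_add' := fun u v => Subtype.ext (tadd _ _) }
  obtain ⟨⟨z, hzS⟩, hzu, hz⟩ := exists_div_tau (hσd ▸ conjHom_ne_id hK) τ (fun u => Subtype.ext (t2 u.1 u.2))
    (fun c => Subtype.ext (talg c)) (⟨X, hXS⟩ : S) (Subtype.ext (show X * t X = 1 from hXiX ▸ hXi'))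
  have hz' : z = X * t z := congrArg Subtype.val hz
  have hherm : adj σ (h * z) = h * z := by
    have e : adj σ h = h * X := by rw [hX, ← mul_assoc, i1, one_mul]
    have e2 : X * t z = t z * X := hcommS _ hXS _ (hclosed _ hzS)
    calc adj σ (h * z) = (h * h') * adj σ z * (h * h') * adj σ h := by rw [i1, one_mul, mul_one, adj_mul]
      _ = h * t z * (h' * adj σ h) := by rw [ht]; simp only [mul_assoc]
      _ = h * z := by rw [← hX, mul_assoc, ← e2, ← hz']
  have hza : z * a = a * z :=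
    (Algebra.commute_of_mem_adjoin_singleton_of_commute (hS ▸ hzS) hXa.symm).eq.symm
  have hzdet : IsUnit z.det := (Matrix.isUnit_iff_isUnit_det _).1 (hzu.map S.val)
  obtain ⟨P, hP⟩ := exists_congr_one hK (H := h * z) (by rw [← hσd]; exact hherm)
    (by rw [det_mul, hhd]; exact (Matrix.GeneralLinearGroup.det H).isUnit.mul hzdet)
  rw [← hσd] at hP
  have hPdet : IsUnit P := by
    rw [Matrix.isUnit_iff_isUnit_det]
    exact IsUnit.of_mul_eq_one _ ((mul_comm _ _).trans ((det_mul _ _).symm.trans ((congrArg det hP).trans det_one)))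
  obtain ⟨p, hp⟩ := hPdet
  have hinv : adj σ a * (h * z) * a = h * z := by rw [mul_assoc, mul_assoc h, hza, ← mul_assoc, ← mul_assoc, hH]
  have hU : p⁻¹ * A * p ∈ Cfsg.GU n K q := by
    rw [mem_GU_adj hK, ← hσd, Units.val_mul, Units.val_mul, ← had]
    obtain ⟨p', hp'⟩ : ∃ p', p' = ((p⁻¹ : GL (Fin n) K) : Matrix (Fin n) (Fin n) K) := ⟨_, rfl⟩
    have k1 : P * p' = 1 := by rw [hp', ← hp, Units.mul_inv]
    have k2 : adj σ p' * adj σ P = 1 := by rw [← adj_mul, k1, adj_one]
    have hz2 : h * z = adj σ p' * p' := by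
      calc h * z = (adj σ p' * adj σ P) * (h * z) * (P * p') := by rw [k1, k2, one_mul, mul_one]
        _ = adj σ p' * (adj σ P * (h * z) * P) * p' := by simp only [mul_assoc]
        _ = adj σ p' * p' := by rw [hP, mul_one]
    rw [← hp', hp, adj_mul, adj_mul]
    calc adj σ P * (adj σ a * adj σ p') * (p' * a * P) = adj σ P * (adj σ a * (adj σ p' * p') * a) * P := by
          simp only [mul_assoc]
      _ = 1 := by rw [← hz2, hinv, hP]
  refine ⟨⟨p⁻¹ * A * p, hU⟩, isConj_iff.2 ⟨p⁻¹, ?_⟩⟩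
  rw [inv_inv]

end Cfsg.Agent.Lib.Similar
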