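import Mathlib
import Cfsg.Agent.Lib.Similar.UnitaryExists
import Cfsg.Agent.Lib.Similar.FamBound
import Cfsg.Agent.Lib.Similar.Transpose

/-!
The conjugate reciprocal of a polynomial and the elementary divisors of unitary matrices.
-/

set_option autoImplicit false

namespace Cfsg.Agent.Lib.Similar

open Polynomial
open Cfsg.Agent.Lib.SuSpec (adj adj_aeval rank_adj det_adj adj_mul adj_adj adj_one)
open Cfsg.Agent.Lib.Classical (conjHom conjHom_conjHom)
open Cfsg.Agent.Lib.FamCount (fam mem_fam)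

variable {F : Type*} [Field F]

/-- The conjugate reciprocal. -/
noncomputable def starP (σ : F →+* F) (f : F[X]) : F[X] := C (σ (f.coeff 0))⁻¹ * (f.map σ).reverse

variable {σ : F →+* F}

theorem natDegree_starP {f : F[X]} (h0 : f.coeff 0 ≠ 0) : (starP σ f).natDegree = f.natDegree := by
  have h : σ (f.coeff 0) ≠ 0 := (map_ne_zero σ).2 h0
  rw [starP, natDegree_C_mul (inv_ne_zero h), reverse_natDegree, natDegree_map]
  have : (f.map σ).natTrailingDegree = 0 := Nat.le_zero.1 (natTrailingDegree_le_of_ne_zero (by rwa [coeff_map]))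
  rw [this, Nat.sub_zero]

theorem coeff_starP {f : F[X]} {i : ℕ} (hi : i ≤ f.natDegree) :
    (starP σ f).coeff i = (σ (f.coeff 0))⁻¹ * σ (f.coeff (f.natDegree - i)) := by
  rw [starP, coeff_C_mul, coeff_reverse, natDegree_map, revAt_le hi, coeff_map]

theorem monic_starP {f : F[X]} (h0 : f.coeff 0 ≠ 0) : (starP σ f).Monic := by
  rw [Monic, leadingCoeff, natDegree_starP h0, coeff_starP le_rfl, Nat.sub_self, inv_mul_cancel₀ ((map_ne_zero σ).2 h0)]

theorem coeff_zero_starP {f : F[X]} (hm : f.Monic) : (starP σ f).coeff 0 = (σ (f.coeff 0))⁻¹ := by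
  rw [coeff_starP (Nat.zero_le _), Nat.sub_zero, hm.coeff_natDegree, map_one, mul_one]

theorem starP_mul (f g : F[X]) : starP σ (f * g) = starP σ f * starP σ g := by
  rw [starP, starP, starP, Polynomial.map_mul, reverse_mul_of_domain, mul_coeff_zero, map_mul, mul_inv, C_mul]
  ring

theorem starP_one : starP σ (1 : F[X]) = 1 := by
  rw [starP, coeff_one_zero, map_one, inv_one, C_1, one_mul, Polynomial.map_one]
  exact reverse_C 1

theorem starP_multiset_prod (s : Multiset F[X]) : starP σ s.prod = (s.map (starP σ)).prod := by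
  induction s using Multiset.induction with
  | empty => simp [starP_one]
  | cons a s ih => rw [Multiset.prod_cons, starP_mul, ih, Multiset.map_cons, Multiset.prod_cons]

theorem starP_starP (hσ : ∀ x, σ (σ x) = x) {f : F[X]} (hm : f.Monic) (h0 : f.coeff 0 ≠ 0) : starP σ (starP σ f) = f := by
  ext i
  rcases Nat.lt_or_ge f.natDegree i with h | h
  · rw [coeff_eq_zero_of_natDegree_lt h, coeff_eq_zero_of_natDegree_lt]
    rw [natDegree_starP, natDegree_starP h0]
    · exact h
    · rw [coeff_zero_starP hm]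
      exact inv_ne_zero ((map_ne_zero σ).2 h0)
  · rw [coeff_starP (by rw [natDegree_starP h0]; exact h), natDegree_starP h0, coeff_zero_starP hm, map_inv₀, hσ,
      coeff_starP (Nat.sub_le _ _), Nat.sub_sub_self h, map_mul, map_inv₀, hσ, hσ, inv_inv, ← mul_assoc, mul_inv_cancel₀ h0, one_mul]

theorem irreducible_starP (hσ : ∀ x, σ (σ x) = x) {f : F[X]} (hf : Irreducible f) (hm : f.Monic) (h0 : f.coeff 0 ≠ 0) :
    Irreducible (starP σ f) := by
  refine irreducible_iff.2 ⟨fun h => hf.not_isUnit ?_, fun a b h => ?_⟩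
  · rw [isUnit_iff_degree_eq_zero] at h ⊢
    rw [degree_eq_natDegree (monic_starP h0).ne_zero, natDegree_starP h0] at h
    rwa [degree_eq_natDegree hm.ne_zero]
  · have h00 : a.coeff 0 * b.coeff 0 ≠ 0 := by
      rw [← mul_coeff_zero, ← h, coeff_zero_starP hm]
      exact inv_ne_zero ((map_ne_zero σ).2 h0)
    have key : ∀ g : F[X], g.coeff 0 ≠ 0 → IsUnit (starP σ g) → IsUnit g := by
      intro g hg hu
      rw [isUnit_iff_degree_eq_zero] at hu ⊢
      have hg0 : g ≠ 0 := fun e => hg (by rw [e, coeff_zero])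
      rw [degree_eq_natDegree (monic_starP hg).ne_zero, natDegree_starP hg] at hu
      rwa [degree_eq_natDegree hg0]
    have h2 : f = starP σ a * starP σ b := by rw [← starP_mul, ← h, starP_starP hσ hm h0]
    rcases hf.isUnit_or_isUnit h2 with hu | hu
    · exact .inl (key a (left_ne_zero_of_mul h00) hu)
    · exact .inr (key b (right_ne_zero_of_mul h00) hu)

variable [Fintype F] {n : ℕ}

theorem kerDim_twist (hσ : ∀ x, σ (σ x) = x) (A T : GL (Fin n) F)
    (hT : (T : Matrix (Fin n) (Fin n) F) * adj σ (A : Matrix (Fin n) (Fin n) F) = 1)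
    {f : F[X]} (h0 : f.coeff 0 ≠ 0) :
    kerDim (toEnd (T : Matrix (Fin n) (Fin n) F)) f = kerDim (toEnd (A : Matrix (Fin n) (Fin n) F)) (starP σ f) := by
  obtain ⟨a, had⟩ : ∃ a, a = (A : Matrix (Fin n) (Fin n) F) := ⟨_, rfl⟩
  obtain ⟨t, htd⟩ : ∃ t, t = (T : Matrix (Fin n) (Fin n) F) := ⟨_, rfl⟩
  obtain ⟨d, hd⟩ : ∃ d, d = f.natDegree := ⟨_, rfl⟩
  rw [← had, ← htd] at hT ⊢
  have hpow : ∀ i ≤ d, t ^ i * adj σ a ^ d = adj σ a ^ (d - i) := by
    intro i hi
    have hc : Commute t (adj σ a) := (hT.trans (mul_eq_one_comm.1 hT).symm : t * adj σ a = adj σ a * t)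
    conv_lhs => rw [show d = i + (d - i) by omega, pow_add, ← mul_assoc, ← hc.mul_pow, hT, one_pow, one_mul]
  have e1 : aeval t f * adj σ a ^ d = aeval (adj σ a) f.reverse := by
    have hr : f.reverse.natDegree < d + 1 := Nat.lt_succ_of_le (hd ▸ reverse_natDegree_le f)
    rw [aeval_eq_sum_range' (show f.natDegree < d + 1 by omega), aeval_eq_sum_range' hr, Finset.sum_mul,
      ← Finset.sum_range_reflect (fun i => f.reverse.coeff i • adj σ a ^ i) (d + 1)]
    refine Finset.sum_congr rfl fun i hi => ?_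
    rw [Finset.mem_range] at hi
    rw [smul_mul_assoc, hpow i (by omega), coeff_reverse, show d + 1 - 1 - i = d - i by omega,
      revAt_le (by omega), show f.natDegree - (d - i) = i by omega]
  have e2 : aeval (adj σ a) f.reverse = adj σ (aeval a (f.reverse.map σ)) := by
    rw [adj_aeval, Polynomial.map_map, show σ.comp σ = RingHom.id F from RingHom.ext hσ, Polynomial.map_id]
  have e3 : f.reverse.map σ = (f.map σ).reverse := by
    rw [Polynomial.reverse, Polynomial.reverse, natDegree_map]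
    ext i
    simp [coeff_reflect]
  have e4 : aeval a (starP σ f) = algebraMap F _ (σ (f.coeff 0))⁻¹ * aeval a (f.reverse.map σ) := by
    rw [e3, starP, map_mul, aeval_C]
  have hu : IsUnit (adj σ a).det := by
    rw [det_adj, had]; exact (Matrix.GeneralLinearGroup.det A).isUnit.map σ
  rw [kerDim_toEnd, kerDim_toEnd]
  congr 1
  calc (aeval t f).rank = (aeval t f * adj σ a ^ d).rank := by
        rw [Matrix.rank_mul_eq_left_of_isUnit_det _ _ (by rw [Matrix.det_pow]; exact hu.pow d)]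
    _ = (aeval a (f.reverse.map σ)).rank := by rw [e1, e2, rank_adj _ hσ]
    _ = (aeval a (starP σ f)).rank := by
        rw [e4, Matrix.rank_mul_eq_right_of_isUnit_det]
        exact ((IsUnit.mk0 _ (inv_ne_zero ((map_ne_zero σ).2 h0))).map (algebraMap F (Matrix (Fin n) (Fin n) F))).map
          Matrix.detMonoidHom

/-- The conjugate reciprocal of a family. -/
noncomputable def starM (σ : F →+* F) (m : Multiset (F[X] × ℕ)) : Multiset (F[X] × ℕ) :=
  m.map fun z => (starP σ z.1, z.2)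

theorem matInv_twist (hσ : ∀ x, σ (σ x) = x) (A T : GL (Fin n) F)
    (hT : (T : Matrix (Fin n) (Fin n) F) * adj σ (A : Matrix (Fin n) (Fin n) F) = 1) :
    matInv (T : Matrix (Fin n) (Fin n) F) = starM σ (matInv (A : Matrix (Fin n) (Fin n) F)) := by
  classical
  obtain ⟨h1, h2⟩ := matInv_spec A
  obtain ⟨D⟩ := nonempty_decomp (toEnd (A : Matrix (Fin n) (Fin n) F))
  obtain ⟨m, hm⟩ : ∃ m, m = starM σ (matInv (A : Matrix (Fin n) (Fin n) F)) := ⟨_, rfl⟩
  obtain ⟨w, hw⟩ := exists_gl_matInv (n := Fin n) m (fun z hz => by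
    obtain ⟨u, hu, rfl⟩ := Multiset.mem_map.1 (hm ▸ hz)
    obtain ⟨k1, k2, k3, k4⟩ := h1 u hu
    refine ⟨monic_starP k3, irreducible_starP hσ k2 k1 k3, ?_, k4⟩
    rw [coeff_zero_starP k1]
    exact inv_ne_zero ((map_ne_zero σ).2 k3))
    (by
      rw [hm, starM, Multiset.map_map, ← h2]
      refine congrArg _ (Multiset.map_congr rfl fun u hu => ?_)
      simp only [Function.comp_apply, natDegree_starP (h1 u hu).2.2.1])
  rw [← hm, ← hw]
  obtain ⟨D'⟩ := nonempty_decomp (toEnd (w : Matrix (Fin n) (Fin n) F))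
  rw [matInv_eq _ D'] at hw
  rw [matInv_eq _ D] at hm
  have hinv : ∀ i, (D.p i).coeff 0 ≠ 0 := fun i => (h1 (D.p i, D.e i) (by
    rw [matInv_eq _ D]; exact Multiset.mem_map.2 ⟨i, Finset.mem_univ i, rfl⟩)).2.2.1
  have hinv' : ∀ i, (D'.p i).coeff 0 ≠ 0 := fun i => ((matInv_spec w).1 (D'.p i, D'.e i) (by
    rw [matInv_eq _ D']; exact Multiset.mem_map.2 ⟨i, Finset.mem_univ i, rfl⟩)).2.2.1
  refine inv_eq_of_kerDim_eq _ _ fun q hq hmq k => ?_
  by_cases hq0 : q.coeff 0 = 0
  · rw [kerDim_pow (nonempty_decomp (toEnd (T : Matrix (Fin n) (Fin n) F))).some hq hmq, kerDim_pow _ hq hmq]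
    congr 1
    rw [Finset.sum_eq_zero, Finset.sum_eq_zero]
    · intro i _
      rw [if_neg]
      intro hh
      exact ((matInv_spec w).1 ((nonempty_decomp (toEnd (w : Matrix (Fin n) (Fin n) F))).some.p i, _)
        (Multiset.mem_map.2 ⟨i, Finset.mem_univ i, rfl⟩)).2.2.1 (hh ▸ hq0)
    · intro i _
      rw [if_neg]
      intro hh
      exact ((matInv_spec T).1 ((nonempty_decomp (toEnd (T : Matrix (Fin n) (Fin n) F))).some.p i, _)
        (Multiset.mem_map.2 ⟨i, Finset.mem_univ i, rfl⟩)).2.2.1 (hh ▸ hq0)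
  obtain ⟨r, hr⟩ : ∃ r, r = starP σ q := ⟨_, rfl⟩
  have hqr : starP σ (q ^ k) = r ^ k := by
    rw [hr]
    induction k with
    | zero => simp [starP_one]
    | succ k ih => rw [pow_succ, starP_mul, ih, pow_succ]
  have hrm : r.Monic := hr ▸ monic_starP hq0
  have hri : Irreducible r := hr ▸ irreducible_starP hσ hq hmq hq0
  rw [kerDim_twist hσ A T hT (f := q ^ k) (by rw [coeff_zero_eq_eval_zero, eval_pow, ← coeff_zero_eq_eval_zero]; exact pow_ne_zero _ hq0),
    hqr, kerDim_pow D hri hrm, kerDim_pow (nonempty_decomp (toEnd (w : Matrix (Fin n) (Fin n) F))).some hq hmq, hr,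
    natDegree_starP hq0]
  congr 1
  have e := congrArg (fun M : Multiset (F[X] × ℕ) => (M.map fun z => if z.1 = q then min z.2 k else 0).sum) hm
  have e' := congrArg (fun M : Multiset (F[X] × ℕ) => (M.map fun z => if z.1 = q then min z.2 k else 0).sum)
    ((matInv_eq _ D').trans hw)
  simp only [starM, matInv, Decomp.inv, Multiset.map_map, Function.comp_def] at e e'
  refine Eq.trans ?_ (e'.trans e).symm
  refine Finset.sum_congr rfl fun i _ => ?_
  have : D.p i = starP σ q ↔ starP σ (D.p i) = q :=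
    ⟨fun hh => by rw [hh, starP_starP hσ hmq hq0], fun hh => by rw [← hh, starP_starP hσ (D.monic i) (hinv i)]⟩
  simp only [this]

variable [DecidableEq F]

/-- Families of unitary elements. -/
noncomputable def ufam (σ : F →+* F) (a n : ℕ) : Finset (Multiset (F[X] × ℕ)) :=
  (fam F a n).filter fun m => starM σ m = m

theorem matInv_GU {q : ℕ} (hF : Fintype.card F = q ^ 2) (B : Cfsg.GU n F q) :
    matInv ((B : GL (Fin n) F) : Matrix (Fin n) (Fin n) F) ∈ ufam (conjHom hF) 1 n := by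
  obtain ⟨h1, h2⟩ := matInv_spec (B : GL (Fin n) F)
  rw [Fintype.card_fin] at h2
  refine Finset.mem_filter.2 ⟨mem_fam.2 ⟨fun y hy => ⟨(h1 y hy).1, (h1 y hy).2.1, (h1 y hy).2.2.1, (h1 y hy).2.2.2, (h1 y hy).2.2.2⟩, h2⟩, ?_⟩
  exact (matInv_twist (conjHom_conjHom hF) (B : GL (Fin n) F) (B : GL (Fin n) F)
    (mul_eq_one_comm.1 ((mem_GU_adj hF _).1 B.2))).symm

theorem exists_GU_matInv {q : ℕ} (hF : Fintype.card F = q ^ 2) {m : Multiset (F[X] × ℕ)}
    (hm : m ∈ ufam (conjHom hF) 1 n) :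
    ∃ B : Cfsg.GU n F q, matInv ((B : GL (Fin n) F) : Matrix (Fin n) (Fin n) F) = m := by
  obtain ⟨hm1, hm2⟩ := Finset.mem_filter.1 hm
  obtain ⟨h1, h2⟩ := mem_fam.1 hm1
  obtain ⟨A, hA⟩ := exists_gl_matInv (n := Fin n) m (fun y hy => ⟨(h1 y hy).1, (h1 y hy).2.1, (h1 y hy).2.2.1, (h1 y hy).2.2.2.1⟩)
    (by rw [h2, Fintype.card_fin])
  obtain ⟨σ, hσd⟩ : ∃ σ, σ = conjHom hF := ⟨_, rfl⟩
  rw [← hσd] at hm2
  have hσ : ∀ x, σ (σ x) = x := hσd ▸ conjHom_conjHom hF
  obtain ⟨aA, haA⟩ : ∃ aA, aA = adj σ (A : Matrix (Fin n) (Fin n) F) := ⟨_, rfl⟩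
  have hdet : aA.det ≠ 0 := by
    rw [haA, det_adj]; exact (map_ne_zero σ).2 (Matrix.GeneralLinearGroup.det A).ne_zero
  obtain ⟨U, hU⟩ : ∃ U : GL (Fin n) F, (U : Matrix (Fin n) (Fin n) F) = aA :=
    ⟨Matrix.GeneralLinearGroup.mkOfDetNeZero aA hdet, rfl⟩
  have hT : ((U⁻¹ : GL (Fin n) F) : Matrix (Fin n) (Fin n) F) * adj σ (A : Matrix (Fin n) (Fin n) F) = 1 := by
    rw [← haA, ← hU, Units.inv_mul]
  have hconj : ConjClasses.mk A = ConjClasses.mk U⁻¹ := classInv_injective (by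
    rw [classInv_mk, classInv_mk, matInv_twist hσ A U⁻¹ hT, hA, hm2])
  obtain ⟨H, hH⟩ := isConj_iff.1 (ConjClasses.mk_eq_mk_iff_isConj.1 hconj)
  have hinv : adj (conjHom hF) (A : Matrix (Fin n) (Fin n) F) * (H : Matrix (Fin n) (Fin n) F) * (A : Matrix (Fin n) (Fin n) F) =
      (H : Matrix (Fin n) (Fin n) F) := by
    rw [← hσd, ← haA, ← hU, ← Units.val_mul, ← Units.val_mul]
    exact congrArg Units.val (show U * H * A = H by
      rw [mul_assoc, show H * A = U⁻¹ * H from mul_inv_eq_iff_eq_mul.1 hH, mul_inv_cancel_left])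
  obtain ⟨B, hB⟩ := exists_GU_of_adj hF A H hinv
  refine ⟨B, ?_⟩
  have := congrArg classInv (ConjClasses.mk_eq_mk_iff_isConj.2 hB)
  rw [classInv_mk, classInv_mk, hA] at this
  exact this.symm

end Cfsg.Agent.Lib.Similar
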