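import Mathlib
import Cfsg.Agent.Lib.Similar.Star

/-!
Block diagonal matrices: elementary divisors, and determinants on the centraliser of a unitary matrix.
-/

set_option autoImplicit false

namespace Cfsg.Agent.Lib.Similar

open Polynomial Module
open Cfsg.Agent.Lib.SuSpec (adj adj_aeval det_adj adj_mul adj_adj adj_one)
open Cfsg.Agent.Lib.Classical (conjHom conjHom_conjHom)

variable {F : Type*} [Field F]

section Diag

variable {α β : Type*} [Fintype α] [DecidableEq α] [Fintype β] [DecidableEq β]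

theorem aeval_fromBlocks_diag (A : Matrix α α F) (B : Matrix β β F) (f : F[X]) :
    aeval (Matrix.fromBlocks A 0 0 B) f = Matrix.fromBlocks (aeval A f) 0 0 (aeval B f) := by
  induction f using Polynomial.induction_on with
  | C c =>
    rw [aeval_C, aeval_C, aeval_C, Algebra.algebraMap_eq_smul_one, Algebra.algebraMap_eq_smul_one,
      Algebra.algebraMap_eq_smul_one, ← Matrix.fromBlocks_one, Matrix.fromBlocks_smul, smul_zero, smul_zero]
  | add f g hf hg => rw [map_add, map_add, map_add, hf, hg, Matrix.fromBlocks_add, add_zero, add_zero]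
  | monomial k c ih =>
    rw [pow_succ, ← mul_assoc]
    simp only [map_mul (aeval _) (_ * _) X, aeval_X] at ih ⊢
    rw [ih, Matrix.fromBlocks_multiply]
    simp

theorem finrank_ker_fromBlocks (A : Matrix α α F) (B : Matrix β β F) :
    finrank F (LinearMap.ker (Matrix.fromBlocks A 0 0 B).mulVecLin) =
      finrank F (LinearMap.ker A.mulVecLin) + finrank F (LinearMap.ker B.mulVecLin) := by
  rw [← Module.finrank_prod]
  refine LinearEquiv.finrank_eq ?_
  exact
    { toFun := fun x => (⟨x.1 ∘ Sum.inl, by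
          have h := x.2
          rw [LinearMap.mem_ker, Matrix.mulVecLin_apply, Matrix.fromBlocks_mulVec] at h
          rw [LinearMap.mem_ker, Matrix.mulVecLin_apply]
          funext i
          simpa using congrFun h (Sum.inl i)⟩, ⟨x.1 ∘ Sum.inr, by
          have h := x.2
          rw [LinearMap.mem_ker, Matrix.mulVecLin_apply, Matrix.fromBlocks_mulVec] at h
          rw [LinearMap.mem_ker, Matrix.mulVecLin_apply]
          funext i
          simpa using congrFun h (Sum.inr i)⟩)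
      map_add' := fun x y => rfl
      map_smul' := fun c x => rfl
      invFun := fun y => ⟨Sum.elim y.1.1 y.2.1, by
        rw [LinearMap.mem_ker, Matrix.mulVecLin_apply, Matrix.fromBlocks_mulVec]
        have h1 := LinearMap.mem_ker.1 y.1.2
        have h2 := LinearMap.mem_ker.1 y.2.2
        rw [Matrix.mulVecLin_apply] at h1 h2
        funext i
        rcases i with i | i <;> simp [h1, h2]⟩
      left_inv := fun x => Subtype.ext (by funext i; rcases i with i | i <;> rfl)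
      right_inv := fun y => rfl }

theorem kerDim_toEnd_eq (A : Matrix α α F) (f : F[X]) :
    kerDim (toEnd A) f = finrank F (LinearMap.ker (aeval A f).mulVecLin) := by
  have h : aeval (toEnd A) f = (aeval A f).mulVecLin :=
    Polynomial.aeval_algHom_apply (Matrix.toLinAlgEquiv' (R := F) (n := α)).toAlgHom A f
  rw [kerDim, h]

end Diag

variable {k l n : ℕ}

/-- The block diagonal matrix indexed by `Fin n`. -/
def bdiag (e : Fin k ⊕ Fin l ≃ Fin n) (A : Matrix (Fin k) (Fin k) F) (B : Matrix (Fin l) (Fin l) F) :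
    Matrix (Fin n) (Fin n) F :=
  Matrix.reindexAlgEquiv F F e (Matrix.fromBlocks A 0 0 B)

variable {e : Fin k ⊕ Fin l ≃ Fin n}

theorem bdiag_mul (A A' : Matrix (Fin k) (Fin k) F) (B B' : Matrix (Fin l) (Fin l) F) :
    bdiag e A B * bdiag e A' B' = bdiag e (A * A') (B * B') := by
  rw [bdiag, bdiag, bdiag, ← map_mul, Matrix.fromBlocks_multiply]
  simp

theorem bdiag_one : bdiag e (1 : Matrix (Fin k) (Fin k) F) (1 : Matrix (Fin l) (Fin l) F) = 1 := by
  rw [bdiag, Matrix.fromBlocks_one, map_one]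

theorem adj_bdiag (σ : F →+* F) (A : Matrix (Fin k) (Fin k) F) (B : Matrix (Fin l) (Fin l) F) :
    adj σ (bdiag e A B) = bdiag e (adj σ A) (adj σ B) := by
  ext i j
  simp only [bdiag, adj, Matrix.transpose_apply, Matrix.map_apply, Matrix.reindexAlgEquiv_apply, Matrix.reindex_apply,
    Matrix.submatrix_apply]
  rcases e.symm i with a | a <;> rcases e.symm j with b | b <;> simp

theorem det_bdiag (A : Matrix (Fin k) (Fin k) F) (B : Matrix (Fin l) (Fin l) F) :
    (bdiag e A B).det = A.det * B.det := by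
  rw [bdiag, Matrix.reindexAlgEquiv_apply, Matrix.det_reindex_self, Matrix.det_fromBlocks_zero₂₁]

theorem kerDim_bdiag (A : Matrix (Fin k) (Fin k) F) (B : Matrix (Fin l) (Fin l) F) (f : F[X]) :
    kerDim (toEnd (bdiag e A B)) f = kerDim (toEnd A) f + kerDim (toEnd B) f := by
  rw [kerDim_toEnd_eq A, kerDim_toEnd_eq B, ← finrank_ker_fromBlocks, ← aeval_fromBlocks_diag, kerDim_toEnd,
    bdiag, Polynomial.aeval_algHom_apply, Matrix.reindexAlgEquiv_apply, Matrix.rank_reindex]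
  have h := (aeval (Matrix.fromBlocks A 0 0 B) f).mulVecLin.finrank_range_add_finrank_ker
  rw [finrank_fintype_fun_eq_card, Fintype.card_congr e] at h
  unfold Matrix.rank
  omega

theorem matInv_bdiag (A : GL (Fin k) F) (B : GL (Fin l) F) (D : GL (Fin n) F)
    (hD : (D : Matrix (Fin n) (Fin n) F) = bdiag e (A : Matrix (Fin k) (Fin k) F) (B : Matrix (Fin l) (Fin l) F)) :
    matInv (D : Matrix (Fin n) (Fin n) F) =
      matInv (A : Matrix (Fin k) (Fin k) F) + matInv (B : Matrix (Fin l) (Fin l) F) := by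
  classical
  obtain ⟨a1, a2⟩ := matInv_spec A
  obtain ⟨b1, b2⟩ := matInv_spec B
  rw [Fintype.card_fin] at a2 b2
  obtain ⟨w, hw⟩ := exists_gl_matInv (n := Fin n) (matInv (A : Matrix (Fin k) (Fin k) F) + matInv (B : Matrix (Fin l) (Fin l) F))
    (fun z hz => (Multiset.mem_add.1 hz).elim (a1 z) (b1 z))
    (by rw [Multiset.map_add, Multiset.sum_add, a2, b2, ← Fintype.card_congr e, Fintype.card_sum, Fintype.card_fin, Fintype.card_fin])
  rw [← hw]
  refine inv_eq_of_kerDim_eq _ _ fun q hq hmq j => ?_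
  rw [hD, kerDim_bdiag, kerDim_pow (nonempty_decomp (toEnd (A : Matrix (Fin k) (Fin k) F))).some hq hmq,
    kerDim_pow (nonempty_decomp (toEnd (B : Matrix (Fin l) (Fin l) F))).some hq hmq,
    kerDim_pow (nonempty_decomp (toEnd (w : Matrix (Fin n) (Fin n) F))).some hq hmq, ← mul_add]
  congr 1
  have e2 := congrArg (fun M : Multiset (F[X] × ℕ) => (M.map fun z => if z.1 = q then min z.2 j else 0).sum) hw
  simp only [matInv, Decomp.inv, Multiset.map_add, Multiset.sum_add, Multiset.map_map, Function.comp_def] at e2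
  exact e2.symm

section Centre

variable [Fintype F] [DecidableEq F] {q : ℕ}

theorem exists_det_mulX {p0 p1 : F[X]} (h0 : Irreducible p0) (hm0 : p0.Monic) (hm1 : p1.Monic) (hco : IsCoprime p0 p1) (z : Fˣ) :
    ∃ (r : ℕ) (S : Matrix (Fin r) (Fin r) F) (h : F[X]), S.charpoly = p0 * p1 ∧ (aeval S h).det = z := by
  classical
  have : Module.Finite F (F[X] ⧸ Ideal.span {p0}) := finite_quot h0.ne_zero
  have : Module.Finite F (F[X] ⧸ Ideal.span {p1}) := finite_quot hm1.ne_zero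
  have hmax : (Ideal.span {p0}).IsMaximal := PrincipalIdealRing.isMaximal_of_irreducible h0
  let _ : Field (F[X] ⧸ Ideal.span {p0}) := Ideal.Quotient.field _
  have : Finite (F[X] ⧸ Ideal.span {p0}) := Module.finite_of_finite F
  obtain ⟨lam, hlam⟩ := FiniteField.norm_surjective F (F[X] ⧸ Ideal.span {p0}) (z : F)
  obtain ⟨h0', rfl⟩ := Ideal.Quotient.mk_surjective lam
  obtain ⟨u, v, huv⟩ := hco
  obtain ⟨b0, hb0⟩ : ∃ b0, b0 = finBasis F (F[X] ⧸ Ideal.span {p0}) := ⟨_, rfl⟩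
  obtain ⟨b1, hb1⟩ : ∃ b1, b1 = finBasis F (F[X] ⧸ Ideal.span {p1}) := ⟨_, rfl⟩
  obtain ⟨S0, hS0⟩ : ∃ S0, S0 = LinearMap.toMatrixAlgEquiv b0 (mulX p0) := ⟨_, rfl⟩
  obtain ⟨S1, hS1⟩ : ∃ S1, S1 = LinearMap.toMatrixAlgEquiv b1 (mulX p1) := ⟨_, rfl⟩
  obtain ⟨h, hh⟩ : ∃ h, h = h0' * (v * p1) + u * p0 := ⟨_, rfl⟩
  have c0 : S0.charpoly = p0 := by rw [hS0]; exact (LinearMap.charpoly_toMatrix _ b0).trans (charpoly_mulX hm0)
  have c1 : S1.charpoly = p1 := by rw [hS1]; exact (LinearMap.charpoly_toMatrix _ b1).trans (charpoly_mulX hm1)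
  have z0 : aeval S0 p0 = 0 := by
    conv_lhs => arg 2; rw [← c0]
    exact Matrix.aeval_self_charpoly S0
  have z1 : aeval S1 p1 = 0 := by
    conv_lhs => arg 2; rw [← c1]
    exact Matrix.aeval_self_charpoly S1
  have d0 : (aeval S0 h).det = z := by
    have hvp : v * p1 = 1 - u * p0 := by linear_combination huv
    have e : aeval S0 h = aeval S0 h0' := by
      rw [hh, hvp, show h0' * (1 - u * p0) + u * p0 = h0' + (u - h0' * u) * p0 by ring, map_add, map_mul, z0, mul_zero, add_zero]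
    rw [e, hS0, Polynomial.aeval_algHom_apply, ← hlam, mulX, aeval_smulEnd_X, Algebra.norm_apply]
    show (LinearMap.toMatrix b0 b0 _).det = _
    rw [LinearMap.det_toMatrix]
    congr 1
  have d1 : (aeval S1 h).det = 1 := by
    have hup : u * p0 = 1 - v * p1 := by linear_combination huv
    rw [hh, hup, show h0' * (v * p1) + (1 - v * p1) = 1 + (h0' * v - v) * p1 by ring, map_add, map_one, map_mul, z1, mul_zero,
      add_zero, Matrix.det_one]
  refine ⟨_, bdiag finSumFinEquiv S0 S1, h, ?_, ?_⟩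
  · rw [bdiag, Matrix.reindexAlgEquiv_apply, Matrix.charpoly_reindex, Matrix.charpoly_fromBlocks_zero₂₁, c0, c1]
  · rw [bdiag, Polynomial.aeval_algHom_apply, Matrix.reindexAlgEquiv_apply, Matrix.det_reindex_self, aeval_fromBlocks_diag,
      Matrix.det_fromBlocks_zero₂₁, d0, d1, mul_one]

theorem exists_piece {σ : F →+* F} (hσ : ∀ x, σ (σ x) = x) {m : Multiset (F[X] × ℕ)} (hfix : starM σ m = m)
    {y : F[X] × ℕ} (hy : y ∈ m) (hm : y.1.Monic) (hirr : Irreducible y.1) (h0 : y.1.coeff 0 ≠ 0) :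
    ∃ (P : Multiset (F[X] × ℕ)) (p1 : F[X]), P ≤ m ∧ starM σ P = P ∧ p1.Monic ∧ IsCoprime y.1 p1 ∧
      (P.map fun z => z.1 ^ z.2).prod = (y.1 * p1) ^ y.2 := by
  classical
  by_cases h : starP σ y.1 = y.1
  · refine ⟨{y}, 1, Multiset.singleton_le.2 hy, ?_, monic_one, isCoprime_one_right, by simp⟩
    rw [starM, Multiset.map_singleton, h]
  · have hy' : (starP σ y.1, y.2) ∈ m := by
      rw [← hfix]
      exact Multiset.mem_map.2 ⟨y, hy, rfl⟩
    have hne : y ≠ (starP σ y.1, y.2) := fun e => h (congrArg Prod.fst e).symm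
    refine ⟨{y, (starP σ y.1, y.2)}, starP σ y.1, ?_, ?_, monic_starP h0, ?_, by simp [mul_pow]⟩
    · refine (Multiset.le_iff_subset ?_).2 fun z hz => ?_
      · simp [hne]
      · rcases Multiset.mem_cons.1 hz with rfl | hz
        · exact hy
        · rw [Multiset.mem_singleton.1 hz]; exact hy'
    · rw [starM, Multiset.insert_eq_cons, Multiset.map_cons, Multiset.map_singleton, starP_starP hσ hm h0]
      exact Multiset.pair_comm _ _
    · refine hirr.coprime_iff_not_dvd.2 fun hd => h ?_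
      exact (eq_of_monic_of_associated hm (monic_starP h0) (hirr.associated_of_dvd (irreducible_starP hσ hirr hm h0) hd)).symm

/-- Determinants on the unitary centraliser. -/
theorem exists_GU_commute_det (hF : Fintype.card F = q ^ 2) (B : Cfsg.GU n F q) {y : F[X] × ℕ}
    (hy : y ∈ matInv ((B : GL (Fin n) F) : Matrix (Fin n) (Fin n) F)) (z : Fˣ) :
    ∃ u : Cfsg.GU n F q, u * B = B * u ∧
      ((u : GL (Fin n) F) : Matrix (Fin n) (Fin n) F).det = ((z : F) / conjHom hF (z : F)) ^ y.2 := by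
  classical
  obtain ⟨hmem, hfix⟩ := Finset.mem_filter.1 (matInv_GU hF B)
  obtain ⟨hM, hwt⟩ := Cfsg.Agent.Lib.FamCount.mem_fam.1 hmem
  obtain ⟨σ, hσd⟩ : ∃ σ, σ = conjHom hF := ⟨_, rfl⟩
  rw [← hσd] at hfix ⊢
  have hσ : ∀ x, σ (σ x) = x := hσd ▸ conjHom_conjHom hF
  obtain ⟨m, hmd⟩ : ∃ m, m = matInv ((B : GL (Fin n) F) : Matrix (Fin n) (Fin n) F) := ⟨_, rfl⟩
  rw [← hmd] at hfix hM hwt hy
  obtain ⟨y1, y2, y3, y4, -⟩ := hM y hy
  obtain ⟨P, p1, hPle, hPfix, hp1, hco, hPprod⟩ := exists_piece hσ hfix hy y1 y2 y3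
  obtain ⟨R, hR⟩ : ∃ R, R = m - P := ⟨_, rfl⟩
  have hPR : P + R = m := by rw [hR, add_comm, tsub_add_cancel_of_le hPle]
  have hRfix : starM σ R = R := by
    have e := congrArg (starM σ) hPR
    rw [hfix, starM, Multiset.map_add] at e
    rw [show P.map (fun z => (starP σ z.1, z.2)) = P from hPfix, ← hPR] at e
    exact add_left_cancel e
  obtain ⟨a, ha⟩ : ∃ a, a = (P.map fun z => z.2 * z.1.natDegree).sum := ⟨_, rfl⟩
  obtain ⟨b, hb⟩ : ∃ b, b = (R.map fun z => z.2 * z.1.natDegree).sum := ⟨_, rfl⟩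
  have hab : a + b = n := by rw [ha, hb, ← Multiset.sum_add, ← Multiset.map_add, hPR, hwt]
  have hP1 : P ∈ ufam (conjHom hF) 1 a := Finset.mem_filter.2 ⟨Cfsg.Agent.Lib.FamCount.mem_fam.2
    ⟨fun x hx => hM x (hPR ▸ Multiset.mem_add.2 (.inl hx)), ha.symm⟩, by rw [← hσd]; exact hPfix⟩
  have hR1 : R ∈ ufam (conjHom hF) 1 b := Finset.mem_filter.2 ⟨Cfsg.Agent.Lib.FamCount.mem_fam.2
    ⟨fun x hx => hM x (hPR ▸ Multiset.mem_add.2 (.inr hx)), hb.symm⟩, by rw [← hσd]; exact hRfix⟩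
  obtain ⟨B1, hB1⟩ := exists_GU_matInv hF hP1
  obtain ⟨B2, hB2⟩ := exists_GU_matInv hF hR1
  obtain ⟨b1, hb1⟩ : ∃ b1, b1 = ((B1 : GL (Fin a) F) : Matrix (Fin a) (Fin a) F) := ⟨_, rfl⟩
  obtain ⟨b2, hb2⟩ : ∃ b2, b2 = ((B2 : GL (Fin b) F) : Matrix (Fin b) (Fin b) F) := ⟨_, rfl⟩
  have hb1u : adj σ b1 * b1 = 1 := by rw [hσd, hb1]; exact (mem_GU_adj hF _).1 B1.2
  have hb2u : adj σ b2 * b2 = 1 := by rw [hσd, hb2]; exact (mem_GU_adj hF _).1 B2.2
  obtain ⟨r, S, h, hS, hdS⟩ := exists_det_mulX y2 y1 hp1 hco z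
  obtain ⟨H, hH⟩ : ∃ H, H = aeval b1 h := ⟨_, rfl⟩
  have hHdet : H.det = (z : F) ^ y.2 := by
    rw [hH, det_aeval_pow b1 S y.2 (by rw [hb1, charpoly_eq_matInv, hB1, hPprod, hS]) h, hdS]
  have hHu : IsUnit H := by
    rw [Matrix.isUnit_iff_isUnit_det, hHdet, isUnit_iff_ne_zero]
    exact pow_ne_zero _ z.ne_zero
  have hb1c : Commute b1 H := by
    have := (Commute.all (X : F[X]) h).map (aeval b1)
    rwa [aeval_X, ← hH] at this
  have hcab : Commute b1 (adj σ b1) := (mul_eq_one_comm.1 hb1u).trans hb1u.symm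
  have hAH : adj σ H = aeval (adj σ b1) (h.map σ) := by rw [hH, adj_aeval]
  have comm_aeval : ∀ (X Y : Matrix (Fin a) (Fin a) F), Commute X Y → ∀ g : F[X], Commute X (aeval Y g) :=
    fun X Y hXY g => Algebra.commute_of_mem_adjoin_singleton_of_commute
      (Polynomial.aeval_mem_adjoin_singleton F Y) hXY
  have hb1a : Commute b1 (adj σ H) := hAH ▸ comm_aeval _ _ hcab _
  have hHa : Commute H (adj σ H) := (hH.symm ▸ comm_aeval (adj σ H) b1 hb1a.symm h : Commute (adj σ H) H).symm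
  obtain ⟨Hu, hHu'⟩ := hHu
  have hau : IsUnit (adj σ H) := by
    rw [Matrix.isUnit_iff_isUnit_det, det_adj, hHdet, isUnit_iff_ne_zero]
    exact (map_ne_zero σ).2 (pow_ne_zero _ z.ne_zero)
  obtain ⟨Au, hAu⟩ := hau
  obtain ⟨w, hwd⟩ : ∃ w, w = H * ((Au⁻¹ : GL (Fin a) F) : Matrix (Fin a) (Fin a) F) := ⟨_, rfl⟩
  have hw1 : w * adj σ H = H := by rw [hwd, ← hAu, mul_assoc, Units.inv_mul, mul_one]
  have hwb : Commute b1 w := by
    have : Commute b1 ((Au⁻¹ : GL (Fin a) F) : Matrix (Fin a) (Fin a) F) := by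
      have := hb1a; rw [← hAu] at this; exact this.units_inv_right
    rw [hwd]; exact hb1c.mul_right this
  have hwu : adj σ w * w = 1 := by
    have e : H * adj σ w = adj σ H := by
      have := congrArg (adj σ) hw1
      rwa [adj_mul, adj_adj hσ] at this
    have e2 : H * (adj σ w * w) * adj σ H = H * adj σ H := by
      rw [← mul_assoc H, e, mul_assoc, hw1, hHa.eq]
    rw [← hAu, ← hHu'] at e2
    have := congrArg (fun M => ((Hu⁻¹ : GL (Fin a) F) : Matrix (Fin a) (Fin a) F) * M * ((Au⁻¹ : GL (Fin a) F) : Matrix (Fin a) (Fin a) F)) e2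
    simpa [mul_assoc] using this
  have hwdet : w.det = ((z : F) / σ (z : F)) ^ y.2 := by
    have := congrArg Matrix.det hw1
    rw [Matrix.det_mul, det_adj, hHdet, map_pow] at this
    rw [div_pow, eq_div_iff (pow_ne_zero _ ((map_ne_zero σ).2 z.ne_zero)), this]
  obtain ⟨e⟩ : Nonempty (Fin a ⊕ Fin b ≃ Fin n) := ⟨finSumFinEquiv.trans (finCongr hab)⟩
  have hDu : adj σ (bdiag e b1 b2) * bdiag e b1 b2 = 1 := by rw [adj_bdiag, bdiag_mul, hb1u, hb2u, bdiag_one]
  have hUu : adj σ (bdiag e w (1 : Matrix (Fin b) (Fin b) F)) * bdiag e w 1 = 1 := by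
    rw [adj_bdiag, adj_one, bdiag_mul, hwu, one_mul, bdiag_one]
  let mk : (M : Matrix (Fin n) (Fin n) F) → adj σ M * M = 1 → Cfsg.GU n F q := fun M hM' =>
    ⟨⟨M, adj σ M, mul_eq_one_comm.1 hM', hM'⟩, (mem_GU_adj hF _).2 (by rw [← hσd]; exact hM')⟩
  let D := mk _ hDu
  let W := mk _ hUu
  have hDinv : matInv ((D : GL (Fin n) F) : Matrix (Fin n) (Fin n) F) = m := by
    rw [← hPR, ← hB1, ← hB2]
    exact matInv_bdiag (B1 : GL (Fin a) F) (B2 : GL (Fin b) F) _ (by rw [← hb1, ← hb2])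
  have hconj : IsConj D B := (isConj_GU_iff hF D B).2 (ConjClasses.mk_eq_mk_iff_isConj.1
    (classInv_injective (by rw [classInv_mk, classInv_mk, hDinv, hmd])))
  obtain ⟨g, hg⟩ := isConj_iff.1 hconj
  refine ⟨g * W * g⁻¹, ?_, ?_⟩
  · have hc : W * D = D * W := Subtype.ext (Units.ext (by
      show bdiag e w 1 * bdiag e b1 b2 = bdiag e b1 b2 * bdiag e w 1
      rw [bdiag_mul, bdiag_mul, one_mul, mul_one, hwb.eq]))
    rw [← hg]
    calc g * W * g⁻¹ * (g * D * g⁻¹) = g * (W * D) * g⁻¹ := by group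
      _ = g * D * g⁻¹ * (g * W * g⁻¹) := by rw [hc]; group
  · have : ((g * W * g⁻¹ : Cfsg.GU n F q) : GL (Fin n) F) = (g : GL (Fin n) F) * (W : GL (Fin n) F) * (g : GL (Fin n) F)⁻¹ := rfl
    rw [this, Units.val_mul, Units.val_mul, Matrix.det_units_conj, show ((W : GL (Fin n) F) : Matrix (Fin n) (Fin n) F) = bdiag e w 1 from rfl,
      det_bdiag, Matrix.det_one, mul_one, hwdet]

end Centre

end Cfsg.Agent.Lib.Similar
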