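import Mathlib
import Cfsg.Agent.Lib.Similar.Star

/-!
Counting families of elementary divisors fixed by the conjugate reciprocal.
-/

set_option autoImplicit false

namespace Cfsg.Agent.Lib.FamCount

open Polynomial Cfsg.Agent.Lib.Similar
open Cfsg.Agent.Lib.Classical (conjHom conjHom_apply conjHom_conjHom two_le_q)
open Cfsg.Agent.S2478 (Mon finite_mon)

variable {F : Type*} [Field F] [Fintype F] [DecidableEq F] {q : ℕ} (hF : Fintype.card F = q ^ 2)

/-- The norm one scalars. -/
def normOne (F : Type*) [Field F] [Fintype F] [DecidableEq F] (q : ℕ) : Finset F := Finset.univ.filter fun c => c ^ (q + 1) = 1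

omit [DecidableEq F] in
theorem card_roots_one_le {g : ℕ} (hg : 0 < g) (s : Finset F) (h : ∀ x ∈ s, ∀ y ∈ s, x ^ g = y ^ g) : s.card ≤ g := by
  classical
  rcases s.eq_empty_or_nonempty with rfl | ⟨x, hx⟩
  · simp
  · refine le_trans (Finset.card_le_card (t := (nthRoots g (x ^ g)).toFinset) fun y hy => ?_)
      ((Multiset.toFinset_card_le _).trans (card_nthRoots _ _))
    rw [Multiset.mem_toFinset, mem_nthRoots hg]
    exact h y hy x hx

theorem card_normOne_le : (normOne F q).card ≤ q + 1 :=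
  card_roots_one_le (by omega) _ fun x hx y hy => by
    rw [(Finset.mem_filter.1 hx).2, (Finset.mem_filter.1 hy).2]

theorem card_pow_eq_le {a : ℕ} (w v : F) (hw : w ≠ 0) :
    ((normOne F q).filter fun c => c ^ a * w = v).card ≤ Nat.gcd a (q + 1) := by
  refine card_roots_one_le (Nat.gcd_pos_of_pos_right _ (by omega)) _ fun x hx y hy => ?_
  obtain ⟨hx1, hx2⟩ := Finset.mem_filter.1 hx
  obtain ⟨hy1, hy2⟩ := Finset.mem_filter.1 hy
  have hx1' := (Finset.mem_filter.1 hx1).2
  have hy1' := (Finset.mem_filter.1 hy1).2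
  have hy0 : y ≠ 0 := fun h => by rw [h, zero_pow (by omega)] at hy1'; exact zero_ne_one hy1'
  have e1 : (x / y) ^ a = 1 := by
    rw [div_pow, div_eq_one_iff_eq (pow_ne_zero _ hy0)]
    exact mul_right_cancel₀ hw (hx2.trans hy2.symm)
  have e2 : (x / y) ^ (q + 1) = 1 := by rw [div_pow, hx1', hy1', div_one]
  have := (pow_gcd_eq_one.2 ⟨e1, e2⟩ : (x / y) ^ Nat.gcd a (q + 1) = 1)
  rwa [div_pow, div_eq_one_iff_eq (pow_ne_zero _ hy0)] at this

theorem normOne_of_fixed {g : F[X]} (hm : g.Monic) (h0 : g.coeff 0 ≠ 0) (h : starP (conjHom hF) g = g) :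
    g.coeff 0 ∈ normOne F q := by
  refine Finset.mem_filter.2 ⟨Finset.mem_univ _, ?_⟩
  have e := coeff_zero_starP (σ := conjHom hF) hm
  rw [h, conjHom_apply] at e
  rw [pow_succ]
  nth_rewrite 2 [e]
  exact mul_inv_cancel₀ (pow_ne_zero _ h0)

/-- The polynomials fixed by the conjugate reciprocal with constant term in `S`. -/
theorem card_fixed_le {d : ℕ} (S : Finset F) (hS : ∀ c ∈ S, c ≠ 0) :
    Nat.card {g : Mon F (d + 1) // starP (conjHom hF) g.1 = g.1 ∧ g.1.coeff 0 ∈ S} ≤ S.card * q ^ d := by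
  classical
  obtain ⟨σ, hσd⟩ : ∃ σ, σ = conjHom hF := ⟨_, rfl⟩
  rw [← hσd]
  let M : F → Finset F := fun s => Finset.univ.filter fun c => if Odd d then c = (σ s)⁻¹ * σ c else c = 0
  have hM : ∀ s ∈ S, (M s).card ≤ if Odd d then q else 1 := by
    intro s hs
    by_cases hd : Odd d
    · rw [if_pos hd]
      have hu : (σ s)⁻¹ ≠ 0 := inv_ne_zero ((map_ne_zero σ).2 (hS s hs))
      have hq2 := two_le_q hF
      have hne : (C (σ s)⁻¹ * X ^ q - X : F[X]) ≠ 0 := by
        intro h
        have := congrArg (fun p => coeff p q) h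
        simp [coeff_X, show ¬ (1 : ℕ) = q by omega, hu, hS s hs] at this
      refine le_trans (Finset.card_le_card (t := (C (σ s)⁻¹ * X ^ q - X : F[X]).roots.toFinset) fun c hc => ?_) ?_
      · have := (Finset.mem_filter.1 hc).2
        rw [if_pos hd, hσd, conjHom_apply hF c] at this
        rw [Multiset.mem_toFinset, mem_roots hne, IsRoot.def, hσd, eval_sub, eval_mul, eval_C, eval_pow, eval_X, ← this, sub_self]
      · refine (Multiset.toFinset_card_le _).trans ((card_roots' _).trans ?_)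
        refine (natDegree_sub_le _ _).trans (max_le (natDegree_C_mul_X_pow_le _ _) ?_)
        rw [natDegree_X]; omega
    · rw [if_neg hd]
      refine le_trans (Finset.card_le_card (t := {0}) fun c hc => ?_) (by simp)
      have := (Finset.mem_filter.1 hc).2
      rw [if_neg hd] at this
      exact Finset.mem_singleton.2 this
  have := finite_mon (F := F) (d + 1)
  let V := (s : S) × M s.1 × (Fin (d / 2) → F)
  let f : {g : Mon F (d + 1) // starP σ g.1 = g.1 ∧ g.1.coeff 0 ∈ S} → V := fun g =>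
    ⟨⟨g.1.1.coeff 0, g.2.2⟩,
      ⟨if Odd d then g.1.1.coeff ((d + 1) / 2) else 0, Finset.mem_filter.2 ⟨Finset.mem_univ _, by
        by_cases hd : Odd d
        · rw [if_pos hd, if_pos hd]
          obtain ⟨k, rfl⟩ := hd
          conv_lhs => rw [← g.2.1]
          rw [coeff_starP (by rw [g.1.2.2.1]; omega), g.1.2.2.1, show 2 * k + 1 + 1 - (2 * k + 1 + 1) / 2 = (2 * k + 1 + 1) / 2 by omega]
        · rw [if_neg hd, if_neg hd]⟩⟩, fun i => g.1.1.coeff ((i : ℕ) + 1)⟩
  let back : V → F × F × (ℕ → F) := fun x => (x.1.1, x.2.1.1, fun i => if h : i < d / 2 then x.2.2 ⟨i, h⟩ else 0)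
  have hf : Function.Injective f := by
    intro g h hgh
    have e := congrArg back hgh
    simp only [back, f, Prod.mk.injEq] at e
    obtain ⟨e1, e2, e3⟩ := e
    have low : ∀ i, i ≤ (d + 1) / 2 → g.1.1.coeff i = h.1.1.coeff i := by
      intro i hi
      rcases i with _ | i
      · exact e1
      by_cases hi2 : i < d / 2
      · have := congrFun e3 i
        simpa [hi2] using this
      · have hodd : Odd d := Nat.odd_iff.2 (by omega)
        rw [if_pos hodd, if_pos hodd] at e2
        rwa [show i + 1 = (d + 1) / 2 by omega]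
    refine Subtype.ext (Subtype.ext (Polynomial.ext fun i => ?_))
    rcases Nat.lt_or_ge (d + 1) i with hi | hi
    · rw [coeff_eq_zero_of_natDegree_lt (by rw [g.1.2.2.1]; exact hi), coeff_eq_zero_of_natDegree_lt (by rw [h.1.2.2.1]; exact hi)]
    by_cases hi2 : i ≤ (d + 1) / 2
    · exact low i hi2
    · rw [← g.2.1, ← h.2.1, coeff_starP (by rw [g.1.2.2.1]; exact hi), coeff_starP (by rw [h.1.2.2.1]; exact hi),
        g.1.2.2.1, h.1.2.2.1, low (d + 1 - i) (by omega), e1]
  refine le_trans (Nat.card_le_card_of_injective f hf) ?_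
  rw [Nat.card_sigma]
  refine le_trans (Finset.sum_le_card_nsmul _ _ (q ^ d) fun s _ => ?_) ?_
  · rw [Nat.card_prod, Nat.card_eq_finsetCard, Nat.card_fun, Nat.card_eq_fintype_card (α := F), hF,
      Nat.card_eq_fintype_card, Fintype.card_fin, ← pow_mul]
    refine le_trans (Nat.mul_le_mul_right _ (hM s.1 s.2)) ?_
    split_ifs with hd
    · obtain ⟨k, rfl⟩ := hd
      rw [show (2 * k + 1) / 2 = k by omega, mul_comm, ← pow_succ]
    · obtain ⟨k, rfl⟩ := Nat.not_odd_iff_even.1 hd
      rw [show (k + k) / 2 = k by omega, one_mul, two_mul]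
  · rw [smul_eq_mul, Finset.card_univ, Fintype.card_coe]

/-- The number of fixed families. -/
noncomputable def U (a n : ℕ) : ℕ := (ufam (conjHom hF) a n).card

/-- The splitting-off sum for fixed families. -/
noncomputable def LU (a n : ℕ) : ℕ :=
  ∑ e ∈ Finset.range n, if a * (e + 1) ≤ n then q ^ e * U hF (a + 1) (n - a * (e + 1)) else 0

theorem piece_fixed {a n : ℕ} {m : Multiset (F[X] × ℕ)} (hm : m ∈ ufam (conjHom hF) a n) :
    starP (conjHom hF) (piece a m) = piece a m ∧
      starM (conjHom hF) (m.filter fun y => ¬ y.2 = a) = m.filter fun y => ¬ y.2 = a := by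
  obtain ⟨-, h⟩ := Finset.mem_filter.1 hm
  constructor
  · conv_rhs => rw [piece, ← h, starM, Multiset.filter_map, Multiset.map_map]
    rw [piece, starP_multiset_prod, Multiset.map_map]
    rfl
  · conv_rhs => rw [← h, starM, Multiset.filter_map]
    rfl

theorem ufam_piece_zero {a n : ℕ} {m : Multiset (F[X] × ℕ)} (hm : m ∈ ufam (conjHom hF) a n)
    (h : (piece a m).natDegree = 0) : m ∈ ufam (conjHom hF) (a + 1) n := by
  obtain ⟨hm1, hm2⟩ := Finset.mem_filter.1 hm
  exact Finset.mem_filter.2 ⟨piece_eq_zero hm1 h, hm2⟩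

theorem card_piece_le {a n e : ℕ} (T : Multiset (F[X] × ℕ) → Finset F) (P : Multiset (F[X] × ℕ) → Prop) [DecidablePred P]
    (hT : ∀ r, ∀ c ∈ T r, c ≠ 0)
    (hP : ∀ m ∈ ufam (conjHom hF) a n, P m → (piece a m).natDegree = e + 1 → (piece a m).coeff 0 ∈ T (m.filter fun y => ¬ y.2 = a))
    {g : ℕ} (hg : ∀ r ∈ ufam (conjHom hF) (a + 1) (n - a * (e + 1)), (T r).card ≤ g) :
    ((ufam (conjHom hF) a n).filter fun m => P m ∧ (piece a m).natDegree = e + 1).card ≤
      g * (q ^ e * U hF (a + 1) (n - a * (e + 1))) := by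
  refine le_trans (Finset.card_le_mul_card_image_of_maps_to (f := fun m => m.filter fun y => ¬ y.2 = a)
    (t := ufam (conjHom hF) (a + 1) (n - a * (e + 1))) (fun m hm => ?_) (g * q ^ e) fun r hr => ?_) (le_of_eq (by rw [U]; ring))
  · obtain ⟨hm, -, hd⟩ := Finset.mem_filter.1 hm
    exact Finset.mem_filter.2 ⟨hd ▸ (split_spec (Finset.mem_filter.1 hm).1).2.1, (piece_fixed hF hm).2⟩
  · have := finite_mon (F := F) (e + 1)
    refine le_trans ?_ ((card_fixed_le hF (T r) (hT r)).trans (Nat.mul_le_mul_right _ (hg r hr)))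
    let _ := Fintype.ofFinite {x : Mon F (e + 1) // starP (conjHom hF) x.1 = x.1 ∧ x.1.coeff 0 ∈ T r}
    rw [Nat.card_eq_fintype_card, ← Fintype.card_coe]
    have key : ∀ m : ((ufam (conjHom hF) a n).filter fun m => P m ∧ (piece a m).natDegree = e + 1).filter
        (fun m => (m.filter fun y => ¬ y.2 = a) = r),
        piece a m.1 ∈ Mon F (e + 1) ∧ starP (conjHom hF) (piece a m.1) = piece a m.1 ∧ (piece a m.1).coeff 0 ∈ T r := by
      rintro ⟨m, hm⟩
      obtain ⟨hm, hr'⟩ := Finset.mem_filter.1 hm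
      obtain ⟨hm1, hp, hd⟩ := Finset.mem_filter.1 hm
      refine ⟨?_, (piece_fixed hF hm1).1, ?_⟩
      · obtain ⟨⟨k1, -, k3⟩, -⟩ := piece_spec (Finset.mem_filter.1 hm1).1
        exact ⟨k1, hd, k3⟩
      have := hP m hm1 hp hd
      rwa [hr'] at this
    refine Fintype.card_le_of_injective (fun m => ⟨⟨piece a m.1, (key m).1⟩, (key m).2⟩) fun x y hxy => Subtype.ext ?_
    simp only [Subtype.mk.injEq] at hxy
    obtain ⟨hx, hx'⟩ := Finset.mem_filter.1 x.2
    obtain ⟨hy, hy'⟩ := Finset.mem_filter.1 y.2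
    rw [← (split_spec (Finset.mem_filter.1 (Finset.mem_filter.1 hx).1).1).2.2,
      ← (split_spec (Finset.mem_filter.1 (Finset.mem_filter.1 hy).1).1).2.2, hx', hy', hxy]

theorem card_strata {a n : ℕ} (ha : 1 ≤ a) (P : Multiset (F[X] × ℕ) → Prop) [DecidablePred P] {g : ℕ}
    (h : ∀ e, a * (e + 1) ≤ n → ((ufam (conjHom hF) a n).filter fun m => P m ∧ (piece a m).natDegree = e + 1).card ≤
      g * (q ^ e * U hF (a + 1) (n - a * (e + 1)))) :
    ((ufam (conjHom hF) a n).filter fun m => P m ∧ (piece a m).natDegree ≠ 0).card ≤ g * LU hF a n := by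
  rw [Finset.card_eq_sum_card_fiberwise (f := fun m => (piece a m).natDegree - 1) (t := Finset.range n)]
  · rw [LU, Finset.mul_sum]
    refine Finset.sum_le_sum fun e _ => ?_
    rw [Finset.filter_filter]
    split_ifs with he
    · refine le_trans (Finset.card_le_card fun m hm => ?_) (h e he)
      obtain ⟨hm, ⟨hp, hd⟩, he'⟩ := Finset.mem_filter.1 hm
      exact Finset.mem_filter.2 ⟨hm, hp, by omega⟩
    · rw [mul_zero, Nat.le_zero, Finset.card_eq_zero, Finset.filter_eq_empty_iff]
      rintro m hm ⟨⟨-, hd⟩, he'⟩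
      have h1 := (split_spec (Finset.mem_filter.1 hm).1).1
      rw [show (piece a m).natDegree = e + 1 by omega] at h1
      exact he h1
  · intro m hm
    obtain ⟨hm, -, hd⟩ := Finset.mem_filter.1 hm
    rw [Finset.mem_coe, Finset.mem_range]
    show (piece a m).natDegree - 1 < n
    have := (split_spec (Finset.mem_filter.1 hm).1).1
    have := Nat.le_mul_of_pos_left (piece a m).natDegree (show 0 < a by omega)
    omega

theorem U_rec {a n : ℕ} (ha : 1 ≤ a) : U hF a n ≤ U hF (a + 1) n + (q + 1) * LU hF a n := by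
  conv_lhs => rw [U, ← Finset.card_filter_add_card_filter_not (fun m => (piece a m).natDegree ≠ 0), add_comm]
  refine add_le_add (Finset.card_le_card fun m hm => ?_) ?_
  · obtain ⟨hm, hd⟩ := Finset.mem_filter.1 hm
    exact ufam_piece_zero hF hm (not_not.1 hd)
  · refine le_trans (le_of_eq ?_) (card_strata hF ha (fun _ => True) fun e _ =>
      card_piece_le hF (fun _ => normOne F q) (fun _ => True) (fun _ c hc => ?_) (fun m hm _ _ => ?_) fun _ _ => card_normOne_le)
    · simp only [true_and]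
    · intro h
      have := (Finset.mem_filter.1 hc).2
      rw [h, zero_pow (by omega)] at this
      exact zero_ne_one this
    · obtain ⟨⟨h1, -, h3⟩, -⟩ := piece_spec (Finset.mem_filter.1 hm).1
      exact normOne_of_fixed hF h1 h3 (piece_fixed hF hm).1

/-- The weighted count with prescribed determinant. -/
noncomputable def SvU (a n : ℕ) (v : F) : ℕ :=
  ∑ m ∈ (ufam (conjHom hF) a n).filter (fun m => dt m = v), gw (q + 2) m

theorem SvU_step {a n : ℕ} (ha : 1 ≤ a) (v : F) :
    SvU hF a n v ≤ Nat.gcd a (q + 1) * Nat.gcd a (q + 1) * LU hF a n + SvU hF (a + 1) n v := by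
  rw [SvU, ← Finset.sum_filter_add_sum_filter_not _ (fun m => (piece a m).natDegree ≠ 0)]
  simp only [Finset.filter_filter]
  refine add_le_add ((Finset.sum_le_card_nsmul _ _ (Nat.gcd a (q + 1)) fun m hm => ?_).trans ?_) ?_
  · obtain ⟨hm, -, hd⟩ := Finset.mem_filter.1 hm
    obtain ⟨y, hy⟩ : ∃ y, y ∈ m.filter fun y => y.2 = a := by
      refine Multiset.exists_mem_of_ne_zero fun h => hd ?_
      rw [piece, h]
      simp
    obtain ⟨hy1, hy2⟩ := Multiset.mem_filter.1 hy
    refine Nat.le_of_dvd (Nat.gcd_pos_of_pos_right _ (by omega)) (Nat.dvd_gcd (hy2 ▸ gw_dvd.2 y hy1) ?_)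
    exact (gw_dvd (q := q + 2) (m := m)).1
  · rw [smul_eq_mul, mul_comm _ (Nat.gcd a (q + 1)), mul_assoc]
    refine Nat.mul_le_mul_left _ ?_
    refine card_strata hF ha (fun m => dt m = v) fun e _ => card_piece_le hF
      (fun r => (normOne F q).filter fun c => c ^ a * dt r = v) (fun m => dt m = v) (fun r c hc => ?_) (fun m hm hv _ => ?_)
      fun r hr => card_pow_eq_le _ _ (dt_ne_zero (Finset.mem_filter.1 hr).1)
    · intro h
      have := (Finset.mem_filter.1 (Finset.mem_filter.1 hc).1).2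
      rw [h, zero_pow (by omega)] at this
      exact zero_ne_one this
    · obtain ⟨⟨h1, -, h3⟩, -⟩ := piece_spec (Finset.mem_filter.1 hm).1
      refine Finset.mem_filter.2 ⟨normOne_of_fixed hF h1 h3 (piece_fixed hF hm).1, ?_⟩
      rw [← dt_powFam a h1, ← dt_add, (split_spec (Finset.mem_filter.1 hm).1).2.2, hv]
  · refine Finset.sum_le_sum_of_subset fun m hm => ?_
    obtain ⟨hm, hv, hd⟩ := Finset.mem_filter.1 hm
    exact Finset.mem_filter.2 ⟨ufam_piece_zero hF hm (not_not.1 hd), hv⟩

theorem U_of_lt {a n : ℕ} (ha : n < a) (hn : 1 ≤ n) : U hF a n = 0 := by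
  have h : (fam F a n).card = 0 := N_of_lt ha hn
  rw [U, Finset.card_eq_zero, ufam, Finset.card_eq_zero.1 h, Finset.filter_empty]

theorem U_zero_le (a : ℕ) : U hF a 0 ≤ 1 := (Finset.card_filter_le _ _).trans (N_zero a).le

theorem SvU_of_lt {a n : ℕ} (ha : n < a) (hn : 1 ≤ n) (v : F) : SvU hF a n v = 0 := by
  have h := U_of_lt hF ha hn
  rw [U, Finset.card_eq_zero] at h
  rw [SvU, h, Finset.filter_empty, Finset.sum_empty]

theorem LU_of_lt {a n : ℕ} (hn : n < a) : LU hF a n = 0 :=
  Finset.sum_eq_zero fun e _ => if_neg fun h => by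
    have := Nat.le_mul_of_pos_right a (show 0 < e + 1 by omega)
    omega

theorem LU_rec {a n : ℕ} (ha : 1 ≤ a) (hn : a ≤ n) :
    LU hF a n = U hF (a + 1) (n - a) + q * LU hF a (n - a) := by
  obtain ⟨l, rfl⟩ : ∃ l, n = l + a := ⟨n - a, by omega⟩
  rw [Nat.add_sub_cancel, LU, LU, show l + a = (l + (a - 1)) + 1 by omega, Finset.sum_range_succ', add_comm (U hF _ _), Finset.mul_sum]
  congr 1
  · symm
    refine Eq.trans (Finset.sum_subset (Finset.range_mono (show l ≤ l + (a - 1) by omega)) fun e _ he => ?_)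
      (Finset.sum_congr rfl fun e _ => ?_)
    · rw [Finset.mem_range] at he
      have := Nat.le_mul_of_pos_left (e + 1) (show 0 < a by omega)
      rw [if_neg (by omega), mul_zero]
    · have h : a * (e + 1 + 1) = a * (e + 1) + a := by ring
      by_cases hc : a * (e + 1) ≤ l
      · rw [if_pos hc, if_pos (by omega), show l + (a - 1) + 1 - a * (e + 1 + 1) = l - a * (e + 1) by omega, pow_succ]
        ring
      · rw [if_neg hc, if_neg (by omega), mul_zero]
  · rw [zero_add, mul_one, if_pos (by omega), pow_zero, one_mul, show l + (a - 1) + 1 - a = l by omega]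

end Cfsg.Agent.Lib.FamCount
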