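import Mathlib
import Cfsg.Agent.Lib.Similar.Blocks
import Cfsg.Agent.Lib.Similar.UFam

/-!
The classes of `SU_n` inside one class of `GU_n`.
-/

set_option autoImplicit false

namespace Cfsg.Agent.Lib.Similar

open Polynomial
open Cfsg.Agent.Lib.Classical (conjHom conjHom_apply conjHom_conjHom conjHom_ne_id)
open Cfsg.Agent.Lib.FamCount (dt SvU)

variable {F : Type*} [Field F] [Fintype F] {q n : ℕ}

/-- `SU_n` inside `GU_n`. -/
def suToGU (n : ℕ) (F : Type*) [Field F] (q : ℕ) : Cfsg.SU n F q →* Cfsg.GU n F q :=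
  MonoidHom.codRestrict ((Matrix.SpecialLinearGroup.toGL).comp (Cfsg.SU n F q).subtype) (Cfsg.GU n F q) fun s => s.2

theorem suToGU_val (s : Cfsg.SU n F q) :
    (((suToGU n F q s : Cfsg.GU n F q) : GL (Fin n) F) : Matrix (Fin n) (Fin n) F) =
      ((s : Matrix.SpecialLinearGroup (Fin n) F) : Matrix (Fin n) (Fin n) F) := rfl

theorem suToGU_injective : Function.Injective (suToGU n F q) := fun s t h =>
  Subtype.ext (Subtype.ext (congrArg (fun g : Cfsg.GU n F q => ((g : GL (Fin n) F) : Matrix (Fin n) (Fin n) F)) h))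

/-- The class of `GU_n` containing a class of `SU_n`. -/
noncomputable def guClass (C : ConjClasses (Cfsg.SU n F q)) : ConjClasses (Cfsg.GU n F q) := C.map (suToGU n F q)

theorem det_pow_eq_one (hF : Fintype.card F = q ^ 2) (g : Cfsg.GU n F q) :
    (Matrix.GeneralLinearGroup.det (g : GL (Fin n) F)) ^ (q + 1) = 1 := by
  refine Units.ext ?_
  have h := congrArg Matrix.det ((mem_GU_adj hF _).1 g.2)
  rw [Matrix.det_mul, Cfsg.Agent.Lib.SuSpec.det_adj, Matrix.det_one, conjHom_apply] at h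
  rw [Units.val_pow_eq_pow_val, Units.val_one, pow_succ]
  exact h

theorem card_fibreSU_le [DecidableEq F] (hF : Fintype.card F = q ^ 2) (x : Cfsg.GU n F q) :
    Nat.card {C : ConjClasses (Cfsg.SU n F q) // guClass C = ConjClasses.mk x} ≤
      gw (q + 2) (matInv ((x : GL (Fin n) F) : Matrix (Fin n) (Fin n) F)) := by
  classical
  let detG : Cfsg.GU n F q →* (powMonoidHom (q + 1) : Fˣ →* Fˣ).ker :=
    MonoidHom.codRestrict ((Matrix.GeneralLinearGroup.det).comp (Cfsg.GU n F q).subtype) _ fun g => det_pow_eq_one hF g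
  let Z : Subgroup (powMonoidHom (q + 1) : Fˣ →* Fˣ).ker := (Subgroup.centralizer ({x} : Set (Cfsg.GU n F q))).map detG
  have hk : Nat.card ((powMonoidHom (q + 1) : Fˣ →* Fˣ).ker ⧸ Z) ∣ gw (q + 2) (matInv ((x : GL (Fin n) F) : Matrix (Fin n) (Fin n) F)) := by
    refine dvd_gw ?_ fun y hy => ?_
    · rw [← IsCyclic.exponent_eq_card]
      refine Monoid.exponent_dvd_of_forall_pow_eq_one fun a => ?_
      obtain ⟨c, rfl⟩ := QuotientGroup.mk_surjective a
      rw [← QuotientGroup.mk_pow, show c ^ (q + 2 - 1) = 1 from Subtype.ext c.2]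
      rfl
    · rw [← IsCyclic.exponent_eq_card]
      refine Monoid.exponent_dvd_of_forall_pow_eq_one fun a => ?_
      obtain ⟨⟨c, hc⟩, rfl⟩ := QuotientGroup.mk_surjective a
      have hc' : (c : F) * conjHom hF (c : F) = 1 := by
        rw [conjHom_apply, ← pow_succ', ← Units.val_pow_eq_pow_val, show c ^ (q + 1) = 1 from hc, Units.val_one]
      obtain ⟨z, hzu, hz⟩ := exists_div_tau (conjHom_ne_id hF) (conjHom hF) (conjHom_conjHom hF) (fun _ => rfl) (c : F) hc'
      obtain ⟨u, hu1, hu2⟩ := exists_GU_commute_det hF x hy hzu.unit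
      rw [← QuotientGroup.mk_pow, QuotientGroup.eq_one_iff]
      refine ⟨u, Subgroup.mem_centralizer_singleton_iff.2 hu1, Subtype.ext (Units.ext ?_)⟩
      show ((u : GL (Fin n) F) : Matrix (Fin n) (Fin n) F).det = ((c ^ y.2 : Fˣ) : F)
      rw [hu2, Units.val_pow_eq_pow_val, IsUnit.unit_spec]
      congr 1
      rw [div_eq_iff ((_root_.map_ne_zero _).2 hzu.ne_zero)]
      exact hz
  refine le_trans ?_ (Nat.le_of_dvd (gw_pos (by omega) _) hk)
  have hex : ∀ C : {C : ConjClasses (Cfsg.SU n F q) // guClass C = ConjClasses.mk x},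
      ∃ (s : Cfsg.SU n F q) (g : Cfsg.GU n F q), ConjClasses.mk s = C.1 ∧ g * x * g⁻¹ = suToGU n F q s := by
    rintro ⟨C, hC⟩
    obtain ⟨s, rfl⟩ := ConjClasses.mk_surjective C
    obtain ⟨g, hg⟩ := isConj_iff.1 (ConjClasses.mk_eq_mk_iff_isConj.1 (hC.symm.trans rfl))
    exact ⟨s, g, rfl, hg⟩
  choose s g hs hg using hex
  refine Nat.card_le_card_of_injective (fun C => (QuotientGroup.mk (detG (g C)) : (powMonoidHom (q + 1) : Fˣ →* Fˣ).ker ⧸ Z))
    fun C C' h => Subtype.ext ?_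
  rw [QuotientGroup.eq] at h
  obtain ⟨z, hz, hz'⟩ := Subgroup.mem_map.1 h
  rw [← hs C, ← hs C', ConjClasses.mk_eq_mk_iff_isConj]
  obtain ⟨k, hk'⟩ : ∃ k, k = g C' * (g C * z)⁻¹ := ⟨_, rfl⟩
  have hkd : detG k = 1 := by
    rw [hk', map_mul, map_inv, map_mul, hz', mul_inv_cancel_left, mul_inv_cancel]
  let ksl : Matrix.SpecialLinearGroup (Fin n) F := ⟨((k : GL (Fin n) F) : Matrix (Fin n) (Fin n) F),
    congrArg (fun c : (powMonoidHom (q + 1) : Fˣ →* Fˣ).ker => ((c : Fˣ) : F)) hkd⟩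
  let k' : Cfsg.SU n F q := ⟨ksl, k.2⟩
  have hkk : suToGU n F q k' = k := Subtype.ext (Units.ext rfl)
  refine isConj_iff.2 ⟨k', suToGU_injective ?_⟩
  rw [map_mul, map_mul, map_inv, hkk, ← hg C, ← hg C', hk']
  have hzx : z * x = x * z := Subgroup.mem_centralizer_singleton_iff.1 hz
  calc g C' * (g C * z)⁻¹ * (g C * x * (g C)⁻¹) * (g C' * (g C * z)⁻¹)⁻¹
      = g C' * (z⁻¹ * (x * z)) * (g C')⁻¹ := by group
    _ = g C' * x * (g C')⁻¹ := by rw [← hzx, inv_mul_cancel_left]

theorem dt_matInv (x : GL (Fin n) F) :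
    dt (matInv (x : Matrix (Fin n) (Fin n) F)) = (-1) ^ n * (x : Matrix (Fin n) (Fin n) F).det := by
  have e := Matrix.det_eq_sign_charpoly_coeff (x : Matrix (Fin n) (Fin n) F)
  rw [Fintype.card_fin, charpoly_eq_matInv, coeff_zero_multiset_prod, Multiset.map_map] at e
  have e2 : dt (matInv (x : Matrix (Fin n) (Fin n) F)) =
      (Multiset.map ((fun p : F[X] => p.coeff 0) ∘ fun y => y.1 ^ y.2) (matInv (x : Matrix (Fin n) (Fin n) F))).prod := by
    unfold dt
    refine congrArg _ (Multiset.map_congr rfl fun y _ => ?_)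
    simp only [Function.comp_apply, coeff_zero_eq_eval_zero, eval_pow]
  rw [e, ← e2, ← mul_assoc, ← mul_pow, neg_one_mul, neg_neg, one_pow, one_mul]

theorem card_classesSU_le [DecidableEq F] (hF : Fintype.card F = q ^ 2) (n : ℕ) :
    Nat.card (ConjClasses (Cfsg.SU n F q)) ≤ SvU hF 1 n ((-1 : F) ^ n) := by
  classical
  obtain ⟨key, hkey⟩ : ∃ key : ConjClasses (Cfsg.GU n F q) → Multiset (F[X] × ℕ),
      ∀ x : Cfsg.GU n F q, key (ConjClasses.mk x) = matInv ((x : GL (Fin n) F) : Matrix (Fin n) (Fin n) F) :=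
    ⟨fun D => classInv (D.map (Cfsg.GU n F q).subtype), fun _ => rfl⟩
  have kinj : Function.Injective key := by
    intro D D' h
    obtain ⟨x, rfl⟩ := ConjClasses.mk_surjective D
    obtain ⟨y, rfl⟩ := ConjClasses.mk_surjective D'
    rw [hkey, hkey] at h
    exact ConjClasses.mk_eq_mk_iff_isConj.2 ((isConj_GU_iff hF x y).2
      (ConjClasses.mk_eq_mk_iff_isConj.1 (classInv_injective (by rw [classInv_mk, classInv_mk, h]))))
  let _ := Fintype.ofFinite (ConjClasses (Cfsg.SU n F q))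
  rw [Nat.card_eq_fintype_card, ← Finset.card_univ,
    Finset.card_eq_sum_card_fiberwise (f := fun C => key (guClass C))
      (t := (ufam (conjHom hF) 1 n).filter fun m => dt m = (-1) ^ n)]
  · refine Finset.sum_le_sum fun m _ => ?_
    by_cases hm : ∃ C : ConjClasses (Cfsg.SU n F q), key (guClass C) = m
    · obtain ⟨C, rfl⟩ := hm
      obtain ⟨x, hx⟩ := ConjClasses.mk_surjective (guClass C)
      rw [← hx, hkey]
      refine le_trans ?_ (card_fibreSU_le hF x)
      rw [Nat.card_eq_fintype_card, ← Finset.card_univ]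
      refine Finset.card_le_card_of_injOn (fun C' => if h : guClass C' = ConjClasses.mk x then ⟨C', h⟩ else ⟨C, hx.symm⟩) (fun _ _ => Finset.mem_univ _) ?_
      intro a ha b hb hab
      simp only [Finset.coe_filter, Set.mem_setOf_eq, Finset.mem_univ, true_and] at ha hb
      have ha' : guClass a = ConjClasses.mk x := kinj (ha.trans (hkey x).symm)
      have hb' : guClass b = ConjClasses.mk x := kinj (hb.trans (hkey x).symm)
      simp only [dif_pos ha', dif_pos hb', Subtype.mk.injEq] at hab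
      exact hab
    · rw [Finset.card_eq_zero.2 (Finset.filter_eq_empty_iff.2 fun C _ h => hm ⟨C, h⟩)]
      exact Nat.zero_le _
  · intro C _
    obtain ⟨s, rfl⟩ := ConjClasses.mk_surjective C
    show key (ConjClasses.mk (suToGU n F q s)) ∈ (ufam (conjHom hF) 1 n).filter fun m => dt m = (-1 : F) ^ n
    rw [hkey]
    refine Finset.mem_filter.2 ⟨matInv_GU hF _, ?_⟩
    rw [dt_matInv, suToGU_val, s.1.2, mul_one]

end Cfsg.Agent.Lib.Similar
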