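import Mathlib
import Cfsg.Prelude.Def_JordanBlocks

/-!
Jordan chains of a unipotent endomorphism and their relation to `jordanTypeMatrix`.
-/

set_option autoImplicit false

namespace Cfsg.Agent.Lib.Similar.JordanChains

open Module
open scoped Matrix

variable {F : Type*} [Field F] {V : Type*} [AddCommGroup V] [Module F V]

/-- A basis on which `T - 1` acts by shifting along chains of lengths `d`. -/
def IsChainBasis {t : ℕ} (T : Module.End F V) (d : Fin t → ℕ)
    (b : Module.Basis ((k : Fin t) × Fin (d k)) F V) : Prop :=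
  ∀ k (i : Fin (d k)), (T - 1) (b ⟨k, i⟩) =
    if h : (i : ℕ) + 1 < d k then b ⟨k, ⟨i + 1, h⟩⟩ else 0

/-- Chains of lengths `d` over `S` spanning the space. -/
def Spans {κ : Type*} (T : Module.End F V) (d : κ → ℕ) (S : Finset κ) (v : κ → V) : Prop :=
  (∀ k ∈ S, ((T - 1) ^ d k) (v k) = 0) ∧
    (⊤ : Submodule F V) ≤ Submodule.span F {x | ∃ k ∈ S, ∃ i < d k, ((T - 1) ^ i) (v k) = x}

/-- A vector at the top of a chain has independent iterates. -/
theorem chain_li (N : Module.End F V) (v : V) (d : ℕ) (h0 : (N ^ d) v = 0)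
    (h1 : (N ^ (d - 1)) v ≠ 0) : LinearIndependent F fun i : Fin d => (N ^ (i : ℕ)) v := by
  rw [Fintype.linearIndependent_iff]
  intro g hg
  by_contra hne
  push Not at hne
  classical
  obtain ⟨i, hi, hmin⟩ := Finset.exists_min_image (Finset.univ.filter fun i : Fin d => g i ≠ 0)
    (fun i : Fin d => (i : ℕ)) (by obtain ⟨i, hi⟩ := hne; exact ⟨i, by simp [hi]⟩)
  have hz : ∀ m, d ≤ m → (N ^ m) v = 0 := fun m hm => by
    rw [← Nat.sub_add_cancel hm, pow_add, Module.End.mul_apply, h0, map_zero]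
  have h := congrArg (N ^ (d - 1 - (i : ℕ))) hg
  rw [map_sum, map_zero, Finset.sum_eq_single i] at h
  · rw [map_smul, ← Module.End.mul_apply, ← pow_add, show d - 1 - (i : ℕ) + i = d - 1 by omega,
      smul_eq_zero] at h
    exact h1 (h.resolve_left (Finset.mem_filter.1 hi).2)
  · intro j _ hj
    by_cases hgj : g j = 0
    · rw [hgj, zero_smul, map_zero]
    have : (i : ℕ) ≤ j := hmin j (by simp [hgj])
    have hne' : (i : ℕ) ≠ j := fun e => hj (Fin.ext e.symm)
    rw [map_smul, ← Module.End.mul_apply, ← pow_add, hz _ (by omega), smul_zero]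
  · simp

/-- A single chain spans. -/
theorem spans_singleton [Module.Finite F V] {κ : Type*} (T : Module.End F V) (d : κ → ℕ) (k : κ)
    (v : V) (hdim : finrank F V = d k) (h0 : ((T - 1) ^ d k) v = 0)
    (h1 : ((T - 1) ^ (d k - 1)) v ≠ 0) : Spans T d {k} (fun _ => v) := by
  refine ⟨fun k' hk' => by rw [Finset.mem_singleton.1 hk']; exact h0, ?_⟩
  have hl := (chain_li (T - 1) v (d k) h0 h1).span_eq_top_of_card_eq_finrank' (by simp [hdim])
  rw [← hl]
  exact Submodule.span_mono (by rintro _ ⟨i, rfl⟩; exact ⟨k, by simp, i, i.2, rfl⟩)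

theorem pow_prodMap {W : Type*} [AddCommGroup W] [Module F W] (f : Module.End F V)
    (g : Module.End F W) (n : ℕ) : (LinearMap.prodMap f g) ^ n = LinearMap.prodMap (f ^ n) (g ^ n) := by
  induction n with
  | zero => rfl
  | succ n ih => rw [pow_succ, ih, pow_succ, pow_succ]; rfl

/-- Direct sums of spanning chains. -/
theorem spans_prod {W : Type*} [AddCommGroup W] [Module F W] {κ : Type*} [DecidableEq κ]
    {T : Module.End F V} {U : Module.End F W} {d : κ → ℕ} {S S' : Finset κ} (hd : Disjoint S S')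
    {v : κ → V} {w : κ → W} (hv : Spans T d S v) (hw : Spans U d S' w) :
    Spans (LinearMap.prodMap T U) d (S ∪ S')
      (fun k => if k ∈ S then (v k, 0) else (0, w k)) := by
  have e : LinearMap.prodMap T U - 1 = LinearMap.prodMap (T - 1) (U - 1) := by
    refine LinearMap.ext fun x => Prod.ext ?_ ?_ <;> simp [LinearMap.prodMap_apply]
  refine ⟨fun k hk => ?_, ?_⟩
  · rw [e, pow_prodMap]
    by_cases h : k ∈ S
    · simp [h, hv.1 k h]
    · simp [h, hw.1 k ((Finset.mem_union.1 hk).resolve_left h)]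
  · rintro ⟨x, y⟩ -
    rw [show ((x, y) : V × W) = (x, 0) + (0, y) by simp]
    refine add_mem ?_ ?_
    · have hx := Submodule.mem_map_of_mem (f := LinearMap.inl F V W) (hv.2 (Submodule.mem_top (x := x)))
      rw [Submodule.map_span] at hx
      refine Submodule.span_mono ?_ hx
      rintro _ ⟨_, ⟨k, hk, i, hi, rfl⟩, rfl⟩
      exact ⟨k, Finset.mem_union_left _ hk, i, hi, by rw [e, pow_prodMap]; simp [hk]⟩
    · have hy := Submodule.mem_map_of_mem (f := LinearMap.inr F V W) (hw.2 (Submodule.mem_top (x := y)))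
      rw [Submodule.map_span] at hy
      refine Submodule.span_mono ?_ hy
      rintro _ ⟨_, ⟨k, hk, i, hi, rfl⟩, rfl⟩
      exact ⟨k, Finset.mem_union_right _ hk, i, hi, by
        rw [e, pow_prodMap]; simp [Finset.disjoint_right.1 hd hk]⟩

/-- Spanning chains of the right total length form a chain basis. -/
theorem exists_chainBasis [Module.Finite F V] {t : ℕ} {T : Module.End F V} {d : Fin t → ℕ}
    {v : Fin t → V} (hv : Spans T d Finset.univ v) (hdim : finrank F V = ∑ k, d k) :
    ∃ b, IsChainBasis T d b := by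
  let f : (k : Fin t) × Fin (d k) → V := fun x => ((T - 1) ^ (x.2 : ℕ)) (v x.1)
  have hspan : ⊤ ≤ Submodule.span F (Set.range f) := hv.2.trans (Submodule.span_mono (by
    rintro _ ⟨k, -, i, hi, rfl⟩; exact ⟨⟨k, ⟨i, hi⟩⟩, rfl⟩))
  refine ⟨basisOfTopLeSpanOfCardEqFinrank f hspan (by simp [hdim]), fun k i => ?_⟩
  simp only [coe_basisOfTopLeSpanOfCardEqFinrank, f]
  rw [← Module.End.mul_apply, ← pow_succ']
  split_ifs with h
  · rfl
  · rw [show (i : ℕ) + 1 = d k by omega]
    exact hv.1 k (Finset.mem_univ k)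

/-- Powers along a chain basis. -/
theorem pow_chain {t : ℕ} {T : Module.End F V} {d : Fin t → ℕ}
    {b : Module.Basis ((k : Fin t) × Fin (d k)) F V} (hb : IsChainBasis T d b) (m : ℕ) :
    ∀ k (i : Fin (d k)), ((T - 1) ^ m) (b ⟨k, i⟩) =
      if h : (i : ℕ) + m < d k then b ⟨k, ⟨i + m, h⟩⟩ else 0 := by
  induction m with
  | zero => intro k i; simp
  | succ m ih =>
    intro k i
    rw [pow_succ', Module.End.mul_apply, ih]
    by_cases h : (i : ℕ) + m < d k
    · rw [dif_pos h, hb]
      rfl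
    · rw [dif_neg h, map_zero, dif_neg (by omega)]

/-- Ranks of the powers along a chain basis. -/
theorem finrank_range_pow {t : ℕ} {T : Module.End F V} {d : Fin t → ℕ}
    {b : Module.Basis ((k : Fin t) × Fin (d k)) F V} (hb : IsChainBasis T d b) (m : ℕ) :
    finrank F (LinearMap.range ((T - 1) ^ m)) = ∑ k, (d k - m) := by
  classical
  let sh : (k : Fin t) × Fin (d k - m) → (k : Fin t) × Fin (d k) :=
    fun x => ⟨x.1, ⟨x.2 + m, by omega⟩⟩
  have hinj : Function.Injective sh := by
    rintro ⟨k, i⟩ ⟨l, j⟩ h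
    simp only [sh, Sigma.mk.injEq] at h
    obtain ⟨rfl, h⟩ := h
    simp [Fin.ext_iff] at h
    simp [Fin.ext_iff, h]
  have hr : LinearMap.range ((T - 1) ^ m) = Submodule.span F (Set.range (b ∘ sh)) := by
    rw [LinearMap.range_eq_map, ← b.span_eq, Submodule.map_span]
    refine le_antisymm (Submodule.span_le.2 ?_) (Submodule.span_le.2 ?_)
    · rintro _ ⟨_, ⟨⟨k, i⟩, rfl⟩, rfl⟩
      rw [pow_chain hb]
      split_ifs with h
      · exact Submodule.subset_span ⟨⟨k, ⟨i, by omega⟩⟩, rfl⟩
      · exact zero_mem _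
    · rintro _ ⟨⟨k, i⟩, rfl⟩
      refine Submodule.subset_span ⟨b ⟨k, ⟨i, by omega⟩⟩, ⟨_, rfl⟩, ?_⟩
      rw [pow_chain hb, dif_pos (show ((i : ℕ) + m) < d k by omega)]
      rfl
  rw [hr, finrank_span_eq_card (b.linearIndependent.comp sh hinj)]
  simp

/-- A matrix is similar to the Jordan matrix exactly when it has a chain basis. -/
theorem isConj_iff_chainBasis {ι : Type*} [Fintype ι] [DecidableEq ι] {t : ℕ} (d : Fin t → ℕ)
    (M : Matrix ι ι F) :
    (∃ e : ((k : Fin t) × Fin (d k)) ≃ ι, IsConj (Matrix.reindex e e (Cfsg.jordanTypeMatrix d F)) M) ↔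
      ∃ b, IsChainBasis (Matrix.toLin' M) d b := by
  classical
  have hcol : ∀ (k : Fin t) (i : Fin (d k)),
      (fun x => Cfsg.jordanTypeMatrix d F x ⟨k, i⟩) =
        Pi.single ⟨k, i⟩ 1 + if h : (i : ℕ) + 1 < d k then Pi.single ⟨k, ⟨i + 1, h⟩⟩ 1 else 0 := by
    intro k i
    funext ⟨l, j⟩
    rw [Cfsg.jordanTypeMatrix, Matrix.blockDiagonal'_apply, Pi.add_apply]
    by_cases hlk : l = k
    · subst hlk
      rw [dif_pos rfl]
      simp only [Cfsg.jordanBlock, Matrix.of_apply, cast_eq]
      rcases eq_or_ne (j : ℕ) i with hji | hji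
      · obtain rfl : j = i := Fin.ext hji
        rw [if_pos rfl, Pi.single_eq_same]
        split_ifs with h
        · rw [Pi.single_eq_of_ne (by simp [Fin.ext_iff]), add_zero]
        · simp
      · rw [if_neg hji, Pi.single_eq_of_ne (by simp [Fin.ext_iff, hji]), zero_add]
        split_ifs with h1 h2 h3
        · rw [show (⟨(i : ℕ) + 1, h2⟩ : Fin (d l)) = j from Fin.ext h1.symm, Pi.single_eq_same]
        · exfalso; omega
        · rw [Pi.single_eq_of_ne (by simp [Fin.ext_iff, h1])]
        · rfl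
    · rw [dif_neg hlk, Pi.single_eq_of_ne (by simp [hlk]), zero_add]
      split_ifs with h
      · rw [Pi.single_eq_of_ne (by simp [hlk])]
      · rfl
  constructor
  · rintro ⟨e, c, hc⟩
    refine ⟨((Pi.basisFun F ι).reindex e.symm).map
      (LinearMap.GeneralLinearGroup.generalLinearEquiv F (ι → F)
        (Units.map (Matrix.toLinAlgEquiv' : Matrix ι ι F ≃ₐ[F] _).toMonoidHom c)), ?_⟩
    intro k i
    have hb : ∀ x, (((Pi.basisFun F ι).reindex e.symm).map
      (LinearMap.GeneralLinearGroup.generalLinearEquiv F (ι → F)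
        (Units.map (Matrix.toLinAlgEquiv' : Matrix ι ι F ≃ₐ[F] _).toMonoidHom c))) x =
        (c : Matrix ι ι F).mulVec (Pi.single (e x) 1) := fun x => by simp
    rw [LinearMap.sub_apply, Module.End.one_apply, hb, Matrix.toLin'_apply, Matrix.mulVec_mulVec]
    have hc' : M * (c : Matrix ι ι F) =
        (c : Matrix ι ι F) * Matrix.reindex e e (Cfsg.jordanTypeMatrix d F) := hc.symm
    rw [hc', ← Matrix.mulVec_mulVec, ← Matrix.mulVec_sub]
    have h1 : Matrix.reindex e e (Cfsg.jordanTypeMatrix d F) *ᵥ Pi.single (e ⟨k, i⟩) 1 -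
        Pi.single (e ⟨k, i⟩) 1 =
        if h : (i : ℕ) + 1 < d k then Pi.single (e ⟨k, ⟨i + 1, h⟩⟩) 1 else 0 := by
      funext z
      obtain ⟨x, rfl⟩ := e.surjective z
      rw [Matrix.mulVec_single_one, Pi.sub_apply]
      have hx := congrFun (hcol k i) x
      simp only [Matrix.col_apply, Matrix.reindex_apply, Matrix.submatrix_apply, Equiv.symm_apply_apply]
      rw [hx, Pi.add_apply]
      have hs : ∀ y, (Pi.single (e y) (1 : F) : ι → F) (e x) = (Pi.single y (1 : F) : _ → F) x := by
        intro y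
        simp [Pi.single_apply, e.injective.eq_iff]
      rw [hs, add_sub_cancel_left]
      split_ifs with h
      · rw [hs]
      · rfl
    rw [h1]
    split_ifs with h
    · rw [hb]
    · rw [Matrix.mulVec_zero]
  · rintro ⟨b, hb⟩
    let e : ((k : Fin t) × Fin (d k)) ≃ ι := b.indexEquiv (Pi.basisFun F ι)
    let P : Matrix ι ι F := Matrix.of fun r j => b (e.symm j) r
    have hP : IsUnit P := by
      rw [Matrix.isUnit_iff_isUnit_det]
      have : P = (Pi.basisFun F ι).toMatrix (b.reindex e) := by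
        ext r j; simp [P, Module.Basis.toMatrix_apply]
      rw [this]
      exact Matrix.isUnit_det_of_left_inverse (Module.Basis.toMatrix_mul_toMatrix_flip (b.reindex e) (Pi.basisFun F ι))
    refine ⟨e, hP.unit, ?_⟩
    show P * Matrix.reindex e e (Cfsg.jordanTypeMatrix d F) = M * P
    refine Matrix.ext fun r j => ?_
    obtain ⟨⟨k, i⟩, rfl⟩ := e.surjective j
    have hMP : (M * P) r (e ⟨k, i⟩) = (M *ᵥ b ⟨k, i⟩) r := by
      simp [Matrix.mul_apply, Matrix.mulVec, dotProduct, P]
    have hM : M *ᵥ b ⟨k, i⟩ =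
        b ⟨k, i⟩ + if h : (i : ℕ) + 1 < d k then b ⟨k, ⟨i + 1, h⟩⟩ else 0 := by
      rw [← hb k i]
      simp
    rw [hMP, hM, Matrix.mul_apply, ← e.sum_comp]
    simp only [P, Matrix.of_apply, Matrix.reindex_apply, Matrix.submatrix_apply,
      Equiv.symm_apply_apply]
    simp only [fun x => congrFun (hcol k i) x, Pi.add_apply, mul_add, Finset.sum_add_distrib]
    congr 1
    · simp [Pi.single_apply]
    · split_ifs with h <;> simp [Pi.single_apply]

end Cfsg.Agent.Lib.Similar.JordanChains
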