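import Mathlib
import Cfsg.Agent.S2581
import Cfsg.Agent.Lib.Similar.Unitary
import Cfsg.Agent.Lib.Similar.UnitaryExists
import Cfsg.Agent.Lib.Classical.HermCard

/-!
Matrices commuting with a unipotent matrix and preserving an invariant Hermitian form.
-/

set_option autoImplicit false

namespace Cfsg.Agent.Lib.Similar.UnipU

open Matrix
open Cfsg.Agent.S2581 (Coord IsLead toMat toMat_comm toMat_injective exists_toMat nil jordan_eq det_toMat_ne_zero_iff)

variable {K : Type*} [Field K]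

/-- The conjugate transpose along a ring endomorphism. -/
def adjI {ι κ : Type*} (σ : K →+* K) (A : Matrix ι κ K) : Matrix κ ι K := (A.map σ)ᵀ

section Adj

variable {ι : Type*} [Fintype ι] [DecidableEq ι] {σ : K →+* K}

theorem adjI_mul (A B : Matrix ι ι K) : adjI σ (A * B) = adjI σ B * adjI σ A := by
  rw [adjI, Matrix.map_mul, transpose_mul]; rfl

omit [Fintype ι] in
theorem adjI_one : adjI σ (1 : Matrix ι ι K) = 1 := by
  rw [adjI, Matrix.map_one _ σ.map_zero σ.map_one, transpose_one]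

omit [Fintype ι] [DecidableEq ι] in
theorem adjI_adjI (hσ : ∀ x, σ (σ x) = x) (A : Matrix ι ι K) : adjI σ (adjI σ A) = A := by
  ext i j; simp [adjI, hσ]

omit [Fintype ι] [DecidableEq ι] in
theorem adjI_add (A B : Matrix ι ι K) : adjI σ (A + B) = adjI σ A + adjI σ B := by
  ext i j; simp [adjI]

omit [Fintype ι] [DecidableEq ι] in
theorem adjI_smul (c : K) (A : Matrix ι ι K) : adjI σ (c • A) = σ c • adjI σ A := by
  ext i j; simp [adjI]

omit [Fintype ι] [DecidableEq ι] in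
theorem adjI_apply (A : Matrix ι ι K) (i j : ι) : adjI σ A i j = σ (A j i) := rfl

end Adj

set_option linter.unusedSectionVars false

variable [Fintype K] {t : ℕ} (d : Fin t → ℕ)

/-- The index set of the blocks. -/
abbrev Idx : Type := (k : Fin t) × Fin (d k)

/-- An invertible Hermitian form invariant under the Jordan matrix. -/
structure Form (σ : K →+* K) where
  H : Matrix (Idx d) (Idx d) K
  Hi : Matrix (Idx d) (Idx d) K
  hd : ∀ k, 1 ≤ d k
  hσ : ∀ x, σ (σ x) = x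
  hne : σ ≠ RingHom.id K
  herm : adjI σ H = H
  mul_inv : H * Hi = 1
  inv_mul : Hi * H = 1
  inv : adjI σ (Cfsg.jordanTypeMatrix d K) * H * Cfsg.jordanTypeMatrix d K = H

variable {d} {σ : K →+* K} (F : Form d σ)

/-- The entries of the form, extended by zero. -/
def ent (k l : Fin t) (i j : ℕ) : K :=
  if h : i < d k ∧ j < d l then F.H ⟨k, ⟨i, h.1⟩⟩ ⟨l, ⟨j, h.2⟩⟩ else 0

theorem ent_eq (x y : Idx d) : F.H x y = ent F x.1 y.1 x.2 y.2 := by
  rw [ent, dif_pos ⟨x.2.2, y.2.2⟩]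

theorem ent_of_left {k l : Fin t} {i j : ℕ} (h : d k ≤ i) : ent F k l i j = 0 :=
  dif_neg fun e => by omega

theorem ent_of_right {k l : Fin t} {i j : ℕ} (h : d l ≤ j) : ent F k l i j = 0 :=
  dif_neg fun e => by omega

theorem mul_nil_ent (k l : Fin t) (i j : ℕ) (hi : i < d k) (hj : j < d l) :
    (F.H * nil K d) ⟨k, ⟨i, hi⟩⟩ ⟨l, ⟨j, hj⟩⟩ = ent F k l i (j + 1) := by
  rcases Nat.lt_or_ge (j + 1) (d l) with h | h
  · rw [S2581.mul_nil_succ F.H _ h, ent, dif_pos ⟨hi, h⟩]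
  · rw [S2581.mul_nil_last _ (by simp; omega), ent_of_right F h]

theorem nilT_mul (A : Matrix (Idx d) (Idx d) K) (k l : Fin t) (i j : ℕ) (hi : i < d k) (hj : j < d l) :
    (adjI σ (nil K d) * A) ⟨k, ⟨i, hi⟩⟩ ⟨l, ⟨j, hj⟩⟩ =
      if h : i + 1 < d k then A ⟨k, ⟨i + 1, h⟩⟩ ⟨l, ⟨j, hj⟩⟩ else 0 := by
  rw [mul_apply]
  split_ifs with h
  · rw [Finset.sum_eq_single ⟨k, ⟨i + 1, h⟩⟩]
    · rw [adjI_apply, nil, of_apply, if_pos ⟨rfl, rfl⟩, map_one, one_mul]
    · rintro ⟨k', i'⟩ _ hne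
      rw [adjI_apply, nil, of_apply, if_neg ?_, map_zero, zero_mul]
      rintro ⟨h1, h2⟩
      simp only at h1 h2
      subst h1
      exact hne (by congr 1; exact Fin.ext h2)
    · simp
  · refine Finset.sum_eq_zero fun z _ => ?_
    rw [adjI_apply, nil, of_apply, if_neg ?_, map_zero, zero_mul]
    rintro ⟨h1, h2⟩
    simp only at h1 h2
    have h3 : (z.2 : ℕ) < d k := h1 ▸ z.2.2
    omega

theorem ent_rec (k l : Fin t) (i j : ℕ) :
    ent F k l (i + 1) j + ent F k l i (j + 1) + ent F k l (i + 1) (j + 1) = 0 := by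
  rcases Nat.lt_or_ge i (d k) with hi | hi
  swap
  · rw [ent_of_left F hi, ent_of_left F (by omega), ent_of_left F (by omega)]; simp
  rcases Nat.lt_or_ge j (d l) with hj | hj
  swap
  · rw [ent_of_right F hj, ent_of_right F (by omega), ent_of_right F (by omega)]; simp
  have h := F.inv
  rw [jordan_eq, show (Matrix.of fun x y : Idx d => if x.1 = y.1 ∧ (x.2 : ℕ) = y.2 + 1 then (1 : K) else 0) = nil K d from rfl,
    adjI_add, adjI_one, add_mul, one_mul, mul_add, mul_one, add_mul, add_assoc, add_eq_left, mul_assoc] at h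
  have e := congrFun (congrFun h ⟨k, ⟨i, hi⟩⟩) ⟨l, ⟨j, hj⟩⟩
  rw [Matrix.zero_apply, Matrix.add_apply, Matrix.add_apply, mul_nil_ent, nilT_mul, nilT_mul] at e
  split_ifs at e with h1
  · rw [ent_eq, mul_nil_ent] at e
    linear_combination e
  · rw [ent_of_left F (k := k) (i := i + 1) (by omega), ent_of_left F (k := k) (i := i + 1) (by omega)]
    linear_combination e

theorem ent_zero_left (k l : Fin t) : ∀ j i, d k ≤ i + j → ent F k l i j = 0 := by
  intro j
  induction j with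
  | zero => intro i h; exact ent_of_left F (by omega)
  | succ j ih =>
    suffices ∀ m i, d k ≤ i + m → d k ≤ i + (j + 1) → ent F k l i (j + 1) = 0 from
      fun i h => this (j + 1) i h h
    intro m
    induction m with
    | zero => intro i h _; exact ent_of_left F (by omega)
    | succ m ihm =>
      intro i h h'
      have e := ent_rec F k l i j
      rw [ih (i + 1) (by omega), ihm (i + 1) (by omega) (by omega)] at e
      simpa using e

theorem ent_conj (k l : Fin t) (i j : ℕ) : σ (ent F l k j i) = ent F k l i j := by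
  rw [ent, ent]
  by_cases h : i < d k ∧ j < d l
  · rw [dif_pos h, dif_pos ⟨h.2, h.1⟩, ← adjI_apply, F.herm]
  · rw [dif_neg h, dif_neg (fun e => h ⟨e.2, e.1⟩), map_zero]

theorem ent_zero_right (k l : Fin t) (i j : ℕ) (h : d l ≤ i + j) : ent F k l i j = 0 := by
  rw [← ent_conj, ent_zero_left F l k i j (by omega), map_zero]

theorem ent_alt (k l : Fin t) : ∀ i, i < d k → ent F k l i (d k - 1 - i) = (-1) ^ i * ent F k l 0 (d k - 1) := by
  intro i
  induction i with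
  | zero => intro _; simp
  | succ i ih =>
    intro h
    have e := ent_rec F k l i (d k - 1 - (i + 1))
    rw [ent_zero_left F k l (d k - 1 - (i + 1) + 1) (i + 1) (by omega), add_zero,
      show d k - 1 - (i + 1) + 1 = d k - 1 - i by omega, ih (by omega)] at e
    rw [eq_neg_of_add_eq_zero_left e, pow_succ]
    ring

/-- The form on the leading coefficients for blocks of size `D`. -/
def hlead (D : ℕ) : Matrix {k // d k = D} {k // d k = D} K :=
  Matrix.of fun k l => ent F k.1 l.1 (D - 1) 0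

theorem adjI_hlead (D : ℕ) : adjI σ (hlead F D) = (-1 : K) ^ (D - 1) • hlead F D := by
  ext ⟨k, hk⟩ ⟨l, hl⟩
  rw [adjI_apply, Matrix.smul_apply, smul_eq_mul]
  show σ (ent F l k (D - 1) 0) = _ * ent F k l (D - 1) 0
  have h := ent_alt F k l (D - 1) (by have := F.hd k; omega)
  rw [hk, Nat.sub_self] at h
  rw [ent_conj, h, ← mul_assoc, ← mul_pow, neg_one_mul, neg_neg, one_pow, one_mul]

theorem det_hlead (D : ℕ) : (hlead F D).det ≠ 0 := by
  classical
  by_cases hne : ∃ k, d k = D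
  swap
  · haveI : IsEmpty {k // d k = D} := ⟨fun k => hne ⟨k.1, k.2⟩⟩
    rw [det_isEmpty]; exact one_ne_zero
  obtain ⟨k0, rfl⟩ := hne
  obtain ⟨M, hM⟩ : ∃ M, ∀ k, d k ≤ M := ⟨Finset.univ.sup d, fun k => Finset.le_sup (Finset.mem_univ k)⟩
  let flip : Idx d ≃ Idx d := Equiv.sigmaCongrRight fun k => Fin.revPerm
  let b : Idx d → ℕ := fun x => (x.2 : ℕ) * (M + 1) + (M - d x.1)
  have hb : ∀ x y, b x = b y → (x.2 : ℕ) = y.2 ∧ d x.1 = d y.1 := by
    intro x y e
    have h1 := congrArg (· % (M + 1)) e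
    have h2 := hM x.1; have h3 := hM y.1
    simp only [b, Nat.mul_add_mod_self_right] at h1
    rw [Nat.mod_eq_of_lt (by omega), Nat.mod_eq_of_lt (by omega)] at h1
    refine ⟨Nat.eq_of_mul_eq_mul_right (show 0 < M + 1 by omega) ?_, by omega⟩
    simp only [b, h1] at e
    omega
  have hT : ∀ x y, (F.H.submatrix flip id) x y = ent F x.1 y.1 (d x.1 - ((x.2 : ℕ) + 1)) y.2 := by
    intro x y
    rw [submatrix_apply, ent_eq]
    show ent F x.1 y.1 (Fin.rev x.2 : ℕ) y.2 = _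
    rw [Fin.val_rev]
  have htri : BlockTriangular (F.H.submatrix flip id)ᵀ b := by
    intro y x hxy
    rw [transpose_apply, hT]
    have hx := x.2.2
    rcases Nat.lt_or_ge (x.2 : ℕ) y.2 with hlt | hge
    · exact ent_zero_left F _ _ _ _ (by omega)
    · refine ent_zero_right F _ _ _ _ ?_
      by_contra hc
      rcases Nat.lt_or_ge (y.2 : ℕ) x.2 with hlt | hge'
      · have := Nat.mul_le_mul_right (M + 1) hlt
        rw [Nat.succ_mul] at this
        simp only [b] at hxy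
        omega
      · have he : (x.2 : ℕ) = y.2 := by omega
        simp only [b, he] at hxy
        omega
  have hdet : (F.H.submatrix flip id)ᵀ.det ≠ 0 := by
    rw [det_transpose, det_permute]
    refine mul_ne_zero ?_ fun h => ?_
    · rcases Int.units_eq_one_or (Equiv.Perm.sign flip) with e | e <;> simp [e]
    · have := congrArg det F.mul_inv
      rw [det_mul, det_one, h, zero_mul] at this
      exact zero_ne_one this
  rw [htri.det, Finset.prod_ne_zero_iff] at hdet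
  have h := hdet _ (Finset.mem_image_of_mem b (Finset.mem_univ (⟨k0, ⟨0, F.hd k0⟩⟩ : Idx d)))
  let e : {k // d k = d k0} ≃ {x // b x = b ⟨k0, ⟨0, F.hd k0⟩⟩} :=
    { toFun := fun k => ⟨⟨k.1, ⟨0, F.hd _⟩⟩, by simp [b, k.2]⟩
      invFun := fun x => ⟨x.1.1, (hb _ _ x.2).2⟩
      left_inv := fun k => rfl
      right_inv := fun x => Subtype.ext (by
        obtain ⟨⟨k, i⟩, hx⟩ := x
        exact congrArg (Sigma.mk k) (Fin.ext (hb _ _ hx).1.symm)) }
  rw [← det_submatrix_equiv_self e, ← det_transpose] at h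
  have he : (((F.H.submatrix flip id)ᵀ.toSquareBlock b (b ⟨k0, ⟨0, F.hd k0⟩⟩)).submatrix e e)ᵀ = hlead F (d k0) := by
    ext k l
    show (F.H.submatrix flip id) ⟨k.1, ⟨0, F.hd _⟩⟩ ⟨l.1, ⟨0, F.hd _⟩⟩ = _
    rw [hT]
    show ent F k.1 l.1 (d k.1 - (0 + 1)) 0 = ent F k.1 l.1 (d k0 - 1) 0
    rw [k.2]
  rw [he] at h
  exact h

/-- The matrices commuting with the nilpotent part. -/
def Comm (A : Matrix (Idx d) (Idx d) K) : Prop := nil K d * A = A * nil K d

/-- The leading coefficients. -/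
def ld (hd : ∀ k, 1 ≤ d k) (D : ℕ) (A : Matrix (Idx d) (Idx d) K) : Matrix {k // d k = D} {k // d k = D} K :=
  Matrix.of fun k l => A ⟨k.1, ⟨0, hd _⟩⟩ ⟨l.1, ⟨0, hd _⟩⟩

theorem comm_mul {A B : Matrix (Idx d) (Idx d) K} (hA : Comm A) (hB : Comm B) : Comm (A * B) := by
  rw [Comm] at *
  rw [← mul_assoc, hA, mul_assoc, hB, mul_assoc]

theorem comm_one : Comm (1 : Matrix (Idx d) (Idx d) K) := by rw [Comm, mul_one, one_mul]

theorem comm_add {A B : Matrix (Idx d) (Idx d) K} (hA : Comm A) (hB : Comm B) : Comm (A + B) := by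
  rw [Comm] at *
  rw [mul_add, add_mul, hA, hB]

theorem comm_smul (c : K) {A : Matrix (Idx d) (Idx d) K} (hA : Comm A) : Comm (c • A) := by
  rw [Comm] at *
  rw [mul_smul_comm, smul_mul_assoc, hA]

theorem comm_neg {A : Matrix (Idx d) (Idx d) K} (hA : Comm A) : Comm (-A) := by
  rw [Comm] at *
  rw [mul_neg, neg_mul, hA]

theorem comm_inv {A B : Matrix (Idx d) (Idx d) K} (hA : Comm A) (h : A * B = 1) (h' : B * A = 1) : Comm B := by
  rw [Comm] at *
  calc nil K d * B = B * A * nil K d * B := by rw [h', one_mul]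
    _ = B * (nil K d * A) * B := by rw [hA, mul_assoc B]
    _ = B * nil K d * (A * B) := by simp only [mul_assoc]
    _ = B * nil K d := by rw [h, mul_one]

theorem supp (hd : ∀ k, 1 ≤ d k) {A : Matrix (Idx d) (Idx d) K} (hA : Comm A) {x y : Idx d}
    (h : A x y ≠ 0) : (y.2 : ℕ) ≤ x.2 ∧ d x.1 ≤ (x.2 : ℕ) - y.2 + d y.1 := by
  obtain ⟨f, rfl⟩ := exists_toMat hd hA
  by_contra hc
  exact h (by rw [toMat, of_apply, dif_neg hc])

theorem diag_shift (hd : ∀ k, 1 ≤ d k) {A : Matrix (Idx d) (Idx d) K} (hA : Comm A) {k l : Fin t}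
    {i : ℕ} (hi : i < d k) (hi' : i < d l) :
    A ⟨k, ⟨i, hi⟩⟩ ⟨l, ⟨i, hi'⟩⟩ = A ⟨k, ⟨0, hd k⟩⟩ ⟨l, ⟨0, hd l⟩⟩ := by
  obtain ⟨f, rfl⟩ := exists_toMat hd hA
  simp only [toMat, of_apply, le_refl, Nat.sub_self, zero_le, true_and]

theorem ld_one (hd : ∀ k, 1 ≤ d k) (D : ℕ) : ld hd D (1 : Matrix (Idx d) (Idx d) K) = 1 := by
  ext k l
  rw [ld, of_apply, one_apply, one_apply]
  by_cases h : k = l
  · subst h; simp
  · rw [if_neg h, if_neg]
    intro e
    exact h (Subtype.ext (Sigma.mk.inj_iff.1 e).1)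

theorem ld_mul (hd : ∀ k, 1 ≤ d k) (D : ℕ) {A B : Matrix (Idx d) (Idx d) K} (hA : Comm A) (hB : Comm B) :
    ld hd D (A * B) = ld hd D A * ld hd D B := by
  ext ⟨k, hk⟩ ⟨l, hl⟩
  simp only [ld, of_apply, mul_apply]
  refine (Fintype.sum_of_injective (fun z : {k // d k = D} => (⟨z.1, ⟨0, hd _⟩⟩ : Idx d))
    (fun a b e => Subtype.ext (Sigma.mk.inj_iff.1 e).1) _ _ (fun z hz => ?_) (fun z => rfl)).symm
  by_contra hne
  obtain ⟨h1, h2⟩ := supp hd hA (left_ne_zero_of_mul hne)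
  obtain ⟨h3, h4⟩ := supp hd hB (right_ne_zero_of_mul hne)
  obtain ⟨z, i⟩ := z
  simp only at h1 h2 h3 h4
  refine hz ⟨⟨z, by omega⟩, ?_⟩
  exact congrArg (Sigma.mk z) (Fin.ext (by simp; omega))

/-- The adjoint for the form. -/
def tau (A : Matrix (Idx d) (Idx d) K) : Matrix (Idx d) (Idx d) K := F.Hi * adjI σ A * F.H

theorem tau_mul (A B : Matrix (Idx d) (Idx d) K) : tau F (A * B) = tau F B * tau F A := by
  calc tau F (A * B) = F.Hi * adjI σ B * (F.H * F.Hi) * adjI σ A * F.H := by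
        rw [F.mul_inv, mul_one, tau, adjI_mul]; simp only [mul_assoc]
    _ = _ := by simp only [tau, mul_assoc]

theorem tau_one : tau F 1 = 1 := by rw [tau, adjI_one, mul_one, F.inv_mul]

theorem tau_add (A B : Matrix (Idx d) (Idx d) K) : tau F (A + B) = tau F A + tau F B := by
  rw [tau, tau, tau, adjI_add, mul_add, add_mul]

theorem tau_smul (c : K) (A : Matrix (Idx d) (Idx d) K) : tau F (c • A) = σ c • tau F A := by
  rw [tau, tau, adjI_smul, mul_smul_comm, smul_mul_assoc]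

theorem tau_tau (A : Matrix (Idx d) (Idx d) K) : tau F (tau F A) = A := by
  have h : adjI σ F.Hi = F.Hi := by
    calc adjI σ F.Hi = adjI σ F.Hi * (F.H * F.Hi) := by rw [F.mul_inv, mul_one]
      _ = adjI σ F.Hi * adjI σ F.H * F.Hi := by rw [F.herm, mul_assoc]
      _ = F.Hi := by rw [← adjI_mul, F.mul_inv, adjI_one, one_mul]
  rw [tau, tau, adjI_mul, adjI_mul, adjI_adjI F.hσ, F.herm, h]
  calc F.Hi * (F.H * (A * F.Hi)) * F.H = (F.Hi * F.H) * A * (F.Hi * F.H) := by simp only [mul_assoc]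
    _ = A := by rw [F.inv_mul, one_mul, mul_one]

theorem comm_iff (A : Matrix (Idx d) (Idx d) K) :
    Comm A ↔ Cfsg.jordanTypeMatrix d K * A = A * Cfsg.jordanTypeMatrix d K := by
  rw [Comm, jordan_eq, add_mul, mul_add, one_mul, mul_one, add_right_inj]
  rfl

theorem comm_tau {A : Matrix (Idx d) (Idx d) K} (hA : Comm A) : Comm (tau F A) := by
  rw [comm_iff] at *
  obtain ⟨J, hJ⟩ : ∃ J, J = Cfsg.jordanTypeMatrix d K := ⟨_, rfl⟩
  rw [← hJ] at hA ⊢
  have h1 : tau F J * J = 1 := by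
    rw [tau, mul_assoc, mul_assoc, ← mul_assoc (adjI σ J), hJ, F.inv, F.inv_mul]
  have h2 : J * tau F J = 1 := mul_eq_one_comm.1 h1
  have h3 : tau F A * tau F J = tau F J * tau F A := by rw [← tau_mul, ← tau_mul, hA]
  calc J * tau F A = J * (tau F A * tau F J) * J := by
        rw [mul_assoc J, mul_assoc (tau F A), h1, mul_one]
    _ = (J * tau F J) * tau F A * J := by rw [h3]; simp only [mul_assoc]
    _ = tau F A * J := by rw [h2, one_mul]

theorem ld_tau (D : ℕ) {A : Matrix (Idx d) (Idx d) K} (hA : Comm A) :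
    hlead F D * ld F.hd D (tau F A) = adjI σ (ld F.hd D A) * hlead F D := by
  have hmat : F.H * tau F A = adjI σ A * F.H := by
    rw [tau, ← mul_assoc, ← mul_assoc, F.mul_inv, one_mul]
  ext ⟨k, hk⟩ ⟨l, hl⟩
  have hD : 1 ≤ D := hk ▸ F.hd k
  have e := congrFun (congrFun hmat ⟨k, ⟨D - 1, by omega⟩⟩) ⟨l, ⟨0, F.hd l⟩⟩
  simp only [mul_apply] at e ⊢
  refine Eq.trans ?_ (e.trans ?_)
  · refine Fintype.sum_of_injective (fun z : {k // d k = D} => (⟨z.1, ⟨0, F.hd _⟩⟩ : Idx d))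
      (fun a b e => Subtype.ext (Sigma.mk.inj_iff.1 e).1) _ _ (fun z hz => ?_) (fun z => ?_)
    · by_contra hne
      have h1 := left_ne_zero_of_mul hne
      obtain ⟨z, i⟩ := z
      rw [ent_eq] at h1
      obtain ⟨h3, h4⟩ := supp F.hd (comm_tau F hA) (right_ne_zero_of_mul hne)
      have h5 : ¬ d k ≤ D - 1 + i := fun h => h1 (ent_zero_left F _ _ _ _ h)
      have h6 : ¬ d z ≤ D - 1 + i := fun h => h1 (ent_zero_right F _ _ _ _ h)
      simp only at h3 h4
      refine hz ⟨⟨z, by omega⟩, ?_⟩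
      exact congrArg (Sigma.mk z) (Fin.ext (by simp; omega))
    · rw [ent_eq]; rfl
  · refine (Fintype.sum_of_injective
      (fun z : {k // d k = D} => (⟨z.1, ⟨D - 1, by have := z.2; omega⟩⟩ : Idx d))
      (fun a b e => Subtype.ext (Sigma.mk.inj_iff.1 e).1) _ _ (fun z hz => ?_) (fun z => ?_)).symm
    · by_contra hne
      have h1 := right_ne_zero_of_mul hne
      obtain ⟨z, i⟩ := z
      rw [ent_eq] at h1
      have h3 : A ⟨z, i⟩ ⟨k, ⟨D - 1, by omega⟩⟩ ≠ 0 := fun h => left_ne_zero_of_mul hne (by rw [adjI_apply, h, map_zero])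
      obtain ⟨h3, h4⟩ := supp F.hd hA h3
      have h5 : ¬ d l ≤ (i : ℕ) + 0 := fun h => h1 (ent_zero_right F _ _ _ _ h)
      have hi := i.2
      simp only at h3 h4
      refine hz ⟨⟨z, by omega⟩, ?_⟩
      exact congrArg (Sigma.mk z) (Fin.ext (by simp; omega))
    · rw [adjI_apply, adjI_apply, ent_eq, diag_shift F.hd hA]
      rfl

/-- A section of the leading coefficient map. -/
def sec [DecidableEq (Fin t)] (M : (D : ℕ) → Matrix {k // d k = D} {k // d k = D} K) : Matrix (Idx d) (Idx d) K :=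
  toMat fun p => if h : (p.1.2.2 : ℕ) = 0 ∧ d p.1.1 = d p.1.2.1 then
    M (d p.1.1) ⟨p.1.1, rfl⟩ ⟨p.1.2.1, h.2.symm⟩ else 0

theorem ld_toMat (hd : ∀ k, 1 ≤ d k) (f : Coord d → K) (D : ℕ) (k l : {k // d k = D}) :
    ld hd D (toMat f) k l = f ⟨⟨k.1, l.1, ⟨0, hd _⟩⟩, by have := k.2; have := l.2; simp; omega⟩ := by
  rw [ld, of_apply, toMat, of_apply, dif_pos ⟨le_rfl, by have := k.2; have := l.2; simp; omega⟩]
  simp

theorem ld_sec (hd : ∀ k, 1 ≤ d k) (M : (D : ℕ) → Matrix {k // d k = D} {k // d k = D} K) (D : ℕ) :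
    ld hd D (sec M) = M D := by
  ext ⟨k, hk⟩ ⟨l, hl⟩
  subst hk
  rw [sec, ld_toMat, dif_pos ⟨rfl, hl.symm⟩]

/-- The commutant modulo leading coefficients. -/
def J0 (A : Matrix (Idx d) (Idx d) K) : Prop := Comm A ∧ ∀ D, ld F.hd D A = 0

/-- Unipotent elements of the commutant. -/
def U1 (A : Matrix (Idx d) (Idx d) K) : Prop := Comm A ∧ ∀ D, ld F.hd D A = 1

theorem exists_inv {A : Matrix (Idx d) (Idx d) K} (hA : Comm A) (h : ∀ D, (ld F.hd D A).det ≠ 0) :
    ∃ B, A * B = 1 ∧ B * A = 1 ∧ Comm B := by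
  obtain ⟨f, rfl⟩ := exists_toMat F.hd hA
  have hdet : (toMat f).det ≠ 0 := by
    rw [det_toMat_ne_zero_iff F.hd]
    intro D hD
    convert h D using 2
    ext k l
    rw [ld_toMat]
    rfl
  have h1 := Matrix.mul_nonsing_inv (toMat f) (isUnit_iff_ne_zero.2 hdet)
  have h2 := Matrix.nonsing_inv_mul (toMat f) (isUnit_iff_ne_zero.2 hdet)
  exact ⟨_, h1, h2, comm_inv hA h1 h2⟩

theorem exists_inv_U1 {A : Matrix (Idx d) (Idx d) K} (hA : U1 F A) :
    ∃ B, A * B = 1 ∧ B * A = 1 ∧ U1 F B := by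
  obtain ⟨B, h1, h2, h3⟩ := exists_inv F hA.1 fun D => by rw [hA.2, det_one]; exact one_ne_zero
  refine ⟨B, h1, h2, h3, fun D => ?_⟩
  have := ld_mul F.hd D hA.1 h3
  rw [h1, ld_one, hA.2, one_mul] at this
  exact this.symm

theorem U1_mul {A B : Matrix (Idx d) (Idx d) K} (hA : U1 F A) (hB : U1 F B) : U1 F (A * B) :=
  ⟨comm_mul hA.1 hB.1, fun D => by rw [ld_mul F.hd D hA.1 hB.1, hA.2, hB.2, one_mul]⟩

theorem U1_tau {A : Matrix (Idx d) (Idx d) K} (hA : U1 F A) : U1 F (tau F A) := by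
  refine ⟨comm_tau F hA.1, fun D => ?_⟩
  have h := ld_tau F D hA.1
  rw [hA.2, adjI_one, one_mul] at h
  exact ((Matrix.isUnit_iff_isUnit_det _).2 (isUnit_iff_ne_zero.2 (det_hlead F D))).mul_left_cancel (h.trans (mul_one _).symm)

/-- Self-adjoint unipotent elements. -/
abbrev Sym1 : Type _ := {A : Matrix (Idx d) (Idx d) K // U1 F A ∧ tau F A = A}

/-- Unitary unipotent elements. -/
abbrev K1 : Type _ := {A : Matrix (Idx d) (Idx d) K // U1 F A ∧ tau F A * A = 1}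

theorem exists_norm (z : Sym1 F) : ∃ w, U1 F w ∧ tau F w * w = z.1 := by
  classical
  obtain ⟨z, ⟨hzc, hz1⟩, hzt⟩ := z
  rcases isEmpty_or_nonempty (Fin t) with hE | hne
  · exact ⟨z, ⟨hzc, hz1⟩, Matrix.ext fun i => isEmptyElim i.1⟩
  obtain ⟨k0⟩ := hne
  haveI : Nonempty {k // d k = d k0} := ⟨⟨k0, rfl⟩⟩
  obtain ⟨S, hS⟩ : ∃ S, S = Algebra.adjoin K ({z} : Set (Matrix (Idx d) (Idx d) K)) := ⟨_, rfl⟩
  have hzS : z ∈ S := by rw [hS]; exact Algebra.self_mem_adjoin_singleton K z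
  have hcommS : ∀ Y ∈ S, ∀ Z ∈ S, Y * Z = Z * Y := by
    intro Y hY Z hZ
    rw [hS, Algebra.adjoin_singleton_eq_range_aeval] at hY hZ
    obtain ⟨f, rfl⟩ := hY
    obtain ⟨g, rfl⟩ := hZ
    exact ((Commute.all f g).map (Polynomial.aeval z)).eq
  have talg : ∀ c : K, tau F (algebraMap K _ c) = algebraMap K _ (σ c) := fun c => by
    rw [Algebra.algebraMap_eq_smul_one, tau_smul, tau_one, ← Algebra.algebraMap_eq_smul_one]
  have key : ∀ Y ∈ S, tau F Y ∈ S ∧ Comm Y ∧ ∃ c : K, ∀ D, ld F.hd D Y = c • 1 := by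
    intro Y hY
    rw [hS] at hY
    refine Algebra.adjoin_induction (p := fun Y _ => tau F Y ∈ S ∧ Comm Y ∧ ∃ c : K, ∀ D, ld F.hd D Y = c • 1) ?_ ?_ ?_ ?_ hY
    · intro x hx
      rw [Set.mem_singleton_iff.1 hx, hzt]
      exact ⟨hzS, hzc, 1, fun D => by rw [hz1, one_smul]⟩
    · intro c
      rw [talg, Algebra.algebraMap_eq_smul_one (A := Matrix (Idx d) (Idx d) K) c]
      refine ⟨S.algebraMap_mem _, comm_smul c comm_one, c, fun D => ?_⟩
      rw [← ld_one (K := K) F.hd D]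
      ext i j; simp [ld]
    · rintro x y _ _ ⟨hx, hx', a, ha⟩ ⟨hy, hy', b, hb⟩
      rw [tau_add]
      exact ⟨S.add_mem hx hy, comm_add hx' hy', a + b, fun D => by rw [add_smul, ← ha D, ← hb D]; ext i j; simp [ld]⟩
    · rintro x y _ _ ⟨hx, hx', a, ha⟩ ⟨hy, hy', b, hb⟩
      rw [tau_mul]
      exact ⟨S.mul_mem hy hx, comm_mul hx' hy', a * b, fun D => by rw [ld_mul F.hd D hx' hy', ha, hb, smul_mul_smul_comm, one_mul]⟩
  let _ : CommRing S := { (inferInstance : Ring S) with mul_comm := fun u v => Subtype.ext (hcommS u.1 u.2 v.1 v.2) }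
  let T : S →+* S :=
    { toFun := fun Y => ⟨tau F Y.1, (key _ Y.2).1⟩
      map_one' := Subtype.ext (tau_one F)
      map_mul' := fun u v => Subtype.ext (by
        show tau F (u.1 * v.1) = tau F u.1 * tau F v.1
        rw [tau_mul, hcommS _ (key _ v.2).1 _ (key _ u.2).1])
      map_zero' := Subtype.ext (show tau F 0 = 0 by
        rw [← zero_smul K (0 : Matrix (Idx d) (Idx d) K), tau_smul, map_zero, zero_smul, zero_smul])
      map_add' := fun u v => Subtype.ext (tau_add F _ _) }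
  obtain ⟨zi, hz2, hz3, -⟩ := exists_inv_U1 F (A := z) ⟨hzc, hz1⟩
  have hinj : Function.Injective fun Y : S => (⟨z, hzS⟩ : S) * Y := fun Y Z h => Subtype.ext (by
    have h' : z * Y.1 = z * Z.1 := congrArg Subtype.val h
    rw [← one_mul Y.1, ← hz3, mul_assoc, h', ← mul_assoc, hz3, one_mul])
  have hzu : IsUnit (⟨z, hzS⟩ : S) := by
    obtain ⟨Y, hY⟩ := Finite.injective_iff_surjective.1 hinj 1
    exact ⟨⟨_, Y, hY, by rw [mul_comm]; exact hY⟩, rfl⟩
  obtain ⟨⟨y, hyS⟩, hy⟩ := exists_mul_tau F.hne T (fun u => Subtype.ext (tau_tau F u.1))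
    (fun c => Subtype.ext (talg c)) ⟨z, hzS⟩ hzu (Subtype.ext hzt)
  have hy' : tau F y * y = z := by
    have h : y * tau F y = z := congrArg Subtype.val hy
    rwa [hcommS _ hyS _ (key _ hyS).1] at h
  obtain ⟨-, hyc, c, hc⟩ := key _ hyS
  have h := ld_tau F (d k0) hyc
  have h' := congrArg (ld F.hd (d k0)) hy'
  rw [ld_mul F.hd _ (comm_tau F hyc) hyc, hz1, hc] at h'
  rw [hc, adjI_smul, adjI_one, smul_mul_assoc, one_mul, ← mul_one (hlead F (d k0)), mul_assoc, one_mul, ← mul_smul_comm] at h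
  rw [((Matrix.isUnit_iff_isUnit_det _).2 (isUnit_iff_ne_zero.2 (det_hlead F _))).mul_left_cancel h,
    smul_mul_smul_comm, one_mul] at h'
  have hcc : σ c * c = 1 := by
    have := congrFun (congrFun h' ⟨k0, rfl⟩) ⟨k0, rfl⟩
    simpa using this
  have hc0 : c ≠ 0 := right_ne_zero_of_mul (hcc ▸ one_ne_zero : σ c * c ≠ 0)
  refine ⟨c⁻¹ • y, ⟨comm_smul _ hyc, fun D => ?_⟩, ?_⟩
  · rw [show ld F.hd D (c⁻¹ • y) = c⁻¹ • ld F.hd D y from rfl, hc, smul_smul, inv_mul_cancel₀ hc0, one_smul]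
  · rw [tau_smul, smul_mul_smul_comm, hy', map_inv₀, ← mul_inv, hcc, inv_one, one_smul]

theorem card_U1 : Nat.card {A // U1 F A} = Nat.card (K1 F) * Nat.card (Sym1 F) := by
  classical
  have hsym : ∀ {A}, U1 F A → U1 F (tau F A * A) ∧ tau F (tau F A * A) = tau F A * A := fun h =>
    ⟨U1_mul F (U1_tau F h) h, by rw [tau_mul, tau_tau]⟩
  choose w hw1 hw2 using exists_norm F
  choose wi hwi1 hwi2 hwi3 using fun z => exists_inv_U1 F (hw1 z)
  rw [← Nat.card_prod]
  refine (Nat.card_congr (Equiv.ofBijective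
    (fun p : K1 F × Sym1 F => (⟨p.1.1 * w p.2, U1_mul F p.1.2.1 (hw1 _)⟩ : {A // U1 F A})) ⟨?_, ?_⟩)).symm
  · rintro ⟨⟨a, ha1, ha2⟩, z⟩ ⟨⟨b, hb1, hb2⟩, z'⟩ h
    have h' : a * w z = b * w z' := congrArg Subtype.val h
    have e : ∀ (a : Matrix (Idx d) (Idx d) K) z, tau F a * a = 1 → tau F (a * w z) * (a * w z) = z.1 := by
      intro a z ha
      rw [tau_mul, mul_assoc, ← mul_assoc (tau F a), ha, one_mul, hw2]
    obtain rfl : z = z' := Subtype.ext (by rw [← e a z ha2, h', e b z' hb2])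
    refine Prod.ext (Subtype.ext ?_) rfl
    show a = b
    rw [← mul_one a, ← hwi1 z, ← mul_assoc, h', mul_assoc, hwi1, mul_one]
  · rintro ⟨A, hA⟩
    obtain ⟨z, hz⟩ : ∃ z : Sym1 F, z.1 = tau F A * A := ⟨⟨_, hsym hA⟩, rfl⟩
    refine ⟨⟨⟨A * wi z, U1_mul F hA (hwi3 _), ?_⟩, z⟩, Subtype.ext ?_⟩
    · rw [tau_mul, mul_assoc, ← mul_assoc (tau F A), ← hz, ← hw2 z, mul_assoc, hwi1, mul_one,
        ← tau_mul, hwi1, tau_one]
    · show A * wi z * w z = A
      rw [mul_assoc, hwi2, mul_one]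

/-- The self-adjoint part of the radical. -/
abbrev Sym0 : Type _ := {A : Matrix (Idx d) (Idx d) K // J0 F A ∧ tau F A = A}

theorem ld_add (D : ℕ) (A B : Matrix (Idx d) (Idx d) K) : ld F.hd D (A + B) = ld F.hd D A + ld F.hd D B := rfl

theorem U1_iff {A : Matrix (Idx d) (Idx d) K} : U1 F (1 + A) ↔ J0 F A := by
  constructor
  · rintro ⟨h1, h2⟩
    refine ⟨?_, fun D => ?_⟩
    · have := comm_add h1 (comm_neg (comm_one (K := K) (d := d)))
      rwa [add_neg_cancel_comm] at this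
    · have := h2 D
      rwa [ld_add F, ld_one, add_eq_left] at this
  · rintro ⟨h1, h2⟩
    exact ⟨comm_add comm_one h1, fun D => by rw [ld_add F, ld_one, h2, add_zero]⟩

theorem card_J0 : Nat.card {A // J0 F A} = Nat.card (Sym0 F) ^ 2 ∧
    Nat.card {A // J0 F A} = Nat.card (K1 F) * Nat.card (Sym0 F) := by
  classical
  constructor
  · obtain ⟨a, ha⟩ : ∃ a : K, a - σ a ≠ 0 := by
      by_contra h
      push Not at h
      exact F.hne (RingHom.ext fun a => (sub_eq_zero.1 (h a)).symm)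
    have hJt : ∀ {A}, J0 F A → J0 F (tau F A) := fun {A} hA => by
      refine ⟨comm_tau F hA.1, fun D => ?_⟩
      have h := ld_tau F D hA.1
      rw [hA.2, show adjI σ (0 : Matrix {k // d k = D} {k // d k = D} K) = 0 by ext i j; simp [adjI_apply], zero_mul] at h
      exact ((Matrix.isUnit_iff_isUnit_det _).2 (isUnit_iff_ne_zero.2 (det_hlead F D))).mul_left_cancel (h.trans (mul_zero _).symm)
    have hJadd : ∀ {A B}, J0 F A → J0 F B → J0 F (A + B) := fun h h' =>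
      ⟨comm_add h.1 h'.1, fun D => by rw [ld_add F, h.2, h'.2, add_zero]⟩
    have hJsmul : ∀ (c : K) {A}, J0 F A → J0 F (c • A) := fun c {A} h =>
      ⟨comm_smul c h.1, fun D => by rw [show ld F.hd D (c • A) = c • ld F.hd D A from rfl, h.2, smul_zero]⟩
    rw [sq, ← Nat.card_prod]
    refine Nat.card_congr
      { toFun := fun A => (⟨A.1 + tau F A.1, hJadd A.2 (hJt A.2), by rw [tau_add, tau_tau, add_comm]⟩,
          ⟨a • A.1 + σ a • tau F A.1, hJadd (hJsmul _ A.2) (hJsmul _ (hJt A.2)),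
            by rw [tau_add, tau_smul, tau_smul, tau_tau, F.hσ, add_comm]⟩)
        invFun := fun p => ⟨(a - σ a)⁻¹ • (p.2.1 + (-σ a) • p.1.1), hJsmul _ (hJadd p.2.2.1 (hJsmul _ p.1.2.1))⟩
        left_inv := fun A => Subtype.ext ?_
        right_inv := fun p => ?_ }
    · show (a - σ a)⁻¹ • (a • A.1 + σ a • tau F A.1 + (-σ a) • (A.1 + tau F A.1)) = A.1
      match_scalars <;> field_simp <;> ring
    · obtain ⟨⟨s, hs1, hs2⟩, ⟨r, hr1, hr2⟩⟩ := p
      have ht : tau F ((a - σ a)⁻¹ • (r + (-σ a) • s)) = (σ a - a)⁻¹ • (r + (-a) • s) := by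
        rw [tau_smul, tau_add, tau_smul, hs2, hr2, map_inv₀, map_sub, F.hσ, map_neg, F.hσ]
      have ha' : σ a - a ≠ 0 := fun h => ha (by rw [← neg_sub, h, neg_zero])
      refine Prod.ext (Subtype.ext ?_) (Subtype.ext ?_)
      · show (a - σ a)⁻¹ • (r + (-σ a) • s) + tau F _ = s
        rw [ht]
        match_scalars <;> field_simp <;> ring
      · show a • ((a - σ a)⁻¹ • (r + (-σ a) • s)) + σ a • tau F _ = r
        rw [ht]
        match_scalars <;> field_simp <;> ring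
  · have e1 : Nat.card {A // J0 F A} = Nat.card {A // U1 F A} := by
      refine Nat.card_congr (Equiv.subtypeEquiv (Equiv.addLeft 1) fun A => (U1_iff F).symm)
    have e2 : Nat.card (Sym0 F) = Nat.card (Sym1 F) := by
      refine Nat.card_congr (Equiv.subtypeEquiv (Equiv.addLeft 1) fun A => ?_)
      rw [Equiv.coe_addLeft, U1_iff, tau_add, tau_one, add_right_inj]
    rw [e1, e2, card_U1]

theorem card_J0_coord [DecidableEq (Fin t)] :
    Nat.card {A // J0 F A} = Fintype.card K ^ Nat.card {p : Coord d // ¬ IsLead d p} := by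
  classical
  rw [← Nat.card_eq_fintype_card, ← Nat.card_fun]
  refine (Nat.card_congr (Equiv.ofBijective
    (fun f => (⟨toMat fun p => if h : IsLead d p then 0 else f ⟨p, h⟩, toMat_comm _, fun D => ?_⟩ : {A // J0 F A})) ⟨?_, ?_⟩)).symm
  · ext k l
    rw [ld_toMat, dif_pos ⟨rfl, k.2.trans l.2.symm⟩]
    rfl
  · intro f g h
    have h' := congrArg Subtype.val h
    dsimp only at h'
    have := toMat_injective F.hd h'
    funext p
    simpa [dif_neg p.2] using congrFun this p.1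
  · rintro ⟨A, hA, hA0⟩
    obtain ⟨f, rfl⟩ := exists_toMat F.hd hA
    refine ⟨fun p => f p.1, Subtype.ext ?_⟩
    dsimp only
    congr 1
    funext p
    by_cases h : IsLead d p
    · rw [dif_pos h]
      have e := congrFun (congrFun (hA0 (d p.1.1)) ⟨p.1.1, rfl⟩) ⟨p.1.2.1, h.2.symm⟩
      rw [ld_toMat] at e
      rw [← e.trans (Matrix.zero_apply _ _)]
      congr 1
      obtain ⟨⟨k, l, s⟩, hp⟩ := p
      obtain rfl : s = ⟨0, F.hd k⟩ := Fin.ext h.1
      rfl
    · rw [dif_neg h]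

/-- The elements of the commutant preserving the form. -/
abbrev Iso : Type _ := {A : Matrix (Idx d) (Idx d) K // Comm A ∧ adjI σ A * F.H * A = F.H}

theorem iso_iff (A : Matrix (Idx d) (Idx d) K) : adjI σ A * F.H * A = F.H ↔ tau F A * A = 1 := by
  constructor
  · intro h; rw [tau, mul_assoc, mul_assoc, ← mul_assoc (adjI σ A), h, F.inv_mul]
  · intro h
    calc adjI σ A * F.H * A = F.H * (tau F A * A) := by
          rw [tau, ← mul_assoc, ← mul_assoc, ← mul_assoc, F.mul_inv, one_mul]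
      _ = F.H := by rw [h, mul_one]

theorem card_Iso (R : Finset ℕ) (hR : ∀ k, d k ∈ R) :
    Nat.card (Iso F) = Nat.card (K1 F) * ∏ D ∈ R,
      Nat.card {M : Matrix {k // d k = D} {k // d k = D} K // adjI σ M * hlead F D * M = hlead F D} := by
  classical
  let G : R → Type _ := fun D => {M : Matrix {k // d k = D.1} {k // d k = D.1} K // adjI σ M * hlead F D.1 * M = hlead F D.1}
  rw [← Finset.prod_coe_sort, ← Nat.card_pi (β := G), ← Nat.card_prod]
  have hiso : ∀ {A}, Comm A → tau F A * A = 1 → ∀ D, adjI σ (ld F.hd D A) * hlead F D * ld F.hd D A = hlead F D := by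
    intro A hA h D
    rw [← ld_tau F D hA, mul_assoc, ← ld_mul F.hd D (comm_tau F hA) hA, h, ld_one, mul_one]
  let Mx : ((D : R) → G D) → (D : ℕ) → Matrix {k // d k = D} {k // d k = D} K := fun y D =>
    if h : D ∈ R then (y ⟨D, h⟩).1 else 1
  have hsec : ∀ y : (D : R) → G D, ∃ A, Comm A ∧ tau F A * A = 1 ∧ ∀ D : R, ld F.hd D.1 A = (y D).1 := by
    intro y
    obtain ⟨A0, hA0⟩ : ∃ A0, A0 = sec (Mx y) := ⟨_, rfl⟩
    have hc : Comm A0 := hA0 ▸ toMat_comm _
    have hl : ∀ D, ld F.hd D A0 = Mx y D := fun D => hA0 ▸ ld_sec F.hd _ D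
    have hz : ∀ D, ld F.hd D (tau F A0 * A0) = 1 := by
      intro D
      refine ((Matrix.isUnit_iff_isUnit_det _).2 (isUnit_iff_ne_zero.2 (det_hlead F D))).mul_left_cancel ?_
      rw [ld_mul F.hd D (comm_tau F hc) hc, ← mul_assoc, ld_tau F D hc, hl, mul_one]
      by_cases h : D ∈ R
      · simp only [Mx, dif_pos h]; exact (y ⟨D, h⟩).2
      · simp only [Mx, dif_neg h, adjI_one, one_mul, mul_one]
    obtain ⟨w, hw1, hw2⟩ := exists_norm F ⟨tau F A0 * A0, ⟨comm_mul (comm_tau F hc) hc, hz⟩, by rw [tau_mul, tau_tau]⟩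
    obtain ⟨wi, h1, h2, h3⟩ := exists_inv_U1 F hw1
    dsimp only at hw2
    refine ⟨A0 * wi, comm_mul hc h3.1, ?_, fun D => ?_⟩
    · rw [tau_mul, mul_assoc, ← mul_assoc (tau F A0), ← hw2, mul_assoc, h1, mul_one, ← tau_mul, h1, tau_one]
    · rw [ld_mul F.hd _ hc h3.1, h3.2, mul_one, hl]
      simp only [Mx, dif_pos D.2, Subtype.coe_eta]
  choose s hs1 hs2 hs3 using hsec
  refine (Nat.card_congr (Equiv.ofBijective (fun p : K1 F × ((D : R) → G D) =>
    (⟨s p.2 * p.1.1, comm_mul (hs1 _) p.1.2.1.1, (iso_iff F _).2 (by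
      rw [tau_mul, mul_assoc, ← mul_assoc (tau F (s p.2)), hs2, one_mul, p.1.2.2])⟩ : Iso F)) ⟨?_, ?_⟩)).symm
  · rintro ⟨k, y⟩ ⟨k', y'⟩ h
    have h' : s y * k.1 = s y' * k'.1 := congrArg Subtype.val h
    obtain rfl : y = y' := funext fun D => Subtype.ext (by
      have := congrArg (ld F.hd D.1) h'
      rwa [ld_mul F.hd _ (hs1 _) k.2.1.1, ld_mul F.hd _ (hs1 _) k'.2.1.1, k.2.1.2, k'.2.1.2, mul_one, mul_one, hs3, hs3] at this)
    refine Prod.ext (Subtype.ext ?_) rfl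
    calc k.1 = tau F (s y) * (s y * k.1) := by rw [← mul_assoc, hs2, one_mul]
      _ = k'.1 := by rw [h', ← mul_assoc, hs2, one_mul]
  · rintro ⟨A, hA, hA'⟩
    rw [iso_iff] at hA'
    obtain ⟨y, hy⟩ : ∃ y : (D : R) → G D, ∀ D, (y D).1 = ld F.hd D.1 A :=
      ⟨fun D => ⟨_, hiso hA hA' D.1⟩, fun D => rfl⟩
    have hk : U1 F (tau F (s y) * A) := by
      refine ⟨comm_mul (comm_tau F (hs1 y)) hA, fun D => ?_⟩
      by_cases h : D ∈ R
      · rw [ld_mul F.hd D (comm_tau F (hs1 y)) hA, ← hy ⟨D, h⟩, ← hs3 y ⟨D, h⟩,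
          ← ld_mul F.hd D (comm_tau F (hs1 y)) (hs1 y), hs2, ld_one]
      · haveI : IsEmpty {k // d k = D} := ⟨fun k => h (k.2 ▸ hR k.1)⟩
        exact Matrix.ext fun i => isEmptyElim i
    have h2 : s y * tau F (s y) = 1 := mul_eq_one_comm.1 (hs2 y)
    refine ⟨⟨⟨_, hk, ?_⟩, y⟩, Subtype.ext ?_⟩
    · rw [tau_mul, tau_tau, mul_assoc, ← mul_assoc (s y), h2, one_mul, hA']
    · show s y * (tau F (s y) * A) = A
      rw [← mul_assoc, h2, one_mul]

/-- The isometries of a form similar to a Hermitian one are as many as those of the standard one. -/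
theorem card_isometry {q : ℕ} (hK : Fintype.card K = q ^ 2) {ι : Type*} [Fintype ι] [DecidableEq ι]
    {h : Matrix ι ι K} (hdet : h.det ≠ 0) {c : K} (hc : c ≠ 0)
    (hh : adjI (Cfsg.Agent.Lib.Classical.conjHom hK) (c • h) = c • h) :
    Nat.card {M : Matrix ι ι K // adjI (Cfsg.Agent.Lib.Classical.conjHom hK) M * h * M = h} =
      Nat.card (Cfsg.GU (Fintype.card ι) K q) := by
  classical
  obtain ⟨n, e, rfl⟩ : ∃ (n : ℕ) (_ : ι ≃ Fin n), n = Fintype.card ι := ⟨_, Fintype.equivFin ι, rfl⟩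
  obtain ⟨P, hP⟩ := exists_congr_one hK (H := Matrix.reindexAlgEquiv K K e (c • h))
    (by
      have := congrArg (Matrix.reindexAlgEquiv K K e) hh
      exact this)
    (by rw [Matrix.coe_reindexAlgEquiv, det_reindex_self, det_smul]; exact isUnit_iff_ne_zero.2 (mul_ne_zero (pow_ne_zero _ hc) hdet))
  obtain ⟨σ, hσ⟩ : ∃ σ, σ = Cfsg.Agent.Lib.Classical.conjHom hK := ⟨_, rfl⟩
  rw [← hσ] at hP ⊢
  obtain ⟨φ, hφ⟩ : ∃ φ, φ = Matrix.reindexAlgEquiv K K e := ⟨_, rfl⟩
  rw [← hφ, map_smul, mul_smul_comm, smul_mul_assoc] at hP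
  have hadj : ∀ M, φ (adjI σ M) = Cfsg.Agent.Lib.SuSpec.adj σ (φ M) := fun M => by
    rw [hφ]; rfl
  obtain ⟨Pi, hPi, hPi'⟩ : ∃ Pi, P * Pi = 1 ∧ Pi * P = 1 := by
    refine ⟨c • (Cfsg.Agent.Lib.SuSpec.adj σ P * φ h), ?_, ?_⟩
    · exact mul_eq_one_comm.1 (by rw [smul_mul_assoc]; exact hP)
    · rw [smul_mul_assoc]; exact hP
  have hPa : Cfsg.Agent.Lib.SuSpec.adj σ Pi * Cfsg.Agent.Lib.SuSpec.adj σ P = 1 := by
    rw [← Cfsg.Agent.Lib.SuSpec.adj_mul, hPi, Cfsg.Agent.Lib.SuSpec.adj_one]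
  have key : ∀ N : Matrix (Fin (Fintype.card ι)) (Fin (Fintype.card ι)) K,
      Cfsg.Agent.Lib.SuSpec.adj σ N * N = 1 ↔ Cfsg.Agent.Lib.SuSpec.adj σ (P * N * Pi) * φ h * (P * N * Pi) = φ h := by
    intro N
    rw [Cfsg.Agent.Lib.SuSpec.adj_mul, Cfsg.Agent.Lib.SuSpec.adj_mul]
    obtain ⟨Q, hQ⟩ : ∃ Q, Q = Cfsg.Agent.Lib.SuSpec.adj σ P := ⟨_, rfl⟩
    obtain ⟨Qi, hQi⟩ : ∃ Qi, Qi = Cfsg.Agent.Lib.SuSpec.adj σ Pi := ⟨_, rfl⟩
    rw [← hQ] at hP hPa ⊢
    rw [← hQi] at hPa ⊢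
    have e1 : Q * φ h * P = c⁻¹ • 1 := by rw [← hP, smul_smul, inv_mul_cancel₀ hc, one_smul]
    have e2 : φ h = Qi * (c⁻¹ • 1) * Pi := by
      rw [← e1]
      calc φ h = (Qi * Q) * φ h * (P * Pi) := by rw [hPa, hPi, one_mul, mul_one]
        _ = _ := by simp only [mul_assoc]
    have e3 : Qi * (Cfsg.Agent.Lib.SuSpec.adj σ N * Q) * φ h * (P * N * Pi) =
        Qi * (c⁻¹ • (Cfsg.Agent.Lib.SuSpec.adj σ N * N)) * Pi := by
      calc Qi * (Cfsg.Agent.Lib.SuSpec.adj σ N * Q) * φ h * (P * N * Pi)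
          = Qi * (Cfsg.Agent.Lib.SuSpec.adj σ N * (Q * φ h * P) * N) * Pi := by simp only [mul_assoc]
        _ = _ := by rw [e1, mul_smul_comm, mul_one, smul_mul_assoc]
    rw [e3]
    conv_rhs => rhs; rw [e2]
    constructor
    · intro h1; rw [h1]
    · intro h1
      have h2 : Q * (Qi * (c⁻¹ • (Cfsg.Agent.Lib.SuSpec.adj σ N * N)) * Pi) * P = Q * (Qi * (c⁻¹ • 1) * Pi) * P := by rw [h1]
      simp only [← mul_assoc, mul_eq_one_comm.1 hPa, one_mul] at h2
      rw [mul_assoc _ Pi, mul_assoc _ Pi, hPi', mul_one, mul_one] at h2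
      exact smul_right_injective _ (inv_ne_zero hc) h2
  have hmem : ∀ g : GL (Fin (Fintype.card ι)) K, g ∈ Cfsg.GU (Fintype.card ι) K q ↔
      Cfsg.Agent.Lib.SuSpec.adj σ (g : Matrix (Fin (Fintype.card ι)) (Fin (Fintype.card ι)) K) * (g : Matrix (Fin (Fintype.card ι)) (Fin (Fintype.card ι)) K) = 1 := fun g => hσ ▸ mem_GU_adj hK g
  symm
  refine Nat.card_congr
    { toFun := fun g => ⟨φ.symm (P * ((g : GL (Fin (Fintype.card ι)) K) : Matrix _ _ K) * Pi), φ.injective (by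
        rw [map_mul, map_mul, hadj, AlgEquiv.apply_symm_apply]; exact (key _).1 ((hmem _).1 g.2))⟩
      invFun := fun M =>
        have hN : Cfsg.Agent.Lib.SuSpec.adj σ (Pi * φ M.1 * P) * (Pi * φ M.1 * P) = 1 := (key _).2 (by
          rw [show P * (Pi * φ M.1 * P) * Pi = (P * Pi) * φ M.1 * (P * Pi) by simp only [mul_assoc], hPi, one_mul, mul_one,
            ← hadj, ← map_mul, ← map_mul, M.2])
        ⟨⟨_, _, mul_eq_one_comm.1 hN, hN⟩, (hmem _).2 hN⟩
      left_inv := fun g => Subtype.ext (Units.ext ?_)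
      right_inv := fun M => Subtype.ext ?_ }
  · show Pi * φ (φ.symm (P * _ * Pi)) * P = _
    rw [AlgEquiv.apply_symm_apply, ← mul_assoc, ← mul_assoc, hPi', one_mul, mul_assoc, hPi', mul_one]
  · show φ.symm (P * (Pi * φ M.1 * P) * Pi) = M.1
    rw [show P * (Pi * φ M.1 * P) * Pi = (P * Pi) * φ M.1 * (P * Pi) by simp only [mul_assoc], hPi, one_mul, mul_one,
      AlgEquiv.symm_apply_apply]

end Cfsg.Agent.Lib.Similar.UnipU
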