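import Mathlib
import Cfsg.Agent.S2581
import Cfsg.Agent.Lib.Similar.UnipotentUnitary

/-!
Alternating forms compatible with a nilpotent Jordan matrix, up to congruence by the commutant.
-/

set_option autoImplicit false
set_option linter.unusedSectionVars false

namespace Cfsg.Agent.Lib.Similar.Signed

open Matrix
open Cfsg.Agent.S2581 (nil toMat exists_toMat det_toMat_ne_zero_iff mul_nil_succ mul_nil_last)
open Cfsg.Agent.Lib.Similar.UnipU (Idx Comm ld sec supp diag_shift ld_toMat ld_sec comm_mul)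

variable {F : Type*} [Field F] [Fintype F] {t : ℕ} {d : Fin t → ℕ}

/-- A form for which the nilpotent Jordan matrix is skew-adjoint. -/
def SkewN (M : Matrix (Idx d) (Idx d) F) : Prop := (nil F d)ᵀ * M = -(M * nil F d)

/-- The alternating invertible compatible forms. -/
def Good (M : Matrix (Idx d) (Idx d) F) : Prop := Mᵀ = -M ∧ M.det ≠ 0 ∧ SkewN M

/-- Entries extended by zero. -/
def ent (M : Matrix (Idx d) (Idx d) F) (k l : Fin t) (a b : ℕ) : F :=
  if h : a < d k ∧ b < d l then M ⟨k, ⟨a, h.1⟩⟩ ⟨l, ⟨b, h.2⟩⟩ else 0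

theorem ent_eq (M : Matrix (Idx d) (Idx d) F) (x y : Idx d) : M x y = ent M x.1 y.1 x.2 y.2 := by
  rw [ent, dif_pos ⟨x.2.2, y.2.2⟩]

theorem ent_transpose (M : Matrix (Idx d) (Idx d) F) (k l : Fin t) (a b : ℕ) : ent Mᵀ k l a b = ent M l k b a := by
  rw [ent, ent]
  by_cases h : a < d k ∧ b < d l
  · rw [dif_pos h, dif_pos ⟨h.2, h.1⟩, transpose_apply]
  · rw [dif_neg h, dif_neg fun e => h ⟨e.2, e.1⟩]

theorem ent_of_left (M : Matrix (Idx d) (Idx d) F) {k l : Fin t} {a b : ℕ} (h : d k ≤ a) : ent M k l a b = 0 :=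
  dif_neg fun e => by omega

theorem ent_of_right (M : Matrix (Idx d) (Idx d) F) {k l : Fin t} {a b : ℕ} (h : d l ≤ b) : ent M k l a b = 0 :=
  dif_neg fun e => by omega

theorem mul_nil_ent (M : Matrix (Idx d) (Idx d) F) (x : Idx d) (l : Fin t) (b : ℕ) (hb : b < d l) :
    (M * nil F d) x ⟨l, ⟨b, hb⟩⟩ = ent M x.1 l x.2 (b + 1) := by
  rcases Nat.lt_or_ge (b + 1) (d l) with h | h
  · rw [mul_nil_succ M _ h, ent, dif_pos ⟨x.2.2, h⟩]
  · rw [mul_nil_last _ (by simp; omega), ent_of_right M h]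

theorem nilT_mul_ent (M : Matrix (Idx d) (Idx d) F) (k : Fin t) (a : ℕ) (ha : a < d k) (y : Idx d) :
    ((nil F d)ᵀ * M) ⟨k, ⟨a, ha⟩⟩ y = ent M k y.1 (a + 1) y.2 := by
  rw [← transpose_transpose M, ← transpose_mul, transpose_apply, mul_nil_ent, ent_transpose, transpose_transpose]

theorem ent_rec {M : Matrix (Idx d) (Idx d) F} (hM : SkewN M) (k l : Fin t) (a b : ℕ) :
    ent M k l (a + 1) b = -ent M k l a (b + 1) := by
  rcases Nat.lt_or_ge a (d k) with ha | ha
  swap
  · rw [ent_of_left M ha, ent_of_left M (by omega), neg_zero]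
  rcases Nat.lt_or_ge b (d l) with hb | hb
  swap
  · rw [ent_of_right M hb, ent_of_right M (by omega), neg_zero]
  have e := congrFun (congrFun hM ⟨k, ⟨a, ha⟩⟩) ⟨l, ⟨b, hb⟩⟩
  rw [nilT_mul_ent, Matrix.neg_apply, mul_nil_ent] at e
  exact e

theorem ent_shift {M : Matrix (Idx d) (Idx d) F} (hM : SkewN M) (k l : Fin t) :
    ∀ b a, ent M k l a b = (-1) ^ b * ent M k l (a + b) 0 := by
  intro b
  induction b with
  | zero => intro a; simp
  | succ b ih =>
    intro a
    have h := ent_rec hM k l a b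
    rw [ih (a + 1), show a + 1 + b = a + (b + 1) by omega] at h
    rw [pow_succ]
    linear_combination h

theorem ent_left {M : Matrix (Idx d) (Idx d) F} (hM : SkewN M) {k l : Fin t} {a b : ℕ} (h : d k ≤ a + b) :
    ent M k l a b = 0 := by
  rw [ent_shift hM, ent_of_left M h, mul_zero]

theorem ent_right {M : Matrix (Idx d) (Idx d) F} (hM : SkewN M) {k l : Fin t} : ∀ {a b : ℕ}, d l ≤ a + b →
    ent M k l a b = 0 := by
  intro a
  induction a with
  | zero => intro b h; exact ent_of_right M (by omega)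
  | succ a ih => intro b h; rw [ent_rec hM, ih (by omega), neg_zero]

theorem skewN_transpose {M : Matrix (Idx d) (Idx d) F} (hM : SkewN M) : SkewN Mᵀ := by
  have h := congrArg Matrix.transpose hM
  rw [transpose_mul, transpose_neg, transpose_mul, transpose_transpose] at h
  rw [SkewN, h, neg_neg]

theorem skewN_mul {M g : Matrix (Idx d) (Idx d) F} (hM : SkewN M) (hg : Comm g) : SkewN (M * g) := by
  rw [SkewN, ← mul_assoc, hM, neg_mul, mul_assoc, hg, ← mul_assoc]

theorem skewN_congr {M g : Matrix (Idx d) (Idx d) F} (hM : SkewN M) (hg : Comm g) : SkewN (gᵀ * M * g) := by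
  refine skewN_mul ?_ hg
  have h := skewN_transpose (skewN_mul (skewN_transpose hM) hg)
  rwa [transpose_mul, transpose_transpose] at h

/-- The form on the leading coefficients of the blocks of size `j`. -/
def lead (j : ℕ) (M : Matrix (Idx d) (Idx d) F) : Matrix {k // d k = j} {k // d k = j} F :=
  Matrix.of fun k l => ent M k.1 l.1 (j - 1) 0

theorem lead_transpose {M : Matrix (Idx d) (Idx d) F} (hM : SkewN M) (j : ℕ) :
    lead j Mᵀ = (-1 : F) ^ (j - 1) • (lead j M)ᵀ := by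
  ext k l
  show ent Mᵀ k.1 l.1 (j - 1) 0 = (-1 : F) ^ (j - 1) * ent M l.1 k.1 (j - 1) 0
  rw [ent_transpose, ent_shift hM _ _ (j - 1) 0, zero_add]

theorem lead_mul (hd : ∀ k, 1 ≤ d k) {M g : Matrix (Idx d) (Idx d) F} (hM : SkewN M) (hg : Comm g) (j : ℕ) :
    lead j (M * g) = lead j M * ld hd j g := by
  ext ⟨k, hk⟩ ⟨l, hl⟩
  have h0 := hd k
  show ent (M * g) k l (j - 1) 0 = _
  rw [ent, dif_pos ⟨by omega, by have := hd l; omega⟩, mul_apply, mul_apply]
  symm
  refine Fintype.sum_of_injective (fun y : {i // d i = j} => (⟨y.1, ⟨0, hd _⟩⟩ : Idx d))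
    (fun y y' e => Subtype.ext (congrArg Sigma.fst e)) _ _ (fun y hy => ?_) (fun y => ?_)
  · rw [ent_eq M]
    dsimp only
    by_contra hne
    have h1 : ¬ (d k ≤ j - 1 + (y.2 : ℕ)) := fun e => hne (by rw [ent_left hM e, zero_mul])
    have h2 : ¬ (d y.1 ≤ j - 1 + (y.2 : ℕ)) := fun e => hne (by rw [ent_right hM e, zero_mul])
    have h3 := (supp hd hg (right_ne_zero_of_mul hne)).2
    simp only at h3
    refine hy ⟨⟨y.1, by omega⟩, ?_⟩
    obtain ⟨y1, y2⟩ := y
    simp only at h1 h2 h3 ⊢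
    exact congrArg (Sigma.mk y1) (Fin.ext (by simp; omega))
  · rw [ent_eq M]
    rfl

theorem lead_congr (hd : ∀ k, 1 ≤ d k) {M g : Matrix (Idx d) (Idx d) F} (hM : SkewN M) (hg : Comm g) (j : ℕ) :
    lead j (gᵀ * M * g) = (ld hd j g)ᵀ * lead j M * ld hd j g := by
  have hT := skewN_mul (skewN_transpose hM) hg
  have hgM : gᵀ * M = (Mᵀ * g)ᵀ := by rw [transpose_mul, transpose_transpose]
  rw [lead_mul hd (hgM ▸ skewN_transpose hT) hg]
  congr 1
  rw [hgM, lead_transpose hT, lead_mul hd (skewN_transpose hM) hg, lead_transpose hM, transpose_mul, transpose_smul,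
    transpose_transpose, Matrix.mul_smul, smul_smul, ← mul_pow, neg_one_mul, neg_neg, one_pow, one_smul]

theorem lead_symm (hd : ∀ k, 1 ≤ d k) {M : Matrix (Idx d) (Idx d) F} (hM : SkewN M) (hA : Mᵀ = -M) (j : ℕ) :
    (lead j M)ᵀ = (-1 : F) ^ j • lead j M := by
  ext k l
  have := hd k.1
  have hj : j = j - 1 + 1 := by omega
  show ent M l.1 k.1 (j - 1) 0 = (-1 : F) ^ j * ent M k.1 l.1 (j - 1) 0
  have h1 : ent M l.1 k.1 (j - 1) 0 = -ent M k.1 l.1 0 (j - 1) := by
    rw [← ent_transpose M, hA, ent, ent]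
    split_ifs <;> simp
  rw [h1, ent_shift hM _ _ (j - 1) 0, zero_add]
  have e : (-1 : F) ^ j = (-1) ^ (j - 1) * -1 := by rw [← pow_succ, ← hj]
  rw [e]
  ring

theorem lead_det (hd : ∀ k, 1 ≤ d k) {M : Matrix (Idx d) (Idx d) F} (hM : SkewN M) (hdet : M.det ≠ 0) (j : ℕ) :
    (lead j M).det ≠ 0 := by
  classical
  let T : Matrix (Fin t) (Fin t) F := Matrix.of fun k l => ent M k l (d k - 1) 0
  have htri : BlockTriangular T d := fun i l h => ent_right hM (by have := hd l; omega)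
  have hT : T.det ≠ 0 := by
    intro h0
    obtain ⟨c, hc, hcT⟩ := Matrix.exists_vecMul_eq_zero_iff.2 h0
    let v : Idx d → F := fun x => if (x.2 : ℕ) + 1 = d x.1 then c x.1 else 0
    have hv : v ᵥ* M = 0 := by
      funext ⟨l, b⟩
      show ∑ x, v x * M x ⟨l, b⟩ = 0
      rw [← Fintype.sum_of_injective (fun k => (⟨k, ⟨d k - 1, by have := hd k; omega⟩⟩ : Idx d))
        (fun k k' e => congrArg Sigma.fst e) (fun k => c k * ent M k l (d k - 1) b) _ (fun x hx => ?_) (fun k => ?_)]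
      · rcases Nat.eq_zero_or_pos (b : ℕ) with hb | hb
        · rw [hb]; exact congrFun hcT l
        · exact Finset.sum_eq_zero fun k _ => by rw [ent_left hM (by omega), mul_zero]
      · simp only [v]
        rw [if_neg, zero_mul]
        intro e
        exact hx ⟨x.1, by
          obtain ⟨x1, x2⟩ := x
          simp only at e
          exact congrArg (Sigma.mk x1) (Fin.ext (by simp; omega))⟩
      · simp only [v]
        rw [if_pos (by have := hd k; omega), ent_eq M]
    have hv0 : v = 0 := Matrix.eq_zero_of_vecMul_eq_zero hdet hv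
    refine hc (funext fun k => ?_)
    have := congrFun hv0 ⟨k, ⟨d k - 1, by have := hd k; omega⟩⟩
    simpa [v, show d k - 1 + 1 = d k by have := hd k; omega] using this
  rw [htri.det, Finset.prod_ne_zero_iff] at hT
  by_cases hne : ∃ k, d k = j
  swap
  · haveI : IsEmpty {k // d k = j} := ⟨fun k => hne ⟨k.1, k.2⟩⟩
    rw [det_isEmpty]; exact one_ne_zero
  obtain ⟨k, rfl⟩ := hne
  convert hT (d k) (Finset.mem_image_of_mem d (Finset.mem_univ k)) using 3
  ext a b
  show ent M a.1 b.1 (d k - 1) 0 = ent M a.1 b.1 (d a.1 - 1) 0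
  rw [a.2]

theorem good_congr {M g : Matrix (Idx d) (Idx d) F} (hM : Good M) (hg : Comm g) (hdet : g.det ≠ 0) :
    Good (gᵀ * M * g) := by
  refine ⟨?_, ?_, skewN_congr hM.2.2 hg⟩
  · rw [transpose_mul, transpose_mul, transpose_transpose, hM.1, neg_mul, mul_neg, mul_assoc]
  · rw [det_mul, det_mul, det_transpose]
    exact mul_ne_zero (mul_ne_zero hdet hM.2.1) hdet

theorem det_ne_zero_of_ld (hd : ∀ k, 1 ≤ d k) {A : Matrix (Idx d) (Idx d) F} (hA : Comm A)
    (h : ∀ j, (ld hd j A).det ≠ 0) : A.det ≠ 0 := by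
  obtain ⟨f, rfl⟩ := exists_toMat hd hA
  rw [det_toMat_ne_zero_iff hd]
  intro D hD
  convert h D using 2
  ext k l
  rw [ld_toMat]
  rfl

theorem comm_sec (hd : ∀ k, 1 ≤ d k) (H : (D : ℕ) → Matrix {k // d k = D} {k // d k = D} F) : Comm (sec H) :=
  Cfsg.Agent.S2581.toMat_comm _

theorem isNilpotent_of_ld_zero (hd : ∀ k, 1 ≤ d k) {A : Matrix (Idx d) (Idx d) F} (hA : Comm A)
    (h : ∀ j, ld hd j A = 0) : IsNilpotent A := by
  classical
  obtain ⟨B, hB⟩ : ∃ B, ∀ k, d k ≤ B := ⟨Finset.univ.sup d, fun k => Finset.le_sup (Finset.mem_univ k)⟩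
  let φ : Idx d → ℕ := fun x => (x.2 : ℕ) * (B + 1) + (B - d x.1)
  have h1 : ∀ x y, A x y ≠ 0 → φ y + 1 ≤ φ x := by
    intro x y hxy
    obtain ⟨hle, hd'⟩ := supp hd hA hxy
    have := hB x.1; have := hB y.1
    rcases Nat.lt_or_ge (y.2 : ℕ) x.2 with hlt | hge
    · have := Nat.mul_le_mul_right (B + 1) hlt
      rw [Nat.succ_mul] at this
      simp only [φ]
      omega
    · have he : (x.2 : ℕ) = y.2 := by omega
      have hlt : d x.1 < d y.1 := by
        rcases Nat.lt_or_ge (d x.1) (d y.1) with hh | hh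
        · exact hh
        · exfalso
          obtain ⟨k, ⟨i, hi⟩⟩ := x
          obtain ⟨l, ⟨i', hi'⟩⟩ := y
          simp only at he hd' hh
          subst he
          have e : d k = d l := by omega
          refine hxy ?_
          rw [diag_shift hd hA hi hi']
          exact congrFun (congrFun (h (d l)) ⟨k, e⟩) ⟨l, rfl⟩
      simp only [φ, he]
      omega
  have h2 : ∀ n x y, (A ^ n) x y ≠ 0 → φ y + n ≤ φ x := by
    intro n
    induction n with
    | zero =>
      intro x y hxy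
      rw [pow_zero, one_apply] at hxy
      split_ifs at hxy with e
      · rw [e, Nat.add_zero]
      · exact absurd rfl hxy
    | succ n ih =>
      intro x y hxy
      rw [pow_succ, mul_apply] at hxy
      obtain ⟨z, -, hz⟩ := Finset.exists_ne_zero_of_sum_ne_zero hxy
      have := ih x z (left_ne_zero_of_mul hz)
      have := h1 z y (right_ne_zero_of_mul hz)
      omega
  refine ⟨Finset.univ.sup φ + 1, Matrix.ext fun x y => ?_⟩
  by_contra hne
  have := h2 _ x y hne
  have := Finset.le_sup (f := φ) (Finset.mem_univ x)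
  omega

theorem congr_of_lead_eq {p : ℕ} [Fact p.Prime] [CharP F p] (hp : p ≠ 2) (hd : ∀ k, 1 ≤ d k)
    {M M₂ : Matrix (Idx d) (Idx d) F} (hM : Good M) (hM₂ : Good M₂) (h : ∀ j, lead j M = lead j M₂) :
    ∃ g, Comm g ∧ g.det ≠ 0 ∧ gᵀ * M * g = M₂ := by
  classical
  obtain ⟨hA, hdet, hN⟩ := hM
  obtain ⟨hA₂, hdet₂, hN₂⟩ := hM₂
  have hu : IsUnit M.det := hdet.isUnit
  obtain ⟨r, hr⟩ : ∃ r, r = M⁻¹ * (M₂ - M) := ⟨_, rfl⟩
  have hMr : M * r = M₂ - M := by rw [hr, ← mul_assoc, mul_nonsing_inv _ hu, one_mul]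
  have hcomm : Comm r := by
    have : M * (nil F d * r) = M * (r * nil F d) := by
      have e1 : M * nil F d = -((nil F d)ᵀ * M) := by rw [hN, neg_neg]
      have e2 : M₂ * nil F d = -((nil F d)ᵀ * M₂) := by rw [hN₂, neg_neg]
      rw [← mul_assoc, e1, neg_mul, mul_assoc, hMr, ← mul_assoc M, hMr, sub_mul, e1, e2, mul_sub]
      abel
    have h2 := congrArg (M⁻¹ * ·) this
    simp only [← mul_assoc (M⁻¹) M, nonsing_inv_mul _ hu, one_mul] at h2
    exact h2
  have hrT : rᵀ * M = M₂ - M := by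
    have e := congrArg Matrix.transpose hMr
    rw [transpose_mul, transpose_sub, hA, hA₂, mul_neg] at e
    rw [← neg_inj, e]
    abel
  have hld : ∀ j, ld hd j r = 0 := by
    intro j
    have e : lead j (M * r) = 0 := by
      rw [hMr]
      ext k l
      show ent (M₂ - M) k.1 l.1 (j - 1) 0 = 0
      have e := congrFun (congrFun (h j) k) l
      change ent M k.1 l.1 (j - 1) 0 = ent M₂ k.1 l.1 (j - 1) 0 at e
      rw [ent] at e ⊢
      rw [ent] at e
      split_ifs with hh
      · rw [dif_pos hh, dif_pos hh] at e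
        rw [Matrix.sub_apply, e, sub_self]
      · rfl
    rw [lead_mul hd hN hcomm] at e
    have hju : IsUnit (lead j M).det := (lead_det hd hN hdet j).isUnit
    calc ld hd j r = (lead j M)⁻¹ * (lead j M * ld hd j r) := by rw [← mul_assoc, nonsing_inv_mul _ hju, one_mul]
      _ = 0 := by rw [e, mul_zero]
  obtain ⟨n, hn⟩ := isNilpotent_of_ld_zero hd hcomm hld
  obtain ⟨e, he⟩ : ∃ e, n ≤ p ^ e := ⟨n, (Nat.lt_pow_self (Fact.out : p.Prime).one_lt).le⟩
  obtain ⟨c, hc⟩ : ∃ c, p ^ e + 1 = 2 * c :=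
    even_iff_two_dvd.1 (((Fact.out : p.Prime).odd_of_ne_two hp).pow.add_odd odd_one)
  have hone : (1 + r) ^ (p ^ e) = 1 := by
    rcases isEmpty_or_nonempty (Idx d) with hemp | hne
    · exact Subsingleton.elim _ _
    · rw [add_pow_char_pow_of_commute p e (Commute.one_left r), one_pow, pow_eq_zero_of_le he hn, add_zero]
  refine ⟨(1 + r) ^ c, ?_, ?_, ?_⟩
  · exact ((Commute.one_right (nil F d)).add_right (show Commute (nil F d) r from hcomm)).pow_right c
  · intro h0
    have h3 : ((1 + r) ^ c * (1 + r) ^ c).det = (1 + r).det := by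
      rw [← pow_add, show c + c = p ^ e + 1 by omega, pow_succ, hone, one_mul]
    rw [det_mul, h0, zero_mul] at h3
    have h4 := congrArg det hone
    rw [det_pow, ← h3, det_one, zero_pow (pow_ne_zero e (Fact.out : p.Prime).ne_zero)] at h4
    exact zero_ne_one h4
  · have hS : SemiconjBy M (1 + r) (1 + r)ᵀ := by
      show M * (1 + r) = (1 + r)ᵀ * M
      rw [transpose_add, transpose_one, add_mul, mul_add, one_mul, mul_one, hMr, hrT]
    rw [transpose_pow, ← (hS.pow_right c).eq, mul_assoc, ← pow_add, show c + c = p ^ e + 1 by omega,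
      pow_succ, hone, one_mul, mul_add, mul_one, hMr]
    abel

/-- Compatible forms with congruent leading forms are congruent by the commutant. -/
theorem congr_of_lead_congr {p : ℕ} [Fact p.Prime] [CharP F p] (hp : p ≠ 2) (hd : ∀ k, 1 ≤ d k)
    {M M₂ : Matrix (Idx d) (Idx d) F} (hM : Good M) (hM₂ : Good M₂)
    (h : ∀ j, ∃ H : Matrix {k // d k = j} {k // d k = j} F, Hᵀ * lead j M * H = lead j M₂) :
    ∃ g, Comm g ∧ g.det ≠ 0 ∧ gᵀ * M * g = M₂ := by
  classical
  choose H hH using h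
  have hc : Comm (sec (K := F) H) := comm_sec hd H
  have hdet : (sec (K := F) H).det ≠ 0 := det_ne_zero_of_ld hd hc fun j => by
    rw [ld_sec]
    intro e
    have := congrArg det (hH j)
    rw [det_mul, det_mul, det_transpose, e, zero_mul, zero_mul] at this
    exact lead_det hd hM₂.2.2 hM₂.2.1 j this.symm
  obtain ⟨g, hg, hgd, hge⟩ := congr_of_lead_eq hp hd (good_congr hM hc hdet) hM₂ fun j => by
    rw [lead_congr hd hM.2.2 hc, ld_sec, hH]
  exact ⟨sec H * g, comm_mul hc hg, by rw [det_mul]; exact mul_ne_zero hdet hgd, by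
    rw [← hge, transpose_mul]; simp only [mul_assoc]⟩

/-- The form with prescribed leading forms. -/
def model (G : (j : ℕ) → Matrix {k // d k = j} {k // d k = j} F) : Matrix (Idx d) (Idx d) F :=
  Matrix.of fun x y => if h : d x.1 = d y.1 ∧ (x.2 : ℕ) + y.2 + 1 = d x.1 then
    (-1) ^ (y.2 : ℕ) * G (d x.1) ⟨x.1, rfl⟩ ⟨y.1, h.1.symm⟩ else 0

theorem model_apply (G : (j : ℕ) → Matrix {k // d k = j} {k // d k = j} F) {j : ℕ} (k l : {k // d k = j})
    (a : Fin (d k.1)) (b : Fin (d l.1)) (h : (a : ℕ) + b + 1 = j) :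
    model G ⟨k.1, a⟩ ⟨l.1, b⟩ = (-1) ^ (b : ℕ) * G j k l := by
  obtain ⟨k, hk⟩ := k
  subst hk
  rw [model, of_apply, dif_pos ⟨l.2.symm, h⟩]

theorem model_lead (hd : ∀ k, 1 ≤ d k) (G : (j : ℕ) → Matrix {k // d k = j} {k // d k = j} F) (j : ℕ) :
    lead j (model G) = G j := by
  ext k l
  have := hd k.1; have := hd l.1; have := k.2
  show ent (model G) k.1 l.1 (j - 1) 0 = _
  rw [ent, dif_pos ⟨by omega, by omega⟩, model_apply G k l _ _ (by simp; omega)]
  simp

theorem model_good (hd : ∀ k, 1 ≤ d k) (G : (j : ℕ) → Matrix {k // d k = j} {k // d k = j} F)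
    (hs : ∀ j, (G j)ᵀ = (-1 : F) ^ j • G j) (hG : ∀ j, (G j).det ≠ 0) : Good (model G) := by
  classical
  refine ⟨?_, ?_, ?_⟩
  · ext ⟨k, a⟩ ⟨l, b⟩
    rw [transpose_apply, Matrix.neg_apply]
    by_cases h : d k = d l ∧ (a : ℕ) + b + 1 = d k
    · rw [model_apply G (j := d k) ⟨l, h.1.symm⟩ ⟨k, rfl⟩ b a (by omega),
        model_apply G (j := d k) ⟨k, rfl⟩ ⟨l, h.1.symm⟩ a b h.2]
      have e := congrFun (congrFun (hs (d k)) ⟨k, rfl⟩) ⟨l, h.1.symm⟩
      rw [transpose_apply, Matrix.smul_apply, smul_eq_mul] at e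
      rw [e, ← mul_assoc, ← pow_add, show (a : ℕ) + d k = (b : ℕ) + 1 + 2 * a by omega, pow_add, pow_mul,
        neg_one_sq, one_pow, mul_one, pow_succ]
      ring
    · simp only [model, of_apply]
      rw [dif_neg h, neg_zero, dif_neg]
      rintro ⟨e1, e2⟩
      exact h ⟨e1.symm, by omega⟩
  · intro h0
    obtain ⟨v, hv, hMv⟩ := Matrix.exists_mulVec_eq_zero_iff.2 h0
    refine hv (funext fun ⟨l, c⟩ => ?_)
    let w : {k // d k = d l} → F := fun l' => v ⟨l'.1, ⟨c, by rw [l'.2]; exact c.2⟩⟩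
    have hw : G (d l) *ᵥ w = 0 := by
      funext k
      have hc := c.2
      have ha : d l - 1 - (c : ℕ) < d k.1 := by rw [k.2]; omega
      have e : ∑ y, model G ⟨k.1, ⟨_, ha⟩⟩ y * v y = 0 := congrFun hMv _
      rw [← Fintype.sum_of_injective (fun l' : {k // d k = d l} => (⟨l'.1, ⟨c, by rw [l'.2]; exact c.2⟩⟩ : Idx d))
        (fun a b e => Subtype.ext (congrArg Sigma.fst e))
        (fun l' => (-1) ^ (c : ℕ) * (G (d l) k l' * w l')) _ (fun y hy => ?_) (fun l' => ?_)] at e
      · rw [← Finset.mul_sum] at e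
        exact (mul_eq_zero.1 e).resolve_left (pow_ne_zero _ (neg_ne_zero.2 one_ne_zero))
      · rw [model, of_apply, dif_neg, zero_mul]
        rintro ⟨e1, e2⟩
        have := k.2
        obtain ⟨y1, y2⟩ := y
        simp only at e1 e2
        exact hy ⟨⟨y1, by omega⟩, congrArg (Sigma.mk y1) (Fin.ext (by simp; omega))⟩
      · rw [model_apply G k l' _ _ (by simp; omega)]
        simp only [w]
        ring
    exact congrFun (Matrix.eq_zero_of_mulVec_eq_zero (hG _) hw) ⟨l, rfl⟩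
  · refine Matrix.ext fun ⟨k, a, ha⟩ ⟨l, b, hb⟩ => ?_
    rw [nilT_mul_ent, Matrix.neg_apply, mul_nil_ent]
    by_cases h : d k = d l ∧ a + b + 2 = d k
    · rw [ent, dif_pos ⟨by omega, hb⟩, ent, dif_pos ⟨ha, by omega⟩,
        model_apply G (j := d k) ⟨k, rfl⟩ ⟨l, h.1.symm⟩ _ _ (by simp; omega),
        model_apply G (j := d k) ⟨k, rfl⟩ ⟨l, h.1.symm⟩ _ _ (by simp; omega)]
      simp only [pow_succ]
      ring
    · have z1 : ∀ i i' : ℕ, i + i' = a + b + 1 → ent (model G) k l i i' = 0 := fun i i' hi => by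
        rw [ent]
        split_ifs
        · rw [model, of_apply, dif_neg]
          rintro ⟨e1, e2⟩
          simp only at e1 e2
          exact h ⟨e1, by omega⟩
        · rfl
      rw [z1 _ _ (by simp; omega), z1 _ _ (by simp; omega), neg_zero]

end Cfsg.Agent.Lib.Similar.Signed
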