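import Mathlib
import Cfsg.Agent.Lib.Similar.SignedForms
import Cfsg.Agent.Lib.Similar.JordanChains
import Cfsg.Agent.Lib.Geometry.SympBasis
import Cfsg.Agent.Lib.Geometry.SymmDiscr

/-!
Congruence of forms over a finite field, the Cayley map, and shift bases.
-/

set_option autoImplicit false
set_option linter.unusedSectionVars false

namespace Cfsg.Agent.Lib.Similar.Signed

open Matrix
open Cfsg.Agent.S2581 (nil)
open Cfsg.Agent.Lib.Similar.UnipU (Idx Comm ld)

variable {F : Type*} [Field F]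

section Congruence

variable {ι κ : Type*} [Fintype ι] [DecidableEq ι] [Fintype κ] [DecidableEq κ]

theorem congr_of_equiv {M : Matrix ι ι F} {M' : Matrix κ κ F} (φ : (ι → F) ≃ₗ[F] (κ → F))
    (h : ∀ u v, Matrix.toBilin' M' (φ u) (φ v) = Matrix.toBilin' M u v) :
    ∃ (P : Matrix κ ι F) (Q : Matrix ι κ F), P * Q = 1 ∧ Q * P = 1 ∧ Pᵀ * M' * P = M := by
  refine ⟨LinearMap.toMatrix' φ.toLinearMap, LinearMap.toMatrix' φ.symm.toLinearMap, ?_, ?_, ?_⟩
  · rw [← LinearMap.toMatrix'_comp]; simp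
  · rw [← LinearMap.toMatrix'_comp]; simp
  · apply Matrix.toBilin'.injective
    rw [← Matrix.toBilin'_comp, Matrix.toLin'_toMatrix']
    exact LinearMap.ext fun u => LinearMap.ext fun v => h u v

theorem isAlt_of_skew (h2 : (2 : F) ≠ 0) {M : Matrix ι ι F} (hA : Mᵀ = -M) : (Matrix.toBilin' M).IsAlt := by
  intro x
  rw [Matrix.toBilin'_apply']
  have h : x ⬝ᵥ (M *ᵥ x) = -(x ⬝ᵥ (M *ᵥ x)) := by
    conv_lhs => rw [Matrix.dotProduct_mulVec, ← Matrix.mulVec_transpose, hA, Matrix.neg_mulVec, neg_dotProduct,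
      dotProduct_comm]
  have h' : (2 : F) * (x ⬝ᵥ (M *ᵥ x)) = 0 := by linear_combination h
  exact (mul_eq_zero.1 h').resolve_left h2

theorem exists_std_basis (h2 : (2 : F) ≠ 0) {M : Matrix ι ι F} (hA : Mᵀ = -M) (hM : M.det ≠ 0) :
    ∃ (r : ℕ) (b : Module.Basis (Fin r ⊕ Fin r) F (ι → F)),
      ∀ i j, Matrix.toBilin' M (b i) (b j) = Matrix.fromBlocks (0 : Matrix (Fin r) (Fin r) F) 1 (-1) 0 i j := by
  have hAlt := isAlt_of_skew h2 hA
  have hN : (Matrix.toBilin' M).Nondegenerate :=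
    Matrix.nondegenerate_toBilin'_iff.2 (Matrix.nondegenerate_of_det_ne_zero hM)
  obtain ⟨r, k, b, hef, hee, hff, hrad⟩ := Cfsg.Agent.Lib.Geometry.exists_sympBasis (Matrix.toBilin' M) hAlt
  obtain rfl : k = 0 := by
    rcases Nat.eq_zero_or_pos k with h0 | h0
    · exact h0
    · exact absurd (hN.1 _ (hrad ⟨0, h0⟩)) (b.ne_zero _)
  refine ⟨r, b.reindex (Equiv.sumEmpty _ _), fun i j => ?_⟩
  simp only [Module.Basis.reindex_apply]
  rcases i with i | i <;> rcases j with j | j <;>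
    simp only [Equiv.sumEmpty_symm_apply, Matrix.fromBlocks_apply₁₁, Matrix.fromBlocks_apply₁₂,
      Matrix.fromBlocks_apply₂₁, Matrix.fromBlocks_apply₂₂, Matrix.zero_apply, Matrix.neg_apply,
      Matrix.one_apply]
  · exact hee i j
  · exact hef i j
  · rw [← hAlt.neg_eq, hef]
    simp only [eq_comm]
  · exact hff i j

theorem even_card_of_skew (h2 : (2 : F) ≠ 0) {M : Matrix ι ι F} (hA : Mᵀ = -M) (hM : M.det ≠ 0) :
    Even (Fintype.card ι) := by
  obtain ⟨r, b, -⟩ := exists_std_basis h2 hA hM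
  have h := Module.finrank_eq_card_basis b
  rw [Module.finrank_fintype_fun_eq_card, Fintype.card_sum, Fintype.card_fin] at h
  exact ⟨r, h⟩

theorem alt_congr (h2 : (2 : F) ≠ 0) {M : Matrix ι ι F} {M' : Matrix κ κ F} (hA : Mᵀ = -M) (hM : M.det ≠ 0)
    (hA' : M'ᵀ = -M') (hM' : M'.det ≠ 0) (hc : Fintype.card ι = Fintype.card κ) :
    ∃ (P : Matrix κ ι F) (Q : Matrix ι κ F), P * Q = 1 ∧ Q * P = 1 ∧ Pᵀ * M' * P = M := by
  obtain ⟨r, b, hb⟩ := exists_std_basis h2 hA hM
  obtain ⟨r', b', hb'⟩ := exists_std_basis h2 hA' hM'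
  obtain rfl : r = r' := by
    have h := Module.finrank_eq_card_basis b
    have h' := Module.finrank_eq_card_basis b'
    simp only [Module.finrank_fintype_fun_eq_card, Fintype.card_sum, Fintype.card_fin] at h h'
    omega
  refine congr_of_equiv (b.equiv b' (Equiv.refl _)) fun u v => ?_
  have hcomp : (Matrix.toBilin' M').comp (b.equiv b' (Equiv.refl _)).toLinearMap
      (b.equiv b' (Equiv.refl _)).toLinearMap = Matrix.toBilin' M := by
    refine LinearMap.BilinForm.ext_basis b fun i j => ?_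
    simp only [LinearMap.BilinForm.comp_apply, LinearEquiv.coe_coe, Module.Basis.equiv_apply,
      Equiv.refl_apply, hb, hb']
  exact LinearMap.congr_fun (LinearMap.congr_fun hcomp u) v

theorem sym_congr [Finite F] (h2 : (2 : F) ≠ 0) {G G' : Matrix ι ι F} (hS : Gᵀ = G) (hS' : G'ᵀ = G')
    (hG : G.det ≠ 0) (hG' : G'.det ≠ 0) (h : IsSquare G.det ↔ IsSquare G'.det) :
    ∃ H : Matrix ι ι F, Hᵀ * G * H = G' := by
  have hsym : ∀ {A : Matrix ι ι F}, Aᵀ = A → (Matrix.toBilin' A).IsSymm := fun {A} hA => ⟨fun x y => by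
    rw [Matrix.toBilin'_apply', Matrix.toBilin'_apply', Matrix.dotProduct_mulVec, ← Matrix.mulVec_transpose, hA,
      dotProduct_comm]⟩
  have hnd : ∀ {A : Matrix ι ι F}, A.det ≠ 0 → (Matrix.toBilin' A).Nondegenerate := fun hA =>
    Matrix.nondegenerate_toBilin'_iff.2 (Matrix.nondegenerate_of_det_ne_zero hA)
  have hmat : ∀ A : Matrix ι ι F, LinearMap.BilinForm.toMatrix (Pi.basisFun F ι) (Matrix.toBilin' A) = A := fun A => by
    ext i j
    rw [LinearMap.BilinForm.toMatrix_apply, Pi.basisFun_apply, Pi.basisFun_apply, Matrix.toBilin'_single]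
  obtain ⟨g, hg⟩ := Cfsg.Agent.Lib.Geometry.exists_isometry_of_isSquare_det_mul h2 (Matrix.toBilin' G')
    (Matrix.toBilin' G) (hsym hS') (hsym hS) (hnd hG') (hnd hG) (Pi.basisFun F ι) (by
      rw [hmat, hmat]
      by_cases hs : IsSquare G.det
      · exact (h.1 hs).mul hs
      · exact Cfsg.Agent.Lib.Geometry.isSquare_mul_iff_of_not_isSquare (fun e => hs (h.2 e)) hs)
  obtain ⟨P, Q, -, -, hP⟩ := congr_of_equiv g hg
  exact ⟨P, hP⟩

end Congruence

section Cayley

variable {m : ℕ} (p : ℕ)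

local notation "M2" => Matrix (Fin m ⊕ Fin m) (Fin m ⊕ Fin m) F

/-- Skew-adjoint for the standard alternating form. -/
def SkewJ (X : M2) : Prop := Xᵀ * J (Fin m) F + J (Fin m) F * X = 0

/-- The Cayley transform of a nilpotent matrix. -/
def cay (X : M2) : M2 := (1 + X) * (1 - X) ^ (p - 1)

/-- The inverse of the Cayley transform. -/
def cayInv (u : M2) : M2 := (2 : F)⁻¹ • ((u - 1) * (u + 1) ^ (p - 1))

theorem cay_semiconj {A X Y : M2} (h : SemiconjBy A X Y) : SemiconjBy A (cay p X) (cay p Y) :=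
  ((SemiconjBy.one_right A).add_right h).mul_right (((SemiconjBy.one_right A).sub_right h).pow_right _)

theorem cayInv_semiconj {A u v : M2} (h : SemiconjBy A u v) : SemiconjBy A (cayInv p u) (cayInv p v) := by
  have h' := (h.sub_right (SemiconjBy.one_right A)).mul_right ((h.add_right (SemiconjBy.one_right A)).pow_right (p - 1))
  show A * cayInv p u = cayInv p v * A
  rw [cayInv, cayInv, Matrix.mul_smul, Matrix.smul_mul, h'.eq]

variable {p} [Fact p.Prime] [CharP F p]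

theorem add_pow_p {ι : Type*} [Fintype ι] [DecidableEq ι] {A B : Matrix ι ι F} (h : Commute A B) :
    (A + B) ^ p = A ^ p + B ^ p := by
  rcases isEmpty_or_nonempty ι with hemp | hne
  · exact Subsingleton.elim _ _
  · exact add_pow_char_of_commute p h

theorem neg_pow_p {ι : Type*} [Fintype ι] [DecidableEq ι] (hp : p ≠ 2) (A : Matrix ι ι F) : (-A) ^ p = -A ^ p :=
  ((Fact.out : p.Prime).odd_of_ne_two hp).neg_pow A

theorem one_sub_pow_p (hp : p ≠ 2) {X : M2} (hX : X ^ p = 0) : (1 - X) ^ p = 1 := by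
  rw [sub_eq_add_neg, add_pow_p (Commute.one_left _), neg_pow_p hp, hX, neg_zero, one_pow, add_zero]

theorem one_add_pow_p {X : M2} (hX : X ^ p = 0) : (1 + X) ^ p = 1 := by
  rw [add_pow_p (Commute.one_left _), hX, one_pow, add_zero]

theorem cay_pow (hp : p ≠ 2) {X : M2} (hX : X ^ p = 0) : cay p X ^ p = 1 := by
  have hc : Commute (1 + X) ((1 - X) ^ (p - 1)) :=
    (((Commute.one_left _).add_left ((Commute.one_right X).sub_right (Commute.refl X)))).pow_right _
  rw [cay, hc.mul_pow, one_add_pow_p hX, ← pow_mul, mul_comm, pow_mul, one_sub_pow_p hp hX, one_pow, one_mul]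

theorem one_sub_mul_pow (hp : p ≠ 2) {X : M2} (hX : X ^ p = 0) :
    (1 - X) * (1 - X) ^ (p - 1) = 1 ∧ (1 - X) ^ (p - 1) * (1 - X) = 1 := by
  have := (Fact.out : p.Prime).one_lt
  rw [← pow_succ', ← pow_succ, show p - 1 + 1 = p by omega, one_sub_pow_p hp hX]
  exact ⟨rfl, rfl⟩

theorem cay_mem (hp : p ≠ 2) {X : M2} (hs : SkewJ X) (hX : X ^ p = 0) : cay p X ∈ symplecticGroup (Fin m) F := by
  rw [SymplecticGroup.mem_iff']
  obtain ⟨h1, -⟩ := one_sub_mul_pow hp hX
  have h : (1 + X)ᵀ * J (Fin m) F * (1 + X) = (1 - X)ᵀ * J (Fin m) F * (1 - X) := by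
    rw [transpose_add, transpose_sub, transpose_one]
    have e : Xᵀ * J (Fin m) F = -(J (Fin m) F * X) := eq_neg_of_add_eq_zero_left hs
    simp only [add_mul, sub_mul, mul_add, mul_sub, one_mul, mul_one, e]
    abel
  calc (cay p X)ᵀ * J (Fin m) F * cay p X
      = ((1 - X) ^ (p - 1))ᵀ * ((1 + X)ᵀ * J (Fin m) F * (1 + X)) * (1 - X) ^ (p - 1) := by
        rw [cay, transpose_mul]; simp only [mul_assoc]
    _ = ((1 - X) * (1 - X) ^ (p - 1))ᵀ * J (Fin m) F * ((1 - X) * (1 - X) ^ (p - 1)) := by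
        rw [h, transpose_mul (1 - X)]; simp only [mul_assoc]
    _ = J (Fin m) F := by rw [h1, transpose_one, one_mul, mul_one]

theorem two_ne_zero_of_char (hp : p ≠ 2) : (2 : F) ≠ 0 := by
  intro h
  have h' : ((2 : ℕ) : F) = 0 := by exact_mod_cast h
  rw [CharP.cast_eq_zero_iff F p] at h'
  exact hp ((Nat.prime_dvd_prime_iff_eq (Fact.out : p.Prime) Nat.prime_two).1 h')

theorem u_add_one_pow (hp : p ≠ 2) {u : M2} (hu : u ^ p = 1) :
    (u + 1) * ((2 : F)⁻¹ • (u + 1) ^ (p - 1)) = 1 ∧ ((2 : F)⁻¹ • (u + 1) ^ (p - 1)) * (u + 1) = 1 := by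
  have := (Fact.out : p.Prime).one_lt
  rw [Matrix.mul_smul, Matrix.smul_mul, ← pow_succ', ← pow_succ, show p - 1 + 1 = p by omega,
    add_pow_p (Commute.one_right u), hu, one_pow]
  have e : (2 : F)⁻¹ • ((1 : M2) + 1) = 1 := by
    rw [← two_smul F (1 : M2), smul_smul, inv_mul_cancel₀ (two_ne_zero_of_char hp), one_smul]
  exact ⟨e, e⟩

theorem cayInv_mul (hp : p ≠ 2) {u : M2} (hu : u ^ p = 1) : cayInv p u * (u + 1) = u - 1 := by
  rw [cayInv, ← Matrix.mul_smul, mul_assoc, (u_add_one_pow hp hu).2, mul_one]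

theorem cayInv_pow (hp : p ≠ 2) {u : M2} (hu : u ^ p = 1) : cayInv p u ^ p = 0 := by
  have hc : Commute (u - 1) ((u + 1) ^ (p - 1)) :=
    (((Commute.refl u).add_right (Commute.one_right u)).sub_left (Commute.one_left _)).pow_right _
  rw [cayInv, _root_.smul_pow, hc.mul_pow, sub_eq_add_neg, add_pow_p (Commute.one_right u).neg_right,
    neg_pow_p hp, hu, one_pow, add_neg_cancel, zero_mul, smul_zero]

theorem cayInv_skew (hp : p ≠ 2) {u : M2} (hu : u ^ p = 1) (hmem : u ∈ symplecticGroup (Fin m) F) :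
    SkewJ (cayInv p u) := by
  rw [SymplecticGroup.mem_iff'] at hmem
  obtain ⟨X, hX⟩ : ∃ X, X = cayInv p u := ⟨_, rfl⟩
  obtain ⟨W, hW⟩ : ∃ W, W = (2 : F)⁻¹ • (u + 1) ^ (p - 1) := ⟨_, rfl⟩
  have h1 := cayInv_mul hp hu
  have h2 : (u + 1) * W = 1 := hW ▸ (u_add_one_pow hp hu).1
  rw [← hX] at h1 ⊢
  have h3 : (u + 1)ᵀ * (Xᵀ * J (Fin m) F + J (Fin m) F * X) * (u + 1) = 0 := by
    have e : (u + 1)ᵀ * (Xᵀ * J (Fin m) F + J (Fin m) F * X) * (u + 1) =
        (X * (u + 1))ᵀ * J (Fin m) F * (u + 1) + (u + 1)ᵀ * J (Fin m) F * (X * (u + 1)) := by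
      rw [transpose_mul]
      generalize u + 1 = a
      simp only [mul_add, add_mul, mul_assoc]
    rw [e, h1, transpose_sub, transpose_add, transpose_one]
    simp only [add_mul, sub_mul, mul_add, mul_sub, one_mul, mul_one, hmem]
    abel
  calc Xᵀ * J (Fin m) F + J (Fin m) F * X
      = ((u + 1) * W)ᵀ * (Xᵀ * J (Fin m) F + J (Fin m) F * X) * ((u + 1) * W) := by
        rw [h2, transpose_one, one_mul, mul_one]
    _ = Wᵀ * ((u + 1)ᵀ * (Xᵀ * J (Fin m) F + J (Fin m) F * X) * (u + 1)) * W := by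
        rw [transpose_mul]; simp only [mul_assoc]
    _ = 0 := by rw [h3, mul_zero, zero_mul]

theorem cay_cayInv (hp : p ≠ 2) {u : M2} (hu : u ^ p = 1) : cay p (cayInv p u) = u := by
  obtain ⟨X, hX⟩ : ∃ X, X = cayInv p u := ⟨_, rfl⟩
  obtain ⟨W, hW⟩ : ∃ W, W = (2 : F)⁻¹ • (u + 1) ^ (p - 1) := ⟨_, rfl⟩
  have h1 := cayInv_mul hp hu
  have h2 : (u + 1) * W = 1 := hW ▸ (u_add_one_pow hp hu).1
  have hp0 : X ^ p = 0 := hX ▸ cayInv_pow hp hu
  rw [← hX] at h1 ⊢
  have hc : (u + 1) * u = u * (u + 1) := by rw [add_mul, mul_add, one_mul, mul_one]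
  have hcW : W * u = u * W := by
    rw [hW, Matrix.smul_mul, Matrix.mul_smul]
    exact congrArg (fun Z => (2 : F)⁻¹ • Z) (((Commute.refl u).add_left (Commute.one_left u)).pow_left (p - 1)).eq
  have hcX : X * u = u * X := by
    rw [hX, cayInv, ← Matrix.mul_smul, ← hW, mul_assoc, hcW, ← mul_assoc, sub_mul, one_mul, ← mul_assoc u,
      mul_sub, mul_one]
  have h4 : (1 + X) * (u + 1) = u * (1 - X) * (u + 1) := by
    rw [mul_sub u, mul_one, sub_mul, ← hcX, mul_assoc X, ← hc, ← mul_assoc, h1, add_mul, one_mul, h1]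
    noncomm_ring
  have h5 : 1 + X = u * (1 - X) := by
    calc 1 + X = (1 + X) * ((u + 1) * W) := by rw [h2, mul_one]
      _ = u * (1 - X) * ((u + 1) * W) := by rw [← mul_assoc, h4, mul_assoc]
      _ = u * (1 - X) := by rw [h2, mul_one]
  rw [cay, h5, mul_assoc, (one_sub_mul_pow hp hp0).1, mul_one]

theorem cayInv_cay (hp : p ≠ 2) {X : M2} (hX : X ^ p = 0) : cayInv p (cay p X) = X := by
  obtain ⟨u, hu⟩ : ∃ u, u = cay p X := ⟨_, rfl⟩
  obtain ⟨h1, h2⟩ := one_sub_mul_pow hp hX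
  rw [← hu]
  have hp' : u ^ p = 1 := hu ▸ cay_pow hp hX
  obtain ⟨W, hW⟩ : ∃ W, W = (2 : F)⁻¹ • (u + 1) ^ (p - 1) := ⟨_, rfl⟩
  have hU : u * (1 - X) = 1 + X := by rw [hu, cay, mul_assoc, h2, mul_one]
  have h4 : (u - 1) * (1 - X) = X * ((u + 1) * (1 - X)) := by
    rw [sub_mul, add_mul, hU, one_mul]
    simp only [mul_add, mul_sub, mul_one]
    abel
  have h5 : u - 1 = X * (u + 1) := by
    calc u - 1 = (u - 1) * ((1 - X) * (1 - X) ^ (p - 1)) := by rw [h1, mul_one]
      _ = X * (u + 1) * ((1 - X) * (1 - X) ^ (p - 1)) := by rw [← mul_assoc, h4]; simp only [mul_assoc]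
      _ = X * (u + 1) := by rw [h1, mul_one]
  rw [cayInv, ← Matrix.mul_smul, ← hW, h5, mul_assoc, hW, (u_add_one_pow hp hp').1, mul_one]

end Cayley

section Shift

variable {t : ℕ} {d : Fin t → ℕ} {κ : Type*} [Fintype κ] [DecidableEq κ]

/-- `P` carries the nilpotent Jordan matrix of type `d` to `X`. -/
def Shift (X : Matrix κ κ F) (P : Matrix κ (Idx d) F) (Q : Matrix (Idx d) κ F) : Prop :=
  P * Q = 1 ∧ Q * P = 1 ∧ X * P = P * nil F d

theorem nil_pow_eq_zero {n : ℕ} (h : ∀ k, d k ≤ n) : nil F d ^ n = 0 := by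
  have key : ∀ i (x y : Idx d), (nil F d ^ i) x y ≠ 0 → (y.2 : ℕ) + i ≤ x.2 := by
    intro i
    induction i with
    | zero =>
      intro x y hxy
      rw [pow_zero, one_apply] at hxy
      split_ifs at hxy with e
      · rw [e, Nat.add_zero]
      · exact absurd rfl hxy
    | succ i ih =>
      intro x y hxy
      rw [pow_succ, mul_apply] at hxy
      obtain ⟨z, -, hz⟩ := Finset.exists_ne_zero_of_sum_ne_zero hxy
      have h1 := ih x z (left_ne_zero_of_mul hz)
      have h2 := right_ne_zero_of_mul hz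
      rw [nil, of_apply] at h2
      split_ifs at h2 with e
      · omega
      · exact absurd rfl h2
  refine Matrix.ext fun x y => ?_
  by_contra hne
  have := key n x y hne
  have := x.2.2
  have := h x.1
  omega

theorem Shift.semiconj {X : Matrix κ κ F} {P : Matrix κ (Idx d) F} {Q : Matrix (Idx d) κ F} (h : Shift X P Q)
    (i : ℕ) : X ^ i * P = P * nil F d ^ i := by
  induction i with
  | zero => simp
  | succ i ih => rw [pow_succ', pow_succ', Matrix.mul_assoc, ih, ← Matrix.mul_assoc, h.2.2, Matrix.mul_assoc]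

theorem Shift.pow_eq_zero {X : Matrix κ κ F} {P : Matrix κ (Idx d) F} {Q : Matrix (Idx d) κ F} (h : Shift X P Q)
    {n : ℕ} (hn : ∀ k, d k ≤ n) : X ^ n = 0 := by
  calc X ^ n = X ^ n * P * Q := by rw [Matrix.mul_assoc, h.1, Matrix.mul_one]
    _ = 0 := by rw [h.semiconj, nil_pow_eq_zero hn, Matrix.mul_zero, Matrix.zero_mul]

theorem Shift.finrank_range {X : Matrix κ κ F} {P : Matrix κ (Idx d) F} {Q : Matrix (Idx d) κ F} (h : Shift X P Q)
    (i : ℕ) : Module.finrank F (LinearMap.range ((Matrix.toLin' X) ^ i)) = ∑ k, (d k - i) := by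
  have hb : JordanChains.IsChainBasis (Matrix.toLin' (1 + X)) d
      ((Pi.basisFun F (Idx d)).map (Matrix.toLin'OfInv h.2.1 h.1)) := by
    intro k a
    simp only [Module.Basis.map_apply, Pi.basisFun_apply]
    show (Matrix.toLin' (1 + X) - 1 : Module.End F (κ → F)) (Matrix.toLin' P (Pi.single ⟨k, a⟩ 1)) = _
    rw [map_add, Matrix.toLin'_one, ← Module.End.one_eq_id, add_sub_cancel_left]
    simp only [Matrix.toLin'_apply, Matrix.mulVec_mulVec, h.2.2]
    rw [← Matrix.mulVec_mulVec, Matrix.mulVec_single_one]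
    split_ifs with hlt
    · show P *ᵥ (nil F d).col ⟨k, a⟩ = P *ᵥ Pi.single ⟨k, ⟨a + 1, hlt⟩⟩ 1
      congr 1
      funext x
      rw [Matrix.col_apply, nil, of_apply, Pi.single_apply]
      refine if_congr ⟨?_, ?_⟩ rfl rfl
      · rintro ⟨h1, h2⟩
        obtain ⟨x1, x2⟩ := x
        simp only at h1 h2
        subst h1
        exact congrArg (Sigma.mk x1) (Fin.ext h2)
      · rintro rfl
        exact ⟨rfl, rfl⟩
    · have : (nil F d).col ⟨k, a⟩ = 0 := by
        funext x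
        rw [Matrix.col_apply, nil, of_apply, if_neg]
        · rfl
        rintro ⟨h1, h2⟩
        have := x.2.2
        simp only at h1 h2
        have : d x.1 = d k := congrArg d h1
        omega
      rw [this, Matrix.mulVec_zero]
  have := JordanChains.finrank_range_pow hb i
  rwa [map_add, Matrix.toLin'_one, ← Module.End.one_eq_id, add_sub_cancel_left] at this

theorem count_eq_of_shift {t' : ℕ} {d' : Fin t' → ℕ} {X : Matrix κ κ F} {P : Matrix κ (Idx d) F}
    {Q : Matrix (Idx d) κ F} {P' : Matrix κ (Idx d') F} {Q' : Matrix (Idx d') κ F}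
    (h : Shift X P Q) (h' : Shift X P' Q') {j : ℕ} (hj : 1 ≤ j) :
    (Finset.univ.filter fun k => d k = j).card = (Finset.univ.filter fun k => d' k = j).card := by
  have key : ∀ {s : ℕ} (e : Fin s → ℕ), (∑ k, (e k - (j - 1))) + ∑ k, (e k - (j + 1)) =
      2 * (∑ k, (e k - j)) + (Finset.univ.filter fun k => e k = j).card := by
    intro s e
    rw [← Finset.sum_add_distrib, Finset.sum_congr rfl (fun k _ => show
      (e k - (j - 1)) + (e k - (j + 1)) = 2 * (e k - j) + (if e k = j then 1 else 0) by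
        split_ifs <;> omega), Finset.sum_add_distrib, ← Finset.mul_sum, Finset.sum_boole, Nat.cast_id]
  have hr : ∀ i, ∑ k, (d k - i) = ∑ k, (d' k - i) := fun i => by rw [← h.finrank_range, h'.finrank_range]
  have h1 := key d
  have h2 := key d'
  rw [hr, hr, hr] at h1
  omega

theorem Shift.congr {X : Matrix κ κ F} {P : Matrix κ (Idx d) F} {Q : Matrix (Idx d) κ F} (h : Shift X P Q)
    {g : Matrix (Idx d) (Idx d) F} (hg : Comm g) (hdet : g.det ≠ 0) : Shift X (P * g) (g⁻¹ * Q) := by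
  refine ⟨?_, ?_, ?_⟩
  · rw [Matrix.mul_assoc P, ← Matrix.mul_assoc g, mul_nonsing_inv _ hdet.isUnit, Matrix.one_mul, h.1]
  · rw [Matrix.mul_assoc g⁻¹, ← Matrix.mul_assoc Q, h.2.1, Matrix.one_mul, nonsing_inv_mul _ hdet.isUnit]
  · rw [← Matrix.mul_assoc, h.2.2, Matrix.mul_assoc, hg, ← Matrix.mul_assoc]

theorem Shift.conj {X Y : Matrix κ κ F} {P : Matrix κ (Idx d) F} {Q : Matrix (Idx d) κ F} (h : Shift X P Q)
    {A A' : Matrix κ κ F} (h1 : A * A' = 1) (h2 : A' * A = 1) (he : A * X = Y * A) :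
    Shift Y (A * P) (Q * A') := by
  refine ⟨?_, ?_, ?_⟩
  · rw [Matrix.mul_assoc A, ← Matrix.mul_assoc P, h.1, Matrix.one_mul, h1]
  · rw [Matrix.mul_assoc Q, ← Matrix.mul_assoc A', h2, Matrix.one_mul, h.2.1]
  · rw [← Matrix.mul_assoc, ← he, Matrix.mul_assoc, h.2.2, ← Matrix.mul_assoc]

theorem skewJ_iff_skewN {m : ℕ} {X : Matrix (Fin m ⊕ Fin m) (Fin m ⊕ Fin m) F}
    {P : Matrix (Fin m ⊕ Fin m) (Idx d) F} {Q : Matrix (Idx d) (Fin m ⊕ Fin m) F} (h : Shift X P Q) :
    SkewJ X ↔ SkewN (Pᵀ * J (Fin m) F * P) := by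
  have e : Pᵀ * (Xᵀ * J (Fin m) F + J (Fin m) F * X) * P =
      (nil F d)ᵀ * (Pᵀ * J (Fin m) F * P) + Pᵀ * J (Fin m) F * P * nil F d := by
    rw [Matrix.mul_add, Matrix.add_mul]
    congr 1
    · rw [← Matrix.mul_assoc Pᵀ, ← transpose_mul, h.2.2, transpose_mul]
      simp only [Matrix.mul_assoc]
    · simp only [Matrix.mul_assoc, h.2.2]
  constructor
  · intro hs
    rw [SkewJ] at hs
    rw [hs, Matrix.mul_zero, Matrix.zero_mul] at e
    exact eq_neg_of_add_eq_zero_left e.symm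
  · intro hs
    rw [SkewN] at hs
    rw [hs, neg_add_cancel] at e
    show Xᵀ * J (Fin m) F + J (Fin m) F * X = 0
    calc Xᵀ * J (Fin m) F + J (Fin m) F * X
        = (P * Q)ᵀ * (Xᵀ * J (Fin m) F + J (Fin m) F * X) * (P * Q) := by
          rw [h.1, transpose_one, Matrix.one_mul, Matrix.mul_one]
      _ = Qᵀ * (Pᵀ * (Xᵀ * J (Fin m) F + J (Fin m) F * X) * P) * Q := by
          rw [transpose_mul]; simp only [Matrix.mul_assoc]
      _ = 0 := by rw [e, Matrix.mul_zero, Matrix.zero_mul]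

theorem good_gram [Fintype F] {m : ℕ} {X : Matrix (Fin m ⊕ Fin m) (Fin m ⊕ Fin m) F}
    {P : Matrix (Fin m ⊕ Fin m) (Idx d) F} {Q : Matrix (Idx d) (Fin m ⊕ Fin m) F} (h : Shift X P Q)
    (hs : SkewJ X) : Good (Pᵀ * J (Fin m) F * P) := by
  refine ⟨?_, ?_, (skewJ_iff_skewN h).1 hs⟩
  · rw [transpose_mul, transpose_mul, transpose_transpose, J_transpose, Matrix.neg_mul, Matrix.mul_neg,
      Matrix.mul_assoc]
  · intro h0
    have e : (Pᵀ * J (Fin m) F * P) * (Q * (-J (Fin m) F) * Qᵀ) = 1 := by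
      calc (Pᵀ * J (Fin m) F * P) * (Q * (-J (Fin m) F) * Qᵀ)
          = Pᵀ * (J (Fin m) F * (P * Q) * (-J (Fin m) F)) * Qᵀ := by simp only [Matrix.mul_assoc]
        _ = Pᵀ * Qᵀ := by rw [h.1, Matrix.mul_one, Matrix.mul_neg, J_squared, neg_neg, Matrix.mul_one]
        _ = 1 := by rw [← transpose_mul, h.2.1, transpose_one]
    have := congrArg det e
    rw [det_mul, h0, zero_mul, det_one] at this
    exact zero_ne_one this

end Shift

end Cfsg.Agent.Lib.Similar.Signed
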