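import Mathlib
import Cfsg.Agent.Lib.Geometry.SympBasis

/-!
Centralisers of fixed-point-free isometries of odd order: determinants of similitudes, and an element whose
determinant is a non-square and which commutes with its adjoint.
-/

set_option autoImplicit false

namespace Cfsg.Agent.Lib.Similar.CentSpinor

open Polynomial
open scoped Matrix

variable {F : Type*} [Field F]

/-- The radical of an alternating matrix has even codimension. -/
theorem alt_basis {ι : Type*} [Fintype ι] [DecidableEq ι] {W : Matrix ι ι F} (hW : ∀ v : ι → F, v ⬝ᵥ W *ᵥ v = 0) :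
    ∃ (m k : ℕ) (b : Module.Basis ((Fin m ⊕ Fin m) ⊕ Fin k) F (ι → F)), Fintype.card ι = 2 * m + k ∧
      (∀ j, W *ᵥ b (.inr j) = 0) ∧ (k = 0 →
        IsSquare W.det ∧ W.det ≠ 0 ∧ ∀ (C : Matrix ι ι F) (μ : F), μ ≠ 0 → Cᵀ * W * C = μ • W → C.det = μ ^ m) := by
  classical
  obtain ⟨B, hB⟩ : ∃ B : LinearMap.BilinForm F (ι → F), ∀ u v, B u v = u ⬝ᵥ W *ᵥ v :=
    ⟨Matrix.toBilin' W, fun u v => Matrix.toBilin'_apply' W u v⟩
  have hA : B.IsAlt := fun v => (hB v v).trans (hW v)
  obtain ⟨m, k, b, h12, h11, h22, hrad⟩ := Cfsg.Agent.Lib.Geometry.exists_sympBasis B hA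
  have hcard : Fintype.card ι = 2 * m + k := by
    have h := Module.finrank_eq_card_basis b
    rw [Module.finrank_fintype_fun_eq_card, Fintype.card_sum, Fintype.card_sum, Fintype.card_fin, Fintype.card_fin] at h
    omega
  refine ⟨m, k, b, hcard, fun j => funext fun i => ?_, fun hk => ?_⟩
  · have h := hA.neg_eq (b (.inr j)) (Pi.single i 1)
    rw [hrad, neg_zero, hB, single_one_dotProduct] at h
    exact h.symm
  subst hk
  obtain ⟨b', hb'⟩ : ∃ b' : Module.Basis (Fin m ⊕ Fin m) F (ι → F), ∀ i, b' i = b (.inl i) :=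
    ⟨b.reindex (Equiv.sumEmpty _ _), fun i => by simp⟩
  have hJ : LinearMap.BilinForm.toMatrix b' B = -Matrix.J (Fin m) F := by
    ext i j
    rw [LinearMap.BilinForm.toMatrix_apply, hb', hb']
    rcases i with i | i <;> rcases j with j | j
    · rw [h11]; simp [Matrix.J]
    · rw [h12]; simp [Matrix.J, Matrix.one_apply]
    · rw [← hA.neg_eq, h12]; simp [Matrix.J, Matrix.one_apply, eq_comm]
    · rw [h22]; simp [Matrix.J]
  have hJdet : (-Matrix.J (Fin m) F).det = 1 := by
    rw [Matrix.det_neg, Fintype.card_sum, Even.neg_one_pow ⟨_, rfl⟩, one_mul]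
    exact SymplecticGroup.det_eq_one (SymplecticGroup.J_mem (Fin m) F)
  obtain ⟨P, hP⟩ : ∃ P, P = (Pi.basisFun F ι).toMatrix b' := ⟨_, rfl⟩
  have hBW : LinearMap.BilinForm.toMatrix (Pi.basisFun F ι) B = W := by
    ext i j
    rw [LinearMap.BilinForm.toMatrix_apply, hB, Pi.basisFun_apply, Pi.basisFun_apply, single_one_dotProduct, Matrix.mulVec_single_one]
    rfl
  have hPW : Pᵀ * W * P = -Matrix.J (Fin m) F := by
    rw [hP, ← hBW, LinearMap.BilinForm.toMatrix_mul_basis_toMatrix, hJ]
  obtain ⟨e⟩ : Nonempty (Fin m ⊕ Fin m ≃ ι) :=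
    Fintype.card_eq.1 (by rw [Fintype.card_sum, Fintype.card_fin]; omega)
  obtain ⟨P', hP'⟩ : ∃ P', P' = Matrix.reindex e (Equiv.refl ι) (Matrix.of fun i j => P j i) := ⟨_, rfl⟩
  have hdetW : (Matrix.reindex e e (Pᵀ * W * P)).det = P'.det * W.det * P'.det := by
    have e1 : Matrix.reindex e e (Pᵀ * W * P) = P' * W * P'ᵀ := by
      ext i j
      simp [hP', Matrix.mul_apply]
    rw [e1, Matrix.det_mul, Matrix.det_mul, Matrix.det_transpose]
  rw [Matrix.det_reindex_self, hPW, hJdet] at hdetW
  have hP0 : P'.det ≠ 0 := fun h => by rw [h] at hdetW; simp at hdetW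
  refine ⟨⟨P'.det⁻¹, by field_simp; linear_combination -hdetW⟩, fun h => by rw [h] at hdetW; simp at hdetW,
    fun C μ hμ hC => ?_⟩
  obtain ⟨C', hC'⟩ : ∃ C', C' = LinearMap.toMatrix b' b' (Matrix.toLin' C) := ⟨_, rfl⟩
  have hCd : C'.det = C.det := by rw [hC', LinearMap.det_toMatrix, LinearMap.det_toLin']
  have hC2 : C'ᵀ * (-Matrix.J (Fin m) F) * C' = μ • (-Matrix.J (Fin m) F) := by
    rw [hC', ← hJ, ← LinearMap.BilinForm.toMatrix_comp b' b' B, ← map_smul]
    congr 1
    refine LinearMap.ext fun u => LinearMap.ext fun v => ?_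
    rw [LinearMap.BilinForm.comp_apply, Matrix.toLin'_apply, Matrix.toLin'_apply, hB, LinearMap.smul_apply,
      LinearMap.smul_apply, hB, smul_eq_mul, Matrix.mulVec_mulVec, Matrix.dotProduct_mulVec,
      ← Matrix.vecMul_transpose C u, Matrix.vecMul_vecMul, ← Matrix.mul_assoc, hC, Matrix.dotProduct_mulVec,
      Matrix.vecMul_smul, smul_dotProduct, smul_eq_mul]
  obtain ⟨D, hD⟩ : ∃ D : Matrix (Fin m ⊕ Fin m) (Fin m ⊕ Fin m) F,
      D = Matrix.fromBlocks (μ⁻¹ • (1 : Matrix (Fin m) (Fin m) F)) 0 0 1 := ⟨_, rfl⟩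
  have hDJ : Dᵀ * (μ • (-Matrix.J (Fin m) F)) * D = -Matrix.J (Fin m) F := by
    rw [hD, Matrix.J, Matrix.fromBlocks_neg, Matrix.fromBlocks_smul, Matrix.fromBlocks_transpose,
      Matrix.fromBlocks_multiply, Matrix.fromBlocks_multiply]
    simp [smul_smul, hμ]
  have hmem : (C' * D)ᵀ ∈ Matrix.symplecticGroup (Fin m) F := by
    rw [SymplecticGroup.mem_iff, Matrix.transpose_transpose]
    have h : (C' * D)ᵀ * (-Matrix.J (Fin m) F) * (C' * D) = -Matrix.J (Fin m) F := by
      calc (C' * D)ᵀ * (-Matrix.J (Fin m) F) * (C' * D) = Dᵀ * (C'ᵀ * (-Matrix.J (Fin m) F) * C') * D := by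
            rw [Matrix.transpose_mul]; simp only [Matrix.mul_assoc]
        _ = _ := by rw [hC2, hDJ]
    simpa [Matrix.mul_neg, Matrix.neg_mul] using h
  have h := SymplecticGroup.det_eq_one hmem
  have hDd : D.det = μ⁻¹ ^ m := by
    rw [hD, Matrix.det_fromBlocks_zero₂₁, Matrix.det_one, mul_one, Matrix.det_smul, Matrix.det_one, mul_one, Fintype.card_fin]
  rw [Matrix.det_transpose, Matrix.det_mul, hCd, hDd, inv_pow] at h
  exact (eq_of_mul_inv_eq_one h)

variable {V : Type*} [AddCommGroup V] [Module F V]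

theorem aeval_adj (B : LinearMap.BilinForm F V) {S T : Module.End F V} (h : ∀ u v, B (S u) v = B u (T v)) (f : F[X]) (u v : V) :
    B (aeval S f u) v = B u (aeval T f v) := by
  induction f using Polynomial.induction_on generalizing u v with
  | C a => simp [aeval_C, Module.algebraMap_end_apply]
  | add f g hf hg => simp [map_add, hf, hg]
  | monomial n a ih =>
    rw [pow_succ, ← mul_assoc, map_mul, Module.End.mul_apply, aeval_X, ih, h]
    conv_rhs => rw [mul_comm (C a * X ^ n) X, map_mul, Module.End.mul_apply, aeval_X]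

theorem isSquare_of_pow_odd {x : F} {r : ℕ} (hr : Odd r) (h : x ^ r = 1) : IsSquare x := by
  obtain ⟨j, rfl⟩ := hr
  exact ⟨x ^ (j + 1), by rw [← pow_add, show j + 1 + (j + 1) = 2 * j + 1 + 1 by ring, pow_succ, h, one_mul]⟩

variable [Finite F] [FiniteDimensional F V]

/-- A fixed-point-free isometry of odd prime order commutes with an element of non-square determinant which commutes
with its adjoint and differs from it by an invertible map. -/
theorem exists_normal [Nontrivial V] (B : LinearMap.BilinForm F V) (hs : ∀ u v, B u v = B v u)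
    (hB : ∀ u, (∀ v, B u v = 0) → u = 0) (h2 : (2 : F) ≠ 0) {r : ℕ} (hr : r.Prime) (hr2 : r ≠ 2) (hrF : (r : F) ≠ 0)
    {A : Module.End F V} (hA : ∀ u v, B (A u) (A v) = B u v) (hAr : A ^ r = 1) (hfix : ∀ v, A v = v → v = 0) :
    ∃ c d : Module.End F V, (∀ u v, B (c u) v = B u (d v)) ∧ A * c = c * A ∧ c * d = d * c ∧
      Function.Injective (d - c) ∧ ¬ IsSquare (LinearMap.det c) := by
  classical
  obtain ⟨Ai, hAi⟩ : ∃ Ai, Ai = A ^ (r - 1) := ⟨_, rfl⟩
  have h3 : 2 ≤ r := hr.two_le
  have hAAi : A * Ai = 1 := by rw [hAi, ← pow_succ', show r - 1 + 1 = r by omega, hAr]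
  have hAiA : Ai * A = 1 := by rw [hAi, ← pow_succ, show r - 1 + 1 = r by omega, hAr]
  have hadj : ∀ u v, B (A u) v = B u (Ai v) := fun u v => by
    rw [← hA u (Ai v), ← Module.End.mul_apply, hAAi, Module.End.one_apply]
  have hadj' : ∀ u v, B (Ai u) v = B u (A v) := fun u v => by rw [hs, ← hadj, hs]
  have hAir : Ai ^ r = 1 := by rw [hAi, ← pow_mul, mul_comm, pow_mul, hAr, one_pow]
  have hsq2 : ∀ x, A x = Ai x → x = 0 := by
    intro x hx
    have h : A (A x) = x := by rw [hx, ← Module.End.mul_apply, hAAi, Module.End.one_apply]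
    refine hfix x ?_
    obtain ⟨j, hj⟩ := hr.odd_of_ne_two hr2
    have e : ∀ i : ℕ, (A ^ (2 * i)) x = x := by
      intro i
      induction i with
      | zero => simp
      | succ i ih => rw [mul_add, mul_one, pow_add, Module.End.mul_apply, pow_two, Module.End.mul_apply, h, ih]
    have := LinearMap.congr_fun hAr x
    rw [hj, pow_succ', Module.End.mul_apply, e, Module.End.one_apply] at this
    exact this
  -- an irreducible factor
  obtain ⟨g, hgm, hgi, hgd⟩ := Polynomial.exists_monic_irreducible_factor (minpoly F A) (minpoly.not_isUnit F A)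
  have hgX : g ∣ X ^ r - 1 := hgd.trans (minpoly.dvd F A (by rw [map_sub, map_pow, aeval_X, map_one, hAr, sub_self]))
  obtain ⟨v0, hv00, hgv0⟩ : ∃ v, v ≠ 0 ∧ aeval A g v = 0 := by
    obtain ⟨m, hm⟩ := hgd
    have hm0 : aeval A m ≠ 0 := by
      intro h
      have hd : minpoly F A ∣ m := minpoly.dvd F A h
      have hmne : m ≠ 0 := fun h0 => minpoly.ne_zero (Algebra.IsIntegral.isIntegral A) (by rw [hm, h0, mul_zero])
      have := natDegree_le_of_dvd hd hmne
      rw [hm, natDegree_mul hgi.ne_zero hmne] at this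
      have := hgi.natDegree_pos
      omega
    obtain ⟨x, hx⟩ : ∃ x, aeval A m x ≠ 0 := by
      by_contra! h; exact hm0 (LinearMap.ext h)
    exact ⟨_, hx, by rw [← Module.End.mul_apply, ← map_mul, ← hm, minpoly.aeval, LinearMap.zero_apply]⟩
  have : Fact (Irreducible g) := ⟨hgi⟩
  have : Module.Finite F (AdjoinRoot g) := (AdjoinRoot.powerBasis hgi.ne_zero).finite
  have : Finite (AdjoinRoot g) := Module.finite_of_finite F
  obtain ⟨α, hα⟩ : ∃ α, α = AdjoinRoot.root g := ⟨_, rfl⟩
  have hmk : ∀ f : F[X], aeval α f = AdjoinRoot.mk g f := fun f => by rw [hα, AdjoinRoot.aeval_eq]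
  have hαr : α ^ r = 1 := by
    have := AdjoinRoot.mk_eq_zero.2 hgX
    rwa [← hmk, map_sub, map_pow, aeval_X, map_one, sub_eq_zero] at this
  obtain ⟨α', hα'⟩ : ∃ α', α' = α ^ (r - 1) := ⟨_, rfl⟩
  have hαα' : α * α' = 1 := by rw [hα', ← pow_succ', show r - 1 + 1 = r by omega, hαr]
  have hα'r : α' ^ r = 1 := by rw [hα', ← pow_mul, mul_comm, pow_mul, hαr, one_pow]
  have hα1 : α ≠ 1 := by
    intro h
    have hA1 : g ∣ X - 1 := by
      rw [← AdjoinRoot.mk_eq_zero, ← hmk, map_sub, aeval_X, map_one, h, sub_self]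
    obtain ⟨w, hw⟩ := hA1
    refine hv00 (hfix _ (sub_eq_zero.1 ?_))
    have : aeval A (X - 1 : F[X]) v0 = 0 := by rw [hw, mul_comm, map_mul, Module.End.mul_apply, hgv0, map_zero]
    simpa using this
  have hαne : α ≠ α' := by
    intro h
    obtain ⟨j, hj⟩ := hr.odd_of_ne_two hr2
    refine hα1 ?_
    have e : α * α = 1 := by conv_lhs => arg 2; rw [h]
                             exact hαα'
    have := hαr
    rwa [hj, pow_succ, pow_mul, pow_two, e, one_pow, one_mul] at this
  -- the two vectors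
  have hkerg : ∀ x : V, aeval A g x = 0 → ∀ f f' : F[X], AdjoinRoot.mk g f = AdjoinRoot.mk g f' → aeval A f x = aeval A f' x := by
    intro x hx f f' h
    obtain ⟨w, hw⟩ := AdjoinRoot.mk_eq_mk.1 h
    rw [sub_eq_iff_eq_add] at hw
    rw [hw, map_add, LinearMap.add_apply, mul_comm, map_mul, Module.End.mul_apply, hx, map_zero, zero_add]
  have hkerg' : ∀ x : V, aeval Ai g x = 0 → ∀ f f' : F[X], AdjoinRoot.mk g f = AdjoinRoot.mk g f' → aeval Ai f x = aeval Ai f' x := by
    intro x hx f f' h
    obtain ⟨w, hw⟩ := AdjoinRoot.mk_eq_mk.1 h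
    rw [sub_eq_iff_eq_add] at hw
    rw [hw, map_add, LinearMap.add_apply, mul_comm, map_mul, Module.End.mul_apply, hx, map_zero, zero_add]
  have hAicomp : ∀ f : F[X], aeval Ai f = aeval A (f.comp (X ^ (r - 1))) := fun f => by rw [aeval_comp, map_pow, aeval_X, hAi]
  have hαcomp : ∀ f : F[X], aeval α' f = AdjoinRoot.mk g (f.comp (X ^ (r - 1))) := fun f => by
    rw [← hmk, aeval_comp, map_pow, aeval_X, hα']
  have hpartner : ∀ v, v ≠ 0 → aeval A g v = 0 → ∃ w, aeval Ai g w = 0 ∧ B v w ≠ 0 := by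
    intro v hv hgv
    obtain ⟨m, hm⟩ := hgX
    have hsep : Squarefree (X ^ r - 1 : F[X]) := by
      rw [← C_1]; exact (Polynomial.separable_X_pow_sub_C (1 : F) hrF one_ne_zero).squarefree
    have hco : IsCoprime g m := hgi.coprime_iff_not_dvd.2 fun h => hgi.not_isUnit (hsep g (by rw [hm]; exact mul_dvd_mul_left g h))
    obtain ⟨a, b, hab⟩ := hco
    obtain ⟨x, hx⟩ : ∃ x, B v x ≠ 0 := by by_contra! h; exact hv (hB v h)
    refine ⟨aeval Ai (b * m) x, ?_, ?_⟩
    · rw [← Module.End.mul_apply, ← map_mul, show g * (b * m) = b * (X ^ r - 1) by rw [hm]; ring, map_mul, Module.End.mul_apply,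
        map_sub, map_pow, aeval_X, map_one, hAir, sub_self, LinearMap.zero_apply, map_zero]
    · rw [← aeval_adj B hadj, show b * m = 1 - a * g by linear_combination hab, map_sub, map_one, LinearMap.sub_apply,
        map_mul, Module.End.mul_apply, hgv, map_zero, sub_zero, Module.End.one_apply]
      exact hx
  obtain ⟨v, w, hgv, hgw, hvw, hsame⟩ : ∃ v w, aeval A g v = 0 ∧ aeval Ai g w = 0 ∧ B v w ≠ 0 ∧ (aeval α' g = 0 → w = v) := by
    by_cases hcase : aeval α' g = 0
    · have hswap : ∀ x, aeval A g x = 0 → aeval Ai g x = 0 := fun x hx => by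
        rw [hαcomp, ← map_zero (AdjoinRoot.mk g)] at hcase
        rw [hAicomp, hkerg x hx _ 0 hcase, map_zero, LinearMap.zero_apply]
      have hswap' : ∀ x, aeval Ai g x = 0 → aeval A g x = 0 := fun x hx => by
        rw [hαcomp, ← map_zero (AdjoinRoot.mk g)] at hcase
        have e : aeval Ai (g.comp (X ^ (r - 1))) x = 0 := by rw [hkerg' x hx _ 0 hcase, map_zero, LinearMap.zero_apply]
        rw [aeval_comp, map_pow, aeval_X, hAi, ← pow_mul] at e
        obtain ⟨j, hj⟩ : ∃ j, (r - 1) * (r - 1) = r * j + 1 := by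
          refine ⟨r - 2, ?_⟩
          obtain ⟨k, rfl⟩ : ∃ k, r = k + 2 := ⟨r - 2, by omega⟩
          simp only [Nat.add_sub_cancel, show k + 2 - 1 = k + 1 by omega]
          ring
        rwa [hj, pow_succ, pow_mul, hAr, one_pow, one_mul] at e
      obtain ⟨w, hw, hvw⟩ := hpartner v0 hv00 hgv0
      have hw' := hswap' w hw
      by_cases h1 : B v0 v0 = 0
      · by_cases h4 : B w w = 0
        · refine ⟨v0 + w, v0 + w, by simp [hgv0, hw'], by simp [hswap v0 hgv0, hw], ?_, fun _ => rfl⟩
          simp [h1, h4, hs w v0, ← two_mul, h2, hvw]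
        · exact ⟨w, w, hw', hw, h4, fun _ => rfl⟩
      · exact ⟨v0, v0, hgv0, hswap v0 hgv0, h1, fun _ => rfl⟩
    · obtain ⟨w, hw, hvw⟩ := hpartner v0 hv00 hgv0
      exact ⟨v0, w, hgv0, hw, hvw, fun h => absurd h hcase⟩
  -- the maps from the field
  obtain ⟨P, hP⟩ : ∃ P : AdjoinRoot g →ₗ[F] V, ∀ f, P (AdjoinRoot.mk g f) = aeval A f v := by
    choose s hs' using AdjoinRoot.mk_surjective (g := g)
    exact ⟨{ toFun := fun a => aeval A (s a) v
             map_add' := fun a b => by
               rw [← LinearMap.add_apply, ← map_add]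
               exact hkerg v hgv _ _ (by rw [map_add, hs', hs', hs'])
             map_smul' := fun t a => by
               rw [RingHom.id_apply, ← LinearMap.smul_apply, ← map_smul]
               exact hkerg v hgv _ _ (by rw [← AdjoinRoot.smul_mk, hs', hs']) },
      fun f => hkerg v hgv _ _ (hs' _)⟩
  obtain ⟨P', hP'⟩ : ∃ P : AdjoinRoot g →ₗ[F] V, ∀ f, P (AdjoinRoot.mk g f) = aeval Ai f w := by
    choose s hs' using AdjoinRoot.mk_surjective (g := g)
    exact ⟨{ toFun := fun a => aeval Ai (s a) w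
             map_add' := fun a b => by
               rw [← LinearMap.add_apply, ← map_add]
               exact hkerg' w hgw _ _ (by rw [map_add, hs', hs', hs'])
             map_smul' := fun t a => by
               rw [RingHom.id_apply, ← LinearMap.smul_apply, ← map_smul]
               exact hkerg' w hgw _ _ (by rw [← AdjoinRoot.smul_mk, hs', hs']) },
      fun f => hkerg' w hgw _ _ (hs' _)⟩
  have hPf : ∀ (f : F[X]) a, aeval A f (P a) = P (aeval α f * a) := fun f a => by
    obtain ⟨a, rfl⟩ := AdjoinRoot.mk_surjective a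
    rw [hP, hmk, ← map_mul, hP, map_mul, Module.End.mul_apply]
  have hP'f : ∀ (f : F[X]) a, aeval Ai f (P' a) = P' (aeval α f * a) := fun f a => by
    obtain ⟨a, rfl⟩ := AdjoinRoot.mk_surjective a
    rw [hP', hmk, ← map_mul, hP', map_mul, Module.End.mul_apply]
  obtain ⟨lam, hlam⟩ : ∃ lam : AdjoinRoot g →ₗ[F] F, ∀ a, lam a = B (P a) w :=
    ⟨(B.flip w).comp P, fun a => rfl⟩
  have hlam1 : lam 1 ≠ 0 := by rwa [hlam, ← map_one (AdjoinRoot.mk g), hP, map_one, Module.End.one_apply]
  have hpair : ∀ a b, B (P a) (P' b) = lam (b * a) := by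
    intro a b
    obtain ⟨b, rfl⟩ := AdjoinRoot.mk_surjective b
    rw [hlam, hP', ← aeval_adj B hadj, hPf, hmk]
  obtain ⟨Φ, hΦ⟩ : ∃ Φ : AdjoinRoot g →ₗ[F] Module.Dual F (AdjoinRoot g), ∀ a b, Φ a b = lam (b * a) :=
    ⟨(LinearMap.mul F (AdjoinRoot g)).flip.compr₂ lam, fun a b => rfl⟩
  have hΦi : Function.Injective Φ := by
    refine (injective_iff_map_eq_zero Φ).2 fun a ha => ?_
    by_contra h0
    have h := LinearMap.congr_fun ha a⁻¹
    rw [hΦ, inv_mul_cancel₀ h0, LinearMap.zero_apply] at h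
    exact hlam1 h
  obtain ⟨Ψ, hΨ⟩ : ∃ Ψ : AdjoinRoot g ≃ₗ[F] Module.Dual F (AdjoinRoot g), ∀ a, Ψ a = Φ a :=
    ⟨LinearMap.linearEquivOfInjective Φ hΦi Subspace.dual_finrank_eq.symm, fun a => rfl⟩
  have hsolve : ∀ T : V →ₗ[F] Module.Dual F (AdjoinRoot g), ∃ π : V →ₗ[F] AdjoinRoot g, ∀ x b, lam (b * π x) = T x b :=
    fun T => ⟨Ψ.symm.toLinearMap.comp T, fun x b => by
      rw [← hΦ, ← hΨ, LinearMap.comp_apply, LinearEquiv.coe_coe, LinearEquiv.apply_symm_apply]⟩
  obtain ⟨π, hπ⟩ : ∃ π : V →ₗ[F] AdjoinRoot g, ∀ x b, lam (b * π x) = B x (P' b) := hsolve (B.compl₂ P')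
  obtain ⟨π', hπ'⟩ : ∃ π : V →ₗ[F] AdjoinRoot g, ∀ x b, lam (b * π x) = B (P b) x := hsolve (B.flip.compl₂ P)
  have hzero : ∀ a, (∀ b, lam (b * a) = 0) → a = 0 := fun a h =>
    hΦi ((LinearMap.ext fun b => by rw [hΦ, h]; rfl).trans (map_zero Φ).symm)
  have hπP : ∀ a, π (P a) = a := fun a => sub_eq_zero.1 (hzero _ fun b => by rw [mul_sub, map_sub, hπ, hpair, sub_self])
  have hπP' : ∀ a, π' (P' a) = a := fun a => sub_eq_zero.1 (hzero _ fun b => by
    rw [mul_sub, map_sub, hπ', hpair, mul_comm a b, sub_self])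
  obtain ⟨η, hη⟩ : ∃ η : Module.End F V, η = P.comp π := ⟨_, rfl⟩
  obtain ⟨η', hη'⟩ : ∃ η : Module.End F V, η = P'.comp π' := ⟨_, rfl⟩
  have hηv : ∀ x, η x = P (π x) := fun x => by rw [hη, LinearMap.comp_apply]
  have hη'v : ∀ x, η' x = P' (π' x) := fun x => by rw [hη', LinearMap.comp_apply]
  have hηadj : ∀ x y, B (η x) y = B x (η' y) := fun x y => by
    rw [hηv, hη'v, ← hπ', ← hπ, mul_comm]
  have hAη : A * η = η * A := by
    refine LinearMap.ext fun x => ?_
    rw [Module.End.mul_apply, Module.End.mul_apply, hηv, hηv, ← aeval_X (R := F) A, hPf, aeval_X, aeval_X]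
    congr 1
    refine sub_eq_zero.1 (hzero _ fun b => ?_)
    rw [mul_sub, map_sub, hπ, ← mul_assoc, hπ, hadj, sub_eq_zero]
    congr 1
    rw [← aeval_X (R := F) Ai, hP'f, aeval_X, mul_comm]
  have heq_of_adj : ∀ S T : Module.End F V, (∀ x y, B x (S y) = B x (T y)) → S = T := fun S T h =>
    LinearMap.ext fun y => sub_eq_zero.1 (hB _ fun x => by rw [hs, map_sub, h, sub_self])
  have hAiη' : Ai * η' = η' * Ai := heq_of_adj _ _ fun x y => by
    rw [Module.End.mul_apply, Module.End.mul_apply, ← hadj, ← hηadj, ← hηadj, ← hadj, ← Module.End.mul_apply,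
      ← Module.End.mul_apply, hAη]
  have hAη' : A * η' = η' * A := by
    calc A * η' = A * η' * (Ai * A) := by rw [hAiA, mul_one]
      _ = A * (η' * Ai) * A := by simp only [mul_assoc]
      _ = η' * A := by rw [← hAiη', ← mul_assoc, hAAi, one_mul]
  have hcases : (η' = η ∧ aeval α' g = 0) ∨ ((∀ x, η (η' x) = 0) ∧ (∀ x, η' (η x) = 0) ∧ aeval α' g ≠ 0) := by
    by_cases hcase : aeval α' g = 0
    · refine .inl ⟨?_, hcase⟩
      have hran : ∀ x, η (η' x) = η' x := fun x => by
        rw [hη'v]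
        obtain ⟨b, hb⟩ := AdjoinRoot.mk_surjective (π' x)
        rw [← hb, hP', hsame hcase, hAicomp, ← hP, hηv, hπP]
      have key : ∀ x z, B x (η z) = B (η' x) z := fun x z => by rw [hs, hηadj, hs]
      refine heq_of_adj _ _ fun x y => ?_
      calc B x (η' y) = B x (η (η' y)) := by rw [hran]
        _ = B (η' x) (η' y) := key _ _
        _ = B (η (η' x)) y := (hηadj _ _).symm
        _ = B (η' x) y := by rw [hran]
        _ = B x (η y) := (key _ _).symm
    · refine .inr ⟨fun x => ?_, fun x => ?_, hcase⟩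
      · rw [hηv]
        suffices π (η' x) = 0 by rw [this, map_zero]
        refine hzero _ fun b => ?_
        rw [hπ, hη'v]
        have e : P' (π' x) = aeval Ai (g.comp (X ^ (r - 1))) (P' ((aeval α' g)⁻¹ * π' x)) := by
          rw [hP'f, hmk, ← hαcomp, mul_inv_cancel_left₀ hcase]
        rw [e, aeval_adj B hadj', aeval_comp, map_pow, aeval_X]
        have e2 : aeval (A ^ (r - 1)) g (P' b) = P' (aeval α g * b) := by rw [← hAi, hP'f]
        rw [e2, hmk, AdjoinRoot.mk_self, zero_mul, map_zero, map_zero]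
      · rw [hη'v]
        suffices π' (η x) = 0 by rw [this, map_zero]
        refine hzero _ fun b => ?_
        rw [hπ', hηv]
        have e : P b = aeval A (g.comp (X ^ (r - 1))) (P ((aeval α' g)⁻¹ * b)) := by
          rw [hPf, hmk, ← hαcomp, mul_inv_cancel_left₀ hcase]
        rw [e, aeval_adj B hadj, aeval_comp, map_pow, aeval_X, hAi]
        have e2 : ∀ a, aeval ((A ^ (r - 1)) ^ (r - 1)) g (P a) = 0 := fun a => by
          obtain ⟨j, hj⟩ : ∃ j, (r - 1) * (r - 1) = r * j + 1 := by
            refine ⟨r - 2, ?_⟩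
            obtain ⟨k, rfl⟩ : ∃ k, r = k + 2 := ⟨r - 2, by omega⟩
            simp only [Nat.add_sub_cancel, show k + 2 - 1 = k + 1 by omega]
            ring
          rw [← pow_mul, hj, pow_succ, pow_mul, hAr, one_pow, one_mul, hPf, hmk, AdjoinRoot.mk_self, zero_mul, map_zero]
        rw [e2, map_zero]
  have hcomm : η * η' = η' * η := by
    rcases hcases with ⟨e, -⟩ | ⟨e1, e2, -⟩
    · rw [e]
    · exact LinearMap.ext fun x => (e1 x).trans (e2 x).symm
  -- the element of the field
  obtain ⟨γu, hγ⟩ := IsCyclic.exists_generator (α := (AdjoinRoot g)ˣ)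
  obtain ⟨h, hh⟩ := AdjoinRoot.mk_surjective ((γu : (AdjoinRoot g)ˣ) : AdjoinRoot g)
  have hNγ : ¬ IsSquare (Algebra.norm F ((γu : (AdjoinRoot g)ˣ) : AdjoinRoot g)) := by
    intro hsq
    obtain ⟨a, ha⟩ := FiniteField.exists_nonsquare (F := F) (fun hc => h2 (by
      have h3 : ((2 : ℕ) : F) = 0 := by rw [← hc]; exact ringChar.Nat.cast_ringChar
      exact_mod_cast h3))
    obtain ⟨y, hy⟩ := FiniteField.unitsMap_norm_surjective F (AdjoinRoot g) (Units.mk0 a fun e => ha (e ▸ IsSquare.zero))
    obtain ⟨i, rfl⟩ := hγ y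
    refine ha ?_
    rw [← Units.val_mk0 (fun e => ha (e ▸ IsSquare.zero) : a ≠ 0), ← hy, map_zpow, Units.val_zpow_eq_zpow_val]
    exact IsSquare.zpow i hsq
  obtain ⟨q, hq⟩ : ∃ q : F[X], q = X ^ (r - 1) * h - 1 := ⟨_, rfl⟩
  obtain ⟨u, hu⟩ : ∃ u, u = 1 + aeval A q * η := ⟨_, rfl⟩
  obtain ⟨u', hu'⟩ : ∃ u', u' = 1 + aeval Ai q * η' := ⟨_, rfl⟩
  have hAAi' : Commute A Ai := hAAi.trans hAiA.symm
  have hAiη : Commute Ai η := by rw [hAi]; exact Commute.pow_left (show Commute A η from hAη) _
  have cA : ∀ f : F[X], Commute A (aeval Ai f) := fun f => by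
    rw [hAicomp]; nth_rewrite 1 [← aeval_X (R := F) A]; exact (Commute.all X _).map (aeval A)
  have cf : ∀ (S : Module.End F V), Commute A S → ∀ f : F[X], Commute (aeval A f) S := fun S hS f => by
    induction f using Polynomial.induction_on with
    | C a => rw [aeval_C]; exact Algebra.commute_algebraMap_left a S
    | add f g hf hg => rw [map_add]; exact hf.add_left hg
    | monomial n a ih => rw [pow_succ, ← mul_assoc, map_mul, aeval_X]; exact ih.mul_left hS
  have cA1 : ∀ f : F[X], Commute A (aeval A f) := fun f => (cf A (Commute.refl A) f).symm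
  have huu : Commute u u' := by
    rw [hu, hu']
    have e1 : Commute (aeval A q) (aeval Ai q * η') := (cf _ (cA q) q).mul_right (cf _ hAη' q)
    have e2 : Commute η (aeval Ai q * η') := by
      refine Commute.mul_right ?_ hcomm
      rw [hAicomp]
      exact (cf η hAη _).symm
    exact ((Commute.one_left _).add_left ((Commute.one_right _).add_right (e1.mul_left e2)))
  have hAu : Commute A u := by rw [hu]; exact (Commute.one_right A).add_right ((cA1 q).mul_right hAη)
  have hAu' : Commute A u' := by rw [hu']; exact (Commute.one_right A).add_right ((cA q).mul_right hAη')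
  refine ⟨A * u, u' * Ai, fun x y => ?_, ?_, ?_, ?_, ?_⟩
  · rw [Module.End.mul_apply, Module.End.mul_apply, hadj, hu, hu', LinearMap.add_apply, LinearMap.add_apply, map_add,
      LinearMap.add_apply, map_add, Module.End.one_apply, Module.End.one_apply, Module.End.mul_apply, Module.End.mul_apply,
      aeval_adj B hadj, hηadj]
    congr 1
    rw [← Module.End.mul_apply, ← Module.End.mul_apply η']
    congr 1
    rw [hAicomp]
    exact congrArg (fun S : Module.End F V => S (Ai y)) (cf η' hAη' _).symm.eq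
  · exact ((Commute.refl A).mul_right hAu).eq
  · have c1 : Commute u Ai := by rw [hAi]; exact (hAu.pow_left _).symm
    exact ((hAu'.mul_right hAAi').mul_left (huu.mul_right c1)).eq
  · refine (injective_iff_map_eq_zero _).2 fun x hx => ?_
    rw [LinearMap.sub_apply, sub_eq_zero] at hx
    have hu'Ai : u' * Ai = Ai * u' := by rw [hAi]; exact (hAu'.pow_left _).eq.symm
    rw [hu'Ai] at hx
    have e0 : ∀ S : Module.End F V, Commute A S → Commute η S → η ((A * u) x) = η ((Ai * u') x) := fun _ _ _ => by rw [hx]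
    have hηu : Commute η u := by rw [hu]; exact (Commute.one_right η).add_right (((cf η hAη q).symm).mul_right (Commute.refl η))
    have hηu' : Commute η u' := by
      rw [hu']; refine (Commute.one_right η).add_right (Commute.mul_right ?_ hcomm)
      rw [hAicomp]; exact (cf η hAη _).symm
    have hη'u : Commute η' u := by
      rw [hu]; exact (Commute.one_right η').add_right (((cf η' hAη' q).symm).mul_right hcomm.symm)
    have hη'u' : Commute η' u' := by
      rw [hu']; refine (Commute.one_right η').add_right (Commute.mul_right ?_ (Commute.refl η'))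
      rw [hAicomp]; exact (cf η' hAη' _).symm
    have hAiη'' : Commute Ai η' := hAiη'
    have hon : (A * u) (η x) = (Ai * u') (η x) := by
      have := congrArg η hx
      rw [← Module.End.mul_apply, ← Module.End.mul_apply η,
        ((hAiη.symm.mul_right hηu')).eq, ((show Commute η A from hAη.symm).mul_right hηu).eq] at this
      exact this.symm
    have hon' : (A * u) (η' x) = (Ai * u') (η' x) := by
      have := congrArg η' hx
      rw [← Module.End.mul_apply, ← Module.End.mul_apply η',
        ((hAiη''.symm.mul_right hη'u')).eq, ((show Commute η' A from hAη'.symm).mul_right hη'u).eq] at this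
      exact this.symm
    have hηη : ∀ a, η (P a) = P a := fun a => by rw [hηv, hπP]
    have hη'η' : ∀ a, η' (P' a) = P' a := fun a => by rw [hη'v, hπP']
    have hγq : aeval α (X * (q + 1)) = ((γu : (AdjoinRoot g)ˣ) : AdjoinRoot g) := by
      rw [hq, sub_add_cancel, ← mul_assoc, ← pow_succ', show r - 1 + 1 = r by omega, map_mul, map_pow, aeval_X, hαr, one_mul, hmk, hh]
    have lhsP : ∀ a, (A * u) (P a) = P (((γu : (AdjoinRoot g)ˣ) : AdjoinRoot g) * a) := fun a => by
      rw [hu, Module.End.mul_apply, LinearMap.add_apply, Module.End.one_apply, Module.End.mul_apply, hηη,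
        show P a + aeval A q (P a) = aeval A (q + 1) (P a) by simp [add_comm], ← aeval_X (R := F) A, aeval_X,
        ← Module.End.mul_apply]
      nth_rewrite 1 [← aeval_X (R := F) A]
      rw [← map_mul, hPf, hγq]
    have rhsP' : ∀ a, (Ai * u') (P' a) = P' (((γu : (AdjoinRoot g)ˣ) : AdjoinRoot g) * a) := fun a => by
      rw [hu', Module.End.mul_apply, LinearMap.add_apply, Module.End.one_apply, Module.End.mul_apply, hη'η',
        show P' a + aeval Ai q (P' a) = aeval Ai (q + 1) (P' a) by simp [add_comm], ← Module.End.mul_apply]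
      nth_rewrite 1 [← aeval_X (R := F) Ai]
      rw [← map_mul, hP'f, hγq]
    have hPi : Function.Injective P := fun a b e => by rw [← hπP a, e, hπP]
    have hP'i : Function.Injective P' := fun a b e => by rw [← hπP' a, e, hπP']
    have hfinish : η x = 0 → η' x = 0 → x = 0 := by
      intro e1 e2
      refine hsq2 x ?_
      rw [Module.End.mul_apply, Module.End.mul_apply, hu, hu'] at hx
      simp only [LinearMap.add_apply, Module.End.one_apply, Module.End.mul_apply, e1, e2, map_zero, add_zero] at hx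
      exact hx.symm
    rcases hcases with ⟨heq, hcase⟩ | ⟨z1, z2, hcase⟩
    · have : η x = 0 := by
        obtain ⟨σ, hσ⟩ : ∃ σ : AdjoinRoot g →ₐ[F] AdjoinRoot g, σ α = α' :=
          ⟨AdjoinRoot.liftAlgHom g (Algebra.ofId F _) α' hcase,
            (congrArg _ hα).trans (AdjoinRoot.liftAlgHom_root g (Algebra.ofId F _) α' hcase)⟩
        obtain ⟨a, ha⟩ : ∃ a, η x = P a := ⟨_, hηv x⟩
        rw [ha, lhsP] at hon
        have hrhs : (Ai * u') (P a) = P (σ ((γu : (AdjoinRoot g)ˣ) : AdjoinRoot g) * a) := by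
          rw [hu', heq, Module.End.mul_apply, LinearMap.add_apply, Module.End.one_apply, Module.End.mul_apply, hηη,
            show P a + aeval Ai q (P a) = aeval Ai (q + 1) (P a) by simp [add_comm], ← Module.End.mul_apply]
          nth_rewrite 1 [← aeval_X (R := F) Ai]
          rw [← map_mul, hAicomp, hPf, aeval_comp, map_pow, aeval_X, ← hα', ← hσ, Polynomial.aeval_algHom_apply, hγq]
        rw [hrhs] at hon
        have h0 := hPi hon
        rcases mul_eq_mul_right_iff.1 h0 with h1 | h1
        · exfalso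
          have hall : ∀ y : (AdjoinRoot g)ˣ, σ (y : AdjoinRoot g) = y := by
            intro y
            obtain ⟨i, rfl⟩ := hγ y
            show σ (((γu ^ i : (AdjoinRoot g)ˣ) : AdjoinRoot g)) = _
            rw [Units.val_zpow_eq_zpow_val, map_zpow₀, ← h1]
          have hα0 : α ≠ 0 := left_ne_zero_of_mul_eq_one hαα'
          exact hαne ((hall (Units.mk0 α hα0)).symm.trans hσ)
        · rw [ha, h1, map_zero]
      exact hfinish this (heq ▸ this)
    · have hγne : ((γu : (AdjoinRoot g)ˣ) : AdjoinRoot g) ≠ α' := by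
        intro e
        refine hNγ ?_
        rw [e]
        exact isSquare_of_pow_odd (hr.odd_of_ne_two hr2) (by rw [← map_pow, hα'r, map_one])
      refine hfinish ?_ ?_
      · obtain ⟨a, ha⟩ : ∃ a, η x = P a := ⟨_, hηv x⟩
        have hrhs : (Ai * u') (η x) = P (α' * a) := by
          rw [hu', Module.End.mul_apply, LinearMap.add_apply, Module.End.one_apply, Module.End.mul_apply, z2, map_zero,
            add_zero, ha, hAi]
          nth_rewrite 1 [← aeval_X (R := F) A]
          rw [← map_pow, hPf, map_pow, aeval_X, hα']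
        rw [hrhs, ha, lhsP] at hon
        rcases mul_eq_mul_right_iff.1 (hPi hon) with h1 | h1
        · exact absurd h1 hγne
        · rw [ha, h1, map_zero]
      · obtain ⟨a, ha⟩ : ∃ a, η' x = P' a := ⟨_, hη'v x⟩
        have hlhs : (A * u) (η' x) = P' (α' * a) := by
          rw [hu, Module.End.mul_apply, LinearMap.add_apply, Module.End.one_apply, Module.End.mul_apply, z1, map_zero,
            add_zero, ha]
          have e : A = Ai ^ (r - 1) := by
            have e1 : Ai ^ (r - 1) * Ai = 1 := by rw [← pow_succ, show r - 1 + 1 = r by omega, hAir]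
            calc A = Ai ^ (r - 1) * Ai * A := by rw [e1, one_mul]
              _ = Ai ^ (r - 1) := by rw [mul_assoc, hAiA, mul_one]
          rw [e]
          nth_rewrite 1 [← aeval_X (R := F) Ai]
          rw [← map_pow, hP'f, map_pow, aeval_X, hα']
        rw [hlhs, ha, rhsP'] at hon'
        rcases mul_eq_mul_right_iff.1 (hP'i hon') with h1 | h1
        · exact absurd h1.symm hγne
        · rw [ha, h1, map_zero]
  · have hdetA : IsSquare (LinearMap.det A) := isSquare_of_pow_odd (hr.odd_of_ne_two hr2) (by rw [← map_pow, hAr, map_one])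
    have hdetu : LinearMap.det u = Algebra.norm F (aeval α (q + 1)) := by
      have e : u = 1 + P.comp ((Algebra.lmul F (AdjoinRoot g) (aeval α q)).comp π) := by
        rw [hu]
        refine LinearMap.ext fun x => ?_
        simp [hηv, hPf]
      rw [e, Algebra.norm_apply]
      obtain ⟨bV, hbV⟩ : ∃ b : Module.Basis _ F V, b = Module.finBasis F V := ⟨_, rfl⟩
      obtain ⟨bL, hbL⟩ : ∃ b : Module.Basis _ F (AdjoinRoot g), b = Module.finBasis F (AdjoinRoot g) := ⟨_, rfl⟩
      rw [← LinearMap.det_toMatrix bV, map_add, LinearMap.toMatrix_one, LinearMap.toMatrix_comp bV bL bV,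
        Matrix.det_one_add_mul_comm, ← LinearMap.toMatrix_comp bL bV bL, ← LinearMap.toMatrix_one bL, ← map_add,
        LinearMap.det_toMatrix]
      congr 1
      refine LinearMap.ext fun a => ?_
      simp [hπP, add_mul, add_comm]
    intro hsq
    apply hNγ
    have e : ((γu : (AdjoinRoot g)ˣ) : AdjoinRoot g) = α * aeval α (q + 1) := by
      rw [hq, sub_add_cancel, map_mul, map_pow, aeval_X, ← mul_assoc, ← pow_succ', show r - 1 + 1 = r by omega, hαr, one_mul,
        hmk, hh]
    rw [e, map_mul, ← hdetu]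
    refine IsSquare.mul (isSquare_of_pow_odd (hr.odd_of_ne_two hr2) (by rw [← map_pow, hαr, map_one])) ?_
    rw [map_mul] at hsq
    obtain ⟨a, ha⟩ := hsq
    obtain ⟨b, hb⟩ := hdetA
    have hb0 : b ≠ 0 := fun h0 => by
      have h1 : (LinearMap.det A) ^ r = 1 := by rw [← map_pow, hAr, map_one]
      rw [hb, h0, mul_zero, zero_pow hr.ne_zero] at h1
      exact zero_ne_one h1
    exact ⟨a / b, by field_simp; linear_combination ha - LinearMap.det u * hb⟩

end Cfsg.Agent.Lib.Similar.CentSpinor
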