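import Mathlib

/-!
Arithmetic of the divisors `q ^ m + 1` and `q ^ m - 1` of torus orders in dimension `2 m`.
-/

set_option autoImplicit false

namespace Cfsg.Agent.Lib.Similar.HalfTorus

theorem gcd_lcm_dvd (N a b : ℕ) :
    Nat.gcd N (Nat.lcm a b) ∣ Nat.lcm (Nat.gcd N a) (Nat.gcd N b) := by
  rcases eq_or_ne N 0 with rfl | hN
  · simp
  rcases eq_or_ne a 0 with rfl | ha
  · simp only [Nat.lcm_zero_left, Nat.gcd_zero_right]
    exact Nat.dvd_lcm_left _ _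
  rcases eq_or_ne b 0 with rfl | hb
  · simp only [Nat.lcm_zero_right, Nat.gcd_zero_right]
    exact Nat.dvd_lcm_right _ _
  have h1 := Nat.lcm_ne_zero ha hb
  have h2 := Nat.gcd_ne_zero_left (n := a) hN
  have h3 := Nat.gcd_ne_zero_left (n := b) hN
  rw [← Nat.factorization_le_iff_dvd (Nat.gcd_ne_zero_left hN) (Nat.lcm_ne_zero h2 h3),
    Nat.factorization_gcd hN h1, Nat.factorization_lcm ha hb, Nat.factorization_lcm h2 h3,
    Nat.factorization_gcd hN ha, Nat.factorization_gcd hN hb]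
  intro p
  simp only [Finsupp.inf_apply, Finsupp.sup_apply]
  exact le_of_eq (inf_sup_left _ _ _)

theorem gcd_finsetLcm_dvd {ι : Type*} (N : ℕ) (s : Finset ι) (Q : ι → ℕ) :
    Nat.gcd N (s.lcm Q) ∣ s.lcm fun i => Nat.gcd N (Q i) := by
  classical
  induction s using Finset.induction with
  | empty => simp
  | insert a t _ ih =>
    rw [Finset.lcm_insert, Finset.lcm_insert]
    exact (gcd_lcm_dvd N _ _).trans (Nat.lcm_dvd (Nat.dvd_lcm_left _ _) (ih.trans (Nat.dvd_lcm_right _ _)))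

/-- Collecting the contributions of the blocks. -/
theorem aggregate {ι : Type*} (s : Finset ι) (Q w G : ι → ℕ) (val : ℕ → ℕ) (N : ℕ) (P : ℕ → Prop)
    (h : ∀ i ∈ s, Nat.gcd N (Q i) ∣ 2 ∨ (P (G i) ∧ Nat.gcd N (Q i) ∣ val (G i) ∧
      ∃ T ⊆ s, (∀ j ∈ T, G j = G i) ∧ 2 * G i ≤ ∑ j ∈ T, w j))
    (hN : N ∣ s.lcm Q) :
    ∃ L : Finset ℕ, (∀ g ∈ L, P g) ∧ 2 * (∑ g ∈ L, g) ≤ ∑ i ∈ s, w i ∧ N ∣ 2 * L.lcm val := by
  classical
  refine ⟨(s.filter fun i => ¬ Nat.gcd N (Q i) ∣ 2).image G, ?_, ?_, ?_⟩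
  · intro g hg
    obtain ⟨i, hi, rfl⟩ := Finset.mem_image.1 hg
    obtain ⟨hi, hb⟩ := Finset.mem_filter.1 hi
    exact ((h i hi).resolve_left hb).1
  · set L := (s.filter fun i => ¬ Nat.gcd N (Q i) ∣ 2).image G with hL
    rw [Finset.mul_sum]
    calc ∑ g ∈ L, 2 * g ≤ ∑ g ∈ L, ∑ i ∈ s.filter (fun i => G i = g), w i := by
          refine Finset.sum_le_sum fun g hg => ?_
          obtain ⟨i, hi, rfl⟩ := Finset.mem_image.1 hg
          obtain ⟨hi, hb⟩ := Finset.mem_filter.1 hi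
          obtain ⟨-, -, T, hT, hTG, hTw⟩ := (h i hi).resolve_left hb
          exact hTw.trans (Finset.sum_le_sum_of_subset fun j hj =>
            Finset.mem_filter.2 ⟨hT hj, hTG j hj⟩)
      _ = ∑ i ∈ s.filter (fun i => G i ∈ L), w i := by
          rw [← Finset.sum_fiberwise_of_maps_to (s := s.filter fun i => G i ∈ L) (t := L) (g := G)
            (fun i hi => (Finset.mem_filter.1 hi).2)]
          refine Finset.sum_congr rfl fun g hg => Finset.sum_congr ?_ fun _ _ => rfl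
          ext i
          simp only [Finset.mem_filter]
          exact ⟨fun e => ⟨⟨e.1, e.2.symm ▸ hg⟩, e.2⟩, fun e => ⟨e.1.1, e.2⟩⟩
      _ ≤ _ := Finset.sum_le_sum_of_subset (Finset.filter_subset _ _)
  · refine (Nat.dvd_gcd dvd_rfl hN).trans ((gcd_finsetLcm_dvd N s Q).trans (Finset.lcm_dvd fun i hi => ?_))
    by_cases hb : Nat.gcd N (Q i) ∣ 2
    · exact hb.trans (dvd_mul_right _ _)
    · exact ((h i hi).resolve_left hb).2.1.trans ((Finset.dvd_lcm
        (Finset.mem_image_of_mem G (Finset.mem_filter.2 ⟨hi, hb⟩))).trans (dvd_mul_left _ _))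

theorem dvd_pow_add_one {w g q : ℕ} (hw : w ∣ g) (ho : Odd (g / w)) : q ^ w + 1 ∣ q ^ g + 1 := by
  have h := ho.nat_add_dvd_pow_add_pow (q ^ w) 1
  rwa [one_pow, ← pow_mul, Nat.mul_div_cancel' hw] at h

/-- The contribution of a block to `q ^ m + 1`. -/
theorem plus_block {q m D : ℕ} (hq : 1 ≤ q) :
    Nat.gcd (q ^ m + 1) (q ^ D - 1) ∣ 2 ∨
      ∃ g, Nat.gcd (2 * m) D = 2 * g ∧ g ∣ m ∧ Odd (m / g) ∧
        Nat.gcd (q ^ m + 1) (q ^ D - 1) ∣ q ^ g + 1 := by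
  rcases eq_or_ne m 0 with rfl | hm
  · left
    simpa using Nat.gcd_dvd_left 2 (q ^ D - 1)
  set X := Nat.gcd (q ^ m + 1) (q ^ D - 1) with hX
  set g0 := Nat.gcd (2 * m) D with hg0
  have hX1 : X ∣ q ^ m + 1 := Nat.gcd_dvd_left _ _
  have hX0 : X ∣ q ^ g0 - 1 := by
    rw [hg0, ← Nat.pow_sub_one_gcd_pow_sub_one]
    refine Nat.dvd_gcd ?_ (Nat.gcd_dvd_right _ _)
    rw [show q ^ (2 * m) - 1 = (q ^ m + 1) * (q ^ m - 1) by
      rw [← Nat.sq_sub_sq, one_pow, mul_comm 2 m, pow_mul]]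
    exact hX1.mul_right _
  by_cases hgm : g0 ∣ m
  · left
    have h1 : X ∣ q ^ m - 1 := hX0.trans (Nat.pow_sub_one_dvd_pow_sub_one _ hgm)
    have := Nat.dvd_sub hX1 h1
    rwa [show q ^ m + 1 - (q ^ m - 1) = 2 by have := Nat.one_le_pow m q hq; omega] at this
  right
  have h2m : g0 ∣ 2 * m := Nat.gcd_dvd_left _ _
  obtain ⟨g, hg⟩ : 2 ∣ g0 := by
    rcases Nat.even_or_odd g0 with he | ho
    · exact he.two_dvd
    · exact absurd ((Nat.coprime_two_right.2 ho).dvd_of_dvd_mul_left h2m) hgm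
  have hgdvd : g ∣ m := Nat.dvd_of_mul_dvd_mul_left two_pos (hg ▸ h2m)
  obtain ⟨t, ht⟩ := hgdvd
  have hgpos : 0 < g := Nat.pos_of_ne_zero fun e => hm (by rw [ht, e, zero_mul])
  have hto : Odd t := by
    rcases Nat.even_or_odd t with ⟨s, hs⟩ | ho
    · exact absurd ⟨s, by rw [ht, hg, hs]; ring⟩ hgm
    · exact ho
  refine ⟨g, hg, ⟨t, ht⟩, by rwa [ht, Nat.mul_div_cancel_left _ hgpos], ?_⟩
  obtain ⟨s, hs⟩ := hto
  have hmod : q ^ (2 * g) ≡ 1 [MOD X] :=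
    ((Nat.modEq_iff_dvd' (Nat.one_le_pow _ _ hq)).2 (hg ▸ hX0)).symm
  have h3 : q ^ m + 1 ≡ q ^ g + 1 [MOD X] := by
    refine Nat.ModEq.add_right _ ?_
    have h := (hmod.pow s).mul_left (q ^ g)
    rwa [one_pow, mul_one, ← pow_mul, ← pow_add, show g + 2 * g * s = m by rw [ht, hs]; ring] at h
  exact Nat.modEq_zero_iff_dvd.1 (h3.symm.trans (Nat.modEq_zero_iff_dvd.2 hX1))

/-- The contribution of a block to `q ^ m - 1`, `m` odd. -/
theorem minus_block {q m d : ℕ} (hm : Odd m) :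
    Nat.gcd (q ^ m - 1) (q ^ (2 * d) - 1) = q ^ Nat.gcd m d - 1 := by
  rw [Nat.pow_sub_one_gcd_pow_sub_one, Nat.Coprime.gcd_mul_left_cancel_right d (Nat.coprime_two_left.2 hm)]

/-- A self-conjugate block contributes at most two. -/
theorem minus_self {q m d : ℕ} (hq : 1 ≤ q) (hm : Odd m) :
    Nat.gcd (q ^ m - 1) (q ^ d + 1) ∣ 2 := by
  set X := Nat.gcd (q ^ m - 1) (q ^ d + 1)
  have h1 : X ∣ q ^ (2 * d) - 1 := by
    rw [show q ^ (2 * d) - 1 = (q ^ d + 1) * (q ^ d - 1) by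
      rw [← Nat.sq_sub_sq, one_pow, mul_comm 2 d, pow_mul]]
    exact (Nat.gcd_dvd_right _ _).mul_right _
  have h2 : X ∣ q ^ Nat.gcd m d - 1 := minus_block (d := d) hm ▸ Nat.dvd_gcd (Nat.gcd_dvd_left _ _) h1
  have h3 : X ∣ q ^ d - 1 := h2.trans (Nat.pow_sub_one_dvd_pow_sub_one _ (Nat.gcd_dvd_right _ _))
  have := Nat.dvd_sub (Nat.gcd_dvd_right (q ^ m - 1) (q ^ d + 1)) h3
  rwa [show q ^ d + 1 - (q ^ d - 1) = 2 by have := Nat.one_le_pow d q hq; omega] at this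

theorem lcm_plus {q m : ℕ} (hq : 3 ≤ q) (L : Finset ℕ) (hL : ∀ g ∈ L, g ∣ m ∧ Odd (m / g) ∧ g < m) :
    (L.Nonempty → 3 * L.lcm (fun g => q ^ g + 1) ≤ 4 * q ^ (∑ g ∈ L, g)) ∧
      (2 ≤ L.card → 9 * L.lcm (fun g => q ^ g + 1) ≤ 4 * q ^ (∑ g ∈ L, g)) := by
  classical
  induction L using Finset.induction with
  | empty => simp
  | insert a t hat ih =>
    obtain ⟨ha1, ha2, ha3⟩ := hL a (Finset.mem_insert_self _ _)
    have hapos : 1 ≤ a := Nat.pos_of_dvd_of_pos ha1 (by omega)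
    have hqa : q ≤ q ^ a := Nat.le_self_pow (by omega) q
    rw [Finset.lcm_insert, Finset.sum_insert hat, Finset.card_insert_of_notMem hat]
    rcases t.eq_empty_or_nonempty with rfl | ⟨b, hb⟩
    · refine ⟨fun _ => ?_, fun h => by simp at h⟩
      simp only [Finset.lcm_empty, Finset.sum_empty, add_zero]
      rw [show GCDMonoid.lcm (q ^ a + 1) 1 = Nat.lcm (q ^ a + 1) 1 from rfl, Nat.lcm_one_right]
      omega
    obtain ⟨hb1, hb2, hb3⟩ := hL b (Finset.mem_insert_of_mem hb)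
    have hbpos : 1 ≤ b := Nat.pos_of_dvd_of_pos hb1 (by omega)
    have ih1 := (ih fun g hg => hL g (Finset.mem_insert_of_mem hg)).1 ⟨b, hb⟩
    set B := t.lcm fun g => q ^ g + 1
    set S := ∑ g ∈ t, g
    -- a common divisor
    obtain ⟨w, hw⟩ : ∃ w, w = Nat.gcd a b := ⟨_, rfl⟩
    have hwpos : 1 ≤ w := hw ▸ Nat.gcd_pos_of_pos_left b hapos
    obtain ⟨x, hx⟩ : w ∣ a := hw ▸ Nat.gcd_dvd_left a b
    obtain ⟨y, hy⟩ : w ∣ b := hw ▸ Nat.gcd_dvd_right a b
    have hxy : Nat.Coprime x y := by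
      have : Nat.gcd a b = w * Nat.gcd x y := by rw [hx, hy, Nat.gcd_mul_left]
      exact Nat.eq_of_mul_eq_mul_left hwpos (by rw [mul_one, ← this, hw])
    have key : x * (m / a) = y * (m / b) := by
      apply Nat.eq_of_mul_eq_mul_left hwpos
      rw [← mul_assoc, ← mul_assoc, ← hx, ← hy, Nat.mul_div_cancel' ha1, Nat.mul_div_cancel' hb1]
    have hxo : Odd x := hb2.of_dvd_nat (hxy.dvd_of_dvd_mul_left ⟨m / a, key.symm⟩)
    have hyo : Odd y := ha2.of_dvd_nat (hxy.symm.dvd_of_dvd_mul_left ⟨m / b, key⟩)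
    have hwd : ∀ g z, g = w * z → Odd z → q ^ w + 1 ∣ q ^ g + 1 := fun g z e hz =>
      dvd_pow_add_one ⟨z, e⟩ (by rw [e, Nat.mul_div_cancel_left _ hwpos]; exact hz)
    have hG : q ^ w + 1 ∣ Nat.gcd (q ^ a + 1) B :=
      Nat.dvd_gcd (hwd a x hx hxo)
        ((hwd b y hy hyo).trans (Finset.dvd_lcm (f := fun g => q ^ g + 1) hb))
    have hG4 : 4 ≤ Nat.gcd (q ^ a + 1) B := by
      have := Nat.le_of_dvd (Nat.gcd_pos_of_pos_left B (show 0 < q ^ a + 1 by omega)) hG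
      have := Nat.le_self_pow (show w ≠ 0 by omega) q
      omega
    have hmul := Nat.gcd_mul_lcm (q ^ a + 1) B
    have key2 : 9 * Nat.lcm (q ^ a + 1) B ≤ 4 * (q ^ a * q ^ S) := by
      have h1 : 4 * Nat.lcm (q ^ a + 1) B ≤ (q ^ a + 1) * B := hmul ▸ Nat.mul_le_mul_right _ hG4
      have h2 : (3 * (q ^ a + 1)) * (3 * B) ≤ (4 * q ^ a) * (4 * q ^ S) :=
        Nat.mul_le_mul (by omega) ih1
      nlinarith
    rw [← pow_add] at key2
    refine ⟨fun _ => ?_, fun _ => key2⟩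
    exact le_trans (by show 3 * Nat.lcm (q ^ a + 1) B ≤ 9 * Nat.lcm (q ^ a + 1) B; omega) key2

theorem not_dvd_plus {q m : ℕ} (hq : 3 ≤ q) (hm : 1 ≤ m) (L : Finset ℕ)
    (hL : ∀ g ∈ L, g ∣ m ∧ Odd (m / g) ∧ g < m) (hsum : ∑ g ∈ L, g ≤ m) :
    ¬ q ^ m + 1 ∣ 2 * L.lcm (fun g => q ^ g + 1) := by
  intro h
  have hqm : q ≤ q ^ m := Nat.le_self_pow (by omega) q
  rcases L.eq_empty_or_nonempty with rfl | hne
  · simp only [Finset.lcm_empty] at h
    have := Nat.le_of_dvd (by norm_num) h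
    omega
  have hpos : 0 < L.lcm (fun g => q ^ g + 1) :=
    Nat.pos_of_ne_zero fun e => by simp [Finset.lcm_eq_zero_iff] at e
  have hle := Nat.le_of_dvd (by omega) h
  rcases Nat.lt_or_ge L.card 2 with hc | hc
  · obtain ⟨g, rfl⟩ := Finset.card_eq_one.1 (show L.card = 1 by have := hne.card_pos; omega)
    obtain ⟨h1, h2, h3⟩ := hL g (Finset.mem_singleton_self g)
    have hgpos : 1 ≤ g := Nat.pos_of_dvd_of_pos h1 (by omega)
    simp only [Finset.lcm_singleton, normalize_eq] at hle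
    obtain ⟨t, ht⟩ := h1
    have : g * 2 ≤ m := by
      rw [ht]
      refine Nat.mul_le_mul_left _ ?_
      rcases t with _ | _ | t
      · simp at ht; omega
      · omega
      · omega
    have h4 : q ^ g * q ^ g ≤ q ^ m := by rw [← pow_add]; exact Nat.pow_le_pow_right (by omega) (by omega)
    have : q ≤ q ^ g := Nat.le_self_pow (by omega) q
    nlinarith
  · have h9 := (lcm_plus hq L hL).2 hc
    have : q ^ (∑ g ∈ L, g) ≤ q ^ m := Nat.pow_le_pow_right (by omega) hsum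
    omega

theorem lcm_minus {q : ℕ} (hq : 3 ≤ q) (L : Finset ℕ) (hL : ∀ g ∈ L, 1 ≤ g) :
    (L.Nonempty → 2 ≤ L.lcm (fun g => q ^ g - 1) ∧ L.lcm (fun g => q ^ g - 1) + 1 ≤ q ^ (∑ g ∈ L, g)) ∧
      (2 ≤ L.card → 2 * L.lcm (fun g => q ^ g - 1) + 1 < q ^ (∑ g ∈ L, g)) := by
  classical
  induction L using Finset.induction with
  | empty => simp
  | insert a t hat ih =>
    have hapos : 1 ≤ a := hL a (Finset.mem_insert_self _ _)
    have hqa : q ≤ q ^ a := Nat.le_self_pow (by omega) q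
    rw [Finset.lcm_insert, Finset.sum_insert hat, Finset.card_insert_of_notMem hat]
    rcases t.eq_empty_or_nonempty with rfl | ⟨b, hb⟩
    · refine ⟨fun _ => ?_, fun h => by simp at h⟩
      simp only [Finset.lcm_empty, Finset.sum_empty, add_zero]
      rw [show GCDMonoid.lcm (q ^ a - 1) 1 = Nat.lcm (q ^ a - 1) 1 from rfl, Nat.lcm_one_right]
      omega
    obtain ⟨ih0, ih1⟩ := (ih fun g hg => hL g (Finset.mem_insert_of_mem hg)).1 ⟨b, hb⟩
    set B := t.lcm fun g => q ^ g - 1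
    set S := ∑ g ∈ t, g
    have hG : q - 1 ∣ Nat.gcd (q ^ a - 1) B :=
      Nat.dvd_gcd (Nat.sub_one_dvd_pow_sub_one q a)
        ((Nat.sub_one_dvd_pow_sub_one q b).trans (Finset.dvd_lcm (f := fun g => q ^ g - 1) hb))
    have hG2 : 2 ≤ Nat.gcd (q ^ a - 1) B := by
      have := Nat.le_of_dvd (Nat.gcd_pos_of_pos_left _ (by omega)) hG
      omega
    have hmul := Nat.gcd_mul_lcm (q ^ a - 1) B
    have h1 : 2 * Nat.lcm (q ^ a - 1) B ≤ (q ^ a - 1) * B := hmul ▸ Nat.mul_le_mul_right _ hG2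
    have h2 : (q ^ a - 1 + 1) * (B + 1) ≤ q ^ a * q ^ S := Nat.mul_le_mul (by omega) ih1
    rw [← pow_add] at h2
    have h3 : B ≤ Nat.lcm (q ^ a - 1) B :=
      Nat.le_of_dvd (Nat.pos_of_ne_zero (Nat.lcm_ne_zero (by omega) (by omega))) (Nat.dvd_lcm_right _ _)
    refine ⟨fun _ => ⟨?_, ?_⟩, fun _ => ?_⟩
    · exact ih0.trans h3
    · show Nat.lcm (q ^ a - 1) B + 1 ≤ _
      nlinarith
    · show 2 * Nat.lcm (q ^ a - 1) B + 1 < _
      nlinarith

theorem not_dvd_minus {q m : ℕ} (hq : 3 ≤ q) (hm : 1 ≤ m) (L : Finset ℕ)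
    (hL : ∀ g ∈ L, 1 ≤ g ∧ g < m) (hsum : ∑ g ∈ L, g ≤ m) (hm2 : 2 ≤ m) :
    ¬ q ^ m - 1 ∣ 2 * L.lcm (fun g => q ^ g - 1) := by
  intro h
  have hqm : q * q ≤ q ^ m := by rw [← pow_two]; exact Nat.pow_le_pow_right (by omega) hm2
  have hq9 : 9 ≤ q * q := Nat.mul_le_mul hq hq
  rcases L.eq_empty_or_nonempty with rfl | hne
  · simp only [Finset.lcm_empty] at h
    have := Nat.le_of_dvd (by norm_num) h
    omega
  have h2 := (lcm_minus hq L fun g hg => (hL g hg).1).1 hne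
  have hle := Nat.le_of_dvd (by omega) h
  rcases Nat.lt_or_ge L.card 2 with hc | hc
  · obtain ⟨g, rfl⟩ := Finset.card_eq_one.1 (show L.card = 1 by have := hne.card_pos; omega)
    obtain ⟨h1, h3⟩ := hL g (Finset.mem_singleton_self g)
    simp only [Finset.lcm_singleton, normalize_eq] at hle
    have h4 : q * q ^ g ≤ q ^ m := by rw [← pow_succ']; exact Nat.pow_le_pow_right (by omega) (by omega)
    have h5 : 3 * q ^ g ≤ q * q ^ g := Nat.mul_le_mul_right _ hq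
    have : q ≤ q ^ g := Nat.le_self_pow (by omega) q
    omega
  · have h9 := (lcm_minus hq L fun g hg => (hL g hg).1).2 hc
    have : q ^ (∑ g ∈ L, g) ≤ q ^ m := Nat.pow_le_pow_right (by omega) hsum
    omega

/-- The two-part criterion. -/
theorem gcd_dvd_iff {m e : ℕ} (hm : m ≠ 0) (he : e ≠ 0) :
    Nat.gcd (2 * m) e ∣ m ↔ padicValNat 2 e < padicValNat 2 (2 * m) := by
  have hv : padicValNat 2 (2 * m) = 1 + padicValNat 2 m := by
    rw [padicValNat.mul two_ne_zero hm, padicValNat_self]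
  constructor
  · intro h
    by_contra hle
    push Not at hle
    have h1 : 2 ^ padicValNat 2 (2 * m) ∣ Nat.gcd (2 * m) e :=
      Nat.dvd_gcd pow_padicValNat_dvd ((padicValNat_dvd_iff_le he).2 hle)
    have := (padicValNat_dvd_iff_le hm).1 (h1.trans h)
    omega
  · intro hlt
    by_contra hnd
    obtain ⟨t, ht⟩ := Nat.gcd_dvd_left (2 * m) e
    have hto : Odd t := by
      rcases Nat.even_or_odd t with ⟨s, hs⟩ | ho
      · refine absurd ⟨s, ?_⟩ hnd
        rw [hs] at ht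
        linarith
      · exact ho
    have h1 : 2 ^ padicValNat 2 (2 * m) ∣ Nat.gcd (2 * m) e :=
      ((Nat.coprime_two_left.2 hto).pow_left _).dvd_of_dvd_mul_right (ht ▸ pow_padicValNat_dvd)
    have := (padicValNat_dvd_iff_le he).1 (h1.trans (Nat.gcd_dvd_right _ _))
    omega

theorem geom_mod (q m : ℕ) (hq : 1 ≤ q) :
    ∃ T : ℕ, T * (q - 1) = q ^ m - 1 ∧ ∀ d, d ∣ q - 1 → (d ∣ T ↔ d ∣ m) := by
  refine ⟨∑ i ∈ Finset.range m, q ^ i, ?_, fun d hd => ?_⟩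
  · have := geom_sum_mul_add (q - 1) m
    rw [Nat.sub_add_cancel hq] at this
    omega
  · have h : ((∑ i ∈ Finset.range m, q ^ i : ℕ) : ZMod d) = (m : ZMod d) := by
      have hq1 : (q : ZMod d) = 1 := by
        have := (ZMod.natCast_eq_zero_iff (q - 1) d).2 hd
        rw [Nat.cast_sub hq, sub_eq_zero, Nat.cast_one] at this
        exact this
      simp [hq1]
    rw [← ZMod.natCast_eq_zero_iff, h, ZMod.natCast_eq_zero_iff]

theorem geom_mod_neg (q m : ℕ) (hq : 1 ≤ q) :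
    ∃ T : ℕ, T * (q + 1) = (if Even m then q ^ m - 1 else q ^ m + 1) ∧
      ∀ d, d ∣ q + 1 → (d ∣ T ↔ d ∣ m) := by
  set S : ℤ := ∑ i ∈ Finset.range m, (q : ℤ) ^ i * (-1) ^ (m - 1 - i) with hS
  have hmul : S * (q + 1) = (q : ℤ) ^ m - (-1) ^ m := by
    have := geom_sum₂_mul (q : ℤ) (-1) m
    rwa [sub_neg_eq_add] at this
  have hnat : S * (q + 1) = ((if Even m then q ^ m - 1 else q ^ m + 1 : ℕ) : ℤ) := by
    rw [hmul]
    rcases Nat.even_or_odd m with he | ho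
    · rw [if_pos he, he.neg_one_pow, Nat.cast_sub (Nat.one_le_pow _ _ hq)]; push_cast; ring
    · rw [if_neg (Nat.not_even_iff_odd.2 ho), ho.neg_one_pow]; push_cast; ring
  have hnn : 0 ≤ S := nonneg_of_mul_nonneg_left (hnat ▸ Int.natCast_nonneg _) (by positivity)
  obtain ⟨T, hT⟩ : ∃ T : ℕ, (T : ℤ) = S := ⟨S.toNat, Int.toNat_of_nonneg hnn⟩
  refine ⟨T, ?_, fun d hd => ?_⟩
  · rw [← hT] at hnat
    exact_mod_cast hnat
  · have hq1 : (q : ZMod d) = -1 := by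
      have := (ZMod.natCast_eq_zero_iff (q + 1) d).2 hd
      push_cast at this
      exact eq_neg_of_add_eq_zero_left this
    have h : ((T : ℕ) : ZMod d) = (-1) ^ (m - 1) * (m : ZMod d) := by
      have := congrArg (fun z : ℤ => (z : ZMod d)) hT
      simp only [Int.cast_natCast, hS, Int.cast_sum, Int.cast_mul, Int.cast_pow, Int.cast_neg,
        Int.cast_one, hq1] at this
      rw [this, Finset.sum_congr rfl (fun i hi => by
        rw [← pow_add, show i + (m - 1 - i) = m - 1 by have := Finset.mem_range.1 hi; omega]),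
        Finset.sum_const, Finset.card_range, nsmul_eq_mul, mul_comm]
    rw [← ZMod.natCast_eq_zero_iff, h, IsUnit.mul_right_eq_zero (isUnit_one.neg.pow _),
      ZMod.natCast_eq_zero_iff]

/-- Cancelling a common factor. -/
theorem div_gcd_dvd {S e k : ℕ} (he : 0 < e) (h : S ∣ k * e) : S / Nat.gcd S e ∣ k := by
  have hd : 0 < Nat.gcd S e := Nat.gcd_pos_of_pos_right _ he
  refine (Nat.coprime_div_gcd_div_gcd hd).dvd_of_dvd_mul_right ?_
  rw [← Nat.mul_div_assoc _ (Nat.gcd_dvd_right S e)]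
  exact Nat.div_dvd_div (Nat.gcd_dvd_left S e) h

end Cfsg.Agent.Lib.Similar.HalfTorus
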