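import Mathlib
import Cfsg.Agent.Lib.Similar.Orders

/-!
Split torus elements commuting with decomposable matrices, and the Singer torus of `SL_n`.
-/

set_option autoImplicit false

namespace Cfsg.Agent.Lib.Similar

open Polynomial Module

variable {F : Type*} [Field F] {n : ℕ}

theorem mk_pow_eq_one_iff (g : Matrix.SpecialLinearGroup (Fin n) F) (k : ℕ) :
    (QuotientGroup.mk g : Matrix.ProjectiveSpecialLinearGroup (Fin n) F) ^ k = 1 ↔
      ∃ c : F, (g : Matrix (Fin n) (Fin n) F) ^ k = Matrix.scalar (Fin n) c := by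
  rw [← QuotientGroup.mk_pow, QuotientGroup.eq_one_iff, Matrix.SpecialLinearGroup.mem_center_iff]
  constructor
  · rintro ⟨c, -, hc⟩
    exact ⟨c, by rw [← Matrix.SpecialLinearGroup.coe_pow]; exact hc.symm⟩
  · rintro ⟨c, hc⟩
    refine ⟨c, ?_, ?_⟩
    · have h := (g ^ k).2
      rw [Matrix.SpecialLinearGroup.coe_pow, hc] at h
      simpa [Matrix.det_diagonal] using h
    · rw [Matrix.SpecialLinearGroup.coe_pow]; exact hc.symm

theorem toEnd_scalar (c : F) : toEnd (Matrix.scalar (Fin n) c) = c • (1 : Module.End F (Fin n → F)) := by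
  apply LinearMap.ext
  intro v
  funext i
  simp [toEnd, Matrix.mulVec_diagonal]

variable [Fintype F]

/-- an element of order `r` modulo scalars commuting with a decomposable element -/
theorem exists_commute_torus {r : ℕ} (hr : r.Prime) (hrq : r ∣ Fintype.card F - 1) (hrn : ¬ r ∣ n)
    (g : Matrix.SpecialLinearGroup (Fin n) F) (D : Decomp (toEnd (g : Matrix (Fin n) (Fin n) F)))
    (P : D.ι → Prop) (hP : ∃ i, P i) (hP' : ∃ i, ¬ P i) :
    ∃ t : Matrix.SpecialLinearGroup (Fin n) F, Commute g t ∧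
      orderOf (QuotientGroup.mk t : Matrix.ProjectiveSpecialLinearGroup (Fin n) F) = r := by
  classical
  have : Fact r.Prime := ⟨hr⟩
  obtain ⟨i0, hi0⟩ := hP
  obtain ⟨i1, hi1⟩ := hP'
  obtain ⟨ω, hω⟩ := exists_prime_orderOf_dvd_card' (G := Fˣ) r
    (by rw [Nat.card_units, Nat.card_eq_fintype_card]; exact hrq)
  let dg : D.ι → ℕ := fun i => (D.p i ^ D.e i).natDegree
  let n1 : ℕ := ∑ i ∈ Finset.univ.filter P, dg i
  let n2 : ℕ := ∑ i ∈ Finset.univ.filter (fun i => ¬ P i), dg i
  have hn : n1 + n2 = n := by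
    rw [Finset.sum_filter_add_sum_filter_not]
    have h := congrArg Polynomial.natDegree D.charpoly_eq
    rw [charpoly_toEnd, Matrix.charpoly_natDegree_eq_dim, Fintype.card_fin,
      natDegree_prod_of_monic _ _ fun i _ => (D.monic i).pow _] at h
    exact h.symm
  let lam : D.ι → Fˣ := fun i => if P i then ω ^ n2 else (ω ^ n1)⁻¹
  have hfin : ∀ i, Module.Finite F (F[X] ⧸ Ideal.span {D.p i ^ D.e i}) := fun i =>
    finite_quot (pow_ne_zero _ (D.irr i).ne_zero)
  have hnt : ∀ i, Nontrivial (F[X] ⧸ Ideal.span {D.p i ^ D.e i}) := fun i => by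
    apply Module.nontrivial_of_finrank_pos (R := F)
    rw [finrank_quotient_span_eq_natDegree, natDegree_pow]
    exact Nat.mul_pos (D.pos i) (D.irr i).natDegree_pos
  let f : ∀ i, Module.End F (F[X] ⧸ Ideal.span {D.p i ^ D.e i}) := fun i => (lam i : F) • 1
  let E : Module.End F (Fin n → F) := D.linEquiv.symm.conjAlgEquiv F (piEnd f)
  have hdet : LinearMap.det E = 1 := by
    show LinearMap.det (D.linEquiv.symm.toLinearMap ∘ₗ piEnd f ∘ₗ D.linEquiv.symm.symm.toLinearMap) = 1
    rw [LinearMap.det_conj, det_piEnd]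
    have : ∀ i, LinearMap.det (f i) = (lam i : F) ^ dg i := fun i => by
      simp only [f, LinearMap.det_smul, map_one, mul_one, dg, finrank_quotient_span_eq_natDegree]
    simp only [this, ← Units.val_pow_eq_pow_val, ← Units.coe_prod, Units.val_eq_one]
    rw [← Finset.prod_filter_mul_prod_filter_not Finset.univ P]
    rw [Finset.prod_congr rfl (g := fun i => (ω ^ n2) ^ dg i) fun i hi => by
        simp [lam, (Finset.mem_filter.1 hi).2],
      Finset.prod_congr rfl (s₁ := Finset.univ.filter fun i => ¬ P i) (g := fun i => ((ω ^ n1)⁻¹) ^ dg i)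
        fun i hi => by simp [lam, (Finset.mem_filter.1 hi).2],
      Finset.prod_pow_eq_pow_sum, Finset.prod_pow_eq_pow_sum]
    show (ω ^ n2) ^ n1 * ((ω ^ n1)⁻¹) ^ n2 = 1
    rw [inv_pow, ← pow_mul, ← pow_mul, mul_comm n2 n1, mul_inv_cancel]
  let T : Matrix (Fin n) (Fin n) F := LinearMap.toMatrixAlgEquiv' E
  have hT : toEnd T = E := Matrix.toLinAlgEquiv'_toMatrixAlgEquiv' _
  have hTdet : T.det = 1 := by
    rw [show T = LinearMap.toMatrix' E from rfl, LinearMap.det_toMatrix', hdet]
  let t : Matrix.SpecialLinearGroup (Fin n) F := ⟨T, hTdet⟩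
  have htr : (T ^ r) = 1 := by
    apply (Matrix.toLinAlgEquiv' (R := F) (n := Fin n)).injective
    rw [map_pow, map_one]
    show toEnd T ^ r = 1
    rw [hT]
    show (D.linEquiv.symm.conjAlgEquiv F (piEnd f)) ^ r = 1
    have h1 : piEnd f ^ r = 1 := by
      have hp : ∀ k : ℕ, ∀ x i, (piEnd f ^ k) x i = (lam i : F) ^ k • x i := by
        intro k
        induction k with
        | zero => intro x i; simp
        | succ k ih =>
          intro x i
          rw [pow_succ', Module.End.mul_apply, piEnd_apply, pow_succ', mul_smul, ← ih]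
          rfl
      refine LinearMap.ext fun x => funext fun i => ?_
      rw [hp, Module.End.one_apply]
      have : lam i ^ r = 1 := by
        simp only [lam]
        split_ifs
        · rw [← pow_mul, mul_comm, pow_mul, ← hω, pow_orderOf_eq_one, one_pow]
        · rw [inv_pow, ← pow_mul, mul_comm, pow_mul, ← hω, pow_orderOf_eq_one, one_pow, inv_one]
      rw [← Units.val_pow_eq_pow_val, this, Units.val_one, one_smul]
    rw [← map_pow, h1, map_one]
  refine ⟨t, ?_, orderOf_eq_prime ?_ ?_⟩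
  · apply Subtype.ext
    show (g : Matrix (Fin n) (Fin n) F) * T = T * (g : Matrix (Fin n) (Fin n) F)
    apply (Matrix.toLinAlgEquiv' (R := F) (n := Fin n)).injective
    apply LinearMap.ext
    intro v
    rw [map_mul, map_mul, Module.End.mul_apply, Module.End.mul_apply]
    have hT' : Matrix.toLinAlgEquiv' T = E := hT
    rw [hT']
    apply D.linEquiv.injective
    have hE : ∀ w, D.linEquiv (E w) = piEnd f (D.linEquiv w) := fun w => D.linEquiv.apply_symm_apply _
    rw [hE, D.linEquiv_apply_T, hE, D.linEquiv_apply_T]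
    funext i
    simp [piEnd_apply, f]
  · rw [← QuotientGroup.mk_pow, QuotientGroup.eq_one_iff,
      show t ^ r = 1 from Subtype.ext (by rw [Matrix.SpecialLinearGroup.coe_pow]; exact htr)]
    exact one_mem _
  · intro h1
    rw [← pow_one (QuotientGroup.mk t : Matrix.ProjectiveSpecialLinearGroup (Fin n) F),
      mk_pow_eq_one_iff, pow_one] at h1
    obtain ⟨c, hc⟩ := h1
    have hTc : T = Matrix.scalar (Fin n) c := hc
    have key : ∀ i, (lam i : F) = c := by
      intro i
      obtain ⟨x, hx⟩ := exists_ne (0 : F[X] ⧸ Ideal.span {D.p i ^ D.e i})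
      have h : E (D.linEquiv.symm (Pi.single i x)) = c • D.linEquiv.symm (Pi.single i x) := by
        rw [← hT, hTc, toEnd_scalar]; rfl
      have h2 := congrFun (congrArg D.linEquiv h) i
      have hE : ∀ w, D.linEquiv (E w) = piEnd f (D.linEquiv w) := fun w => D.linEquiv.apply_symm_apply _
      rw [hE, LinearEquiv.apply_symm_apply, piEnd_apply, map_smul, LinearEquiv.apply_symm_apply,
        Pi.smul_apply, Pi.single_eq_same] at h2
      exact smul_left_injective F hx h2
    have h01 : lam i0 = lam i1 := Units.ext ((key i0).trans (key i1).symm)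
    simp only [lam, if_pos hi0, if_neg hi1] at h01
    have h3 : ω ^ (n2 + n1) = 1 := by
      rw [pow_add, h01, inv_mul_cancel]
    rw [add_comm, hn, ← orderOf_dvd_iff_pow_eq_one, hω] at h3
    exact hrn h3

/-- a Singer element of `SL_n` dominating, modulo scalars, all primary elements -/
theorem exists_singer {p : ℕ} [Fact p.Prime] [CharP F p] (hn : 1 ≤ n) :
    ∃ z : Matrix.SpecialLinearGroup (Fin n) F,
      (orderOf (QuotientGroup.mk z : Matrix.ProjectiveSpecialLinearGroup (Fin n) F)).Coprime p ∧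
      ∀ (g : Matrix.SpecialLinearGroup (Fin n) F) (f : F[X]),
        (∀ y ∈ matInv (g : Matrix (Fin n) (Fin n) F), y.1 = f) →
        orderOf (QuotientGroup.mk g : Matrix.ProjectiveSpecialLinearGroup (Fin n) F) ∣
          p ^ Nat.clog p n * orderOf (QuotientGroup.mk z : Matrix.ProjectiveSpecialLinearGroup (Fin n) F) := by
  classical
  have hp : p.Prime := Fact.out
  have : NeZero n := ⟨by omega⟩
  have : Nonempty (Fin n) := ⟨⟨0, hn⟩⟩
  let K := FiniteField.Extension F p n
  let _ : Fintype K := Fintype.ofFinite K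
  have hfr : finrank F K = n := FiniteField.finrank_extension F p n
  let b : Basis (Fin n) F K := (finBasis F K).reindex (finCongr hfr)
  let μ : K →ₐ[F] Matrix (Fin n) (Fin n) F := Algebra.leftMulMatrix b
  have hdet : ∀ x, (μ x).det = Algebra.norm F x := fun x => (Algebra.norm_eq_matrix_det b x).symm
  let Nk : Subgroup Kˣ := (Units.map (Algebra.norm F : K →* F)).ker
  obtain ⟨β, hβ⟩ := IsCyclic.exists_generator (α := Nk)
  have hβ1 : Algebra.norm F ((β : Kˣ) : K) = 1 := congrArg Units.val (MonoidHom.mem_ker.1 β.2)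
  let z : Matrix.SpecialLinearGroup (Fin n) F := ⟨μ ((β : Kˣ) : K), by rw [hdet, hβ1]⟩
  have hzm : ∀ k : ℕ, (z : Matrix (Fin n) (Fin n) F) ^ k = μ (((β : Kˣ) : K) ^ k) := fun k =>
    (map_pow μ _ k).symm
  refine ⟨z, ?_, ?_⟩
  · have hcard : Fintype.card K = Fintype.card F ^ n := by
      rw [← Nat.card_eq_fintype_card, FiniteField.natCard_extension, Nat.card_eq_fintype_card]
    have h1 : (QuotientGroup.mk z : Matrix.ProjectiveSpecialLinearGroup (Fin n) F) ^ (Fintype.card K - 1) = 1 := by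
      rw [mk_pow_eq_one_iff]
      exact ⟨1, by rw [hzm, FiniteField.pow_card_sub_one_eq_one _ (Units.ne_zero _), map_one, map_one]⟩
    refine Nat.Coprime.coprime_dvd_left (orderOf_dvd_of_pow_eq_one h1) ?_
    rw [Nat.coprime_comm, hp.coprime_iff_not_dvd]
    intro hd
    have : CharP K p := charP_of_injective_algebraMap (algebraMap F K).injective p
    obtain ⟨⟨e, he⟩, -, hc⟩ := FiniteField.card K p
    have h2 : p ∣ Fintype.card K := by rw [hc]; exact dvd_pow_self p he.ne'
    have h3 : 1 ≤ Fintype.card K := Fintype.card_pos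
    have := Nat.dvd_sub h2 hd
    rw [show Fintype.card K - (Fintype.card K - 1) = 1 by omega] at this
    exact hp.ne_one (Nat.dvd_one.1 this)
  intro g f hf
  let gg : GL (Fin n) F := Matrix.SpecialLinearGroup.toGL g
  obtain ⟨hspec, hsum⟩ := matInv_spec gg
  rw [Fintype.card_fin] at hsum
  obtain ⟨y0, hy0⟩ : ∃ y, y ∈ matInv (g : Matrix (Fin n) (Fin n) F) :=
    Multiset.exists_mem_of_ne_zero fun h => by
      have : matInv (gg : Matrix (Fin n) (Fin n) F) = 0 := h
      rw [this] at hsum
      simp at hsum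
      omega
  obtain ⟨hfm, hfi, hf0, -⟩ := hspec y0 hy0
  rw [hf y0 hy0] at hfm hfi hf0
  -- degree of `f` divides `n`
  have hdvdn : f.natDegree ∣ n := by
    rw [← hsum]
    refine Multiset.dvd_sum fun a ha => ?_
    obtain ⟨y, hy, rfl⟩ := Multiset.mem_map.1 ha
    rw [hf y hy]
    exact Dvd.intro_left _ rfl
  -- a root in `K`
  obtain ⟨α, hα⟩ : ∃ α : K, aeval α f = 0 := by
    have h1 : f ∣ X ^ (Fintype.card F ^ n - 1) - 1 := by
      obtain ⟨c, hc⟩ := hdvdn
      refine (dvd_X_pow_card_sub_one hfi hf0).trans ?_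
      obtain ⟨d, hd⟩ : Fintype.card F ^ f.natDegree - 1 ∣ Fintype.card F ^ n - 1 :=
        Nat.pow_sub_one_dvd_pow_sub_one _ ⟨c, hc⟩
      rw [hd, pow_mul]
      exact sub_one_dvd_pow_sub_one _ d
    have h2 : f.map (algebraMap F K) ∣ (X ^ Nat.card K - X : K[X]) := by
      have h3 := Polynomial.map_dvd (algebraMap F K) h1
      rw [Polynomial.map_sub, Polynomial.map_pow, map_X, Polynomial.map_one] at h3
      refine h3.trans (Dvd.intro X ?_)
      rw [sub_mul, ← pow_succ, one_mul, FiniteField.natCard_extension, Nat.card_eq_fintype_card,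
        Nat.sub_add_cancel (Nat.one_le_pow _ _ Fintype.card_pos)]
    have hs : (f.map (algebraMap F K)).Splits :=
      (Polynomial.splits_X_pow_nat_card_sub_X).of_dvd
        (FiniteField.X_pow_card_sub_X_ne_zero K (Finite.one_lt_card)) h2
    obtain ⟨a, ha⟩ := hs.exists_eval_eq_zero (by
      rw [degree_map]; exact hfi.natDegree_pos.ne' ∘ natDegree_eq_of_degree_eq_some)
    exact ⟨a, by rwa [eval_map_algebraMap] at ha⟩
  have hα0 : α ≠ 0 := by
    rintro rfl
    apply hf0
    rw [← coeff_zero_eq_aeval_zero'] at hα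
    exact (algebraMap F K).injective (by rw [hα, map_zero])
  -- Frobenius twist
  set P := p ^ Nat.clog p n with hP
  let h : F[X] := f.map (iterateFrobenius F p (Nat.clog p n))
  have hexp : f ^ P = expand F P h := by
    rw [hP, ← map_iterateFrobenius_expand p f, map_expand]
  have hh : Irreducible h :=
    (MulEquiv.irreducible_iff (Polynomial.mapEquiv (iterateFrobeniusEquiv F p (Nat.clog p n))).toMulEquiv).2 hfi
  have hhm : h.Monic := hfm.map _
  have hhsq : Squarefree h := hh.squarefree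
  have hgP : aeval (toEnd (g : Matrix (Fin n) (Fin n) F) ^ P) h = 0 := by
    rw [← expand_aeval, ← hexp]
    refine (aeval_eq_zero_iff_matInv _ _).2 fun y hy => ?_
    rw [hf y hy]
    refine pow_dvd_pow _ (le_trans ?_ (Nat.le_pow_clog hp.one_lt n))
    have h1 := Multiset.le_sum_of_mem (Multiset.mem_map_of_mem (fun y : F[X] × ℕ => y.2 * y.1.natDegree) hy)
    have hd : 1 ≤ y.1.natDegree := by rw [hf y hy]; exact hfi.natDegree_pos
    calc y.2 ≤ y.2 * y.1.natDegree := Nat.le_mul_of_pos_right _ hd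
      _ ≤ _ := h1.trans hsum.le
  have hαP : aeval (α ^ P) h = 0 := by
    rw [← expand_aeval, ← hexp, map_pow, hα, zero_pow (pow_ne_zero _ hp.ne_zero)]
  let A : GL (Fin n) F := gg ^ P
  let B : GL (Fin n) F := Units.map (μ : K →* Matrix (Fin n) (Fin n) F) (Units.mk0 (α ^ P) (pow_ne_zero _ hα0))
  have hA0 : aeval (toEnd (A : Matrix (Fin n) (Fin n) F)) h = 0 := by
    show aeval (toEnd (((gg ^ P : GL (Fin n) F)) : Matrix (Fin n) (Fin n) F)) h = 0
    rw [Units.val_pow_eq_pow_val, toEnd, map_pow]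
    exact hgP
  have hB0 : aeval (toEnd (B : Matrix (Fin n) (Fin n) F)) h = 0 := by
    show aeval ((Matrix.toLinAlgEquiv' (R := F) (n := Fin n)).toAlgHom (μ (α ^ P))) h = 0
    rw [Polynomial.aeval_algHom_apply, Polynomial.aeval_algHom_apply, hαP, map_zero, map_zero]
  have hchar : ∀ M : Matrix (Fin n) (Fin n) F, aeval (toEnd M) h = 0 →
      M.charpoly = h ^ (n / f.natDegree) := by
    intro M hM
    obtain ⟨m, hm, hmp⟩ := exists_factors M hhsq hM
    have hall : ∀ q ∈ m, q = h := fun q hq =>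
      eq_of_monic_of_associated (hm q hq).1 hhm ((hm q hq).2.1.associated_of_dvd hh (hm q hq).2.2)
    rw [Multiset.eq_replicate_card.2 hall, Multiset.prod_replicate] at hmp
    have hdeg := Matrix.charpoly_natDegree_eq_dim M
    rw [hmp, natDegree_pow, Fintype.card_fin, natDegree_map] at hdeg
    rw [hmp]
    congr 1
    rw [← hdeg, Nat.mul_div_cancel _ hfi.natDegree_pos]
  have hdetA : (A : Matrix (Fin n) (Fin n) F).det = 1 := by
    rw [Units.val_pow_eq_pow_val, Matrix.det_pow]
    show (g : Matrix (Fin n) (Fin n) F).det ^ P = 1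
    rw [g.2, one_pow]
  have hconj : IsConj A B := isConj_of_charpoly_eq (p := p)
    (orderOf_coprime_of_squarefree A hhsq hA0) (orderOf_coprime_of_squarefree B hhsq hB0)
    (by rw [hchar _ hA0, hchar _ hB0])
  obtain ⟨c, hc⟩ := isConj_iff.1 hconj
  -- norm one
  have hnorm : Algebra.norm F (α ^ P) = 1 := by
    rw [← hdet]
    show (B : Matrix (Fin n) (Fin n) F).det = 1
    rw [← hc, Units.val_mul, Units.val_mul, Matrix.det_units_conj, hdetA]
  obtain ⟨j, hj⟩ := (mem_powers_iff_mem_zpowers.2 (hβ ⟨Units.mk0 (α ^ P) (pow_ne_zero _ hα0), by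
    rw [MonoidHom.mem_ker]; exact Units.ext hnorm⟩) :
    (⟨Units.mk0 (α ^ P) (pow_ne_zero _ hα0), _⟩ : Nk) ∈ Submonoid.powers β)
  have hαβ : α ^ P = ((β : Kˣ) : K) ^ j := by
    have := congrArg (fun x : Nk => ((x : Kˣ) : K)) hj
    simpa using this.symm
  apply orderOf_dvd_of_pow_eq_one
  set k := orderOf (QuotientGroup.mk z : Matrix.ProjectiveSpecialLinearGroup (Fin n) F)
  obtain ⟨s, hs⟩ := (mk_pow_eq_one_iff z k).1 (pow_orderOf_eq_one _)
  rw [mk_pow_eq_one_iff]
  refine ⟨s ^ j, ?_⟩
  have hA' : (A : Matrix (Fin n) (Fin n) F) = (c⁻¹ : GL (Fin n) F) * μ (α ^ P) * (c : Matrix (Fin n) (Fin n) F) := by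
    have h0 : A = c⁻¹ * B * c := by rw [← hc]; group
    rw [h0, Units.val_mul, Units.val_mul]
    rfl
  rw [pow_mul]
  have hgA : (g : Matrix (Fin n) (Fin n) F) ^ P = (A : Matrix (Fin n) (Fin n) F) := by
    rw [Units.val_pow_eq_pow_val]; rfl
  rw [hgA, hA', Units.conj_pow', ← map_pow μ, hαβ, ← pow_mul, mul_comm j k, pow_mul]
  have hsk : μ ((((β : Kˣ) : K) ^ k) ^ j) = Matrix.scalar (Fin n) (s ^ j) := by
    rw [map_pow μ, ← hzm, hs, map_pow]
  rw [hsk, (Matrix.scalar_commute (s ^ j) (fun r' => Commute.all _ r') _).symm.eq, mul_assoc,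
    Units.inv_mul, mul_one]

end Cfsg.Agent.Lib.Similar
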