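import Mathlib
import Cfsg.Agent.Lib.Similar.Torus

/-!
Orders of elements of `GL` and `PSL` in terms of the invariants.
-/

set_option autoImplicit false

namespace Cfsg.Agent.Lib.Similar.PrimeGraph

open Polynomial

/-- A power of the element of a divisible order. -/
theorem mem_range_of_dvd {G : Type*} [Group G] [Finite G] (g : G) {d : ℕ} (h : d ∣ orderOf g) :
    d ∈ Set.range (orderOf : G → ℕ) :=
  ⟨g ^ (orderOf g / d), by
    rw [orderOf_pow_of_dvd (Nat.div_pos (Nat.le_of_dvd (orderOf_pos g) h) (Nat.pos_of_dvd_of_pos h (orderOf_pos g))).ne'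
      (Nat.div_dvd_of_dvd h), Nat.div_div_self h (orderOf_pos g).ne']⟩

variable {F : Type*} [Field F] [Fintype F] {n : ℕ}

/-- An order prime to `q - 1` occurs in `PSL` iff it occurs in `GL`. -/
theorem mem_range_psl_iff {N : ℕ} (hN : N.Coprime (Fintype.card F - 1)) :
    N ∈ Set.range (orderOf : Matrix.ProjectiveSpecialLinearGroup (Fin n) F → ℕ) ↔
      ∃ x : GL (Fin n) F, orderOf x = N := by
  classical
  have hunit : ∀ c : F, c ≠ 0 → c ^ (Fintype.card F - 1) = 1 := FiniteField.pow_card_sub_one_eq_one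
  constructor
  · rintro ⟨y, rfl⟩
    obtain ⟨x, rfl⟩ := QuotientGroup.mk_surjective y
    obtain ⟨c, hc⟩ := (mk_pow_eq_one_iff x (orderOf (QuotientGroup.mk x : Matrix.ProjectiveSpecialLinearGroup (Fin n) F))).1 (pow_orderOf_eq_one _)
    have hc0 : (x : Matrix (Fin n) (Fin n) F) ^ (orderOf (QuotientGroup.mk x : Matrix.ProjectiveSpecialLinearGroup (Fin n) F) * (Fintype.card F - 1)) = 1 := by
      rw [pow_mul, hc, ← map_pow]
      rcases isEmpty_or_nonempty (Fin n) with hn | hn
      · exact Subsingleton.elim _ _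
      rw [hunit c, map_one]
      intro h0
      have h := congrArg Matrix.det hc
      rw [Matrix.det_pow, x.2, one_pow, h0, map_zero, Matrix.det_zero] at h
      exact one_ne_zero h
    obtain ⟨g, hg⟩ : ∃ g : GL (Fin n) F, g = Matrix.SpecialLinearGroup.toGL x := ⟨_, rfl⟩
    have hd : orderOf g ∣ orderOf (QuotientGroup.mk x : Matrix.ProjectiveSpecialLinearGroup (Fin n) F) * (Fintype.card F - 1) := by
      refine orderOf_dvd_of_pow_eq_one (Units.ext ?_)
      rw [Units.val_pow_eq_pow_val, hg]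
      exact hc0
    have hd2 : orderOf (QuotientGroup.mk x : Matrix.ProjectiveSpecialLinearGroup (Fin n) F) ∣ orderOf g := by
      refine orderOf_dvd_of_pow_eq_one ((mk_pow_eq_one_iff x _).2 ⟨1, ?_⟩)
      have h := congrArg Units.val (pow_orderOf_eq_one g)
      rw [Units.val_pow_eq_pow_val] at h
      rw [map_one, ← Units.val_one (α := Matrix (Fin n) (Fin n) F), ← h]
      simp [hg]
    obtain ⟨z, hz⟩ := mem_range_of_dvd g hd2
    exact ⟨z, hz⟩
  · rintro ⟨x, rfl⟩
    have hdet : (x : Matrix (Fin n) (Fin n) F).det = 1 := by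
      have h1 : (x : Matrix (Fin n) (Fin n) F).det ^ orderOf x = 1 := by
        rw [← Matrix.det_pow, ← Units.val_pow_eq_pow_val, pow_orderOf_eq_one, Units.val_one, Matrix.det_one]
      have h2 := hunit _ ((Matrix.isUnit_iff_isUnit_det _).1 x.isUnit).ne_zero
      have := pow_gcd_eq_one.2 ⟨h1, h2⟩
      rwa [hN.gcd_eq_one, pow_one] at this
    let X' : Matrix.SpecialLinearGroup (Fin n) F := ⟨x, hdet⟩
    refine mem_range_of_dvd (QuotientGroup.mk X') ?_
    obtain ⟨c, hc⟩ := (mk_pow_eq_one_iff X' (orderOf (QuotientGroup.mk X' : Matrix.ProjectiveSpecialLinearGroup (Fin n) F))).1 (pow_orderOf_eq_one _)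
    refine hN.dvd_of_dvd_mul_right (orderOf_dvd_of_pow_eq_one (Units.ext ?_))
    rw [Units.val_pow_eq_pow_val, pow_mul]
    change (x : Matrix (Fin n) (Fin n) F) ^ _ = _ at hc
    rw [hc, ← map_pow, Units.val_one]
    rcases isEmpty_or_nonempty (Fin n) with hn | hn
    · exact Subsingleton.elim _ _
    rw [hunit c, map_one]
    intro h0
    have h := congrArg Matrix.det hc
    rw [Matrix.det_pow, hdet, one_pow, h0, map_zero, Matrix.det_zero] at h
    exact one_ne_zero h

/-- The degree of an irreducible divisor of `X ^ (a * b) - 1` not dividing `X ^ b - 1`. -/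
theorem dvd_natDegree {f : F[X]} (hf : Irreducible f) (h0 : f.coeff 0 ≠ 0) {a b : ℕ} (ha : a.Prime)
    (hd : f ∣ X ^ (a * b) - 1) (hnd : ¬ f ∣ X ^ b - 1) :
    orderOf ((Fintype.card F : ℕ) : ZMod a) ∣ f.natDegree := by
  have : Fact (Irreducible f) := ⟨hf⟩
  have hev : ∀ k : ℕ, f ∣ X ^ k - 1 ↔ AdjoinRoot.root f ^ k = 1 := fun k => by
    rw [← AdjoinRoot.mk_eq_zero, ← AdjoinRoot.aeval_eq, map_sub, map_pow, aeval_X, map_one, sub_eq_zero]
  rw [hev] at hd hnd
  have h2 := (hev _).1 (dvd_X_pow_card_sub_one hf h0)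
  rw [orderOf_dvd_iff_pow_eq_one, ← Nat.cast_pow, eq_comm, ← sub_eq_zero]
  by_contra hne
  refine hnd ?_
  have hco : Nat.gcd (a * b) (Fintype.card F ^ f.natDegree - 1) ∣ b := by
    refine Nat.Coprime.dvd_of_dvd_mul_left ?_ (Nat.gcd_dvd_left _ _)
    refine Nat.Coprime.coprime_dvd_left (Nat.gcd_dvd_right _ _) ?_
    rw [Nat.coprime_comm, ha.coprime_iff_not_dvd]
    intro h
    apply hne
    rw [← ZMod.natCast_eq_zero_iff, Nat.cast_sub (Nat.one_le_pow _ _ Fintype.card_pos), Nat.cast_one] at h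
    linear_combination -h
  obtain ⟨c, hc⟩ := hco
  rw [hc, pow_mul, pow_gcd_eq_one.2 ⟨hd, h2⟩, one_pow]

/-- An element whose order is a multiple of `q ^ d - 1` for all `d` in the list and, optionally, of `p`. -/
theorem exists_order {p : ℕ} [Fact p.Prime] [CharP F p] (L : List ℕ) (hL : ∀ d ∈ L, 1 ≤ d) (u : Bool)
    (hsum : L.sum + (if u then 2 else 0) ≤ n) :
    ∃ x : GL (Fin n) F, (∀ d ∈ L, Fintype.card F ^ d - 1 ∣ orderOf x) ∧ (u → p ∣ orderOf x) := by
  classical
  choose f hf using fun d : {d // d ∈ L} => exists_irreducible_primitive (F := F) (hL d.1 d.2)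
  let m : Multiset (F[X] × ℕ) := Multiset.ofList (L.attach.map fun d => (f d, 1)) +
    (if u then {((X - C 1 : F[X]), 2)} else 0) + Multiset.replicate (n - (L.sum + if u then 2 else 0)) ((X - C 1 : F[X]), 1)
  have hone : (X - C 1 : F[X]).Monic ∧ Irreducible (X - C 1 : F[X]) ∧ (X - C 1 : F[X]).coeff 0 ≠ 0 :=
    ⟨monic_X_sub_C _, irreducible_X_sub_C _, by simp⟩
  obtain ⟨x, hx⟩ := exists_gl_matInv (n := Fin n) m (fun y hy => by
      simp only [m, Multiset.mem_add, Multiset.mem_coe, List.mem_map] at hy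
      rcases hy with (⟨d, -, rfl⟩ | hy) | hy
      · exact ⟨(hf d).1, (hf d).2.1, (hf d).2.2.1, le_rfl⟩
      · split at hy
        · rw [Multiset.mem_singleton] at hy; subst hy; exact ⟨hone.1, hone.2.1, hone.2.2, one_le_two⟩
        · simp at hy
      · rw [Multiset.eq_of_mem_replicate hy]; exact ⟨hone.1, hone.2.1, hone.2.2, le_rfl⟩)
    (by
      have h1 : ((L.attach.map fun d => (f d, 1)).map fun y : F[X] × ℕ => y.2 * y.1.natDegree).sum = L.sum := by
        rw [List.map_map]
        conv_rhs => rw [← List.attach_map_subtype_val L]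
        congr 1
        refine List.map_congr_left fun d _ => ?_
        simp [(hf d).2.2.2.1]
      simp only [m, Multiset.map_add, Multiset.sum_add, Multiset.map_coe, Multiset.sum_coe, h1, Multiset.map_replicate,
        Multiset.sum_replicate, natDegree_X_sub_C, smul_eq_mul, one_mul, mul_one, Fintype.card_fin]
      cases u <;> simp [-map_one, natDegree_X_sub_C] at hsum ⊢ <;> omega)
  have hord : ∀ y ∈ m, y.1 ^ y.2 ∣ X ^ orderOf x - 1 := by
    rw [← hx, ← pow_eq_one_iff_matInv]
    exact pow_orderOf_eq_one x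
  refine ⟨x, fun d hd => ?_, fun hu => ?_⟩
  · have h := hord (f ⟨d, hd⟩, 1) (Multiset.mem_add.2 (.inl (Multiset.mem_add.2 (.inl (Multiset.mem_coe.2
      (List.mem_map.2 ⟨⟨d, hd⟩, List.mem_attach _ _, rfl⟩))))))
    rw [pow_one] at h
    exact ((hf ⟨d, hd⟩).2.2.2.2 _).1 h
  · have h : (X - C 1 : F[X]) ^ 2 ∣ X ^ orderOf x - 1 := hord ((X - C 1 : F[X]), 2) (Multiset.mem_add.2 (.inl (Multiset.mem_add.2 (.inr (by simp [hu])))))
    rw [← CharP.cast_eq_zero_iff F p]
    obtain ⟨w, hw⟩ := h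
    have := congrArg (fun P : F[X] => (derivative P).eval 1) hw
    simpa [derivative_pow] using this

end Cfsg.Agent.Lib.Similar.PrimeGraph
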