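import Cfsg.Agent.Lib.Similar.HalfTorusArith
import Cfsg.Agent.Lib.Similar.PrimeGraph
import Cfsg.Agent.Lib.Similar.Star
import Cfsg.Agent.Lib.SuSpec.Elements

/-!
Elements of order `q ^ m + 1` or `q ^ m - 1` in `PSL (2 m, q)` and `PSU (2 m, q)`.
-/

set_option autoImplicit false

namespace Cfsg.Agent.Lib.Similar.HalfTorus

open Polynomial Module
open Cfsg.Agent.Lib.Classical (conjHom conjHom_apply conjHom_conjHom exists_q_pow two_le_q)

variable {F : Type*} [Field F] [Fintype F]

theorem exists_algebraMap_eq {K : Type*} [Field K] [Algebra F K] {x : K}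
    (h : x ^ (Fintype.card F - 1) = 1) : ∃ c : F, algebraMap F K c = x := by
  classical
  have h1 : 1 < Fintype.card F := Fintype.one_lt_card
  have hne : (X ^ Fintype.card F - X : K[X]) ≠ 0 := FiniteField.X_pow_card_sub_X_ne_zero K h1
  have hsub : (Finset.univ : Finset F).image (algebraMap F K) ⊆
      (X ^ Fintype.card F - X : K[X]).roots.toFinset := by
    intro y hy
    obtain ⟨c, -, rfl⟩ := Finset.mem_image.1 hy
    rw [Multiset.mem_toFinset, mem_roots hne]
    simp [← map_pow, FiniteField.pow_card]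
  have heq : (Finset.univ : Finset F).image (algebraMap F K) =
      (X ^ Fintype.card F - X : K[X]).roots.toFinset := by
    refine Finset.eq_of_subset_of_card_le hsub ?_
    rw [Finset.card_image_of_injective _ (algebraMap F K).injective, Finset.card_univ]
    refine (Multiset.toFinset_card_le _).trans ((card_roots' _).trans ?_)
    rw [FiniteField.X_pow_card_sub_X_natDegree_eq K h1]
  have hx : x ∈ (X ^ Fintype.card F - X : K[X]).roots.toFinset := by
    rw [Multiset.mem_toFinset, mem_roots hne]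
    have : x ^ Fintype.card F = x := by
      rw [← Nat.sub_add_cancel h1.le, pow_succ, h, one_mul]
    simp [this]
  rw [← heq] at hx
  obtain ⟨c, -, hc⟩ := Finset.mem_image.1 hx
  exact ⟨c, hc⟩

theorem root_pow_iff {f : F[X]} (k : ℕ) (c : F) :
    AdjoinRoot.root f ^ k = algebraMap F _ c ↔ f ∣ X ^ k - C c := by
  rw [← AdjoinRoot.mk_eq_zero, map_sub, map_pow, AdjoinRoot.mk_X, AdjoinRoot.mk_C, sub_eq_zero]
  rfl

theorem natCard_adjoinRoot {f : F[X]} (hi : Irreducible f) :
    Nat.card (AdjoinRoot f) = Fintype.card F ^ f.natDegree := by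
  haveI : Module.Finite F (AdjoinRoot f) := (AdjoinRoot.powerBasis hi.ne_zero).finite
  rw [Module.natCard_eq_pow_finrank (K := F), (AdjoinRoot.powerBasis hi.ne_zero).finrank,
    AdjoinRoot.powerBasis_dim, Nat.card_eq_fintype_card]

theorem norm_root {f : F[X]} [hi : Fact (Irreducible f)] (hm : f.Monic) :
    Algebra.norm F (AdjoinRoot.root f) = (-1) ^ f.natDegree * f.coeff 0 := by
  have h := Algebra.PowerBasis.norm_gen_eq_coeff_zero_minpoly (AdjoinRoot.powerBasis hi.out.ne_zero)
  rw [AdjoinRoot.powerBasis_gen, AdjoinRoot.powerBasis_dim, AdjoinRoot.minpoly_root hi.out.ne_zero,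
    hm.leadingCoeff, inv_one, map_one, mul_one] at h
  exact h

theorem norm_pow {f : F[X]} [hi : Fact (Irreducible f)] (x : AdjoinRoot f) :
    algebraMap F (AdjoinRoot f) (Algebra.norm F x) =
      x ^ ((Fintype.card F ^ f.natDegree - 1) / (Fintype.card F - 1)) := by
  haveI : Module.Finite F (AdjoinRoot f) := (AdjoinRoot.powerBasis hi.out.ne_zero).finite
  haveI : Finite (AdjoinRoot f) := Module.finite_of_finite F
  rw [FiniteField.algebraMap_norm_eq_pow, natCard_adjoinRoot hi.out, Nat.card_eq_fintype_card]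

theorem root_pow_card {f : F[X]} (hi : Irreducible f) (h0 : f.coeff 0 ≠ 0) :
    AdjoinRoot.root f ^ (Fintype.card F ^ f.natDegree - 1) = 1 := by
  have := (root_pow_iff (f := f) (Fintype.card F ^ f.natDegree - 1) 1).2 (by
    rw [C_1]; exact dvd_X_pow_card_sub_one hi h0)
  simpa using this

theorem primary_pow {n : ℕ} {p : ℕ} [Fact p.Prime] [CharP F p] (x : GL (Fin n) F) {Q : ℕ}
    (h : ∀ y ∈ matInv (x : Matrix (Fin n) (Fin n) F), y.1 ∣ X ^ Q - 1) :
    x ^ (Q * p ^ n) = 1 := by
  refine (pow_eq_one_iff_matInv x _).2 fun y hy => ?_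
  obtain ⟨hspec, hsum⟩ := matInv_spec x
  rw [Fintype.card_fin] at hsum
  have h1 := Multiset.le_sum_of_mem
    (Multiset.mem_map_of_mem (fun y : F[X] × ℕ => y.2 * y.1.natDegree) hy)
  have h2 : y.2 ≤ n := (Nat.le_mul_of_pos_right _ (hspec y hy).2.1.natDegree_pos).trans (h1.trans hsum.le)
  rw [pow_mul, ← one_pow (p ^ n), ← sub_pow_char_pow]
  exact (pow_dvd_pow _ (h2.trans (Nat.lt_pow_self (Fact.out : p.Prime).one_lt).le)).trans
    (pow_dvd_pow_of_dvd (h y hy) _)

theorem pow_scalar {n : ℕ} (M : Matrix (Fin n) (Fin n) F) (k : ℕ) (c : F)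
    (h : ∀ y ∈ matInv M, y.1 ^ y.2 ∣ X ^ k - C c) : M ^ k = algebraMap F _ c := by
  have h0 := (aeval_eq_zero_iff_matInv M _).2 h
  rw [map_sub, aeval_C, map_pow, aeval_X, sub_eq_zero] at h0
  apply (Matrix.toLinAlgEquiv' (R := F) (n := Fin n)).injective
  rw [map_pow, AlgEquiv.commutes]
  exact h0

theorem sum_toFinset_le [DecidableEq F[X]] {α : Multiset (F[X] × ℕ)} (h : ∀ y ∈ α, 1 ≤ y.2) :
    ∑ y ∈ α.toFinset, y.1.natDegree ≤ (α.map fun y => y.2 * y.1.natDegree).sum := by
  rw [Finset.sum_eq_multiset_sum, Multiset.toFinset_val]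
  obtain ⟨u, hu⟩ := Multiset.le_iff_exists_add.1 (Multiset.dedup_le α)
  conv_rhs => rw [hu, Multiset.map_add, Multiset.sum_add]
  refine le_trans ?_ (Nat.le_add_right _ _)
  exact Multiset.sum_map_le_sum_map _ _ fun y hy =>
    Nat.le_mul_of_pos_left _ (h y (Multiset.mem_dedup.1 hy))

theorem coprime_char {p N : ℕ} (hp : p.Prime) (q : ℕ) (hq : p ∣ q) {m : ℕ} (hm : 1 ≤ m)
    (hN : N = q ^ m + 1 ∨ (N = q ^ m - 1 ∧ 1 ≤ q)) : N.Coprime p := by
  rw [Nat.coprime_comm, hp.coprime_iff_not_dvd]
  intro h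
  have h1 : p ∣ q ^ m := hq.trans (dvd_pow_self q (by omega))
  rcases hN with rfl | ⟨rfl, h2⟩
  · exact hp.ne_one (Nat.dvd_one.1 ((Nat.dvd_add_right h1).1 h))
  · have := Nat.dvd_sub h1 h
    rw [show q ^ m - (q ^ m - 1) = 1 by have := Nat.one_le_pow m q h2; omega] at this
    exact hp.ne_one (Nat.dvd_one.1 this)

theorem psl_mem (m : ℕ) (hm : 2 ≤ m) (h3 : 3 ≤ Fintype.card F) :
    (∃ g : Matrix.ProjectiveSpecialLinearGroup (Fin (2 * m)) F,
      orderOf g = Fintype.card F ^ m + 1) ↔ Nat.gcd (2 * m) (Fintype.card F - 1) ∣ m := by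
  classical
  obtain ⟨q, hq⟩ : ∃ q, Fintype.card F = q := ⟨_, rfl⟩
  rw [hq] at h3 ⊢
  obtain ⟨T, hT, hTd⟩ := geom_mod q m (by omega)
  have hq1 : 0 < q - 1 := by omega
  have hpw : q ^ (2 * m) - 1 = (q ^ m + 1) * T * (q - 1) := by
    rw [mul_assoc, hT, ← Nat.sq_sub_sq, one_pow, mul_comm 2 m, pow_mul]
  have hS : (q ^ (2 * m) - 1) / (q - 1) = (q ^ m + 1) * T := by
    rw [hpw, Nat.mul_div_cancel _ hq1]
  obtain ⟨d, hd⟩ : ∃ d, d = Nat.gcd (2 * m) (q - 1) := ⟨_, rfl⟩
  have hdq : d ∣ q - 1 := hd ▸ Nat.gcd_dvd_right _ _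
  have hSd : Nat.gcd ((q ^ m + 1) * T) (q - 1) = d := by
    obtain ⟨T', hT', hTd'⟩ := geom_mod q (2 * m) (by omega)
    have : T' = (q ^ m + 1) * T := Nat.eq_of_mul_eq_mul_right hq1 (hT'.trans hpw)
    rw [hd]
    refine Nat.dvd_antisymm ?_ ?_
    · exact Nat.dvd_gcd ((hTd' _ (Nat.gcd_dvd_right _ _)).1 (this ▸ Nat.gcd_dvd_left _ _))
        (Nat.gcd_dvd_right _ _)
    · exact Nat.dvd_gcd (this ▸ (hTd' _ (Nat.gcd_dvd_right _ _)).2 (Nat.gcd_dvd_left _ _))
        (Nat.gcd_dvd_right _ _)
  have hdpos : 0 < d := Nat.pos_of_dvd_of_pos hdq hq1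
  rw [← hd]
  constructor
  · rintro ⟨g, hg⟩
    obtain ⟨x, rfl⟩ := QuotientGroup.mk_surjective g
    obtain ⟨p, hchar⟩ := CharP.exists F
    obtain ⟨k, hp, hk⟩ := FiniteField.card F p
    haveI : Fact p.Prime := ⟨hp⟩
    have hcop : (q ^ m + 1).Coprime p :=
      coprime_char hp q (by rw [← hq, hk]; exact dvd_pow_self p k.ne_zero) (by omega) (Or.inl rfl)
    have hdvd : ∀ (k : ℕ) (c : F), (x : Matrix (Fin (2 * m)) (Fin (2 * m)) F) ^ k =
        Matrix.scalar (Fin (2 * m)) c → q ^ m + 1 ∣ k := fun k c h => by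
      rw [← hg]
      exact orderOf_dvd_of_pow_eq_one ((mk_pow_eq_one_iff x k).2 ⟨c, h⟩)
    let gl : GL (Fin (2 * m)) F := Matrix.SpecialLinearGroup.toGL x
    obtain ⟨hspec, hsum⟩ := matInv_spec gl
    rw [Fintype.card_fin] at hsum
    obtain ⟨S, hSfin⟩ : ∃ S : Finset (F[X] × ℕ),
        S = (matInv (gl : Matrix (Fin (2 * m)) (Fin (2 * m)) F)).toFinset := ⟨_, rfl⟩
    by_cases hbig : ∃ y ∈ matInv (gl : Matrix (Fin (2 * m)) (Fin (2 * m)) F), y.1.natDegree = 2 * m
    · obtain ⟨y, hy, hyd⟩ := hbig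
      obtain ⟨R, hR⟩ := Multiset.exists_cons_of_mem hy
      rw [hR, Multiset.map_cons, Multiset.sum_cons, hyd] at hsum
      obtain ⟨hym, hyi, hy0, hy1⟩ := hspec y hy
      have hle : y.2 * (2 * m) ≤ 1 * (2 * m) := by omega
      have he : y.2 = 1 := le_antisymm (Nat.le_of_mul_le_mul_right hle (by omega)) hy1
      have hR0 : R = 0 := by
        refine Multiset.eq_zero_of_forall_notMem fun z hz => ?_
        obtain ⟨-, hzi, -, hz1⟩ := hspec z (by rw [hR]; exact Multiset.mem_cons_of_mem hz)
        have := Multiset.le_sum_of_mem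
          (Multiset.mem_map_of_mem (fun y : F[X] × ℕ => y.2 * y.1.natDegree) hz)
        have hpos : 0 < z.2 * z.1.natDegree := Nat.mul_pos hz1 hzi.natDegree_pos
        rw [he, one_mul] at hsum
        omega
      have hcp : (x : Matrix (Fin (2 * m)) (Fin (2 * m)) F).charpoly = y.1 := by
        show (gl : Matrix (Fin (2 * m)) (Fin (2 * m)) F).charpoly = y.1
        rw [charpoly_eq_matInv, hR, hR0]
        simp [he]
      have hdet : (-1 : F) ^ y.1.natDegree * y.1.coeff 0 = 1 := by
        have := Matrix.det_eq_sign_charpoly_coeff (x : Matrix (Fin (2 * m)) (Fin (2 * m)) F)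
        rw [hcp, x.2, Fintype.card_fin] at this
        rw [hyd]
        exact this.symm
      haveI : Fact (Irreducible y.1) := ⟨hyi⟩
      have hα : AdjoinRoot.root y.1 ^ ((q ^ m + 1) * T) = 1 := by
        rw [← hS, ← hq, ← hyd, ← norm_pow, norm_root hym, hdet, map_one]
      obtain ⟨u, hu⟩ : d ∣ (q ^ m + 1) * T := hSd ▸ Nat.gcd_dvd_left _ _
      obtain ⟨c, hc⟩ := exists_algebraMap_eq (F := F) (x := AdjoinRoot.root y.1 ^ u) (by
        obtain ⟨w, hw⟩ := hdq
        rw [hq, hw, pow_mul, ← pow_mul _ u d, mul_comm u d, ← hu, hα, one_pow])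
      have hN := hdvd u c (pow_scalar _ u c fun z hz => by
        change z ∈ matInv (gl : Matrix (Fin (2 * m)) (Fin (2 * m)) F) at hz
        rw [hR, hR0, Multiset.mem_cons] at hz
        rcases hz with rfl | hz
        · rw [he, pow_one]; exact (root_pow_iff u c).1 hc.symm
        · simp at hz)
      refine (hTd d hdq).1 ?_
      obtain ⟨v, rfl⟩ := hN
      exact ⟨v, Nat.eq_of_mul_eq_mul_left (show 0 < q ^ m + 1 by omega) (by rw [hu]; ring)⟩
    · exfalso
      push Not at hbig
      let Q : F[X] × ℕ → ℕ := fun y => q ^ y.1.natDegree - 1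
      let G : F[X] × ℕ → ℕ := fun y => Nat.gcd (2 * m) y.1.natDegree / 2
      have hall : ∀ y ∈ matInv (gl : Matrix (Fin (2 * m)) (Fin (2 * m)) F),
          y.1 ∣ X ^ S.lcm Q - 1 := fun y hy => by
        obtain ⟨-, hi, h0, -⟩ := hspec y hy
        obtain ⟨r, hr⟩ := Finset.dvd_lcm (f := Q) (show y ∈ S by rw [hSfin, Multiset.mem_toFinset]; exact hy)
        rw [hr]
        refine dvd_trans ?_ (sub_one_dvd_pow_sub_one (X ^ Q y : F[X]) r |>.trans (by rw [pow_mul]))
        show y.1 ∣ X ^ (q ^ y.1.natDegree - 1) - 1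
        rw [← hq]
        exact dvd_X_pow_card_sub_one hi h0
      have hN : q ^ m + 1 ∣ S.lcm Q := by
        refine (hcop.pow_right (2 * m)).dvd_of_dvd_mul_right (hdvd _ 1 ?_)
        have h1 := congrArg Units.val (primary_pow (p := p) gl hall)
        rw [Units.val_pow_eq_pow_val, Units.val_one] at h1
        rw [map_one]
        exact h1
      obtain ⟨L, hL, hLsum, hLN⟩ := aggregate S Q (fun y => y.1.natDegree) G (fun g => q ^ g + 1)
        (q ^ m + 1) (fun g => g ∣ m ∧ Odd (m / g) ∧ g < m) (fun y hy => by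
          rw [hSfin, Multiset.mem_toFinset] at hy
          rcases plus_block (q := q) (m := m) (D := y.1.natDegree) (by omega) with h | ⟨g, hg, h1, h2, h3⟩
          · exact Or.inl h
          · right
            have hGy : G y = g := by show Nat.gcd (2 * m) y.1.natDegree / 2 = g; omega
            have hgd : 2 * g ∣ y.1.natDegree := hg ▸ Nat.gcd_dvd_right _ _
            have hpos := (hspec y hy).2.1.natDegree_pos
            have hle := Nat.le_of_dvd hpos hgd
            have hyn : y.1.natDegree ≤ 2 * m := by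
              have := Multiset.le_sum_of_mem
                (Multiset.mem_map_of_mem (fun y : F[X] × ℕ => y.2 * y.1.natDegree) hy)
              exact (Nat.le_mul_of_pos_left _ (hspec y hy).2.2.2).trans (this.trans hsum.le)
            have := hbig y hy
            rw [hGy]
            refine ⟨⟨h1, h2, by omega⟩, h3, {y}, ?_, fun j hj => ?_, ?_⟩
            · rw [Finset.singleton_subset_iff, hSfin, Multiset.mem_toFinset]; exact hy
            · rw [Finset.mem_singleton.1 hj, hGy]
            · simpa using hle) hN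
      refine not_dvd_plus h3 (by omega) L hL ?_ hLN
      have h2 := sum_toFinset_le fun y hy => (hspec y hy).2.2.2
      rw [hsum, ← hSfin] at h2
      omega
  · intro h
    obtain ⟨f, hfm, hfi, hf0, hfd, hfk⟩ := exists_irreducible_primitive (F := F) (d := 2 * m) (by omega)
    haveI : Fact (Irreducible f) := ⟨hfi⟩
    have hdim : (AdjoinRoot.powerBasis hfi.ne_zero).dim = 2 * m := by
      rw [AdjoinRoot.powerBasis_dim, hfd]
    let b : Module.Basis (Fin (2 * m)) F (AdjoinRoot f) :=
      (AdjoinRoot.powerBasis hfi.ne_zero).basis.reindex (finCongr hdim)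
    let μ : AdjoinRoot f →ₐ[F] Matrix (Fin (2 * m)) (Fin (2 * m)) F := Algebra.leftMulMatrix b
    obtain ⟨β, hβ⟩ : ∃ β, β = AdjoinRoot.root f ^ (q - 1) := ⟨_, rfl⟩
    have hnorm : Algebra.norm F β = 1 := by
      apply (algebraMap F (AdjoinRoot f)).injective
      rw [norm_pow, map_one, hβ, ← pow_mul, hfd, hq, hS, show (q - 1) * ((q ^ m + 1) * T) = q ^ (2 * m) - 1 by
        rw [hpw]; ring]
      have h1 := root_pow_card hfi hf0
      rwa [hfd, hq] at h1
    obtain ⟨z, hz⟩ : ∃ z : Matrix.SpecialLinearGroup (Fin (2 * m)) F,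
        (z : Matrix (Fin (2 * m)) (Fin (2 * m)) F) = μ β :=
      ⟨⟨μ β, by rw [← Algebra.norm_eq_matrix_det b]; exact hnorm⟩, rfl⟩
    refine PrimeGraph.mem_range_of_dvd
      (QuotientGroup.mk z : Matrix.ProjectiveSpecialLinearGroup (Fin (2 * m)) F) ?_
    obtain ⟨c, hc⟩ := (mk_pow_eq_one_iff z (orderOf (QuotientGroup.mk z :
      Matrix.ProjectiveSpecialLinearGroup (Fin (2 * m)) F))).1 (pow_orderOf_eq_one _)
    obtain ⟨k, hk⟩ : ∃ k, k = orderOf (QuotientGroup.mk z :
      Matrix.ProjectiveSpecialLinearGroup (Fin (2 * m)) F) := ⟨_, rfl⟩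
    rw [← hk] at hc ⊢
    have hβk : β ^ k = algebraMap F _ c := by
      refine Algebra.leftMulMatrix_injective b ?_
      show μ (β ^ k) = μ (algebraMap F _ c)
      rw [map_pow, ← hz, hc, AlgHom.commutes]
      rfl
    have hc1 : c ^ (q - 1) = 1 := by
      rw [← hq]
      refine FiniteField.pow_card_sub_one_eq_one c fun e => ?_
      rw [e, map_zero, hβ, ← pow_mul] at hβk
      have hr0 : AdjoinRoot.root f ≠ 0 := fun e0 => by
        have h1 := root_pow_card hfi hf0
        rw [e0, zero_pow (by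
          have : 1 < Fintype.card F ^ f.natDegree := Nat.one_lt_pow (by omega) (by omega)
          omega)] at h1
        exact zero_ne_one h1
      exact hr0 (eq_zero_of_pow_eq_zero hβk)
    have h1 : q ^ (2 * m) - 1 ∣ (q - 1) * k * (q - 1) := by
      rw [← hq]
      refine (hfk _).1 ?_
      have h2 : AdjoinRoot.root f ^ ((q - 1) * k * (q - 1)) = algebraMap F _ (1 : F) := by
        rw [pow_mul, pow_mul, ← hβ, hβk, ← map_pow, hc1]
      rw [hq]
      have h4 := (root_pow_iff _ _).1 h2
      rwa [C_1] at h4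
    rw [hpw] at h1
    have h2 : (q ^ m + 1) * T ∣ k * (q - 1) := by
      rw [mul_comm (q - 1) k] at h1
      exact (mul_dvd_mul_iff_right hq1.ne').1 h1
    have h3' := div_gcd_dvd hq1 h2
    rw [hSd] at h3'
    obtain ⟨w, hw⟩ := (hTd d hdq).2 h
    rw [hw, show (q ^ m + 1) * (d * w) = (q ^ m + 1) * w * d by ring, Nat.mul_div_cancel _ hdpos] at h3'
    exact dvd_trans (dvd_mul_right _ _) h3'

section Unitary

variable {q : ℕ} (hF : Fintype.card F = q ^ 2)

/-- The roots of the conjugate reciprocal. -/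
theorem aeval_inv_of_starP {f : F[X]} {L : Type*} [Field L] [Algebra F L] (σ : F →+* F) (hm : f.coeff 0 ≠ 0)
    {b : L} (hb : b ≠ 0) (h : aeval b (starP σ f) = 0) : aeval b⁻¹ (f.map σ) = 0 := by
  let _ : Invertible b⁻¹ := ⟨b, mul_inv_cancel₀ hb, inv_mul_cancel₀ hb⟩
  rw [starP, map_mul, aeval_C, mul_eq_zero, or_iff_right] at h
  · rw [aeval_def] at h ⊢
    exact (eval₂_reverse_eq_zero_iff _ b⁻¹ _).1 h
  · rw [map_eq_zero_iff _ (algebraMap F L).injective]
    exact inv_ne_zero ((_root_.map_ne_zero σ).2 hm)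

include hF

theorem self_root {f : F[X]} [hi : Fact (Irreducible f)] (h0 : f.coeff 0 ≠ 0)
    (hs : starP (conjHom hF) f = f) :
    Odd f.natDegree ∧ AdjoinRoot.root f ^ (q ^ f.natDegree + 1) = 1 := by
  classical
  have hq2 := two_le_q hF
  obtain ⟨p, r, hp, hc, hqr⟩ := exists_q_pow hF
  haveI : Fact p.Prime := ⟨hp⟩
  haveI : Module.Finite F (AdjoinRoot f) := (AdjoinRoot.powerBasis hi.out.ne_zero).finite
  haveI : Finite (AdjoinRoot f) := Module.finite_of_finite F
  haveI : CharP (AdjoinRoot f) p := charP_of_injective_algebraMap (algebraMap F (AdjoinRoot f)).injective p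
  haveI : ExpChar (AdjoinRoot f) p := ExpChar.prime hp
  obtain ⟨ζ, hζ⟩ : ∃ ζ, ζ = AdjoinRoot.root f := ⟨_, rfl⟩
  have hd0 : 1 ≤ f.natDegree := hi.out.natDegree_pos
  have hcard : ζ ^ (q ^ (2 * f.natDegree) - 1) = 1 := by
    rw [pow_mul, ← hF, hζ]; exact root_pow_card hi.out h0
  have hepos : q ^ (2 * f.natDegree) - 1 ≠ 0 := by
    have : q ^ 1 ≤ q ^ (2 * f.natDegree) := Nat.pow_le_pow_right (by omega) (by omega)
    rw [pow_one] at this
    omega
  have hζ0 : ζ ≠ 0 := fun e => by rw [e, zero_pow hepos] at hcard; exact zero_ne_one hcard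
  have hcop : (orderOf ζ).Coprime q := by
    refine Nat.Coprime.coprime_dvd_left (orderOf_dvd_of_pow_eq_one hcard) ?_
    have h1 : 1 ≤ q ^ (2 * f.natDegree) := Nat.one_le_pow _ _ (by omega)
    have : Nat.Coprime (q ^ (2 * f.natDegree) - 1) (q ^ (2 * f.natDegree)) := by
      conv_rhs => rw [← Nat.sub_add_cancel h1]
      simp
    exact Nat.Coprime.coprime_dvd_right (dvd_pow_self q (by omega)) this
  have hinv : aeval (ζ⁻¹ ^ q) f = 0 := by
    have h1 : aeval ζ⁻¹ (f.map (conjHom hF)) = 0 :=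
      aeval_inv_of_starP (conjHom hF) h0 hζ0 (by rw [hs, hζ]; simp [aeval_def, AdjoinRoot.eval₂_root])
    have h2 := congrArg (iterateFrobenius (AdjoinRoot f) p r) h1
    rw [map_zero, aeval_def, hom_eval₂, eval₂_map] at h2
    have hcomp : ((iterateFrobenius (AdjoinRoot f) p r).comp (algebraMap F (AdjoinRoot f))).comp (conjHom hF) =
        algebraMap F (AdjoinRoot f) := by
      refine RingHom.ext fun c => ?_
      simp only [RingHom.comp_apply, iterateFrobenius_def, ← hqr, ← map_pow]
      rw [← conjHom_apply hF, conjHom_conjHom hF]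
    rw [hcomp, iterateFrobenius_def, ← hqr] at h2
    rw [aeval_def]
    exact h2
  let ψ : AdjoinRoot f →ₐ[F] AdjoinRoot f :=
    AdjoinRoot.liftAlgHom f (Algebra.ofId F _) (ζ⁻¹ ^ q) hinv
  obtain ⟨i, hi'⟩ := (FiniteField.bijective_frobeniusAlgHom_pow F (AdjoinRoot f)).2 ψ
  have happ : ∀ (k : ℕ) (x : AdjoinRoot f),
      ((FiniteField.frobeniusAlgHom F (AdjoinRoot f)) ^ k) x = x ^ Fintype.card F ^ k := by
    intro k
    induction k with
    | zero => intro x; simp
    | succ k ih =>
      intro x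
      rw [pow_succ', AlgHom.mul_apply, ih, pow_succ]
      show (x ^ Fintype.card F ^ k) ^ Fintype.card F = _
      rw [← pow_mul]
  have hζi : ζ ^ q ^ (2 * (i : ℕ)) = ζ⁻¹ ^ q := by
    rw [pow_mul q 2, ← hF, ← happ, hζ]
    refine (congrArg (fun g : AdjoinRoot f →ₐ[F] AdjoinRoot f => g (AdjoinRoot.root f)) hi').trans ?_
    exact (AdjoinRoot.liftAlgHom_root _ _ _ _).trans (by rw [hζ])
  have hd : Module.finrank F (AdjoinRoot f) = f.natDegree := by
    rw [(AdjoinRoot.powerBasis hi.out.ne_zero).finrank, AdjoinRoot.powerBasis_dim]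
  have hilt : (i : ℕ) < f.natDegree := hd ▸ i.isLt
  have h1 : ζ ^ (q ^ (2 * (i : ℕ)) + q) = 1 := by
    rw [pow_add, hζi, ← mul_pow, inv_mul_cancel₀ hζ0, one_pow]
  -- degree from a period of the Frobenius
  have hperiod : ∀ j, orderOf ζ ∣ q ^ (2 * j) - 1 → f.natDegree ∣ j := by
    intro j hj
    have hfr : ((FiniteField.frobeniusAlgHom F (AdjoinRoot f)) ^ j) = 1 := by
      apply AdjoinRoot.algHom_ext
      rw [happ, AlgHom.one_apply, ← hζ, hF, ← pow_mul,
        ← Nat.sub_add_cancel (Nat.one_le_pow (2 * j) q (by omega)), pow_succ,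
        orderOf_dvd_iff_pow_eq_one.1 hj, one_mul]
    have h2 := orderOf_dvd_of_pow_eq_one hfr
    simp only [FiniteField.orderOf_frobeniusAlgHom] at h2
    exact hd ▸ h2
  rw [← hζ]
  rcases Nat.eq_zero_or_pos (i : ℕ) with hi0 | hi0
  · rw [hi0, mul_zero, pow_zero, add_comm] at h1
    have hdeg : f.natDegree = 1 := Nat.dvd_one.1 (hperiod 1 ((orderOf_dvd_of_pow_eq_one h1).trans
      ⟨q - 1, by rw [← Nat.sq_sub_sq, one_pow]⟩))
    rw [hdeg, pow_one]
    exact ⟨odd_one, h1⟩
  · have h2 : orderOf ζ ∣ q ^ (2 * (i : ℕ) - 1) + 1 := by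
      refine hcop.dvd_of_dvd_mul_right ?_
      rw [add_mul, one_mul, ← pow_succ, show 2 * (i : ℕ) - 1 + 1 = 2 * i by omega]
      exact orderOf_dvd_of_pow_eq_one h1
    have h3 : f.natDegree ∣ 2 * (i : ℕ) - 1 := hperiod _ (h2.trans ⟨q ^ (2 * (i : ℕ) - 1) - 1, by
      rw [← Nat.sq_sub_sq, one_pow, ← pow_mul, mul_comm]⟩)
    obtain ⟨c, hc'⟩ := h3
    have hc1 : c = 1 := by
      rcases c with _ | _ | c
      · omega
      · rfl
      · have : f.natDegree * 2 ≤ f.natDegree * (c + 1 + 1) := Nat.mul_le_mul_left _ (by omega)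
        omega
    rw [hc1, mul_one] at hc'
    rw [← hc']
    exact ⟨⟨(i : ℕ) - 1, by omega⟩, orderOf_dvd_iff_pow_eq_one.1 h2⟩

theorem star_dvd_X_pow {f : F[X]} [hi : Fact (Irreducible f)] (hm : f.Monic) (h0 : f.coeff 0 ≠ 0)
    {k : ℕ} {c : F} (hc : c ^ (q + 1) = 1) (h : f ∣ X ^ k - C c) :
    starP (conjHom hF) f ∣ X ^ k - C c := by
  haveI : Fact (Irreducible (starP (conjHom hF) f)) := ⟨irreducible_starP (conjHom_conjHom hF) hi.out hm h0⟩
  have h0' : (starP (conjHom hF) f).coeff 0 ≠ 0 := by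
    rw [coeff_zero_starP hm]; exact inv_ne_zero ((_root_.map_ne_zero _).2 h0)
  obtain ⟨β, hβ⟩ : ∃ β, β = AdjoinRoot.root (starP (conjHom hF) f) := ⟨_, rfl⟩
  have hβ0 : β ≠ 0 := fun e => by
    have h1 := root_pow_card (Fact.out : Irreducible (starP (conjHom hF) f)) h0'
    have h2 := (Fact.out : Irreducible (starP (conjHom hF) f)).natDegree_pos
    have h3 : 1 < Fintype.card F ^ (starP (conjHom hF) f).natDegree :=
      Nat.one_lt_pow (by omega) Fintype.one_lt_card
    rw [← hβ, e, zero_pow (by omega)] at h1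
    exact zero_ne_one h1
  have h2 : aeval β⁻¹ (f.map (conjHom hF)) = 0 :=
    aeval_inv_of_starP _ h0 hβ0 (by rw [hβ]; simp [aeval_def, AdjoinRoot.eval₂_root])
  have h3 : aeval β⁻¹ ((X ^ k - C c).map (conjHom hF)) = 0 := by
    obtain ⟨w, hw⟩ := h
    rw [hw, Polynomial.map_mul, map_mul, h2, zero_mul]
  rw [Polynomial.map_sub, Polynomial.map_pow, map_X, map_C, map_sub, map_pow, aeval_X, aeval_C,
    sub_eq_zero, inv_pow, inv_eq_iff_eq_inv] at h3
  refine (root_pow_iff k c).1 ?_
  rw [← hβ, h3, ← map_inv₀, conjHom_apply hF]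
  congr 1
  exact inv_eq_of_mul_eq_one_right (by rw [← pow_succ, hc])

theorem psu_mem (m : ℕ) (hm : 2 ≤ m) (h3 : 3 ≤ q) :
    (∃ g : Cfsg.PSU (2 * m) F q, orderOf g = if Even m then q ^ m + 1 else q ^ m - 1) ↔
      Nat.gcd (2 * m) (q + 1) ∣ m := by
  classical
  obtain ⟨T, hT, hTd⟩ := geom_mod_neg q m (by omega)
  obtain ⟨N, hN⟩ : ∃ N, N = if Even m then q ^ m + 1 else q ^ m - 1 := ⟨_, rfl⟩
  rw [← hN]
  have hqm : q * q ≤ q ^ m := by rw [← pow_two]; exact Nat.pow_le_pow_right (by omega) hm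
  have hqq : 9 ≤ q * q := Nat.mul_le_mul h3 h3
  have hNpos : 0 < N := by rw [hN]; split_ifs <;> omega
  have hpw : q ^ (2 * m) - 1 = N * T * (q + 1) := by
    rw [mul_assoc, hT, hN, mul_comm 2 m, pow_mul, ← one_pow 2, Nat.sq_sub_sq, one_pow]
    split_ifs
    · rfl
    · exact mul_comm _ _
  have hS : (q ^ (2 * m) - 1) / (q + 1) = N * T := by rw [hpw, Nat.mul_div_cancel _ (by omega)]
  obtain ⟨d, hd⟩ : ∃ d, d = Nat.gcd (2 * m) (q + 1) := ⟨_, rfl⟩
  have hdq : d ∣ q + 1 := hd ▸ Nat.gcd_dvd_right _ _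
  have hdpos : 0 < d := Nat.pos_of_dvd_of_pos hdq (by omega)
  have hSd : Nat.gcd (N * T) (q + 1) = d := by
    obtain ⟨T', hT', hTd'⟩ := geom_mod_neg q (2 * m) (by omega)
    rw [if_pos (even_two_mul m)] at hT'
    have : T' = N * T := Nat.eq_of_mul_eq_mul_right (by omega : 0 < q + 1) (hT'.trans hpw)
    rw [hd]
    refine Nat.dvd_antisymm ?_ ?_
    · exact Nat.dvd_gcd ((hTd' _ (Nat.gcd_dvd_right _ _)).1 (this ▸ Nat.gcd_dvd_left _ _))
        (Nat.gcd_dvd_right _ _)
    · exact Nat.dvd_gcd (this ▸ (hTd' _ (Nat.gcd_dvd_right _ _)).2 (Nat.gcd_dvd_left _ _))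
        (Nat.gcd_dvd_right _ _)
  have hqsub : Fintype.card F - 1 = (q + 1) * (q - 1) := by
    rw [hF, ← Nat.sq_sub_sq, one_pow]
  -- exponent bookkeeping for the norm
  obtain ⟨U, hU⟩ : ∃ U, U = (Fintype.card F ^ m - 1) / (Fintype.card F - 1) := ⟨_, rfl⟩
  have hUS : U * (q - 1) = N * T := by
    have h1 : U * (Fintype.card F - 1) = N * T * (q + 1) := by
      rw [hU, Nat.div_mul_cancel (Nat.sub_one_dvd_pow_sub_one _ m), hF, ← pow_mul, hpw]
    rw [hqsub] at h1
    exact Nat.eq_of_mul_eq_mul_right (by omega : 0 < q + 1) (by rw [← h1]; ring)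
  rw [← hd]
  constructor
  · rintro ⟨g, hg⟩
    obtain ⟨x, rfl⟩ := QuotientGroup.mk_surjective g
    obtain ⟨p, r, hp, hchar, hqr⟩ := exists_q_pow hF
    haveI : Fact p.Prime := ⟨hp⟩
    have hr : r ≠ 0 := fun e => by rw [hqr, e, pow_zero] at h3; omega
    have hcop : N.Coprime p := coprime_char hp q (hqr ▸ dvd_pow_self p hr) (show 1 ≤ m by omega) (by
      rw [hN]
      split_ifs
      · exact Or.inl rfl
      · exact Or.inr ⟨rfl, by omega⟩)
    have hdvd : ∀ (k : ℕ) (c : F), SuSpec.mat x ^ k = algebraMap F _ c → N ∣ k := fun k c h => by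
      rw [← hg]
      exact orderOf_dvd_of_pow_eq_one ((SuSpec.mk_pow_eq_one hF (by omega) x k).2 ⟨c, h⟩)
    let gl : GL (Fin (2 * m)) F := Matrix.SpecialLinearGroup.toGL x.1
    obtain ⟨hspec, hsum⟩ := matInv_spec gl
    rw [Fintype.card_fin] at hsum
    have hstar : ∀ y ∈ matInv (gl : Matrix (Fin (2 * m)) (Fin (2 * m)) F),
        (starP (conjHom hF) y.1, y.2) ∈ matInv (gl : Matrix (Fin (2 * m)) (Fin (2 * m)) F) := by
      intro y hy
      rw [matInv_twist (conjHom_conjHom hF) gl gl (mul_eq_one_comm.1 (SuSpec.mat_adj hF x))]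
      exact Multiset.mem_map_of_mem _ hy
    obtain ⟨S, hSfin⟩ : ∃ S : Finset (F[X] × ℕ),
        S = (matInv (gl : Matrix (Fin (2 * m)) (Fin (2 * m)) F)).toFinset := ⟨_, rfl⟩
    by_cases hbig : ∃ y ∈ matInv (gl : Matrix (Fin (2 * m)) (Fin (2 * m)) F),
        starP (conjHom hF) y.1 ≠ y.1 ∧ m ≤ y.1.natDegree
    · obtain ⟨y, hy, hne, hym'⟩ := hbig
      obtain ⟨hym, hyi, hy0, hy1⟩ := hspec y hy
      obtain ⟨ys, hys⟩ : ∃ ys, ys = (starP (conjHom hF) y.1, y.2) := ⟨_, rfl⟩
      have hysd : ys.1.natDegree = y.1.natDegree := by rw [hys]; exact natDegree_starP hy0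
      have hys2 : ys.2 = y.2 := by rw [hys]
      obtain ⟨R, hR⟩ := Multiset.exists_cons_of_mem hy
      have hysR : ys ∈ R := by
        have h1 := hstar y hy
        rw [hR, Multiset.mem_cons, ← hys] at h1
        exact h1.resolve_left fun e => hne (by
          have := congrArg Prod.fst e
          rw [hys] at this
          exact this)
      obtain ⟨R', hR'⟩ := Multiset.exists_cons_of_mem hysR
      rw [hR, hR', Multiset.map_cons, Multiset.sum_cons, Multiset.map_cons, Multiset.sum_cons,
        hysd, hys2] at hsum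
      have hle : m ≤ y.2 * y.1.natDegree := le_trans hym' (Nat.le_mul_of_pos_left _ hy1)
      have hyd : y.1.natDegree = m := by
        have := Nat.le_mul_of_pos_left y.1.natDegree hy1
        omega
      rw [hyd] at hsum hle
      have he : y.2 = 1 := by
        refine le_antisymm (Nat.le_of_mul_le_mul_right (show y.2 * m ≤ 1 * m by omega) (by omega)) hy1
      rw [he, one_mul] at hsum
      have hR0 : R' = 0 := by
        refine Multiset.eq_zero_of_forall_notMem fun z hz => ?_
        obtain ⟨-, hzi, -, hz1⟩ := hspec z (by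
          rw [hR, hR']; exact Multiset.mem_cons_of_mem (Multiset.mem_cons_of_mem hz))
        have := Multiset.le_sum_of_mem
          (Multiset.mem_map_of_mem (fun y : F[X] × ℕ => y.2 * y.1.natDegree) hz)
        have hpos : 0 < z.2 * z.1.natDegree := Nat.mul_pos hz1 hzi.natDegree_pos
        omega
      have hcp : (gl : Matrix (Fin (2 * m)) (Fin (2 * m)) F).charpoly = y.1 * starP (conjHom hF) y.1 := by
        rw [charpoly_eq_matInv, hR, hR', hR0]
        simp [he, hys]
      have hdet : (conjHom hF) (y.1.coeff 0) = y.1.coeff 0 := by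
        have h1 := Matrix.det_eq_sign_charpoly_coeff (gl : Matrix (Fin (2 * m)) (Fin (2 * m)) F)
        rw [hcp, mul_coeff_zero, coeff_zero_starP hym, Fintype.card_fin, (even_two_mul m).neg_one_pow,
          one_mul] at h1
        have h2 : (gl : Matrix (Fin (2 * m)) (Fin (2 * m)) F).det = 1 := x.1.2
        rw [h2, eq_mul_inv_iff_mul_eq₀ ((_root_.map_ne_zero _).2 hy0), one_mul] at h1
        exact h1
      haveI : Fact (Irreducible y.1) := ⟨hyi⟩
      have hnorm : Algebra.norm F (AdjoinRoot.root y.1) ^ (q - 1) = 1 := by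
        have h1 : Algebra.norm F (AdjoinRoot.root y.1) ^ q = Algebra.norm F (AdjoinRoot.root y.1) := by
          rw [norm_root hym, ← conjHom_apply hF, map_mul, map_pow, map_neg, map_one, hdet]
        have h2 : Algebra.norm F (AdjoinRoot.root y.1) ≠ 0 := by
          rw [norm_root hym]; exact mul_ne_zero (pow_ne_zero _ (by norm_num)) hy0
        rw [← Nat.sub_add_cancel (show 1 ≤ q by omega), pow_succ] at h1
        exact (mul_eq_right₀ h2).1 h1
      have hα : AdjoinRoot.root y.1 ^ (N * T) = 1 := by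
        rw [← hUS, pow_mul, hU, ← hyd, ← norm_pow, ← map_pow, hnorm, map_one]
      obtain ⟨u, hu⟩ : d ∣ N * T := hSd ▸ Nat.gcd_dvd_left _ _
      have hud : (AdjoinRoot.root y.1 ^ u) ^ (q + 1) = 1 := by
        obtain ⟨w, hw⟩ := hdq
        rw [hw, pow_mul, ← pow_mul _ u d, mul_comm u d, ← hu, hα, one_pow]
      obtain ⟨c, hc⟩ := exists_algebraMap_eq (F := F) (x := AdjoinRoot.root y.1 ^ u)
        (by rw [hqsub, pow_mul, hud, one_pow])
      have hcq : c ^ (q + 1) = 1 := by
        apply (algebraMap F (AdjoinRoot y.1)).injective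
        rw [map_pow, hc, hud, map_one]
      have hN' := hdvd u c (pow_scalar _ u c fun z hz => by
        change z ∈ matInv (gl : Matrix (Fin (2 * m)) (Fin (2 * m)) F) at hz
        rw [hR, hR', hR0, Multiset.mem_cons, Multiset.mem_cons] at hz
        rcases hz with rfl | rfl | hz
        · rw [he, pow_one]; exact (root_pow_iff u c).1 hc.symm
        · rw [hys2, he, pow_one, hys]
          exact star_dvd_X_pow hF hym hy0 hcq ((root_pow_iff u c).1 hc.symm)
        · simp at hz)
      refine (hTd d hdq).1 ?_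
      obtain ⟨v, rfl⟩ := hN'
      exact ⟨v, Nat.eq_of_mul_eq_mul_left hNpos (by rw [hu]; ring)⟩
    · exfalso
      push Not at hbig
      let Q : F[X] × ℕ → ℕ := fun y =>
        if starP (conjHom hF) y.1 = y.1 then q ^ y.1.natDegree + 1 else q ^ (2 * y.1.natDegree) - 1
      let G : F[X] × ℕ → ℕ := fun y => Nat.gcd m y.1.natDegree
      have hall : ∀ y ∈ matInv (gl : Matrix (Fin (2 * m)) (Fin (2 * m)) F),
          y.1 ∣ X ^ S.lcm Q - 1 := fun y hy => by
        obtain ⟨-, hi, h0, -⟩ := hspec y hy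
        obtain ⟨k, hk⟩ := Finset.dvd_lcm (f := Q) (show y ∈ S by rw [hSfin, Multiset.mem_toFinset]; exact hy)
        rw [hk]
        refine dvd_trans ?_ (sub_one_dvd_pow_sub_one (X ^ Q y : F[X]) k |>.trans (by rw [pow_mul]))
        show y.1 ∣ X ^ (if starP (conjHom hF) y.1 = y.1 then q ^ y.1.natDegree + 1
          else q ^ (2 * y.1.natDegree) - 1) - 1
        split_ifs with hs
        · haveI : Fact (Irreducible y.1) := ⟨hi⟩
          have h2 : AdjoinRoot.root y.1 ^ (q ^ y.1.natDegree + 1) = algebraMap F _ (1 : F) := by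
            rw [(self_root hF h0 hs).2, map_one]
          rw [← C_1]
          exact (root_pow_iff _ _).1 h2
        · rw [pow_mul, ← hF]
          exact dvd_X_pow_card_sub_one hi h0
      have hNQ : N ∣ S.lcm Q := by
        refine (hcop.pow_right (2 * m)).dvd_of_dvd_mul_right (hdvd _ 1 ?_)
        have h1 := congrArg Units.val (primary_pow (p := p) gl hall)
        rw [Units.val_pow_eq_pow_val, Units.val_one] at h1
        rw [map_one]
        exact h1
      have hfib : ∀ y ∈ matInv (gl : Matrix (Fin (2 * m)) (Fin (2 * m)) F),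
          starP (conjHom hF) y.1 ≠ y.1 → ∃ T' ⊆ S, (∀ j ∈ T', G j = G y) ∧
            2 * G y ≤ ∑ j ∈ T', j.1.natDegree := by
        intro y hy hne
        have hdeg := natDegree_starP (σ := conjHom hF) (hspec y hy).2.2.1
        refine ⟨{y, (starP (conjHom hF) y.1, y.2)}, ?_, fun j hj => ?_, ?_⟩
        · rw [hSfin]
          intro j hj
          rw [Multiset.mem_toFinset]
          rcases Finset.mem_insert.1 hj with rfl | hj
          · exact hy
          · rw [Finset.mem_singleton.1 hj]; exact hstar y hy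
        · rcases Finset.mem_insert.1 hj with rfl | hj
          · rfl
          · rw [Finset.mem_singleton.1 hj]
            show Nat.gcd m (starP (conjHom hF) y.1).natDegree = Nat.gcd m y.1.natDegree
            rw [hdeg]
        · rw [Finset.sum_pair (fun e => hne (congrArg Prod.fst e).symm)]
          show 2 * Nat.gcd m y.1.natDegree ≤ y.1.natDegree + (starP (conjHom hF) y.1).natDegree
          rw [hdeg]
          have := Nat.le_of_dvd (hspec y hy).2.1.natDegree_pos (Nat.gcd_dvd_right m y.1.natDegree)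
          omega
      rcases Nat.even_or_odd m with hev | hodd
      · rw [if_pos hev] at hN
        obtain ⟨L, hL, hLsum, hLN⟩ := aggregate S Q (fun y => y.1.natDegree) G (fun g => q ^ g + 1)
          N (fun g => g ∣ m ∧ Odd (m / g) ∧ g < m) (fun y hy => by
            rw [hSfin, Multiset.mem_toFinset] at hy
            rw [hN]
            obtain ⟨-, hyi, hy0, -⟩ := hspec y hy
            rcases plus_block (q := q) (m := m) (D := 2 * y.1.natDegree) (by omega) with h | ⟨g, hg, h1, h2, h3'⟩
            · left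
              refine dvd_trans ?_ h
              refine Nat.dvd_gcd (Nat.gcd_dvd_left _ _) ((Nat.gcd_dvd_right _ _).trans ?_)
              show (if starP (conjHom hF) y.1 = y.1 then q ^ y.1.natDegree + 1
                else q ^ (2 * y.1.natDegree) - 1) ∣ _
              split_ifs
              · rw [show q ^ (2 * y.1.natDegree) - 1 = (q ^ y.1.natDegree + 1) * (q ^ y.1.natDegree - 1) by
                  rw [← Nat.sq_sub_sq, one_pow, mul_comm 2, pow_mul]]
                exact dvd_mul_right _ _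
              · exact dvd_rfl
            · have hgG : Nat.gcd m y.1.natDegree = g := by
                rw [Nat.gcd_mul_left] at hg; omega
              by_cases hs : starP (conjHom hF) y.1 = y.1
              · exfalso
                haveI : Fact (Irreducible y.1) := ⟨hyi⟩
                have hgo : Odd g := (self_root hF hy0 hs).1.of_dvd_nat (hgG ▸ Nat.gcd_dvd_right _ _)
                have := hgo.mul h2
                rw [Nat.mul_div_cancel' h1] at this
                exact (Nat.not_odd_iff_even.2 hev) this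
              · right
                have hGy : G y = g := hgG
                rw [hGy]
                refine ⟨⟨h1, h2, ?_⟩, ?_, hGy ▸ hfib y hy hs⟩
                · have := hbig y hy hs
                  have := Nat.le_of_dvd hyi.natDegree_pos (hgG ▸ Nat.gcd_dvd_right m y.1.natDegree)
                  omega
                · show Nat.gcd (q ^ m + 1) (if starP (conjHom hF) y.1 = y.1 then q ^ y.1.natDegree + 1
                    else q ^ (2 * y.1.natDegree) - 1) ∣ _
                  rw [if_neg hs]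
                  exact h3') hNQ
        refine not_dvd_plus h3 (by omega) L hL ?_ (hN ▸ hLN)
        have h2 := sum_toFinset_le fun y hy => (hspec y hy).2.2.2
        rw [hsum, ← hSfin] at h2
        omega
      · rw [if_neg (Nat.not_even_iff_odd.2 hodd)] at hN
        obtain ⟨L, hL, hLsum, hLN⟩ := aggregate S Q (fun y => y.1.natDegree) G (fun g => q ^ g - 1)
          N (fun g => 1 ≤ g ∧ g < m) (fun y hy => by
            rw [hSfin, Multiset.mem_toFinset] at hy
            rw [hN]
            obtain ⟨-, hyi, hy0, -⟩ := hspec y hy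
            by_cases hs : starP (conjHom hF) y.1 = y.1
            · left
              show Nat.gcd (q ^ m - 1) (if starP (conjHom hF) y.1 = y.1 then q ^ y.1.natDegree + 1
                else q ^ (2 * y.1.natDegree) - 1) ∣ _
              rw [if_pos hs]
              exact minus_self (by omega) hodd
            · right
              refine ⟨⟨Nat.gcd_pos_of_pos_left _ (by omega), ?_⟩, ?_, hfib y hy hs⟩
              · have := hbig y hy hs
                have := Nat.le_of_dvd hyi.natDegree_pos (Nat.gcd_dvd_right m y.1.natDegree)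
                show Nat.gcd m y.1.natDegree < m
                omega
              · show Nat.gcd (q ^ m - 1) (if starP (conjHom hF) y.1 = y.1 then q ^ y.1.natDegree + 1
                  else q ^ (2 * y.1.natDegree) - 1) ∣ _
                rw [if_neg hs, minus_block hodd]) hNQ
        refine not_dvd_minus h3 (by omega) L hL ?_ hm (hN ▸ hLN)
        have h2 := sum_toFinset_le fun y hy => (hspec y hy).2.2.2
        rw [hsum, ← hSfin] at h2
        omega
  · intro h
    obtain ⟨f₀, hfm, hfi, hf0, hfd, hfk⟩ := exists_irreducible_primitive (F := F) (d := m) (by omega)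
    haveI : Fact (Irreducible f₀) := ⟨hfi⟩
    haveI : Module.Finite F (AdjoinRoot f₀) := (AdjoinRoot.powerBasis hfi.ne_zero).finite
    haveI : Finite (AdjoinRoot f₀) := Module.finite_of_finite F
    obtain ⟨β, hβ⟩ : ∃ β, β = AdjoinRoot.root f₀ ^ (q + 1) := ⟨_, rfl⟩
    have hζk : ∀ k, AdjoinRoot.root f₀ ^ k = 1 → q ^ (2 * m) - 1 ∣ k := fun k hk => by
      rw [pow_mul, ← hF]
      refine (hfk k).1 ?_
      rw [← C_1]
      exact (root_pow_iff k 1).1 (by rw [hk, map_one])
    have hβS : β ^ (N * T) = 1 := by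
      rw [hβ, ← pow_mul, mul_comm, ← hpw, pow_mul, ← hF, ← hfd]
      exact root_pow_card hfi hf0
    have hint : IsIntegral F β := IsIntegral.of_finite F _
    haveI : Fact (Irreducible (minpoly F β)) := ⟨minpoly.irreducible hint⟩
    haveI : Module.Finite F (AdjoinRoot (minpoly F β)) :=
      (AdjoinRoot.powerBasis (minpoly.ne_zero hint)).finite
    haveI : Finite (AdjoinRoot (minpoly F β)) := Module.finite_of_finite F
    let ι : AdjoinRoot (minpoly F β) →ₐ[F] AdjoinRoot f₀ :=
      AdjoinRoot.liftAlgHom (minpoly F β) (Algebra.ofId F _) β (minpoly.aeval F β)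
    have hι : ι (AdjoinRoot.root (minpoly F β)) = β := AdjoinRoot.liftAlgHom_root _ _ _ _
    have hβ0 : β ≠ 0 := fun e => by
      rw [e, zero_pow (by
        have := hpw
        have : 1 < q ^ (2 * m) := Nat.one_lt_pow (by omega) (by omega)
        intro e0; rw [e0] at hpw; omega)] at hβS
      exact zero_ne_one hβS
    have hr0 : AdjoinRoot.root (minpoly F β) ≠ 0 := fun e => hβ0 (by rw [← hι, e, map_zero])
    have hdeg : (minpoly F β).natDegree = m := by
      have h1 : (minpoly F β).natDegree ∣ m := by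
        have := minpoly.degree_dvd hint
        rwa [(AdjoinRoot.powerBasis hfi.ne_zero).finrank, AdjoinRoot.powerBasis_dim, hfd] at this
      by_contra hne
      have hlt : 2 * (minpoly F β).natDegree ≤ m := by
        obtain ⟨t, ht⟩ := h1
        rcases t with _ | _ | t
        · omega
        · omega
        · rw [ht]; nlinarith
      have h2 : β ^ (Fintype.card F ^ (minpoly F β).natDegree - 1) = 1 := by
        obtain ⟨e, he⟩ : ∃ e, e = Fintype.card F ^ (minpoly F β).natDegree - 1 := ⟨_, rfl⟩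
        rw [← he, show β ^ e = ι (AdjoinRoot.root (minpoly F β) ^ e) by rw [map_pow, hι], he,
          root_pow_card (minpoly.irreducible hint) (minpoly.coeff_zero_ne_zero hint hβ0), map_one]
      have hDpos : 0 < (minpoly F β).natDegree := minpoly.natDegree_pos hint
      generalize hD : (minpoly F β).natDegree = D at h2 hlt hDpos
      rw [hβ, ← pow_mul, hF, ← pow_mul] at h2
      have h4 := Nat.le_of_dvd (Nat.mul_pos (by omega) (by
        have : 1 < q ^ (2 * D) := Nat.one_lt_pow (by omega) (by omega)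
        omega)) (hζk _ h2)
      have h5 : q ^ (2 * D) ≤ q ^ m := Nat.pow_le_pow_right (by omega) hlt
      have h6 : (q + 1) * (q ^ (2 * D) - 1) ≤ (q + 1) * q ^ m :=
        Nat.mul_le_mul_left _ (by omega)
      have h7 : (q + 2) * q ^ m ≤ q ^ (2 * m) := by
        rw [two_mul m, pow_add]
        refine Nat.mul_le_mul_right _ ?_
        have : q + 2 ≤ q * q := by nlinarith
        omega
      have h8 : 2 ≤ q ^ m := by omega
      have h9 := h4.trans h6
      rw [add_mul] at h7 h9
      omega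
    obtain ⟨y, hy⟩ := SuSpec.exists_torus_psu (n := 2 * m) (q := q) hF (by omega)
    refine PrimeGraph.mem_range_of_dvd y (hy (minpoly F β) m N (minpoly.irreducible hint) hdeg ?_ ?_)
    · intro k c hk hc
      have h1 : β ^ (k * (q + 1)) = 1 := by
        rw [pow_mul, ← hι, ← map_pow, hk, AlgHom.commutes, ← map_pow, hc, map_one]
      rw [hβ, ← pow_mul] at h1
      have h2 := hζk _ h1
      rw [hpw, mul_comm (q + 1)] at h2
      have h3' := div_gcd_dvd (by omega : 0 < q + 1) ((mul_dvd_mul_iff_right (by omega : q + 1 ≠ 0)).1 h2)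
      rw [hSd] at h3'
      obtain ⟨w, hw⟩ := (hTd d hdq).2 h
      rw [hw, show N * (d * w) = N * w * d by ring, Nat.mul_div_cancel _ hdpos] at h3'
      exact dvd_trans (dvd_mul_right _ _) h3'
    · right
      refine ⟨even_two_mul m, by rw [Nat.mul_div_cancel_left _ two_pos], hr0, ?_⟩
      rw [Nat.mul_div_cancel_left _ two_pos, Nat.div_self (by omega), pow_one]
      have h1 : Algebra.norm F (AdjoinRoot.root (minpoly F β)) ^ (q - 1) = 1 := by
        apply (algebraMap F (AdjoinRoot (minpoly F β))).injective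
        rw [map_pow, norm_pow, hdeg, ← hU, ← pow_mul, hUS, map_one]
        refine ι.toRingHom.injective (show ι _ = ι _ from ?_)
        rw [map_pow, hι, hβS, map_one]
      rw [← Nat.sub_add_cancel (show 1 ≤ q by omega), pow_succ, h1, one_mul]

end Unitary

end Cfsg.Agent.Lib.Similar.HalfTorus
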