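import Mathlib

/-!
Norms on finite commutative rings with an involution that moves a unit amount.
-/

set_option autoImplicit false

namespace Cfsg.Agent.Lib.Similar.InvolNorm

variable {S : Type*} [CommRing S] [Finite S]

/-- Hilbert's Theorem 90. -/
theorem exists_div_tau (τ : S →+* S) (hτ2 : ∀ x, τ (τ x) = x)
    (hc : ∃ c : S, IsUnit (c - τ c)) (y : S) (hy : y * τ y = 1) :
    ∃ z : S, IsUnit z ∧ z = y * τ z := by
  classical
  have : Finite {m : Ideal S // m.IsMaximal} := by
    have : Finite (Ideal S) := Finite.of_injective (fun I => (I : Set S)) SetLike.coe_injective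
    infer_instance
  let _ := Fintype.ofFinite {m : Ideal S // m.IsMaximal}
  let idx := Fintype.equivFin {m : Ideal S // m.IsMaximal}
  let tm : {m : Ideal S // m.IsMaximal} → {m : Ideal S // m.IsMaximal} := fun m =>
    ⟨m.1.comap τ, @Ideal.comap_isMaximal_of_surjective S S _ _ _ _ _ τ (fun x => ⟨τ x, hτ2 x⟩) m.1 m.2⟩
  have htm : ∀ m x, x ∈ (tm m).1 ↔ τ x ∈ m.1 := fun m x => Iff.rfl
  have htm2 : ∀ m, tm (tm m) = m := fun m => Subtype.ext (Ideal.ext fun x => by rw [htm, htm, hτ2])
  have hfix : ∀ m, tm m = m → ∃ c : S, c + y * τ c ∉ m.1 := by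
    intro m _
    by_contra h
    push Not at h
    obtain ⟨c, hc⟩ := hc
    have h1 := h 1
    simp only [map_one, mul_one] at h1
    have h2 := m.1.sub_mem (h c) (m.1.mul_mem_right (τ c) h1)
    rw [add_mul, one_mul, add_sub_add_right_eq_sub] at h2
    exact m.2.ne_top (m.1.eq_top_of_isUnit_mem h2 hc)
  let a : {m : Ideal S // m.IsMaximal} → S := fun m => if h : tm m = m then (hfix m h).choose
    else if idx m < idx (tm m) then 1 else 0
  obtain ⟨l, hl⟩ := Ideal.exists_forall_sub_mem_ideal (I := fun m : {m : Ideal S // m.IsMaximal} => m.1)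
    (fun i j hij => by
      haveI := i.2; haveI := j.2
      exact Ideal.isCoprime_iff_sup_eq.2 (Ideal.IsMaximal.coprime_of_ne i.2 j.2 fun e => hij (Subtype.ext e))) a
  refine ⟨l + y * τ l, ?_, ?_⟩
  swap
  · rw [map_add, map_mul, hτ2, mul_add, ← mul_assoc, hy, one_mul, add_comm]
  by_contra hnu
  obtain ⟨M, hM, hmem⟩ := exists_max_ideal_of_mem_nonunits hnu
  obtain ⟨m, hm⟩ : ∃ m : {m : Ideal S // m.IsMaximal}, m.1 = M := ⟨⟨M, hM⟩, rfl⟩
  rw [← hm] at hmem
  have e1 : l - a m ∈ m.1 := hl m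
  have e2 : τ l - τ (a (tm m)) ∈ m.1 := by
    rw [← map_sub]; exact (htm m _).1 (hl (tm m))
  have e3 : a m + y * τ (a (tm m)) ∈ m.1 := by
    have := m.1.sub_mem (m.1.sub_mem hmem e1) (m.1.mul_mem_left y e2)
    convert this using 1
    ring
  have hy1 : y ∉ m.1 := fun h => m.2.ne_top (m.1.eq_top_of_isUnit_mem h ⟨⟨y, τ y, hy, by rw [mul_comm]; exact hy⟩, rfl⟩)
  have h1 : (1 : S) ∉ m.1 := fun h => m.2.ne_top ((Ideal.eq_top_iff_one _).2 h)
  by_cases h : tm m = m
  · have ea : a m = (hfix m h).choose := dif_pos h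
    rw [h, ea] at e3
    exact (hfix m h).choose_spec e3
  · have h' : tm (tm m) ≠ tm m := fun e => h (by rw [htm2] at e; exact e.symm)
    have ea : a m = if idx m < idx (tm m) then 1 else 0 := dif_neg h
    have eb : a (tm m) = if idx (tm m) < idx m then 1 else 0 := (dif_neg h').trans (by rw [htm2])
    rw [ea, eb] at e3
    rcases lt_or_gt_of_ne (fun e => h (idx.injective e).symm : idx m ≠ idx (tm m)) with hlt | hlt
    · rw [if_pos hlt, if_neg (not_lt.2 hlt.le), map_zero, mul_zero, add_zero] at e3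
      exact h1 e3
    · rw [if_neg (not_lt.2 hlt.le), if_pos hlt, map_one, mul_one, zero_add] at e3
      exact hy1 e3

/-- Fixed units are norms. -/
theorem exists_mul_tau (τ : S →+* S) (hτ2 : ∀ x, τ (τ x) = x)
    (hc : ∃ c : S, IsUnit (c - τ c)) (x : S) (hx : IsUnit x) (hxf : τ x = x) :
    ∃ y : S, y * τ y = x := by
  classical
  let _ := Fintype.ofFinite S
  let T : Sˣ →* Sˣ := Units.map (τ : S →* S)
  have hT : ∀ u : Sˣ, ((T u : Sˣ) : S) = τ u := fun u => rfl
  let R : Subgroup Sˣ := MonoidHom.eqLocus T (MonoidHom.id _)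
  let N : Sˣ →* Sˣ := MonoidHom.id Sˣ * T
  let D : Sˣ →* Sˣ := MonoidHom.id Sˣ / T
  have hN : ∀ u : Sˣ, N u = u * T u := fun u => rfl
  have hD : ∀ u : Sˣ, D u = u / T u := fun u => rfl
  have hNR : N.range ≤ R := by
    rintro _ ⟨u, rfl⟩
    show T (N u) = N u
    have hTT : T (T u) = u := Units.ext (hτ2 u)
    rw [hN, map_mul, hTT, mul_comm]
  have hker : D.range = N.ker := by
    ext v
    constructor
    · rintro ⟨u, rfl⟩
      rw [MonoidHom.mem_ker, hN, hD, map_div]
      have hTT : T (T u) = u := Units.ext (hτ2 u)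
      rw [hTT, div_mul_div_cancel, div_self']
    · intro hv
      rw [MonoidHom.mem_ker, hN] at hv
      obtain ⟨z, hz, hz'⟩ := exists_div_tau τ hτ2 hc (v : S) (by rw [← hT, ← Units.val_mul, hv, Units.val_one])
      refine ⟨hz.unit, ?_⟩
      rw [hD, div_eq_iff_eq_mul]
      exact Units.ext hz'
  have hDker : D.ker = R := by
    ext u
    rw [MonoidHom.mem_ker, hD, div_eq_one]
    exact eq_comm
  have c1 := Subgroup.card_eq_card_quotient_mul_card_subgroup N.ker
  rw [Nat.card_congr (QuotientGroup.quotientKerEquivRange N).toEquiv] at c1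
  have c2 := Subgroup.card_eq_card_quotient_mul_card_subgroup D.ker
  rw [Nat.card_congr (QuotientGroup.quotientKerEquivRange D).toEquiv, hker, hDker] at c2
  have hpos : 0 < Nat.card N.ker := Nat.card_pos
  have hcard : Nat.card N.range = Nat.card R :=
    Nat.eq_of_mul_eq_mul_right hpos (c1.symm.trans (c2.trans (mul_comm _ _)))
  have heq : N.range = R := Subgroup.eq_of_le_of_card_ge hNR hcard.ge
  obtain ⟨u, hu⟩ : hx.unit ∈ N.range := by
    rw [heq]
    exact Units.ext hxf
  exact ⟨u, by rw [← hT, ← Units.val_mul, ← hN, hu]; rfl⟩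

end Cfsg.Agent.Lib.Similar.InvolNorm
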