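import Cfsg.Agent.Lib.Similar.JordanChains
import Cfsg.Agent.Lib.SpSpec.Split

/-!
Jordan types of unipotent isometries: the parity condition and models with prescribed block sizes.
-/

set_option autoImplicit false

namespace Cfsg.Agent.Lib.Similar.JordanForms

open Module
open QuadraticMap (polarBilin)
open Cfsg.Agent.Lib.SpSpec (Isom)
open Cfsg.Agent.Lib.Similar.JordanChains
open scoped Matrix

universe u

variable {F : Type u} [Field F]

section Parity

variable {V : Type*} [AddCommGroup V] [Module F V] [Module.Finite F V]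
variable {B : LinearMap.BilinForm F V} {g : Module.End F V}

theorem even_finrank_range_add (hB : B.Nondegenerate) (hg : Isom B g) (m : ℕ)
    (hs : (B.IsAlt ∧ Even m) ∨ ((∀ x y, B x y = B y x) ∧ Odd m ∧ (2 : F) ≠ 0))
    (hEven : ∀ (W : Submodule F V) (γ : LinearMap.BilinForm F W), γ.IsAlt →
      Even (finrank F W + finrank F (LinearMap.ker γ))) :
    Even (finrank F (LinearMap.range ((g - 1) ^ m)) +
      finrank F (LinearMap.range ((g - 1) ^ (m + 2)))) := by
  set N := g - 1 with hN
  have hgN : ∀ x, g x = x + N x := fun x => by simp [hN]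
  have hc : Commute g N := (Commute.refl g).sub_right (Commute.one_right g)
  have h1 : ∀ x y, B (N x) (g y) = -B x (N y) := fun x y => by
    have := hg x y
    rw [hgN x, map_add, LinearMap.add_apply] at this
    have e : B x (g y) = B x y + B x (N y) := by rw [hgN, map_add]
    linear_combination this - e
  have hN' : ∀ (k : ℕ) x y, B ((N ^ k) x) ((g ^ k) y) = (-1) ^ k * B x ((N ^ k) y) := by
    intro k
    induction k with
    | zero => intro x y; simp
    | succ k ih =>
      intro x y
      have a1 : (N ^ (k + 1)) x = N ((N ^ k) x) := by rw [pow_succ', Module.End.mul_apply]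
      have a2 : (g ^ (k + 1)) y = g ((g ^ k) y) := by rw [pow_succ', Module.End.mul_apply]
      have a3 : (N ^ (k + 1)) y = (N ^ k) (N y) := by rw [pow_succ, Module.End.mul_apply]
      have a4 : N ((g ^ k) y) = (g ^ k) (N y) := LinearMap.congr_fun (hc.symm.pow_right k).eq y
      rw [a1, a2, h1, a4, ih, a3, pow_succ]
      ring
  have hginj : Function.Injective g := fun x y h => by
    refine sub_eq_zero.1 (hB.1 _ fun z => ?_)
    rw [← hg, map_sub, h, sub_self, map_zero, LinearMap.zero_apply]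
  have hginv : ∀ (k : ℕ) (z : V), ∃ z', (g ^ k) z' = z := fun k z =>
    LinearMap.injective_iff_surjective.1 (by
      induction k with
      | zero => exact fun x y h => h
      | succ k ih => rw [pow_succ']; exact hginj.comp ih) z
  have key : ∀ (k : ℕ) x z, (N ^ k) z = 0 → B ((N ^ k) x) z = 0 := fun k x z hz => by
    obtain ⟨z', rfl⟩ := hginv k z
    rw [hN']
    have : (N ^ k) z' = 0 := by
      have hinj : Function.Injective (g ^ k : Module.End F V) := by
        clear hz
        induction k with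
        | zero => exact fun x y h => h
        | succ k ih => rw [pow_succ']; exact hginj.comp ih
      apply hinj
      rw [map_zero, ← Module.End.mul_apply, (hc.pow_pow k k).eq, Module.End.mul_apply]
      exact hz
    rw [this, map_zero, mul_zero]
  have kerN : ∀ (i : ℕ) y, (N ^ (m + 1)) y = 0 → (N ^ m) ((g ^ i) y - y) = 0 := by
    intro i y hy
    obtain ⟨c, hcg, hcN'⟩ : ∃ c : Module.End F V, g ^ i - 1 = c * N ∧ Commute N c :=
      ⟨∑ j ∈ Finset.range i, g ^ j, by rw [hN, geom_sum_mul],
        Commute.sum_right _ _ _ fun j _ => hc.symm.pow_right j⟩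
    have : (g ^ i) y - y = c (N y) := by
      rw [← Module.End.mul_apply, ← hcg, LinearMap.sub_apply, Module.End.one_apply]
    rw [this]
    have hcN : Commute N c := hcN'
    rw [← Module.End.mul_apply, (hcN.pow_left m).eq, Module.End.mul_apply,
      ← Module.End.mul_apply (N ^ m), ← pow_succ, hy, map_zero]
  -- the form on the kernel of the power
  let W : Submodule F V := LinearMap.ker (N ^ (m + 1))
  let γ : LinearMap.BilinForm F W := B.compl₁₂ ((N ^ m).domRestrict W) W.subtype
  have hγ : ∀ x y : W, γ x y = B ((N ^ m) x) y := fun x y => rfl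
  have hshift : ∀ (k : ℕ) (x y : W), B ((N ^ m) x) ((g ^ k) (y : V)) = B ((N ^ m) x) (y : V) :=
    fun k x y => by
      rw [← sub_eq_zero, ← map_sub]
      exact key m _ _ (kerN k y y.2)
  have hskew : γ.IsAlt := by
    intro x
    rw [hγ]
    rcases hs with ⟨hA, k, rfl⟩ | ⟨hS, hm, h2⟩
    · rw [← hshift k x x, pow_add, Module.End.mul_apply, hN' k, hA, mul_zero]
    · have h := hN' m x x
      rw [hshift m x x, hm.neg_one_pow, neg_one_mul, hS (x : V)] at h
      exact (mul_eq_zero.1 (show (2 : F) * B ((N ^ m) x) x = 0 by linear_combination h)).resolve_left h2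
  have h := hEven W γ hskew
  -- the radical
  have hperp : ∀ u : V, (∀ y ∈ W, B u y = 0) → u ∈ LinearMap.range (N ^ (m + 1)) := by
    intro u hu
    let Ψ : V →ₗ[F] Module.Dual F W := B.compl₁₂ (LinearMap.id) W.subtype
    have hle : LinearMap.range (N ^ (m + 1)) ≤ LinearMap.ker Ψ := by
      rintro _ ⟨x, rfl⟩
      exact LinearMap.ext fun y => key _ x y y.2
    have hsurj : Function.Surjective Ψ := by
      intro f
      obtain ⟨f', hf'⟩ := LinearMap.exists_extend f
      refine ⟨(B.toDual hB).symm f', LinearMap.ext fun y => ?_⟩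
      show B _ (y : V) = f y
      rw [LinearMap.id_apply, LinearMap.BilinForm.apply_toDual_symm_apply]
      exact congrArg (· y) hf'
    have hd1 := LinearMap.finrank_range_add_finrank_ker Ψ
    rw [LinearMap.range_eq_top.2 hsurj, finrank_top, Subspace.dual_finrank_eq] at hd1
    have hd2 : finrank F (LinearMap.range (N ^ (m + 1))) + finrank F W = finrank F V :=
      LinearMap.finrank_range_add_finrank_ker (N ^ (m + 1))
    rw [Submodule.eq_of_le_of_finrank_le hle (by omega)]
    exact LinearMap.ext fun y => hu y y.2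
  -- dimension of the radical
  let R : Submodule F V := W ⊓ (LinearMap.range (N ^ (m + 1))).comap (N ^ m)
  have hR : Submodule.map W.subtype (LinearMap.ker γ) = R := by
    refine le_antisymm ?_ ?_
    · rintro _ ⟨x, hx, rfl⟩
      exact ⟨x.2, hperp _ fun y hy => LinearMap.congr_fun (LinearMap.mem_ker.1 hx) ⟨y, hy⟩⟩
    · rintro x ⟨hx, u, hu⟩
      refine ⟨⟨x, hx⟩, LinearMap.mem_ker.2 (LinearMap.ext fun y => ?_), rfl⟩
      rw [hγ]
      show B ((N ^ m) x) y = 0
      rw [← hu]
      exact key _ u y y.2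
  have hrk : finrank F (LinearMap.ker γ) = finrank F R := by
    rw [← hR]
    exact (Submodule.equivMapOfInjective _ W.injective_subtype _).finrank_eq
  let I : Submodule F V := LinearMap.range (N ^ (m + 1))
  have hφ := LinearMap.finrank_range_add_finrank_ker ((N ^ m).domRestrict R)
  have hker : finrank F (LinearMap.ker ((N ^ m).domRestrict R)) =
      finrank F (LinearMap.ker (N ^ m)) := by
    rw [LinearMap.ker_domRestrict]
    refine (Submodule.comapSubtypeEquivOfLe ?_).finrank_eq
    intro x hx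
    rw [LinearMap.mem_ker] at hx
    exact ⟨by show (N ^ (m + 1)) x = 0; rw [pow_succ', Module.End.mul_apply, hx, map_zero],
      by show (N ^ m) x ∈ LinearMap.range (N ^ (m + 1)); rw [hx]; exact zero_mem _⟩
  have hrange : LinearMap.range ((N ^ m).domRestrict R) = LinearMap.ker N ⊓ I := by
    refine le_antisymm ?_ ?_
    · rintro _ ⟨⟨x, hx1, hx2⟩, rfl⟩
      refine ⟨?_, hx2⟩
      show N ((N ^ m) x) = 0
      rw [← Module.End.mul_apply, ← pow_succ']
      exact hx1
    · rintro z ⟨hz, u, rfl⟩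
      refine ⟨⟨N u, ?_, ?_⟩, ?_⟩
      · show (N ^ (m + 1)) (N u) = 0
        rw [← Module.End.mul_apply, ← pow_succ, pow_succ', Module.End.mul_apply]
        exact hz
      · show (N ^ m) (N u) ∈ LinearMap.range (N ^ (m + 1))
        exact ⟨u, by rw [← Module.End.mul_apply, ← pow_succ]⟩
      · show (N ^ m) (N u) = _
        rw [← Module.End.mul_apply, ← pow_succ]
  have hI := LinearMap.finrank_range_add_finrank_ker (N.domRestrict I)
  have hI1 : LinearMap.range (N.domRestrict I) = LinearMap.range (N ^ (m + 2)) := by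
    rw [LinearMap.range_domRestrict, pow_succ' N (m + 1), Module.End.mul_eq_comp, LinearMap.range_comp]
  have hI2 : finrank F (LinearMap.ker (N.domRestrict I)) = finrank F ↥(LinearMap.ker N ⊓ I) := by
    rw [LinearMap.ker_domRestrict, ← Submodule.finrank_map_subtype_eq, Submodule.map_comap_subtype,
      inf_comm]
  rw [hI1, hI2] at hI
  rw [hrange, hker] at hφ
  have hm0 := LinearMap.finrank_range_add_finrank_ker (N ^ m)
  have hW : finrank F I + finrank F W = finrank F V :=
    LinearMap.finrank_range_add_finrank_ker (N ^ (m + 1))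
  rw [hrk] at h
  rw [Nat.even_iff] at h ⊢
  omega

end Parity

/-- A space with an alternating form, an isometry and spanning chains over `S`. -/
def AltModel {κ : Type*} (F : Type u) [Field F] (d : κ → ℕ) (S : Finset κ) : Prop :=
  ∃ (V : Type u) (_ : AddCommGroup V) (_ : Module F V) (_ : Module.Finite F V)
    (B : LinearMap.BilinForm F V) (T : Module.End F V) (v : κ → V),
    B.IsAlt ∧ B.Nondegenerate ∧ Isom B T ∧ Spans T d S v ∧ finrank F V = ∑ k ∈ S, d k

/-- A quadratic space with an isometry and spanning chains over `S`. -/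
def QuadModel {κ : Type*} (F : Type u) [Field F] (d : κ → ℕ) (S : Finset κ) : Prop :=
  ∃ (V : Type u) (_ : AddCommGroup V) (_ : Module F V) (_ : Module.Finite F V)
    (Q : QuadraticForm F V) (T : Module.End F V) (v : κ → V),
    (polarBilin Q).Nondegenerate ∧ (∀ x, Q (T x) = Q x) ∧ Spans T d S v ∧ finrank F V = ∑ k ∈ S, d k

/-- A regular alternating block of dimension `n`. -/
def AltBlock (F : Type u) [Field F] (n : ℕ) : Prop :=
  ∃ (V : Type u) (_ : AddCommGroup V) (_ : Module F V) (_ : Module.Finite F V)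
    (B : LinearMap.BilinForm F V) (T : Module.End F V) (w : V),
    B.IsAlt ∧ B.Nondegenerate ∧ Isom B T ∧ finrank F V = n ∧ (T - 1) ^ n = 0 ∧
      B (((T - 1) ^ (n - 1)) w) w ≠ 0

/-- A regular quadratic block of dimension `n`. -/
def QuadBlock (F : Type u) [Field F] (n : ℕ) : Prop :=
  ∃ (V : Type u) (_ : AddCommGroup V) (_ : Module F V) (_ : Module.Finite F V)
    (Q : QuadraticForm F V) (T : Module.End F V) (w : V),
    (polarBilin Q).Nondegenerate ∧ (∀ x, Q (T x) = Q x) ∧ finrank F V = n ∧ (T - 1) ^ n = 0 ∧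
      polarBilin Q (((T - 1) ^ (n - 1)) w) w ≠ 0

section Extend

variable {V : Type u} [AddCommGroup V] [Module F V]

/-- The extension of `T` by a hyperbolic pair. -/
def ext (T : Module.End F V) (φ : V →ₗ[F] F) (w : V) (z : F) : Module.End F (F × V × F) where
  toFun x := (x.1 + φ x.2.1 + z * x.2.2, T x.2.1 + x.2.2 • w, x.2.2)
  map_add' x y := by
    refine Prod.ext ?_ (Prod.ext ?_ rfl)
    · simp only [Prod.fst_add, Prod.snd_add, map_add]; ring
    · simp only [Prod.fst_add, Prod.snd_add, map_add, add_smul]; abel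
  map_smul' c x := by
    refine Prod.ext ?_ (Prod.ext ?_ rfl)
    · simp only [Prod.smul_fst, Prod.smul_snd, map_smul, smul_eq_mul, RingHom.id_apply]; ring
    · simp only [Prod.smul_fst, Prod.smul_snd, map_smul, smul_eq_mul, RingHom.id_apply, smul_add,
        mul_smul]

variable (T : Module.End F V) (φ : V →ₗ[F] F) (w : V) (z : F)

theorem ext_sub_apply (x : F × V × F) :
    (ext T φ w z - 1) x = (φ x.2.1 + z * x.2.2, (T - 1) x.2.1 + x.2.2 • w, 0) := by
  refine Prod.ext ?_ (Prod.ext ?_ ?_)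
  · simp [ext]; ring
  · simp [ext]; abel
  · simp [ext]

theorem ext_pow_apply (j : ℕ) (x : F × V × F) :
    ((ext T φ w z - 1) ^ (j + 2)) x =
      (φ (((T - 1) ^ (j + 1)) x.2.1 + x.2.2 • ((T - 1) ^ j) w),
        ((T - 1) ^ (j + 2)) x.2.1 + x.2.2 • ((T - 1) ^ (j + 1)) w, 0) := by
  induction j with
  | zero =>
    rw [pow_succ', pow_one, Module.End.mul_apply, ext_sub_apply, ext_sub_apply]
    simp [pow_two, smul_sub]
    abel
  | succ j ih =>
    rw [pow_succ' (ext T φ w z - 1) (j + 2), Module.End.mul_apply, ih, ext_sub_apply]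
    simp only [mul_zero, add_zero, zero_smul, map_add, map_smul]
    rw [← Module.End.mul_apply, ← pow_succ', ← Module.End.mul_apply, ← pow_succ']

theorem ext_nil {n : ℕ} (hn : 1 ≤ n) (hT : (T - 1) ^ n = 0) :
    (ext T φ w z - 1) ^ (n + 2) = 0 := by
  refine LinearMap.ext fun x => ?_
  rw [ext_pow_apply, pow_eq_zero_of_le (show n ≤ n + 2 by omega) hT,
    pow_eq_zero_of_le (show n ≤ n + 1 by omega) hT, hT]
  simp

theorem ext_top {n : ℕ} (hn : 1 ≤ n) (hT : (T - 1) ^ n = 0) :
    ((ext T φ w z - 1) ^ (n + 2 - 1)) ((0 : F), (0 : V), (1 : F)) =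
      (φ (((T - 1) ^ (n - 1)) w), 0, 0) := by
  rw [show n + 2 - 1 = (n - 1) + 2 by omega, ext_pow_apply, show n - 1 + 1 = n by omega, hT]
  simp

end Extend

theorem AltBlock.succ {n : ℕ} (hn : 1 ≤ n) (h : AltBlock F n) : AltBlock F (n + 2) := by
  obtain ⟨V, _, _, _, B, T, w, hA, hN, hI, hdim, hnil, htop⟩ := h
  let φ : V →ₗ[F] F := -((B.flip w).comp T)
  have hφ : ∀ x, φ x = -B (T x) w := fun x => rfl
  let π : F × V × F →ₗ[F] V := (LinearMap.fst F V F).comp (LinearMap.snd F F (V × F))
  let p : F × V × F →ₗ[F] F := LinearMap.fst F F (V × F)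
  let q : F × V × F →ₗ[F] F := (LinearMap.snd F V F).comp (LinearMap.snd F F (V × F))
  obtain ⟨B', hB'⟩ : ∃ B' : LinearMap.BilinForm F (F × V × F),
      ∀ x y, B' x y = B x.2.1 y.2.1 + (x.1 * y.2.2 - x.2.2 * y.1) :=
    ⟨B.compl₁₂ π π + ((LinearMap.mul F F).compl₁₂ p q - (LinearMap.mul F F).compl₁₂ q p),
      fun x y => rfl⟩
  refine ⟨F × V × F, inferInstance, inferInstance, inferInstance, B', ext T φ w 0, (0, 0, 1),
    fun x => ?_, ?_, fun x y => ?_, ?_, ext_nil T φ w 0 hn hnil, ?_⟩
  · rw [hB', hA]; ring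
  · have key : ∀ x, (∀ y, B' x y = 0) → x = 0 := by
      intro x hx
      refine Prod.ext ?_ (Prod.ext (hN.1 _ fun y => ?_) ?_)
      · simpa [hB'] using hx (0, 0, 1)
      · simpa [hB'] using hx (0, y, 0)
      · simpa [hB'] using hx (1, 0, 0)
    refine ⟨key, fun x hx => key x fun y => ?_⟩
    have hA' : B'.IsAlt := fun x => by rw [hB', hA]; ring
    rw [← hA'.neg_eq, hx, neg_zero]
  · have hs : B w (T y.2.1) = -B (T y.2.1) w := by rw [hA.neg_eq]
    rw [hB', hB']
    simp only [ext, LinearMap.coe_mk, AddHom.coe_mk, map_add, map_smul, LinearMap.add_apply,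
      LinearMap.smul_apply, smul_eq_mul, hI x.2.1 y.2.1, hs, hA w, hφ]
    ring
  · simp [hdim]; omega
  · rw [ext_top T φ w 0 hn hnil, hB', hφ]
    have e : T (((T - 1) ^ (n - 1)) w) = ((T - 1) ^ (n - 1)) w := by
      refine sub_eq_zero.1 ?_
      have : (T - 1) (((T - 1) ^ (n - 1)) w) = 0 := by
        rw [← Module.End.mul_apply, ← pow_succ', show n - 1 + 1 = n by omega, hnil,
          LinearMap.zero_apply]
      simpa using this
    simpa [e] using htop

theorem QuadBlock.succ {n : ℕ} (hn : 1 ≤ n) (h : QuadBlock F n) : QuadBlock F (n + 2) := by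
  obtain ⟨V, _, _, _, Q, T, w, hN, hI, hdim, hnil, htop⟩ := h
  let φ : V →ₗ[F] F := -(((polarBilin Q).flip w).comp T)
  have hφ : ∀ x, φ x = -polarBilin Q (T x) w := fun x => rfl
  let π : F × V × F →ₗ[F] V := (LinearMap.fst F V F).comp (LinearMap.snd F F (V × F))
  let p : F × V × F →ₗ[F] F := LinearMap.fst F F (V × F)
  let q : F × V × F →ₗ[F] F := (LinearMap.snd F V F).comp (LinearMap.snd F F (V × F))
  obtain ⟨Q', hQ'⟩ : ∃ Q' : QuadraticForm F (F × V × F), ∀ x, Q' x = Q x.2.1 + x.1 * x.2.2 :=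
    ⟨Q.comp π + LinearMap.BilinMap.toQuadraticMap ((LinearMap.mul F F).compl₁₂ p q), fun x => rfl⟩
  have hadd : ∀ a b, Q (a + b) = Q a + Q b + polarBilin Q a b := fun a b => by
    simp only [QuadraticMap.polarBilin_apply_apply, QuadraticMap.polar]; ring
  have hp : ∀ x y, polarBilin Q' x y =
      polarBilin Q x.2.1 y.2.1 + (x.1 * y.2.2 + x.2.2 * y.1) := by
    intro x y
    simp only [QuadraticMap.polarBilin_apply_apply, QuadraticMap.polar, hQ', Prod.fst_add, Prod.snd_add]
    ring
  refine ⟨F × V × F, inferInstance, inferInstance, inferInstance, Q', ext T φ w (-Q w), (0, 0, 1),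
    ?_, fun x => ?_, ?_, ext_nil T φ w (-Q w) hn hnil, ?_⟩
  · have key : ∀ x, (∀ y, polarBilin Q' x y = 0) → x = 0 := by
      intro x hx
      refine Prod.ext ?_ (Prod.ext (hN.1 _ fun y => ?_) ?_)
      · simpa [hp, -QuadraticMap.polarBilin_apply_apply] using hx (0, 0, 1)
      · simpa [hp, -QuadraticMap.polarBilin_apply_apply] using hx (0, y, 0)
      · simpa [hp, -QuadraticMap.polarBilin_apply_apply] using hx (1, 0, 0)
    refine ⟨key, fun x hx => key x fun y => ?_⟩
    rw [← hx y]
    simp only [QuadraticMap.polarBilin_apply_apply, QuadraticMap.polar_comm]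
  · rw [hQ', hQ']
    simp only [ext, LinearMap.coe_mk, AddHom.coe_mk, hadd, hI, QuadraticMap.map_smul, map_smul,
      smul_eq_mul, hφ]
    ring
  · simp [hdim]; omega
  · rw [ext_top T φ w (-Q w) hn hnil, hp, hφ]
    have e : T (((T - 1) ^ (n - 1)) w) = ((T - 1) ^ (n - 1)) w := by
      refine sub_eq_zero.1 ?_
      have : (T - 1) (((T - 1) ^ (n - 1)) w) = 0 := by
        rw [← Module.End.mul_apply, ← pow_succ', show n - 1 + 1 = n by omega, hnil,
          LinearMap.zero_apply]
      simpa using this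
    simpa [e, -QuadraticMap.polarBilin_apply_apply] using htop

theorem altBlock_two : AltBlock F 2 := by
  obtain ⟨B, hB⟩ : ∃ B : LinearMap.BilinForm F (F × F), ∀ x y, B x y = x.1 * y.2 - x.2 * y.1 :=
    ⟨(LinearMap.mul F F).compl₁₂ (LinearMap.fst F F F) (LinearMap.snd F F F) -
      (LinearMap.mul F F).compl₁₂ (LinearMap.snd F F F) (LinearMap.fst F F F), fun x y => rfl⟩
  refine ⟨F × F, inferInstance, inferInstance, inferInstance, B,
    1 + (LinearMap.inl F F F).comp (LinearMap.snd F F F), (0, 1), fun x => ?_, ?_, fun x y => ?_, ?_,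
    ?_, ?_⟩
  · rw [hB]; ring
  · refine ⟨fun x hx => ?_, fun x hx => ?_⟩
    · exact Prod.ext (by simpa [hB] using hx (0, 1)) (by simpa [hB] using hx (1, 0))
    · exact Prod.ext (by simpa [hB] using hx (0, 1)) (by simpa [hB] using hx (1, 0))
  · simp [hB]; ring
  · simp
  · exact LinearMap.ext fun x => by simp [pow_two]
  · simp [hB]

theorem quadBlock_one (h2 : (2 : F) ≠ 0) : QuadBlock F 1 := by
  obtain ⟨Q, hQ⟩ : ∃ Q : QuadraticForm F F, ∀ x, Q x = x * x :=
    ⟨LinearMap.BilinMap.toQuadraticMap (LinearMap.mul F F), fun x => rfl⟩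
  have hp : ∀ x y, polarBilin Q x y = 2 * (x * y) := fun x y => by
    simp only [QuadraticMap.polarBilin_apply_apply, QuadraticMap.polar, hQ]; ring
  refine ⟨F, inferInstance, inferInstance, inferInstance, Q, 1, 1, ?_, fun x => rfl, by simp,
    by simp, by simp [hp, h2, -QuadraticMap.polarBilin_apply_apply]⟩
  refine ⟨fun x hx => ?_, fun x hx => ?_⟩
  · simpa [hp, h2, -QuadraticMap.polarBilin_apply_apply] using hx 1
  · simpa [hp, h2, -QuadraticMap.polarBilin_apply_apply] using hx 1

theorem quadBlock_two [CharP F 2] : QuadBlock F 2 := by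
  have h2 : (2 : F) = 0 := CharTwo.two_eq_zero
  obtain ⟨Q, hQ⟩ : ∃ Q : QuadraticForm F (F × F), ∀ x, Q x = x.1 * x.2 :=
    ⟨LinearMap.BilinMap.toQuadraticMap
      ((LinearMap.mul F F).compl₁₂ (LinearMap.fst F F F) (LinearMap.snd F F F)), fun x => rfl⟩
  have hp : ∀ x y, polarBilin Q x y = x.1 * y.2 + x.2 * y.1 := fun x y => by
    simp only [QuadraticMap.polarBilin_apply_apply, QuadraticMap.polar, hQ, Prod.fst_add, Prod.snd_add]
    ring
  let T : Module.End F (F × F) := (LinearMap.snd F F F).prod (LinearMap.fst F F F)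
  refine ⟨F × F, inferInstance, inferInstance, inferInstance, Q, T, (1, 0), ?_, fun x => ?_, by simp,
    ?_, ?_⟩
  · refine ⟨fun x hx => ?_, fun x hx => ?_⟩
    · exact Prod.ext (by simpa [hp, -QuadraticMap.polarBilin_apply_apply] using hx (0, 1))
        (by simpa [hp, -QuadraticMap.polarBilin_apply_apply] using hx (1, 0))
    · exact Prod.ext (by simpa [hp, -QuadraticMap.polarBilin_apply_apply] using hx (0, 1))
        (by simpa [hp, -QuadraticMap.polarBilin_apply_apply] using hx (1, 0))
  · simp [hQ, T, mul_comm]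
  · refine LinearMap.ext fun x => Prod.ext ?_ ?_ <;> simp [pow_two, T]
    · linear_combination (x.1 - x.2) * h2
    · linear_combination (x.2 - x.1) * h2
  · simp [hp, T, -QuadraticMap.polarBilin_apply_apply]

theorem altBlock_even {n : ℕ} (hn : 1 ≤ n) : AltBlock F (2 * n) := by
  induction n, hn using Nat.le_induction with
  | base => exact altBlock_two
  | succ n hn ih => exact AltBlock.succ (n := 2 * n) (by omega) ih

theorem quadBlock_odd (h2 : (2 : F) ≠ 0) (n : ℕ) : QuadBlock F (2 * n + 1) := by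
  induction n with
  | zero => exact quadBlock_one h2
  | succ n ih => exact QuadBlock.succ (by omega) ih

theorem quadBlock_even [CharP F 2] {n : ℕ} (hn : 1 ≤ n) : QuadBlock F (2 * n) := by
  induction n, hn using Nat.le_induction with
  | base => exact quadBlock_two
  | succ n hn ih => exact QuadBlock.succ (n := 2 * n) (by omega) ih

variable {κ : Type*} [DecidableEq κ]

theorem AltModel.single {d : κ → ℕ} (k : κ) (h : AltBlock F (d k)) : AltModel F d {k} := by
  obtain ⟨V, _, _, _, B, T, w, hA, hN, hI, hdim, hnil, htop⟩ := h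
  refine ⟨V, inferInstance, inferInstance, inferInstance, B, T, fun _ => w, hA, hN, hI,
    spans_singleton T d k w hdim (by simp [hnil]) ?_, by simp [hdim]⟩
  intro h0
  rw [h0] at htop
  simp at htop

theorem QuadModel.single {d : κ → ℕ} (k : κ) (h : QuadBlock F (d k)) : QuadModel F d {k} := by
  obtain ⟨V, _, _, _, Q, T, w, hN, hI, hdim, hnil, htop⟩ := h
  refine ⟨V, inferInstance, inferInstance, inferInstance, Q, T, fun _ => w, hN, hI,
    spans_singleton T d k w hdim (by simp [hnil]) ?_, by simp [hdim]⟩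
  intro h0
  rw [h0] at htop
  simp at htop

theorem AltModel.union {d : κ → ℕ} {S S' : Finset κ} (hd : Disjoint S S') (a : AltModel F d S)
    (b : AltModel F d S') : AltModel F d (S ∪ S') := by
  obtain ⟨V, _, _, _, B, T, v, hA, hN, hI, hv, hdim⟩ := a
  obtain ⟨W, _, _, _, B', T', w, hA', hN', hI', hw, hdim'⟩ := b
  obtain ⟨B'', hB⟩ : ∃ B'' : LinearMap.BilinForm F (V × W), ∀ x y, B'' x y = B x.1 y.1 + B' x.2 y.2 :=
    ⟨B.compl₁₂ (LinearMap.fst F V W) (LinearMap.fst F V W) +
      B'.compl₁₂ (LinearMap.snd F V W) (LinearMap.snd F V W), fun x y => rfl⟩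
  refine ⟨V × W, inferInstance, inferInstance, inferInstance, B'', LinearMap.prodMap T T', _,
    fun x => by rw [hB, hA, hA', add_zero], ⟨fun x hx => ?_, fun x hx => ?_⟩, fun x y => ?_,
    spans_prod hd hv hw, by rw [Module.finrank_prod, hdim, hdim', Finset.sum_union hd]⟩
  · exact Prod.ext (hN.1 _ fun y => by simpa [hB] using hx (y, 0)) (hN'.1 _ fun y => by simpa [hB] using hx (0, y))
  · exact Prod.ext (hN.2 _ fun y => by simpa [hB] using hx (y, 0)) (hN'.2 _ fun y => by simpa [hB] using hx (0, y))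
  · rw [hB, hB]
    show B (T x.1) (T y.1) + B' (T' x.2) (T' y.2) = _
    rw [hI, hI']

theorem QuadModel.union {d : κ → ℕ} {S S' : Finset κ} (hd : Disjoint S S') (a : QuadModel F d S)
    (b : QuadModel F d S') : QuadModel F d (S ∪ S') := by
  obtain ⟨V, _, _, _, Q, T, v, hN, hI, hv, hdim⟩ := a
  obtain ⟨W, _, _, _, Q', T', w, hN', hI', hw, hdim'⟩ := b
  have hB : ∀ x y, polarBilin (Q.prod Q') x y = polarBilin Q x.1 y.1 + polarBilin Q' x.2 y.2 :=
    fun x y => by
      simp only [QuadraticMap.polarBilin_apply_apply, QuadraticMap.polar, QuadraticMap.prod_apply,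
        Prod.fst_add, Prod.snd_add]
      ring
  refine ⟨V × W, inferInstance, inferInstance, inferInstance, Q.prod Q', LinearMap.prodMap T T', _,
    ⟨fun x hx => ?_, fun x hx => ?_⟩, fun x => ?_,
    spans_prod hd hv hw, by rw [Module.finrank_prod, hdim, hdim', Finset.sum_union hd]⟩
  · exact Prod.ext (hN.1 _ fun y => by simpa [hB, -QuadraticMap.polarBilin_apply_apply] using hx (y, 0))
      (hN'.1 _ fun y => by simpa [hB, -QuadraticMap.polarBilin_apply_apply] using hx (0, y))
  · exact Prod.ext (hN.2 _ fun y => by simpa [hB, -QuadraticMap.polarBilin_apply_apply] using hx (y, 0))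
      (hN'.2 _ fun y => by simpa [hB, -QuadraticMap.polarBilin_apply_apply] using hx (0, y))
  · rw [QuadraticMap.prod_apply, QuadraticMap.prod_apply]
    show Q (T x.1) + Q' (T' x.2) = _
    rw [hI, hI']

theorem AltModel.empty (d : κ → ℕ) : AltModel F d ∅ := by
  refine ⟨PUnit, inferInstance, inferInstance, inferInstance, 0, 1, fun _ => 0, fun _ => rfl,
    ⟨fun x _ => rfl, fun x _ => rfl⟩, fun _ _ => rfl, ⟨by simp, fun x _ => ?_⟩, by simp [Module.finrank_zero_of_subsingleton]⟩
  rw [Subsingleton.elim x 0]; exact zero_mem _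

theorem QuadModel.empty (d : κ → ℕ) : QuadModel F d ∅ := by
  refine ⟨PUnit, inferInstance, inferInstance, inferInstance, 0, 1, fun _ => 0,
    ⟨fun x _ => rfl, fun x _ => rfl⟩, fun _ => rfl, ⟨by simp, fun x _ => ?_⟩, by simp [Module.finrank_zero_of_subsingleton]⟩
  rw [Subsingleton.elim x 0]; exact zero_mem _

/-- The data of a pair of blocks of the same size. -/
theorem pair_data (F : Type u) [Field F] {n : ℕ} (hn : 1 ≤ n) :
    ∃ (T U : Module.End F (Fin n → F)) (v w : Fin n → F),
      (∀ x y, T x ⬝ᵥ U y = x ⬝ᵥ y) ∧ ((T - 1) ^ n) v = 0 ∧ ((T - 1) ^ (n - 1)) v ≠ 0 ∧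
      ((U - 1) ^ n) w = 0 ∧ ((U - 1) ^ (n - 1)) w ≠ 0 := by
  classical
  let S : Matrix (Fin n) (Fin n) F := Matrix.of fun i j => if (i : ℕ) = j + 1 then 1 else 0
  have hS : ∀ (k : ℕ) (i j : Fin n), (S ^ k) i j = if (i : ℕ) = j + k then 1 else 0 := by
    intro k
    induction k with
    | zero => intro i j; simp [Matrix.one_apply, Fin.ext_iff]
    | succ k ih =>
      intro i j
      rw [pow_succ, Matrix.mul_apply]
      simp only [ih, S, Matrix.of_apply]
      split_ifs with h
      · rw [Finset.sum_eq_single (⟨j + 1, by omega⟩ : Fin n)]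
        · rw [if_pos (by simp; omega), if_pos rfl, one_mul]
        · intro x _ hx
          have hx' : (x : ℕ) ≠ j + 1 := fun e => hx (Fin.ext e)
          simp [hx']
        · simp
      · exact Finset.sum_eq_zero fun x _ => by
          split_ifs <;> simp
          omega
  have hSn : S ^ n = 0 := by
    ext i j
    rw [hS, if_neg (by omega), Matrix.zero_apply]
  have hS1 : S ^ (n - 1) ≠ 0 := fun h => by
    have := congrFun (congrFun h ⟨n - 1, by omega⟩) ⟨0, by omega⟩
    rw [hS, if_pos (by simp)] at this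
    simp at this
  obtain ⟨a, ha⟩ := IsNilpotent.isUnit_one_add ⟨n, hSn⟩
  have hcomm : Commute S (a : Matrix (Fin n) (Fin n) F) := by
    rw [ha]; exact (Commute.one_right S).add_right (Commute.refl S)
  have hc : Commute (↑a⁻¹ : Matrix (Fin n) (Fin n) F) S := hcomm.units_inv_right.symm
  let K : Matrix (Fin n) (Fin n) F := (↑a⁻¹ : Matrix (Fin n) (Fin n) F)ᵀ
  have hK : K - 1 = (-((↑a⁻¹ : Matrix (Fin n) (Fin n) F) * S))ᵀ := by
    rw [← Matrix.transpose_one, ← Matrix.transpose_sub]
    congr 1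
    have h := a.inv_mul
    rw [ha, mul_add, mul_one] at h
    rw [eq_neg_iff_add_eq_zero, sub_add_eq_add_sub, h, sub_self]
  have hKpow : ∀ k, (K - 1) ^ k = 0 ↔ S ^ k = 0 := by
    intro k
    rw [hK, ← Matrix.transpose_pow, neg_pow, hc.mul_pow, ← Matrix.transpose_zero,
      Matrix.transpose_inj]
    have hu : IsUnit ((-1 : Matrix (Fin n) (Fin n) F) ^ k * (↑a⁻¹ : Matrix (Fin n) (Fin n) F) ^ k) :=
      (isUnit_one.neg.pow k).mul (a⁻¹.isUnit.pow k)
    rw [← mul_assoc]
    exact hu.mul_right_eq_zero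
  let φ : Matrix (Fin n) (Fin n) F ≃ₐ[F] Module.End F (Fin n → F) := Matrix.toLinAlgEquiv'
  have hex : ∀ M : Matrix (Fin n) (Fin n) F, M ≠ 0 → ∃ x, φ M x ≠ 0 := fun M hM => by
    by_contra h
    push Not at h
    exact hM (φ.injective ((LinearMap.ext h).trans (map_zero φ).symm))
  obtain ⟨v, hv⟩ := hex _ hS1
  obtain ⟨w, hw⟩ := hex _ (fun h => hS1 ((hKpow (n - 1)).1 h))
  have eS : φ (a : Matrix (Fin n) (Fin n) F) - 1 = φ S := by
    rw [ha, map_add, map_one, add_sub_cancel_left]
  refine ⟨φ a, φ K, v, w, fun x y => ?_, ?_, ?_, ?_, ?_⟩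
  · show ((a : Matrix (Fin n) (Fin n) F) *ᵥ x) ⬝ᵥ (K *ᵥ y) = x ⬝ᵥ y
    rw [Matrix.dotProduct_mulVec, ← Matrix.mulVec_transpose, Matrix.mulVec_mulVec,
      Matrix.transpose_transpose, a.inv_mul, Matrix.one_mulVec]
  · rw [eS, ← map_pow, hSn, map_zero, LinearMap.zero_apply]
  · rw [eS, ← map_pow]; exact hv
  · rw [← map_one φ, ← map_sub, ← map_pow, (hKpow n).2 hSn, map_zero, LinearMap.zero_apply]
  · rw [← map_one φ, ← map_sub, ← map_pow]; exact hw

theorem pair_spans {d : κ → ℕ} {k k' : κ} (hne : k ≠ k') (hdd : d k' = d k)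
    {T U : Module.End F (Fin (d k) → F)} {v w : Fin (d k) → F}
    (h1 : ((T - 1) ^ d k) v = 0) (h2 : ((T - 1) ^ (d k - 1)) v ≠ 0)
    (h3 : ((U - 1) ^ d k) w = 0) (h4 : ((U - 1) ^ (d k - 1)) w ≠ 0) :
    Spans (LinearMap.prodMap T U) d ({k} ∪ {k'})
      (fun i => if i ∈ ({k} : Finset κ) then (v, 0) else (0, w)) :=
  spans_prod (v := fun _ => v) (w := fun _ => w) (by simpa using hne) (spans_singleton T d k v (by simp) h1 h2)
    (spans_singleton U d k' w (by simp [hdd]) (by rw [hdd]; exact h3) (by rw [hdd]; exact h4))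

theorem AltModel.pair {d : κ → ℕ} {k k' : κ} (hne : k ≠ k') (hdd : d k' = d k) (hk : 1 ≤ d k) :
    AltModel F d ({k} ∪ {k'}) := by
  obtain ⟨T, U, v, w, hdot, h1, h2, h3, h4⟩ := pair_data F hk
  let D : LinearMap.BilinForm F (Fin (d k) → F) := dotProductBilin F F
  have hD : ∀ x y, D x y = x ⬝ᵥ y := fun x y => rfl
  obtain ⟨B, hB⟩ : ∃ B : LinearMap.BilinForm F ((Fin (d k) → F) × (Fin (d k) → F)),
      ∀ x y, B x y = x.1 ⬝ᵥ y.2 - y.1 ⬝ᵥ x.2 :=
    ⟨D.compl₁₂ (LinearMap.fst F _ _) (LinearMap.snd F _ _) -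
      (D.compl₁₂ (LinearMap.fst F _ _) (LinearMap.snd F _ _)).flip, fun x y => rfl⟩
  refine ⟨_, inferInstance, inferInstance, inferInstance, B, LinearMap.prodMap T U, _,
    fun x => by rw [hB, sub_self], ?_, fun x y => ?_, pair_spans hne hdd h1 h2 h3 h4, ?_⟩
  · refine ⟨fun x hx => Prod.ext ?_ ?_, fun x hx => Prod.ext ?_ ?_⟩
    · exact dotProduct_eq_zero _ fun y => by simpa [hB] using hx (0, y)
    · exact dotProduct_eq_zero _ fun y => by simpa [hB, dotProduct_comm y] using hx (y, 0)
    · exact dotProduct_eq_zero _ fun y => by simpa [hB] using hx (0, y)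
    · exact dotProduct_eq_zero _ fun y => by simpa [hB, dotProduct_comm y] using hx (y, 0)
  · simp [hB, hdot]
  · rw [Finset.sum_union (by simpa using hne)]
    simp [hdd]

theorem QuadModel.pair {d : κ → ℕ} {k k' : κ} (hne : k ≠ k') (hdd : d k' = d k) (hk : 1 ≤ d k) :
    QuadModel F d ({k} ∪ {k'}) := by
  obtain ⟨T, U, v, w, hdot, h1, h2, h3, h4⟩ := pair_data F hk
  let D : LinearMap.BilinForm F (Fin (d k) → F) := dotProductBilin F F
  obtain ⟨Q, hQ⟩ : ∃ Q : QuadraticForm F ((Fin (d k) → F) × (Fin (d k) → F)),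
      ∀ x, Q x = x.1 ⬝ᵥ x.2 :=
    ⟨LinearMap.BilinMap.toQuadraticMap (D.compl₁₂ (LinearMap.fst F _ _) (LinearMap.snd F _ _)),
      fun x => rfl⟩
  have hp : ∀ x y, polarBilin Q x y = x.1 ⬝ᵥ y.2 + y.1 ⬝ᵥ x.2 := fun x y => by
    simp only [QuadraticMap.polarBilin_apply_apply, QuadraticMap.polar, hQ, Prod.fst_add,
      Prod.snd_add, add_dotProduct, dotProduct_add]
    ring
  refine ⟨_, inferInstance, inferInstance, inferInstance, Q, LinearMap.prodMap T U, _,
    ?_, fun x => ?_, pair_spans hne hdd h1 h2 h3 h4, ?_⟩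
  · refine ⟨fun x hx => Prod.ext ?_ ?_, fun x hx => Prod.ext ?_ ?_⟩
    · exact dotProduct_eq_zero _ fun y => by
        simpa [hp, -QuadraticMap.polarBilin_apply_apply] using hx (0, y)
    · exact dotProduct_eq_zero _ fun y => by
        simpa [hp, dotProduct_comm y, -QuadraticMap.polarBilin_apply_apply] using hx (y, 0)
    · exact dotProduct_eq_zero _ fun y => by
        simpa [hp, -QuadraticMap.polarBilin_apply_apply] using hx (0, y)
    · exact dotProduct_eq_zero _ fun y => by
        simpa [hp, dotProduct_comm y, -QuadraticMap.polarBilin_apply_apply] using hx (y, 0)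
  · simp [hQ, hdot]
  · rw [Finset.sum_union (by simpa using hne)]
    simp [hdd]

/-- Gluing: sizes failing `good` must pair up. -/
theorem glue (P : Finset κ → Prop) (good : ℕ → Prop) (d : κ → ℕ)
    (h0 : P ∅) (hunion : ∀ S S', Disjoint S S' → P S → P S' → P (S ∪ S'))
    (h1 : ∀ k, good (d k) → P {k}) (h2 : ∀ k k', k ≠ k' → d k' = d k → P ({k} ∪ {k'}))
    (S : Finset κ) (hS : ∀ j, ¬ good j → Even (S.filter fun k => d k = j).card) : P S := by
  induction S using Finset.strongInduction with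
  | _ S ih =>
  rcases S.eq_empty_or_nonempty with rfl | ⟨k, hk⟩
  · exact h0
  by_cases hg : good (d k)
  · have e : {k} ∪ S.erase k = S := by rw [← Finset.insert_eq, Finset.insert_erase hk]
    rw [← e]
    refine hunion _ _ (by simp) (h1 k hg) (ih _ (Finset.erase_ssubset hk) fun j hj => ?_)
    rw [Finset.filter_erase, Finset.erase_eq_of_notMem]
    · exact hS j hj
    · simp only [Finset.mem_filter, not_and]
      intro _ hjk
      exact hj (hjk ▸ hg)
  · have hk' : k ∈ S.filter fun i => d i = d k := by simp [hk]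
    obtain ⟨k', hk'2, hne⟩ := Finset.exists_mem_ne (s := S.filter fun i => d i = d k) (by
      have := Finset.card_pos.2 ⟨k, hk'⟩
      obtain ⟨c, hc⟩ := hS _ hg
      omega) k
    simp only [Finset.mem_filter] at hk'2
    have e : ({k} ∪ {k'}) ∪ ((S.erase k).erase k') = S := by
      ext x
      simp only [Finset.mem_union, Finset.mem_singleton, Finset.mem_erase]
      constructor
      · rintro ((rfl | rfl) | ⟨-, -, h⟩)
        exacts [hk, hk'2.1, h]
      · intro hx
        tauto
    rw [← e]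
    refine hunion _ _ (by simp [Finset.disjoint_left]) (h2 k k' (Ne.symm hne) hk'2.2)
      (ih _ ((Finset.erase_ssubset (Finset.mem_erase.2 ⟨hne, hk'2.1⟩)).trans (Finset.erase_ssubset hk))
        fun j hj => ?_)
    rw [Finset.filter_erase, Finset.filter_erase]
    by_cases hjk : d k = j
    · have hmem : k' ∈ (S.filter fun i => d i = j).erase k :=
        Finset.mem_erase.2 ⟨hne, by simp [hk'2.1, hk'2.2, hjk]⟩
      rw [Finset.card_erase_of_mem hmem, Finset.card_erase_of_mem (by simp [hk, hjk])]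
      obtain ⟨c, hc⟩ := hS j hj
      exact ⟨c - 1, by omega⟩
    · rw [Finset.erase_eq_of_notMem (by simp [hjk, hk'2.2]),
        Finset.erase_eq_of_notMem (by simp [hjk])]
      exact hS j hj

theorem even_count {t : ℕ} (d : Fin t → ℕ) {j : ℕ} (hj : 1 ≤ j)
    (h : Even ((∑ k, (d k - (j - 1))) + ∑ k, (d k - (j + 1)))) :
    Even (Finset.univ.filter fun k => d k = j).card := by
  rw [← Finset.sum_add_distrib, Finset.sum_congr rfl (fun k _ => show
    (d k - (j - 1)) + (d k - (j + 1)) = 2 * (d k - j) + (if d k = j then 1 else 0) by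
      split_ifs <;> omega), Finset.sum_add_distrib, ← Finset.mul_sum, Finset.sum_boole,
    Nat.cast_id] at h
  rw [Nat.even_iff] at h ⊢
  omega

end Cfsg.Agent.Lib.Similar.JordanForms
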