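import Cfsg.Agent.Lib.Similar.JordanForms
import Cfsg.Agent.Lib.Geometry.MaxIsotropic
import Cfsg.Agent.Lib.Geometry.OrthBasic
import Cfsg.Agent.Lib.Geometry.SympBasic

/-!
Jordan types in the symplectic and orthogonal groups of coordinate spaces.
-/

set_option autoImplicit false

namespace Cfsg.Agent.Lib.Similar.JordanForms

open Module
open QuadraticMap (polarBilin)
open Cfsg.Agent.Lib.SpSpec (Isom)
open Cfsg.Agent.Lib.Similar.JordanChains
open scoped Matrix

universe u

variable {F : Type u} [Field F] {t : ℕ} {d : Fin t → ℕ}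

theorem chain_transport {V W : Type*} [AddCommGroup V] [Module F V] [AddCommGroup W] [Module F W]
    {T : Module.End F V} {b : Module.Basis ((k : Fin t) × Fin (d k)) F V}
    (hb : IsChainBasis T d b) (ψ : V ≃ₗ[F] W) :
    IsChainBasis (ψ.conjAlgEquiv F T) d (b.map ψ) := by
  intro k i
  have h := congrArg ψ (hb k i)
  rw [apply_dite ψ, map_zero] at h
  simpa using h

theorem even_count_of_isom {V : Type*} [AddCommGroup V] [Module F V] [Module.Finite F V]
    {B : LinearMap.BilinForm F V} (hB : B.Nondegenerate) {g : Module.End F V} (hg : Isom B g)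
    {b : Module.Basis ((k : Fin t) × Fin (d k)) F V} (hb : IsChainBasis g d b) (j : ℕ) (hj : 1 ≤ j)
    (hs : (B.IsAlt ∧ Odd j) ∨ ((∀ x y, B x y = B y x) ∧ Even j ∧ (2 : F) ≠ 0)) :
    Even (Finset.univ.filter fun k => d k = j).card := by
  refine even_count d hj ?_
  have h := even_finrank_range_add hB hg (j - 1) (by
    rcases hs with ⟨hA, h⟩ | ⟨hS, h, h2⟩
    · exact Or.inl ⟨hA, Nat.Odd.sub_odd h odd_one⟩
    · exact Or.inr ⟨hS, Nat.Even.sub_odd hj h odd_one, h2⟩)
    (fun W γ hγ => Cfsg.Agent.Lib.Geometry.even_finrank_sub_ker γ hγ)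
  rwa [finrank_range_pow hb, finrank_range_pow hb, show j - 1 + 2 = j + 1 by omega] at h

theorem exists_symp_model {m : ℕ} (h : AltModel F d Finset.univ) (hsum : ∑ k, d k = 2 * m) :
    ∃ A : Matrix.symplecticGroup (Fin m) F,
      ∃ b, IsChainBasis (Matrix.toLin' (A : Matrix (Fin m ⊕ Fin m) (Fin m ⊕ Fin m) F)) d b := by
  classical
  obtain ⟨V, _, _, _, B, T, v, hA, hN, hI, hv, hdim⟩ := h
  obtain ⟨b, hb⟩ := exists_chainBasis hv hdim
  obtain ⟨m', k, β, hef, hee, hff, hrad⟩ := Cfsg.Agent.Lib.Geometry.exists_sympBasis B hA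
  have hk : k = 0 := by
    rcases Nat.eq_zero_or_pos k with h0 | h0
    · exact h0
    · exact absurd (hN.1 _ (hrad ⟨0, h0⟩)) (β.ne_zero _)
  subst hk
  obtain rfl : m' = m := by
    have := Module.finrank_eq_card_basis β
    rw [hdim, hsum, Fintype.card_sum, Fintype.card_sum, Fintype.card_fin, Fintype.card_fin] at this
    omega
  let σ : ((Fin m' ⊕ Fin m') ⊕ Fin 0) ≃ (Fin m' ⊕ Fin m') :=
    (Equiv.sumEmpty _ _).trans (Equiv.sumComm _ _)
  let ψ : V ≃ₗ[F] (Fin m' ⊕ Fin m' → F) := (β.reindex σ).equivFun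
  have hψ : ∀ i, ψ (β i) = Pi.single (σ i) 1 := fun i => by
    funext r
    simp [ψ, Pi.single_apply, Finsupp.single_apply, Equiv.symm_apply_eq, eq_comm]
  have hform : ∀ x y, Cfsg.sympForm m' F (ψ x) (ψ y) = B x y := by
    have key : (Cfsg.Agent.Lib.Geometry.sympBilin m' F).compl₁₂ ψ.toLinearMap ψ.toLinearMap = B := by
      refine LinearMap.ext_basis β β fun i j => ?_
      show Cfsg.Agent.Lib.Geometry.sympBilin m' F (ψ (β i)) (ψ (β j)) = _
      rw [hψ, hψ, Cfsg.Agent.Lib.Geometry.sympBilin_apply, Cfsg.Agent.Lib.Geometry.sympForm_eq_sum]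
      rcases i with (i | i) | i
      · rcases j with (j | j) | j
        · simp [σ, hee, Pi.single_apply]
        · simp [σ, hef, Pi.single_apply, eq_comm]
        · exact j.elim0
      · rcases j with (j | j) | j
        · have : B (β (Sum.inl (Sum.inr i))) (β (Sum.inl (Sum.inl j))) = -(if j = i then 1 else 0) := by
            rw [← hA.neg_eq, hef]
          simp [σ, this, Pi.single_apply, eq_comm]
        · simp [σ, hff, Pi.single_apply]
        · exact j.elim0
      · exact i.elim0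
    intro x y
    rw [← key]
    exact (Cfsg.Agent.Lib.Geometry.sympBilin_apply _ _).symm
  have hb' := chain_transport hb ψ
  let M : Matrix (Fin m' ⊕ Fin m') (Fin m' ⊕ Fin m') F :=
    LinearMap.toMatrix' (ψ.conjAlgEquiv F T)
  have hM : ∀ w, M *ᵥ w = ψ (T (ψ.symm w)) := fun w => LinearMap.toMatrix'_mulVec _ w
  refine ⟨⟨M, Cfsg.Agent.Lib.Geometry.mem_symplecticGroup_iff_form.2 fun x y => ?_⟩, b.map ψ, ?_⟩
  · rw [hM, hM, hform, hI, ← hform, ψ.apply_symm_apply, ψ.apply_symm_apply]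
  · simpa [M] using hb'

theorem exists_orth_model {n : ℕ} (h : QuadModel F d Finset.univ) (hsum : ∑ k, d k = n) :
    ∃ Q : QuadraticForm F (Fin n → F), (polarBilin Q).Nondegenerate ∧
      ∃ A : ↥(Cfsg.isometryGroup F ⇑Q), ∃ b,
        IsChainBasis (Matrix.toLin' ((A : Matrix.GeneralLinearGroup (Fin n) F) :
          Matrix (Fin n) (Fin n) F)) d b := by
  classical
  obtain ⟨V, _, _, _, Q, T, v, hN, hI, hv, hdim⟩ := h
  obtain ⟨b, hb⟩ := exists_chainBasis hv hdim
  let ψ : V ≃ₗ[F] (Fin n → F) := (Module.finBasisOfFinrankEq F V (hdim.trans hsum)).equivFun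
  let Q' : QuadraticForm F (Fin n → F) := Q.comp ψ.symm.toLinearMap
  have hQ' : ∀ x, Q' x = Q (ψ.symm x) := fun x => rfl
  have hp : ∀ x y, polarBilin Q' x y = polarBilin Q (ψ.symm x) (ψ.symm y) := fun x y => by
    simp only [QuadraticMap.polarBilin_apply_apply, QuadraticMap.polar, hQ', map_add]
  let M : Matrix (Fin n) (Fin n) F := LinearMap.toMatrix' (ψ.conjAlgEquiv F T)
  have hM : ∀ w, M *ᵥ w = ψ (T (ψ.symm w)) := fun w => LinearMap.toMatrix'_mulVec _ w
  have hinj : Function.Injective T := by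
    refine (injective_iff_map_eq_zero T).2 fun x hx => hN.1 x fun y => ?_
    have h1 := hI (x + y)
    rw [map_add, hx, zero_add, hI] at h1
    have h2 := hI x
    rw [hx, QuadraticMap.map_zero] at h2
    simp only [QuadraticMap.polarBilin_apply_apply, QuadraticMap.polar, ← h1, ← h2, sub_zero, sub_self]
  have hu : IsUnit M := Matrix.mulVec_injective_iff_isUnit.1 fun x y h => by
    rw [hM, hM] at h
    exact ψ.symm.injective (hinj (ψ.injective h))
  refine ⟨Q', ⟨fun x hx => ψ.symm.map_eq_zero_iff.1 (hN.1 _ fun y => ?_),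
      fun x hx => ψ.symm.map_eq_zero_iff.1 (hN.2 _ fun y => ?_)⟩,
    ⟨hu.unit, Cfsg.Agent.Lib.Geometry.mem_isometryGroup_iff.2 fun x => ?_⟩, b.map ψ, ?_⟩
  · simpa [hp, -QuadraticMap.polarBilin_apply_apply] using hx (ψ y)
  · simpa [hp, -QuadraticMap.polarBilin_apply_apply] using hx (ψ y)
  · rw [IsUnit.unit_spec, hM, hQ', hQ', ψ.symm_apply_apply, hI]
  · simpa [M] using chain_transport hb ψ

theorem isom_polar {n : ℕ} {Q : QuadraticForm F (Fin n → F)} (A : ↥(Cfsg.isometryGroup F ⇑Q)) :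
    Isom (polarBilin Q) (Matrix.toLin' ((A : Matrix.GeneralLinearGroup (Fin n) F) :
      Matrix (Fin n) (Fin n) F)) := fun x y => by
  have h := Cfsg.Agent.Lib.Geometry.mem_isometryGroup_iff.1 A.2
  simp only [QuadraticMap.polarBilin_apply_apply, QuadraticMap.polar, Matrix.toLin'_apply, ← map_add,
    ← Matrix.mulVec_add, h]

end Cfsg.Agent.Lib.Similar.JordanForms
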