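import Mathlib
import Cfsg.Agent.Lib.Similar.SUFibre
import Cfsg.Agent.Lib.Similar.GL

/-!
Classes of unitary elements killed by a squarefree polynomial fixed by the conjugate reciprocal.
-/

set_option autoImplicit false

namespace Cfsg.Agent.Lib.Similar

open Polynomial
open Cfsg.Agent.Lib.Classical (conjHom conjHom_conjHom)
open Cfsg.Agent.Lib.FamCount (mem_fam)

variable {K : Type*} [Field K] [Fintype K] [DecidableEq K] {q n : ℕ}

/-- Functions with bounded sum. -/
theorem card_bounded_sum (α : Type*) [Fintype α] (N : ℕ) :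
    Nat.card {f : α → ℕ // ∑ o, f o ≤ N} = Nat.choose (N + Fintype.card α) (Fintype.card α) := by
  classical
  let e : {f : α → ℕ // ∑ o, f o ≤ N} ≃ {P : Option α → ℕ // ∑ o, P o = N} :=
    { toFun := fun f => ⟨fun o => o.elim (N - ∑ o, f.1 o) f.1, by
        rw [Fintype.sum_option]
        show N - ∑ o, f.1 o + ∑ o, f.1 o = N
        have := f.2
        omega⟩
      invFun := fun P => ⟨fun o => P.1 (some o), by
        have := P.2
        rw [Fintype.sum_option] at this
        show ∑ o, P.1 (some o) ≤ N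
        omega⟩
      left_inv := fun f => rfl
      right_inv := fun P => by
        refine Subtype.ext (funext fun o => ?_)
        cases o with
        | none =>
          have := P.2
          rw [Fintype.sum_option] at this
          show N - ∑ o, P.1 (some o) = P.1 none
          omega
        | some o => rfl }
  rw [Nat.card_congr (e.trans (Sym.equivNatSumOfFintype (Option α) N).symm), Nat.card_eq_fintype_card,
    Sym.card_sym_eq_choose, Fintype.card_option, show Fintype.card α + 1 + N - 1 = N + Fintype.card α by omega]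
  exact Nat.choose_symm_add

theorem starP_X_sub_one (σ : K →+* K) : starP σ (X - C 1 : K[X]) = X - C 1 := by
  have h0 : (X - C 1 : K[X]).coeff 0 ≠ 0 := by simp
  refine Eq.trans ((monic_starP h0).eq_X_add_C (by rw [natDegree_starP h0, natDegree_X_sub_C])) ?_
  rw [coeff_zero_starP (monic_X_sub_C _)]
  simp [sub_eq_add_neg]

theorem card_classes_orbits (hK : Fintype.card K = q ^ 2) {r b c : ℕ} (hr : 1 ≤ r) (J : Finset K[X])
    (hsq : Squarefree (X ^ r - 1 : K[X]))
    (hJ : ∀ g ∈ J, g.Monic ∧ Irreducible g ∧ g ∣ X ^ r - 1 ∧ g.coeff 0 ≠ 0 ∧ g.natDegree = b ∧ g ≠ X - C 1)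
    (hall : ∀ g : K[X], g.Monic → Irreducible g → g ∣ X ^ r - 1 → g = X - C 1 ∨ g ∈ J)
    (hst : ∀ g ∈ J, starP (conjHom hK) g ∈ J)
    (hc : ∀ g ∈ J, ({g, starP (conjHom hK) g} : Finset K[X]).card = c) (hb : 1 ≤ b) (hc1 : 1 ≤ c) :
    ∃ t, t * c = J.card ∧
      Nat.card {C : ConjClasses (Cfsg.GU n K q) // ∃ g : Cfsg.GU n K q, ConjClasses.mk g = C ∧ g ^ r = 1} =
        Nat.choose (n / (c * b) + t) t := by
  classical
  obtain ⟨σ, hσ⟩ : ∃ σ, σ = conjHom hK := ⟨_, rfl⟩
  rw [← hσ] at hst hc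
  have hσσ : ∀ x, σ (σ x) = x := hσ ▸ conjHom_conjHom hK
  have hinv : ∀ g ∈ J, starP σ (starP σ g) = g := fun g hg => starP_starP hσσ (hJ g hg).1 (hJ g hg).2.2.2.1
  obtain ⟨orb, horb⟩ : ∃ orb : K[X] → Finset K[X], ∀ g, orb g = {g, starP σ g} := ⟨_, fun _ => rfl⟩
  let J' := J.image orb
  let π : J → J' := fun g => ⟨orb g.1, Finset.mem_image_of_mem _ g.2⟩
  let e : J ≃ J :=
    { toFun := fun g => ⟨starP σ g.1, hst g.1 g.2⟩
      invFun := fun g => ⟨starP σ g.1, hst g.1 g.2⟩
      left_inv := fun g => Subtype.ext (hinv g.1 g.2)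
      right_inv := fun g => Subtype.ext (hinv g.1 g.2) }
  have hπe : ∀ g, π (e g) = π g := fun g => Subtype.ext (by
    show orb (starP σ g.1) = orb g.1
    rw [horb, horb, hinv g.1 g.2, Finset.pair_comm])
  have hfib : ∀ o : J', (Finset.univ.filter fun g => π g = o).card = c := by
    rintro ⟨o, ho⟩
    obtain ⟨g0, hg0, rfl⟩ := Finset.mem_image.1 ho
    rw [← hc g0 hg0, ← horb, ← Finset.card_map ⟨Subtype.val, Subtype.val_injective⟩]
    refine congrArg _ (Finset.ext fun g => ?_)
    simp only [Finset.mem_map, Finset.mem_filter, Finset.mem_univ, true_and, Function.Embedding.coeFn_mk]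
    constructor
    · rintro ⟨⟨h, hh⟩, he, rfl⟩
      have he' : orb h = orb g0 := congrArg Subtype.val he
      rw [← he', horb]
      exact Finset.mem_insert_self _ _
    · intro hg
      have hgJ : g ∈ J := by
        rw [horb, Finset.mem_insert, Finset.mem_singleton] at hg
        rcases hg with rfl | rfl
        exacts [hg0, hst _ hg0]
      refine ⟨⟨g, hgJ⟩, Subtype.ext ?_, rfl⟩
      show orb g = orb g0
      rw [horb, Finset.mem_insert, Finset.mem_singleton] at hg
      rcases hg with rfl | rfl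
      · rfl
      · rw [horb, horb, hinv g0 hg0, Finset.pair_comm]
  have hsum : ∀ f : J' → ℕ, ∑ g, f (π g) = c * ∑ o, f o := by
    intro f
    rw [← Finset.sum_fiberwise Finset.univ π, Finset.mul_sum]
    refine Finset.sum_congr rfl fun o _ => ?_
    rw [Finset.sum_congr rfl fun g hg => congrArg f (Finset.mem_filter.1 hg).2, Finset.sum_const, hfib, smul_eq_mul]
  refine ⟨J'.card, ?_, ?_⟩
  · have := hsum fun _ => 1
    simp only [Finset.sum_const, Finset.card_univ, Fintype.card_coe, smul_eq_mul, mul_one] at this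
    rw [this, mul_comm]
  rw [← Fintype.card_coe J', ← card_bounded_sum J']
  let B : (J' → ℕ) → Multiset (K[X] × ℕ) := fun f =>
    (Finset.univ : Finset J).val.bind fun g => Multiset.replicate (f (π g)) (g.1, 1)
  let M : (J' → ℕ) → Multiset (K[X] × ℕ) := fun f => B f + Multiset.replicate (n - c * b * ∑ o, f o) (X - C 1, 1)
  have hBw : ∀ f, ((B f).map fun y => y.2 * y.1.natDegree).sum = c * b * ∑ o, f o := by
    intro f
    simp only [B, Multiset.map_bind, Multiset.sum_bind, Multiset.map_replicate, Multiset.sum_replicate, smul_eq_mul, one_mul]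
    rw [← Finset.sum_eq_multiset_sum, Finset.sum_congr rfl fun g _ => (by rw [(hJ g.1 g.2).2.2.2.2.1] :
      f (π g) * g.1.natDegree = f (π g) * b), ← Finset.sum_mul, hsum f]
    ring
  have hBmem : ∀ f, ∀ y ∈ B f, y.1 ∈ J ∧ y.2 = 1 := by
    intro f y hy
    obtain ⟨g, -, hg⟩ := Multiset.mem_bind.1 hy
    rw [Multiset.eq_of_mem_replicate hg]
    exact ⟨g.2, rfl⟩
  have hMmem : ∀ f, ∀ y ∈ M f, y.2 = 1 ∧ y.1.Monic ∧ Irreducible y.1 ∧ y.1.coeff 0 ≠ 0 ∧ y.1 ∣ X ^ r - 1 := by
    intro f y hy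
    rcases Multiset.mem_add.1 hy with hy | hy
    · obtain ⟨h1, h2⟩ := hBmem f y hy
      exact ⟨h2, (hJ _ h1).1, (hJ _ h1).2.1, (hJ _ h1).2.2.2.1, (hJ _ h1).2.2.1⟩
    · rw [Multiset.eq_of_mem_replicate hy]
      refine ⟨rfl, monic_X_sub_C _, irreducible_X_sub_C _, by simp, ?_⟩
      rw [C_1]
      exact sub_one_dvd_pow_sub_one X r
  have hcount : ∀ f, ∀ g : J, (B f).count (g.1, 1) = f (π g) := by
    intro f g
    simp only [B, Multiset.count_bind, Multiset.count_replicate]
    rw [← Finset.sum_eq_multiset_sum, Finset.sum_eq_single g]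
    · rw [if_pos rfl]
    · intro h _ hne
      rw [if_neg]
      intro he
      exact hne (Subtype.ext (congrArg Prod.fst he))
    · simp
  have hreal : ∀ f : {f : J' → ℕ // ∑ o, f o ≤ n / (c * b)}, ∃ x : Cfsg.GU n K q,
      matInv ((x : GL (Fin n) K) : Matrix (Fin n) (Fin n) K) = M f.1 ∧ x ^ r = 1 := by
    rintro ⟨f, hf⟩
    have hle : c * b * ∑ o, f o ≤ n := (Nat.mul_le_mul_left _ hf).trans (Nat.mul_div_le _ _)
    have hw : ((M f).map fun y => y.2 * y.1.natDegree).sum = n := by
      simp only [M, Multiset.map_add, Multiset.sum_add, hBw, Multiset.map_replicate, Multiset.sum_replicate, natDegree_X_sub_C,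
        smul_eq_mul, mul_one]
      omega
    have hfix : starM σ (M f) = M f := by
      simp only [M, starM, Multiset.map_add, Multiset.map_replicate, starP_X_sub_one]
      congr 1
      simp only [B, Multiset.map_bind, Multiset.map_replicate]
      conv_rhs => rw [← Finset.map_univ_equiv e, Finset.map_val, Multiset.bind_map]
      refine Multiset.bind_congr fun g _ => ?_
      show Multiset.replicate (f (π g)) (starP σ g.1, 1) = Multiset.replicate (f (π (e g))) (starP σ g.1, 1)
      rw [hπe]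
    obtain ⟨x, hx⟩ := exists_GU_matInv (n := n) hK (m := M f) (Finset.mem_filter.2 ⟨mem_fam.2 ⟨fun y hy => by
      obtain ⟨h1, h2, h3, h4, -⟩ := hMmem f y hy
      exact ⟨h2, h3, h4, h1.ge, h1.ge⟩, hw⟩, hσ ▸ hfix⟩)
    refine ⟨x, hx, ?_⟩
    have h := (aeval_eq_zero_iff_matInv ((x : GL (Fin n) K) : Matrix (Fin n) (Fin n) K) (X ^ r - 1)).2 (by
      rw [hx]
      intro y hy
      obtain ⟨h1, -, -, -, h5⟩ := hMmem f y hy
      rw [h1, pow_one]
      exact h5)
    rw [map_sub, map_one, map_pow, aeval_X, sub_eq_zero, ← map_pow, ← Units.val_pow_eq_pow_val] at h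
    refine Subtype.ext (Units.ext ((Matrix.toLinAlgEquiv' (R := K) (n := Fin n)).injective ?_))
    rw [OneMemClass.coe_one, Units.val_one, map_one, Subgroup.coe_pow]
    exact h
  choose ξ hξ hξr using hreal
  refine (Nat.card_congr (Equiv.ofBijective (fun f => (⟨ConjClasses.mk (ξ f), ξ f, rfl, hξr f⟩ :
    {C : ConjClasses (Cfsg.GU n K q) // ∃ g : Cfsg.GU n K q, ConjClasses.mk g = C ∧ g ^ r = 1})) ⟨?_, ?_⟩)).symm
  · intro f f' h
    have h1 := (Cfsg.GU n K q).subtype.map_isConj (ConjClasses.mk_eq_mk_iff_isConj.1 (congrArg Subtype.val h))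
    have h2 := congrArg classInv (ConjClasses.mk_eq_mk_iff_isConj.2 h1)
    rw [classInv_mk, classInv_mk, Subgroup.subtype_apply, Subgroup.subtype_apply, hξ, hξ] at h2
    refine Subtype.ext (funext fun o => ?_)
    obtain ⟨g, hg, hgo⟩ := Finset.mem_image.1 o.2
    have ho : π ⟨g, hg⟩ = o := Subtype.ext hgo
    have h3 := congrArg (Multiset.count ((g, 1) : K[X] × ℕ)) h2
    have hne : ((X - C 1, 1) : K[X] × ℕ) ≠ (g, 1) := fun he => (hJ g hg).2.2.2.2.2 (congrArg Prod.fst he).symm
    simp only [M, Multiset.count_add, Multiset.count_replicate, if_neg hne, add_zero] at h3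
    have e1 := hcount f.1 ⟨g, hg⟩
    have e2 := hcount f'.1 ⟨g, hg⟩
    rw [ho] at e1 e2
    exact e1.symm.trans (h3.trans e2)
  · rintro ⟨C, x, rfl, hx⟩
    obtain ⟨m, hm⟩ : ∃ m, m = matInv ((x : GL (Fin n) K) : Matrix (Fin n) (Fin n) K) := ⟨_, rfl⟩
    obtain ⟨hs, hsw⟩ := matInv_spec (x : GL (Fin n) K)
    rw [← hm] at hs hsw
    rw [Fintype.card_fin] at hsw
    have hfix : starM σ m = m := hσ ▸ hm ▸ (Finset.mem_filter.1 (matInv_GU hK x)).2
    have hy : ∀ y ∈ m, y.2 = 1 ∧ (y.1 = X - C 1 ∨ y.1 ∈ J) := by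
      intro y hy
      have hd := (aeval_eq_zero_iff_matInv ((x : GL (Fin n) K) : Matrix (Fin n) (Fin n) K) (X ^ r - 1)).1 (by
        rw [map_sub, map_one, map_pow, aeval_X, ← map_pow, ← Units.val_pow_eq_pow_val, ← Subgroup.coe_pow, hx]
        simp) y (hm ▸ hy)
      obtain ⟨h1, h2, -, h4⟩ := hs y hy
      have he : y.2 = 1 := by
        by_contra hne
        refine h2.not_isUnit (hsq _ (dvd_trans ?_ hd))
        rw [← pow_two]
        exact pow_dvd_pow _ (by omega)
      rw [he, pow_one] at hd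
      exact ⟨he, hall _ h1 h2 hd⟩
    have hcinv : ∀ g ∈ J, m.count (starP σ g, 1) = m.count (g, 1) := by
      intro g hg
      conv_lhs => rw [← hfix]
      rw [starM]
      by_cases hgm : ((g, 1) : K[X] × ℕ) ∈ m
      · have hinj : Set.InjOn (fun z : K[X] × ℕ => ((starP σ z.1, z.2) : K[X] × ℕ)) {x | x ∈ m} := by
          intro a ha b hb hab
          obtain ⟨h1, h2⟩ := Prod.ext_iff.1 hab
          refine Prod.ext ?_ h2
          rw [← starP_starP hσσ (hs a ha).1 (hs a ha).2.2.1, ← starP_starP hσσ (hs b hb).1 (hs b hb).2.2.1]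
          exact congrArg (starP σ) h1
        have h := Multiset.count_map_eq_count _ m hinj ((g, 1) : K[X] × ℕ) hgm
        simp only at h
        convert h using 2
      · rw [Multiset.count_eq_zero_of_notMem hgm, Multiset.count_eq_zero_of_notMem]
        intro h
        obtain ⟨a, ha, hab⟩ := Multiset.mem_map.1 h
        obtain ⟨h1, h2⟩ := Prod.ext_iff.1 hab
        refine hgm ?_
        simp only at h1 h2
        rw [← hinv g hg, ← h1, starP_starP hσσ (hs a ha).1 (hs a ha).2.2.1, ← h2]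
        exact ha
    have hpick : ∀ o : J', ∃ g : J, π g = o := fun o => by
      obtain ⟨g, hg, hgo⟩ := Finset.mem_image.1 o.2
      exact ⟨⟨g, hg⟩, Subtype.ext hgo⟩
    choose pick hpick using hpick
    obtain ⟨f, hf⟩ : ∃ f : J' → ℕ, ∀ o, f o = m.count ((pick o).1, 1) := ⟨_, fun _ => rfl⟩
    have hfc : ∀ g : J, f (π g) = m.count (g.1, 1) := by
      intro g
      rw [hf]
      have h : orb (pick (π g)).1 = orb g.1 := congrArg Subtype.val (hpick (π g))
      have h2 : (pick (π g)).1 ∈ orb g.1 := h ▸ (horb (pick (π g)).1).symm ▸ Finset.mem_insert_self _ _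
      rw [horb, Finset.mem_insert, Finset.mem_singleton] at h2
      rcases h2 with h2 | h2
      · rw [h2]
      · rw [h2, hcinv g.1 g.2]
    obtain ⟨k, hk⟩ : ∃ k, k = m.count ((X - C 1, 1) : K[X] × ℕ) := ⟨_, rfl⟩
    have hdec : m = B f + Multiset.replicate k (X - C 1, 1) := by
      refine Multiset.ext.2 fun z => ?_
      rw [Multiset.count_add, Multiset.count_replicate]
      by_cases hz : z.2 = 1 ∧ z.1 ∈ J
      · obtain ⟨h1, h2⟩ := hz
        have e : z = (z.1, 1) := Prod.ext rfl h1
        rw [e, hcount f ⟨z.1, h2⟩, hfc, if_neg, add_zero]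
        exact fun he => (hJ _ h2).2.2.2.2.2 (congrArg Prod.fst he).symm
      · rw [Multiset.count_eq_zero_of_notMem (s := B f) (fun h => hz ⟨(hBmem f z h).2, (hBmem f z h).1⟩), zero_add]
        split_ifs with he
        · rw [← he, hk]
        · refine Multiset.count_eq_zero_of_notMem fun h => ?_
          obtain ⟨h1, h2⟩ := hy z h
          rcases h2 with h2 | h2
          · exact he (Prod.ext h2.symm h1.symm)
          · exact hz ⟨h1, h2⟩
    have hw : c * b * ∑ o, f o + k = n := by
      rw [← hsw, hdec, Multiset.map_add, Multiset.sum_add, hBw, Multiset.map_replicate, Multiset.sum_replicate,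
        natDegree_X_sub_C]
      simp
    have hle : ∑ o, f o ≤ n / (c * b) := by
      rw [Nat.le_div_iff_mul_le (Nat.mul_pos hc1 hb), mul_comm]
      omega
    refine ⟨⟨f, hle⟩, Subtype.ext ?_⟩
    show ConjClasses.mk (ξ ⟨f, hle⟩) = ConjClasses.mk x
    refine ConjClasses.mk_eq_mk_iff_isConj.2 ((isConj_GU_iff hK _ x).2 (ConjClasses.mk_eq_mk_iff_isConj.1 (classInv_injective ?_)))
    rw [classInv_mk, classInv_mk, hξ, ← hm, hdec]
    show B f + Multiset.replicate (n - c * b * ∑ o, f o) _ = _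
    rw [show n - c * b * ∑ o, f o = k by omega]

end Cfsg.Agent.Lib.Similar
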