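import Mathlib
import Cfsg.Agent.Lib.Similar.OrbitCount

/-!
Counting self-reciprocal families of irreducible polynomials with a common degree.
-/

set_option autoImplicit false

namespace Cfsg.Agent.Lib.Similar

open Polynomial

variable {K : Type*} [Field K] [DecidableEq K]

/-- Self-reciprocal families of weight `N` over `J` and `X - 1`. -/
abbrev SelfFam (σ : K →+* K) (J : Finset K[X]) (N : ℕ) : Type _ :=
  {s : Multiset K[X] // (∀ g ∈ s, g = X - C 1 ∨ g ∈ J) ∧ s.map (starP σ) = s ∧ (s.map natDegree).sum = N}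

omit [DecidableEq K] in
theorem starP_X_sub_C_one (σ : K →+* K) : starP σ (X - C 1 : K[X]) = X - C 1 := by
  have h0 : (X - C 1 : K[X]).coeff 0 ≠ 0 := by simp
  refine Eq.trans ((monic_starP h0).eq_X_add_C (by rw [natDegree_starP h0, natDegree_X_sub_C])) ?_
  rw [coeff_zero_starP (monic_X_sub_C _)]
  simp [sub_eq_add_neg]

theorem card_selfFam (σ : K →+* K) (hσσ : ∀ x, σ (σ x) = x) {b c : ℕ} (J : Finset K[X]) (N : ℕ)
    (hJ : ∀ g ∈ J, g.Monic ∧ g.coeff 0 ≠ 0 ∧ g.natDegree = b ∧ g ≠ X - C 1)
    (hst : ∀ g ∈ J, starP σ g ∈ J)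
    (hc : ∀ g ∈ J, ({g, starP σ g} : Finset K[X]).card = c) (hb : 1 ≤ b) (hc1 : 1 ≤ c) :
    ∃ t, t * c = J.card ∧ Nat.card (SelfFam σ J N) = Nat.choose (N / (c * b) + t) t := by
  classical
  have hinv : ∀ g ∈ J, starP σ (starP σ g) = g := fun g hg => starP_starP hσσ (hJ g hg).1 (hJ g hg).2.1
  obtain ⟨orb, horb⟩ : ∃ orb : K[X] → Finset K[X], ∀ g, orb g = {g, starP σ g} := ⟨_, fun _ => rfl⟩
  let J' := J.image orb
  let π : J → J' := fun g => ⟨orb g.1, Finset.mem_image_of_mem _ g.2⟩
  let e : J ≃ J :=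
    { toFun := fun g => ⟨starP σ g.1, hst g.1 g.2⟩
      invFun := fun g => ⟨starP σ g.1, hst g.1 g.2⟩
      left_inv := fun g => Subtype.ext (hinv g.1 g.2)
      right_inv := fun g => Subtype.ext (hinv g.1 g.2) }
  have hπe : ∀ g, π (e g) = π g := fun g => Subtype.ext (by
    show orb (starP σ g.1) = orb g.1
    rw [horb, horb, hinv g.1 g.2, Finset.pair_comm])
  have hfib : ∀ o : J', (Finset.univ.filter fun g => π g = o).card = c := by
    rintro ⟨o, ho⟩
    obtain ⟨g0, hg0, rfl⟩ := Finset.mem_image.1 ho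
    rw [← hc g0 hg0, ← horb, ← Finset.card_map ⟨Subtype.val, Subtype.val_injective⟩]
    refine congrArg _ (Finset.ext fun g => ?_)
    simp only [Finset.mem_map, Finset.mem_filter, Finset.mem_univ, true_and, Function.Embedding.coeFn_mk]
    constructor
    · rintro ⟨⟨h, hh⟩, he, rfl⟩
      have he' : orb h = orb g0 := congrArg Subtype.val he
      rw [← he', horb]
      exact Finset.mem_insert_self _ _
    · intro hg
      have hgJ : g ∈ J := by
        rw [horb, Finset.mem_insert, Finset.mem_singleton] at hg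
        rcases hg with rfl | rfl
        exacts [hg0, hst _ hg0]
      refine ⟨⟨g, hgJ⟩, Subtype.ext ?_, rfl⟩
      show orb g = orb g0
      rw [horb, Finset.mem_insert, Finset.mem_singleton] at hg
      rcases hg with rfl | rfl
      · rfl
      · rw [horb, horb, hinv g0 hg0, Finset.pair_comm]
  have hsum : ∀ f : J' → ℕ, ∑ g, f (π g) = c * ∑ o, f o := by
    intro f
    rw [← Finset.sum_fiberwise Finset.univ π, Finset.mul_sum]
    refine Finset.sum_congr rfl fun o _ => ?_
    rw [Finset.sum_congr rfl fun g hg => congrArg f (Finset.mem_filter.1 hg).2, Finset.sum_const, hfib, smul_eq_mul]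
  refine ⟨J'.card, ?_, ?_⟩
  · have := hsum fun _ => 1
    simp only [Finset.sum_const, Finset.card_univ, Fintype.card_coe, smul_eq_mul, mul_one] at this
    rw [this, mul_comm]
  rw [← Fintype.card_coe J', ← card_bounded_sum J']
  let B : (J' → ℕ) → Multiset K[X] := fun f =>
    (Finset.univ : Finset J).val.bind fun g => Multiset.replicate (f (π g)) g.1
  let M : (J' → ℕ) → Multiset K[X] := fun f => B f + Multiset.replicate (N - c * b * ∑ o, f o) (X - C 1)
  have hBw : ∀ f, ((B f).map natDegree).sum = c * b * ∑ o, f o := by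
    intro f
    simp only [B, Multiset.map_bind, Multiset.sum_bind, Multiset.map_replicate, Multiset.sum_replicate, smul_eq_mul]
    rw [← Finset.sum_eq_multiset_sum, Finset.sum_congr rfl fun g _ => (by rw [(hJ g.1 g.2).2.2.1] :
      f (π g) * g.1.natDegree = f (π g) * b), ← Finset.sum_mul, hsum f]
    ring
  have hBmem : ∀ f, ∀ y ∈ B f, y ∈ J := by
    intro f y hy
    obtain ⟨g, -, hg⟩ := Multiset.mem_bind.1 hy
    rw [Multiset.eq_of_mem_replicate hg]
    exact g.2
  have hMmem : ∀ f, ∀ y ∈ M f, y = X - C 1 ∨ y ∈ J := by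
    intro f y hy
    rcases Multiset.mem_add.1 hy with hy | hy
    · exact .inr (hBmem f y hy)
    · exact .inl (Multiset.eq_of_mem_replicate hy)
  have hcount : ∀ f, ∀ g : J, (B f).count g.1 = f (π g) := by
    intro f g
    simp only [B, Multiset.count_bind, Multiset.count_replicate]
    rw [← Finset.sum_eq_multiset_sum, Finset.sum_eq_single g]
    · rw [if_pos rfl]
    · intro h _ hne
      rw [if_neg]
      intro he
      exact hne (Subtype.ext he)
    · simp
  have hMfix : ∀ f, (M f).map (starP σ) = M f := by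
    intro f
    simp only [M, Multiset.map_add, Multiset.map_replicate, starP_X_sub_C_one σ]
    congr 1
    simp only [B, Multiset.map_bind, Multiset.map_replicate]
    conv_rhs => rw [← Finset.map_univ_equiv e, Finset.map_val, Multiset.bind_map]
    refine Multiset.bind_congr fun g _ => ?_
    show Multiset.replicate (f (π g)) (starP σ g.1) = Multiset.replicate (f (π (e g))) (starP σ g.1)
    rw [hπe]
  have hw : ∀ f : {f : J' → ℕ // ∑ o, f o ≤ N / (c * b)}, ((M f.1).map natDegree).sum = N := by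
    rintro ⟨f, hf⟩
    have hle : c * b * ∑ o, f o ≤ N := (Nat.mul_le_mul_left _ hf).trans (Nat.mul_div_le _ _)
    simp only [M, Multiset.map_add, Multiset.sum_add, hBw, Multiset.map_replicate, Multiset.sum_replicate, natDegree_X_sub_C,
      smul_eq_mul, mul_one]
    omega
  obtain ⟨Φ, hΦ⟩ : ∃ Φ : {f : J' → ℕ // ∑ o, f o ≤ N / (c * b)} → SelfFam σ J N, ∀ f, (Φ f).1 = M f.1 :=
    ⟨fun f => ⟨M f.1, hMmem f.1, hMfix f.1, hw f⟩, fun f => rfl⟩
  suffices hbij : Function.Bijective Φ from (Nat.card_eq_of_bijective Φ hbij).symm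
  refine ⟨?_, ?_⟩
  · intro f f' h
    refine Subtype.ext (funext fun o => ?_)
    obtain ⟨g, hg, hgo⟩ := Finset.mem_image.1 o.2
    have ho : π ⟨g, hg⟩ = o := Subtype.ext hgo
    have h3 := congrArg (fun s : SelfFam σ J N => Multiset.count g s.1) h
    have hne : (X - C 1 : K[X]) ≠ g := fun he => (hJ g hg).2.2.2 he.symm
    simp only [hΦ, M, Multiset.count_add, Multiset.count_replicate, if_neg hne, add_zero] at h3
    have e1 := hcount f.1 ⟨g, hg⟩
    have e2 := hcount f'.1 ⟨g, hg⟩
    rw [ho] at e1 e2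
    exact e1.symm.trans (h3.trans e2)
  · rintro ⟨m, hy, hfix, hsw⟩
    have hs : ∀ y ∈ m, y.Monic ∧ y.coeff 0 ≠ 0 := fun y h => (hy y h).elim
      (fun e => by rw [e]; exact ⟨monic_X_sub_C _, by simp⟩) fun e => ⟨(hJ y e).1, (hJ y e).2.1⟩
    have hcinv : ∀ g ∈ J, m.count (starP σ g) = m.count g := by
      intro g hg
      conv_lhs => rw [← hfix]
      by_cases hgm : g ∈ m
      · have hinj : Set.InjOn (starP σ) {x | x ∈ m} := by
          intro a ha b hb hab
          rw [← starP_starP hσσ (hs a ha).1 (hs a ha).2, ← starP_starP hσσ (hs b hb).1 (hs b hb).2, hab]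
        exact Multiset.count_map_eq_count _ m hinj g hgm
      · rw [Multiset.count_eq_zero_of_notMem hgm, Multiset.count_eq_zero_of_notMem]
        intro h
        obtain ⟨a, ha, hab⟩ := Multiset.mem_map.1 h
        refine hgm ?_
        rw [← hinv g hg, ← hab, starP_starP hσσ (hs a ha).1 (hs a ha).2]
        exact ha
    have hpick : ∀ o : J', ∃ g : J, π g = o := fun o => by
      obtain ⟨g, hg, hgo⟩ := Finset.mem_image.1 o.2
      exact ⟨⟨g, hg⟩, Subtype.ext hgo⟩
    choose pick hpick using hpick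
    obtain ⟨f, hf⟩ : ∃ f : J' → ℕ, ∀ o, f o = m.count (pick o).1 := ⟨_, fun _ => rfl⟩
    have hfc : ∀ g : J, f (π g) = m.count g.1 := by
      intro g
      rw [hf]
      have h : orb (pick (π g)).1 = orb g.1 := congrArg Subtype.val (hpick (π g))
      have h2 : (pick (π g)).1 ∈ orb g.1 := h ▸ (horb (pick (π g)).1).symm ▸ Finset.mem_insert_self _ _
      rw [horb, Finset.mem_insert, Finset.mem_singleton] at h2
      rcases h2 with h2 | h2
      · rw [h2]
      · rw [h2, hcinv g.1 g.2]
    obtain ⟨k, hk⟩ : ∃ k, k = m.count (X - C 1) := ⟨_, rfl⟩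
    have hdec : m = B f + Multiset.replicate k (X - C 1) := by
      refine Multiset.ext.2 fun z => ?_
      rw [Multiset.count_add, Multiset.count_replicate]
      by_cases hz : z ∈ J
      · rw [hcount f ⟨z, hz⟩, hfc, if_neg, add_zero]
        exact fun he => (hJ _ hz).2.2.2 he.symm
      · rw [Multiset.count_eq_zero_of_notMem (s := B f) (fun h => hz (hBmem f z h)), zero_add]
        split_ifs with he
        · rw [← he, hk]
        · exact Multiset.count_eq_zero_of_notMem fun h => (hy z h).elim (fun e => he e.symm) hz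
    have hweight : c * b * ∑ o, f o + k = N := by
      rw [← hsw, hdec, Multiset.map_add, Multiset.sum_add, hBw, Multiset.map_replicate, Multiset.sum_replicate,
        natDegree_X_sub_C]
      simp
    have hle : ∑ o, f o ≤ N / (c * b) := by
      rw [Nat.le_div_iff_mul_le (Nat.mul_pos hc1 hb), mul_comm]
      omega
    refine ⟨⟨f, hle⟩, Subtype.ext ?_⟩
    rw [hΦ]
    show B f + Multiset.replicate (N - c * b * ∑ o, f o) _ = m
    rw [show N - c * b * ∑ o, f o = k by omega, ← hdec]

end Cfsg.Agent.Lib.Similar
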