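import Mathlib
import Cfsg.Agent.Lib.Similar.Semisimple
import Cfsg.Agent.Lib.Similar.Star
import Cfsg.Agent.Lib.SpSpec.Elements

/-!
Symplectic isometries with prescribed self-reciprocal characteristic polynomial.
-/

set_option autoImplicit false

namespace Cfsg.Agent.Lib.Similar.SympBlocks

open Polynomial
open Cfsg.Agent.Lib.SpSpec (Isom)
open Cfsg.Agent.Lib.Classical Cfsg.Agent.Lib.Geometry
open scoped Matrix

universe u

variable {F : Type u} [Field F]

/-- Roots of the reciprocal polynomial. -/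
theorem aeval_starP_iff {L : Type*} [CommRing L] [IsDomain L] [Algebra F L] {f : F[X]} (h0 : f.coeff 0 ≠ 0) {x y : L} (hxy : x * y = 1) :
    aeval x (starP (RingHom.id F) f) = 0 ↔ aeval y f = 0 := by
  let _ : Invertible y := ⟨x, hxy, by rw [mul_comm]; exact hxy⟩
  have e : ⅟y = x := rfl
  rw [starP, Polynomial.map_id, map_mul, aeval_C, mul_eq_zero, or_iff_right, aeval_def, aeval_def, ← e, eval₂_reverse_eq_zero_iff]
  rw [map_eq_zero_iff _ (algebraMap F L).injective, inv_eq_zero, RingHom.id_apply]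
  exact h0

/-- One block. -/
theorem exists_block {r : ℕ} (hr : r.Prime) (hr2 : r ≠ 2) {g : F[X]} (hm : g.Monic) (hi : Irreducible g) (hd : g ∣ X ^ r - 1)
    (h0 : g.coeff 0 ≠ 0) (hne : g ≠ X - C 1) {h : F[X]}
    (hh : h = g ∧ starP (RingHom.id F) g = g ∨ h = g * starP (RingHom.id F) g ∧ starP (RingHom.id F) g ≠ g) (hhd : h ∣ X ^ r - 1) :
    ∃ (V : Type u) (_ : AddCommGroup V) (_ : Module F V) (_ : Module.Finite F V)
      (B : LinearMap.BilinForm F V) (T : Module.End F V),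
      B.IsAlt ∧ B.Nondegenerate ∧ Isom B T ∧ T ^ r = 1 ∧ T.charpoly = h := by
  classical
  obtain ⟨gs, hgs⟩ : ∃ gs, gs = starP (RingHom.id F) g := ⟨_, rfl⟩
  rw [← hgs] at hh
  have hsm : gs.Monic := hgs ▸ monic_starP h0
  have hsi : Irreducible gs := hgs ▸ irreducible_starP (fun _ => rfl) hi hm h0
  have hhm : h.Monic := by rcases hh with ⟨e, -⟩ | ⟨e, -⟩ <;> rw [e]; exacts [hm, hm.mul hsm]
  have hh0 : h.coeff 0 ≠ 0 := by
    rcases hh with ⟨e, -⟩ | ⟨e, -⟩ <;> rw [e]
    · exact h0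
    · rw [mul_coeff_zero, hgs, coeff_zero_starP hm]; exact mul_ne_zero h0 (inv_ne_zero h0)
  have hhs : starP (RingHom.id F) h = h := by
    rcases hh with ⟨e, e'⟩ | ⟨e, -⟩ <;> rw [e]
    · rw [← hgs, e']
    · rw [starP_mul, ← hgs, hgs, starP_starP (fun _ => rfl) hm h0, mul_comm]
  have hgh : g ∣ h := by rcases hh with ⟨e, -⟩ | ⟨e, -⟩ <;> rw [e]; exact dvd_mul_right _ _
  have hdiv : ∀ f : F[X], IsCoprime g f → IsCoprime gs f → IsCoprime h f := by
    intro f a b
    rcases hh with ⟨e, -⟩ | ⟨e, -⟩ <;> rw [e]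
    exacts [a, a.mul_left b]
  have hzero : ∀ f : F[X], g ∣ f → gs ∣ f → h ∣ f := by
    intro f a b
    rcases hh with ⟨e, -⟩ | ⟨e, e'⟩ <;> rw [e]
    · exact a
    · exact IsCoprime.mul_dvd (hi.coprime_iff_not_dvd.2 fun hd' => e' (eq_of_monic_of_associated hm hsm (hi.associated_of_dvd hsi hd')).symm) a b
  have hne0 : h ≠ 0 := hhm.ne_zero
  have hfin : Module.Finite F (F[X] ⧸ Ideal.span {h}) := finite_quot hne0
  obtain ⟨x, hx⟩ : ∃ x, x = Ideal.Quotient.mk (Ideal.span {h}) X := ⟨_, rfl⟩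
  have hmk : ∀ f : F[X], aeval x f = Ideal.Quotient.mk (Ideal.span {h}) f := fun f => by
    rw [hx, ← Ideal.Quotient.mkₐ_eq_mk F, Polynomial.aeval_algHom_apply, aeval_X_left_apply]
  have hmk0 : ∀ f : F[X], Ideal.Quotient.mk (Ideal.span {h}) f = 0 ↔ h ∣ f := fun f => by
    rw [Ideal.Quotient.eq_zero_iff_mem, Ideal.mem_span_singleton]
  have hxr : x ^ r = 1 := by
    have := (hmk0 _).2 hhd
    rw [← hmk, map_sub, map_pow, aeval_X, map_one, sub_eq_zero] at this
    exact this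
  have hr3 : 3 ≤ r := by have := hr.two_le; omega
  obtain ⟨y, hy⟩ : ∃ y, y = x ^ (r - 1) := ⟨_, rfl⟩
  have hxy : x * y = 1 := by rw [hy, ← pow_succ', show r - 1 + 1 = r by omega, hxr]
  have hyh : aeval y h = 0 := by
    let _ : Invertible x := ⟨y, by rw [mul_comm]; exact hxy, hxy⟩
    have e : ⅟x = y := rfl
    have h1 : h = C (h.coeff 0)⁻¹ * h.reverse := by conv_lhs => rw [← hhs, starP, Polynomial.map_id, RingHom.id_apply]
    have h2 : eval₂ (algebraMap F _) (⅟x) (reverse h) = 0 := by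
      rw [eval₂_reverse_eq_zero_iff, ← aeval_def, hmk, hmk0]
    refine (congrArg (aeval y) h1).trans ?_
    have h3 : aeval y h.reverse = 0 := by rw [aeval_def, ← e]; exact h2
    rw [map_mul, h3, mul_zero]
  obtain ⟨τ, hτ⟩ : ∃ τ : (F[X] ⧸ Ideal.span {h}) →ₐ[F] (F[X] ⧸ Ideal.span {h}),
      ∀ f : F[X], τ (Ideal.Quotient.mk _ f) = aeval y f :=
    ⟨Ideal.Quotient.liftₐ _ (aeval y) fun a ha => by
      obtain ⟨b, rfl⟩ := Ideal.mem_span_singleton'.1 ha
      rw [map_mul, hyh, mul_zero], fun f => rfl⟩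
  have hτx : τ x = y := by rw [hx, hτ, aeval_X]
  have hττ : ∀ z, τ (τ z) = z := by
    intro z
    obtain ⟨f, rfl⟩ := Ideal.Quotient.mk_surjective z
    rw [hτ, ← Polynomial.aeval_algHom_apply, hy, map_pow, hτx, hy, ← pow_mul]
    rw [show (r - 1) * (r - 1) = r * (r - 2) + 1 by
      obtain ⟨k, rfl⟩ : ∃ k, r = k + 3 := ⟨r - 3, by omega⟩
      simp only [show k + 3 - 1 = k + 2 by omega, show k + 3 - 2 = k + 1 by omega]
      ring, pow_succ, pow_mul, hxr, one_pow, one_mul, hmk]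
  have hτne : τ x ≠ x := by
    intro e
    rw [hτx] at e
    rw [e, ← pow_two] at hxy
    have : x = 1 := by
      have h2 : x ^ (2 * (r / 2) + 1) = 1 := by rw [Nat.two_mul_div_two_add_one_of_odd (hr.odd_of_ne_two hr2)]; exact hxr
      rwa [pow_succ, pow_mul, hxy, one_pow, one_mul] at h2
    rw [hx, ← map_one (Ideal.Quotient.mk (Ideal.span {h})), Ideal.Quotient.eq, Ideal.mem_span_singleton] at this
    refine hne (eq_of_monic_of_associated hm (monic_X_sub_C 1) (hi.associated_of_dvd (irreducible_X_sub_C 1) ?_))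
    rw [C_1]
    exact hgh.trans this
  obtain ⟨μ, hμ⟩ : ∃ μ : Module.Dual F (F[X] ⧸ Ideal.span {h}), μ (x - τ x) ≠ 0 := by
    by_contra! hh'
    exact hτne ((sub_eq_zero.1 ((Module.forall_dual_apply_eq_zero_iff F _).1 hh')).symm)
  obtain ⟨lam, hlam⟩ : ∃ lam : Module.Dual F (F[X] ⧸ Ideal.span {h}), ∀ z, lam z = μ (z - τ z) :=
    ⟨μ.comp (LinearMap.id - τ.toLinearMap), fun z => rfl⟩
  have hanti : ∀ z, lam (τ z) = - lam z := fun z => by rw [hlam, hlam, hττ, ← map_neg, neg_sub]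
  -- the root fields
  have : Fact (Irreducible g) := ⟨hi⟩
  have hroot : aeval (AdjoinRoot.root g) g = 0 := by rw [AdjoinRoot.aeval_eq, AdjoinRoot.mk_self]
  have hαr : AdjoinRoot.root g ^ r = 1 := by
    have := aeval_eq_zero_of_dvd_aeval_eq_zero hd hroot
    rwa [map_sub, map_pow, aeval_X, map_one, sub_eq_zero] at this
  obtain ⟨β, hβ⟩ : ∃ β, β = AdjoinRoot.root g ^ (r - 1) := ⟨_, rfl⟩
  have hαβ : β * AdjoinRoot.root g = 1 := by rw [hβ, ← pow_succ, show r - 1 + 1 = r by omega, hαr]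
  have hβs : aeval β gs = 0 := by rw [hgs, aeval_starP_iff h0 hαβ]; exact hroot
  have hgd : ∀ f : F[X], g ∣ f ↔ aeval (AdjoinRoot.root g) f = 0 := fun f => by
    rw [AdjoinRoot.aeval_eq, AdjoinRoot.mk_eq_zero]
  have hsd : ∀ f : F[X], gs ∣ f ↔ aeval β f = 0 := by
    intro f
    refine ⟨fun hf => aeval_eq_zero_of_dvd_aeval_eq_zero hf hβs, fun hf => ?_⟩
    rw [minpoly.eq_of_irreducible_of_monic hsi hβs hsm]
    exact minpoly.dvd F β hf
  have hsimple : ∀ u : F[X] ⧸ Ideal.span {h}, (∀ v, lam (u * v) = 0) → u = 0 := by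
    intro u hu
    by_contra hu0
    obtain ⟨f, rfl⟩ := Ideal.Quotient.mk_surjective u
    obtain ⟨w, hw⟩ : ∃ w, w = f.comp (X ^ (r - 1)) := ⟨_, rfl⟩
    have hτw : τ (Ideal.Quotient.mk _ f) = Ideal.Quotient.mk _ w := by
      rw [hτ, hw, ← hmk, aeval_comp, map_pow, aeval_X, hy]
    have hwv : ∀ v, lam (Ideal.Quotient.mk _ w * v) = 0 := fun v => by
      rw [← hτw, ← hττ v, ← map_mul, hanti, hu, neg_zero]
    have hgw : g ∣ w ↔ gs ∣ f := by rw [hgd, hsd, hw, aeval_comp, map_pow, aeval_X, ← hβ]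
    have hsw : gs ∣ w ↔ g ∣ f := by
      rw [hgd, hsd, hw, aeval_comp, map_pow, aeval_X, hβ, ← pow_mul,
        show (r - 1) * (r - 1) = r * (r - 2) + 1 by
          obtain ⟨k, rfl⟩ : ∃ k, r = k + 3 := ⟨r - 3, by omega⟩
          simp only [show k + 3 - 1 = k + 2 by omega, show k + 3 - 2 = k + 1 by omega]
          ring, pow_succ, pow_mul, hαr, one_pow, one_mul]
    obtain ⟨d, hd1, hd2, hd3⟩ : ∃ d : F[X], ¬ g ∣ d ∧ ¬ gs ∣ d ∧ ∀ v, lam (Ideal.Quotient.mk _ d * v) = 0 := by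
      by_cases a : g ∣ f <;> by_cases b : gs ∣ f
      · exact absurd ((hmk0 f).2 (hzero f a b)) hu0
      · refine ⟨f + w, fun hh' => b (hgw.1 ((dvd_add_right a).1 hh')), fun hh' => b ((dvd_add_left (hsw.2 a)).1 hh'), fun v => ?_⟩
        rw [map_add, add_mul, map_add, hu, hwv, add_zero]
      · refine ⟨f + w, fun hh' => a ((dvd_add_left (hgw.2 b)).1 hh'), fun hh' => a (hsw.1 ((dvd_add_right b).1 hh')), fun v => ?_⟩
        rw [map_add, add_mul, map_add, hu, hwv, add_zero]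
      · exact ⟨f, a, b, hu⟩
    obtain ⟨p, q, hpq⟩ := hdiv d (hi.coprime_iff_not_dvd.2 hd1) (hsi.coprime_iff_not_dvd.2 hd2)
    have hq : Ideal.Quotient.mk (Ideal.span {h}) d * Ideal.Quotient.mk _ q = 1 := by
      rw [← map_mul, ← map_one (Ideal.Quotient.mk (Ideal.span {h})), Ideal.Quotient.eq, Ideal.mem_span_singleton]
      exact ⟨-p, by linear_combination hpq⟩
    have := hd3 (Ideal.Quotient.mk _ q * x)
    rw [← mul_assoc, hq, one_mul, hlam] at this
    exact hμ this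
  obtain ⟨B, hB⟩ : ∃ B : LinearMap.BilinForm F (F[X] ⧸ Ideal.span {h}), ∀ u v, B u v = lam (u * τ v) :=
    ⟨((Algebra.lmul F (F[X] ⧸ Ideal.span {h})).toLinearMap.compl₂ τ.toLinearMap).compr₂ lam, fun u v => rfl⟩
  refine ⟨F[X] ⧸ Ideal.span {h}, inferInstance, inferInstance, hfin, B, Algebra.lmul F _ x, ?_, ⟨fun u hu => ?_, fun u hu => ?_⟩, ?_, ?_, ?_⟩
  · intro u
    rw [hB, hlam, map_mul, hττ, mul_comm, sub_self, map_zero]
  · refine hsimple u fun v => ?_
    have := hu (τ v)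
    rwa [hB, hττ] at this
  · refine ((hττ u).symm.trans (congrArg τ (hsimple (τ u) fun v => ?_))).trans (map_zero τ)
    have := hu v
    rw [hB] at this
    rw [mul_comm]
    exact this
  · intro u v
    rw [hB, hB]
    show lam (x * u * τ (x * v)) = _
    rw [map_mul τ, hτx, mul_mul_mul_comm, hxy, one_mul]
  · rw [← map_pow, hxr, map_one]
  · rw [show (Algebra.lmul F (F[X] ⧸ Ideal.span {h}) x : Module.End F _) = mulX h from LinearMap.ext fun v => by
      obtain ⟨f, rfl⟩ := Ideal.Quotient.mk_surjective v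
      rw [hx]
      rfl, charpoly_mulX hhm]

/-- Direct sums. -/
theorem exists_prod {V W : Type u} [AddCommGroup V] [Module F V] [Module.Finite F V] [AddCommGroup W] [Module F W] [Module.Finite F W]
    {B : LinearMap.BilinForm F V} {T : Module.End F V} {B' : LinearMap.BilinForm F W} {T' : Module.End F W} {r : ℕ}
    (a : B.IsAlt ∧ B.Nondegenerate ∧ Isom B T ∧ T ^ r = 1) (b : B'.IsAlt ∧ B'.Nondegenerate ∧ Isom B' T' ∧ T' ^ r = 1) :
    ∃ (B'' : LinearMap.BilinForm F (V × W)) (T'' : Module.End F (V × W)),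
      B''.IsAlt ∧ B''.Nondegenerate ∧ Isom B'' T'' ∧ T'' ^ r = 1 ∧ T''.charpoly = T.charpoly * T'.charpoly := by
  obtain ⟨hA, hN, hI, hp⟩ := a
  obtain ⟨hA', hN', hI', hp'⟩ := b
  obtain ⟨B'', hB⟩ : ∃ B'' : LinearMap.BilinForm F (V × W), ∀ u v, B'' u v = B u.1 v.1 + B' u.2 v.2 :=
    ⟨B.compl₁₂ (LinearMap.fst F V W) (LinearMap.fst F V W) + B'.compl₁₂ (LinearMap.snd F V W) (LinearMap.snd F V W), fun u v => rfl⟩
  refine ⟨B'', LinearMap.prodMap T T', fun u => ?_, ⟨fun u hu => ?_, fun u hu => ?_⟩, fun u v => ?_, ?_, LinearMap.charpoly_prodMap T T'⟩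
  · rw [hB, hA, hA', add_zero]
  · exact Prod.ext (hN.1 _ fun y => by simpa [hB] using hu (y, 0)) (hN'.1 _ fun y => by simpa [hB] using hu (0, y))
  · exact Prod.ext (hN.2 _ fun y => by simpa [hB] using hu (y, 0)) (hN'.2 _ fun y => by simpa [hB] using hu (0, y))
  · rw [hB, hB]
    show B (T u.1) (T v.1) + B' (T' u.2) (T' v.2) = _
    rw [hI, hI']
  · have hpow : ∀ k, (LinearMap.prodMap T T') ^ k = LinearMap.prodMap (T ^ k) (T' ^ k) := fun k => by
      induction k with
      | zero => rfl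
      | succ k ih => rw [pow_succ, ih, pow_succ, pow_succ]; rfl
    rw [hpow, hp, hp']
    rfl

variable [Fintype F]

/-- An isometry is realised in the symplectic group. -/
theorem realize {V : Type*} [AddCommGroup V] [Module F V] [Module.Finite F V]
    (B : LinearMap.BilinForm F V) (hA : B.IsAlt) (hB : B.Nondegenerate) {n : ℕ}
    (hn : Module.finrank F V = 2 * n) {g : Module.End F V} (hg : Isom B g) {r : ℕ} (hgr : g ^ r = 1) :
    ∃ x : Matrix.symplecticGroup (Fin n) F, x ^ r = 1 ∧ (x : Matrix (Fin n ⊕ Fin n) (Fin n ⊕ Fin n) F).charpoly = g.charpoly := by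
  classical
  haveI : Finite V := Module.finite_of_finite F
  have hq : 1 < Fintype.card F := Fintype.one_lt_card
  have hV : Nat.card V = Fintype.card F ^ (2 * n) := by
    rw [Module.natCard_eq_pow_finrank (K := F), hn, Nat.card_eq_fintype_card]
  have hpos : 0 < Nat.card {p : Fin n → V × V // IsSympFrame B p} := by
    rw [card_frames hA hB hV n le_rfl]
    refine Finset.prod_pos fun i hi => Nat.mul_pos ?_ (pow_pos (by omega) _)
    have := Nat.one_lt_pow (n := 2 * (n - i)) (by have := Finset.mem_range.1 hi; omega) hq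
    omega
  obtain ⟨⟨p, hp⟩⟩ := (Nat.card_pos_iff.1 hpos).1
  let ψ : V →ₗ[F] (Fin n ⊕ Fin n → F) :=
    { toFun := fun v => Sum.elim (frameVal (B := B) p v).2 (frameVal (B := B) p v).1
      map_add' := fun u v => by
        funext i; rcases i with i | i <;> simp [map_add]
      map_smul' := fun c v => by
        funext i; rcases i with i | i <;> simp [map_smul] }
  have hsurj : Function.Surjective ψ := fun w =>
    ⟨frameSolve p (fun a => w (Sum.inr a), fun a => w (Sum.inl a)), by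
      funext i
      rcases i with i | i <;>
      · simp only [ψ, LinearMap.coe_mk, AddHom.coe_mk, frameVal_frameSolve hA hp, Sum.elim_inl,
          Sum.elim_inr]⟩
  have hinj : Function.Injective ψ :=
    (LinearMap.injective_iff_surjective_of_finrank_eq_finrank
      (by rw [hn, Module.finrank_fintype_fun_eq_card, Fintype.card_sum, Fintype.card_fin]; omega)).2
      hsurj
  let e : V ≃ₗ[F] (Fin n ⊕ Fin n → F) := LinearEquiv.ofBijective ψ ⟨hinj, hsurj⟩
  have hform : ∀ u v, Cfsg.sympForm n F (e u) (e v) = B u v := by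
    intro u v
    have hu : u = frameSolve p (frameVal (B := B) p u) := by
      apply hinj
      funext i
      rcases i with i | i <;> simp [ψ, frameVal_frameSolve hA hp]
    rw [sympForm_eq_sum]
    conv_rhs => rw [hu, frameSolve]
    simp [e, ψ, frameVal_apply, Finset.sum_sub_distrib]
  let A : Module.End F (Fin n ⊕ Fin n → F) := e.conjAlgEquiv F g
  let M : Matrix (Fin n ⊕ Fin n) (Fin n ⊕ Fin n) F := LinearMap.toMatrixAlgEquiv' A
  have hM : ∀ w, M *ᵥ w = A w := fun w => LinearMap.toMatrix'_mulVec A w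
  have hmem : M ∈ Matrix.symplecticGroup (Fin n) F := by
    rw [mem_symplecticGroup_iff_form]
    intro u v
    rw [hM, hM]
    show Cfsg.sympForm n F (e (g (e.symm u))) (e (g (e.symm v))) = _
    rw [hform, hg, ← hform, e.apply_symm_apply, e.apply_symm_apply]
  refine ⟨⟨M, hmem⟩, Subtype.ext ?_, ?_⟩
  · show ((⟨M, hmem⟩ : Matrix.symplecticGroup (Fin n) F) ^ r).1 = 1
    rw [SubmonoidClass.coe_pow]
    show (LinearMap.toMatrixAlgEquiv' (e.conjAlgEquiv F g)) ^ r = 1
    rw [← map_pow, ← map_pow, hgr, map_one, map_one]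
  · show (LinearMap.toMatrix' A).charpoly = _
    rw [← LinearMap.toMatrix_eq_toMatrix', LinearMap.charpoly_toMatrix]
    exact LinearEquiv.charpoly_conj e g

end Cfsg.Agent.Lib.Similar.SympBlocks
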