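import Mathlib
import Cfsg.Agent.Lib.Similar.SympBlocks
import Cfsg.Agent.Lib.Geometry.WittQuadratic

/-!
Orthogonal isometries with prescribed self-reciprocal characteristic polynomial.
-/

set_option autoImplicit false

namespace Cfsg.Agent.Lib.Similar.OrthBlocks

open Polynomial
open QuadraticMap (polarBilin)

attribute [-simp] QuadraticMap.polarBilin_apply_apply

universe u

variable {F : Type u} [Field F]

/-- One block. -/
theorem exists_block {r : ℕ} (hr : r.Prime) (hr2 : r ≠ 2) {g : F[X]} (hm : g.Monic) (hi : Irreducible g) (hd : g ∣ X ^ r - 1)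
    (h0 : g.coeff 0 ≠ 0) (hne : g ≠ X - C 1) {h : F[X]}
    (hh : h = g ∧ starP (RingHom.id F) g = g ∨ h = g * starP (RingHom.id F) g ∧ starP (RingHom.id F) g ≠ g) (hhd : h ∣ X ^ r - 1) :
    ∃ (V : Type u) (_ : AddCommGroup V) (_ : Module F V) (_ : Module.Finite F V)
      (Q : QuadraticForm F V) (T : Module.End F V),
      (polarBilin Q).Nondegenerate ∧ (∀ v, Q (T v) = Q v) ∧ T ^ r = 1 ∧ T.charpoly = h := by
  classical
  obtain ⟨gs, hgs⟩ : ∃ gs, gs = starP (RingHom.id F) g := ⟨_, rfl⟩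
  rw [← hgs] at hh
  have hsm : gs.Monic := hgs ▸ monic_starP h0
  have hsi : Irreducible gs := hgs ▸ irreducible_starP (fun _ => rfl) hi hm h0
  have hhm : h.Monic := by rcases hh with ⟨e, -⟩ | ⟨e, -⟩ <;> rw [e]; exacts [hm, hm.mul hsm]
  have hh0 : h.coeff 0 ≠ 0 := by
    rcases hh with ⟨e, -⟩ | ⟨e, -⟩ <;> rw [e]
    · exact h0
    · rw [mul_coeff_zero, hgs, coeff_zero_starP hm]; exact mul_ne_zero h0 (inv_ne_zero h0)
  have hhs : starP (RingHom.id F) h = h := by
    rcases hh with ⟨e, e'⟩ | ⟨e, -⟩ <;> rw [e]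
    · rw [← hgs, e']
    · rw [starP_mul, ← hgs, hgs, starP_starP (fun _ => rfl) hm h0, mul_comm]
  have hgh : g ∣ h := by rcases hh with ⟨e, -⟩ | ⟨e, -⟩ <;> rw [e]; exact dvd_mul_right _ _
  have hdiv : ∀ f : F[X], IsCoprime g f → IsCoprime gs f → IsCoprime h f := by
    intro f a b
    rcases hh with ⟨e, -⟩ | ⟨e, -⟩ <;> rw [e]
    exacts [a, a.mul_left b]
  have hzero : ∀ f : F[X], g ∣ f → gs ∣ f → h ∣ f := by
    intro f a b
    rcases hh with ⟨e, -⟩ | ⟨e, e'⟩ <;> rw [e]
    · exact a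
    · exact IsCoprime.mul_dvd (hi.coprime_iff_not_dvd.2 fun hd' => e' (eq_of_monic_of_associated hm hsm (hi.associated_of_dvd hsi hd')).symm) a b
  have hne0 : h ≠ 0 := hhm.ne_zero
  have hfin : Module.Finite F (F[X] ⧸ Ideal.span {h}) := finite_quot hne0
  obtain ⟨x, hx⟩ : ∃ x, x = Ideal.Quotient.mk (Ideal.span {h}) X := ⟨_, rfl⟩
  have hmk : ∀ f : F[X], aeval x f = Ideal.Quotient.mk (Ideal.span {h}) f := fun f => by
    rw [hx, ← Ideal.Quotient.mkₐ_eq_mk F, Polynomial.aeval_algHom_apply, aeval_X_left_apply]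
  have hmk0 : ∀ f : F[X], Ideal.Quotient.mk (Ideal.span {h}) f = 0 ↔ h ∣ f := fun f => by
    rw [Ideal.Quotient.eq_zero_iff_mem, Ideal.mem_span_singleton]
  have hxr : x ^ r = 1 := by
    have := (hmk0 _).2 hhd
    rw [← hmk, map_sub, map_pow, aeval_X, map_one, sub_eq_zero] at this
    exact this
  have hr3 : 3 ≤ r := by have := hr.two_le; omega
  obtain ⟨y, hy⟩ : ∃ y, y = x ^ (r - 1) := ⟨_, rfl⟩
  have hxy : x * y = 1 := by rw [hy, ← pow_succ', show r - 1 + 1 = r by omega, hxr]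
  have hyh : aeval y h = 0 := by
    let _ : Invertible x := ⟨y, by rw [mul_comm]; exact hxy, hxy⟩
    have e : ⅟x = y := rfl
    have h1 : h = C (h.coeff 0)⁻¹ * h.reverse := by conv_lhs => rw [← hhs, starP, Polynomial.map_id, RingHom.id_apply]
    have h2 : eval₂ (algebraMap F _) (⅟x) (reverse h) = 0 := by
      rw [eval₂_reverse_eq_zero_iff, ← aeval_def, hmk, hmk0]
    refine (congrArg (aeval y) h1).trans ?_
    have h3 : aeval y h.reverse = 0 := by rw [aeval_def, ← e]; exact h2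
    rw [map_mul, h3, mul_zero]
  obtain ⟨τ, hτ⟩ : ∃ τ : (F[X] ⧸ Ideal.span {h}) →ₐ[F] (F[X] ⧸ Ideal.span {h}),
      ∀ f : F[X], τ (Ideal.Quotient.mk _ f) = aeval y f :=
    ⟨Ideal.Quotient.liftₐ _ (aeval y) fun a ha => by
      obtain ⟨b, rfl⟩ := Ideal.mem_span_singleton'.1 ha
      rw [map_mul, hyh, mul_zero], fun f => rfl⟩
  have hτx : τ x = y := by rw [hx, hτ, aeval_X]
  have hττ : ∀ z, τ (τ z) = z := by
    intro z
    obtain ⟨f, rfl⟩ := Ideal.Quotient.mk_surjective z
    rw [hτ, ← Polynomial.aeval_algHom_apply, hy, map_pow, hτx, hy, ← pow_mul]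
    rw [show (r - 1) * (r - 1) = r * (r - 2) + 1 by
      obtain ⟨k, rfl⟩ : ∃ k, r = k + 3 := ⟨r - 3, by omega⟩
      simp only [show k + 3 - 1 = k + 2 by omega, show k + 3 - 2 = k + 1 by omega]
      ring, pow_succ, pow_mul, hxr, one_pow, one_mul, hmk]
  have hτne : x + τ x ≠ 0 := by
    intro e
    rw [hτx, add_eq_zero_iff_eq_neg] at e
    have h4 : x ^ 4 = 1 := by
      have e2 : x * x = -1 := by
        linear_combination x * e - hxy
      calc x ^ 4 = (x * x) * (x * x) := by ring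
        _ = 1 := by rw [e2]; ring
    have : x = 1 := by
      have hg4 : Nat.gcd r 4 = 1 := by
        refine (Nat.Coprime.pow_right 2 (Nat.coprime_comm.1 ((Nat.Prime.coprime_iff_not_dvd Nat.prime_two).2 fun hd => ?_)) : Nat.Coprime r (2 ^ 2))
        exact hr2 ((Nat.prime_dvd_prime_iff_eq Nat.prime_two hr).1 hd).symm
      have := pow_gcd_eq_one.2 ⟨hxr, h4⟩
      rwa [hg4, pow_one] at this
    rw [hx, ← map_one (Ideal.Quotient.mk (Ideal.span {h})), Ideal.Quotient.eq, Ideal.mem_span_singleton] at this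
    refine hne (eq_of_monic_of_associated hm (monic_X_sub_C 1) (hi.associated_of_dvd (irreducible_X_sub_C 1) ?_))
    rw [C_1]
    exact hgh.trans this
  obtain ⟨μ, hμ⟩ : ∃ μ : Module.Dual F (F[X] ⧸ Ideal.span {h}), μ (x + τ x) ≠ 0 := by
    by_contra! hh'
    exact hτne ((Module.forall_dual_apply_eq_zero_iff F _).1 hh')
  obtain ⟨lam, hlam⟩ : ∃ lam : Module.Dual F (F[X] ⧸ Ideal.span {h}), ∀ z, lam z = μ (z + τ z) :=
    ⟨μ.comp (LinearMap.id + τ.toLinearMap), fun z => rfl⟩
  have hanti : ∀ z, lam (τ z) = lam z := fun z => by rw [hlam, hlam, hττ, add_comm]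
  -- the root fields
  have : Fact (Irreducible g) := ⟨hi⟩
  have hroot : aeval (AdjoinRoot.root g) g = 0 := by rw [AdjoinRoot.aeval_eq, AdjoinRoot.mk_self]
  have hαr : AdjoinRoot.root g ^ r = 1 := by
    have := aeval_eq_zero_of_dvd_aeval_eq_zero hd hroot
    rwa [map_sub, map_pow, aeval_X, map_one, sub_eq_zero] at this
  obtain ⟨β, hβ⟩ : ∃ β, β = AdjoinRoot.root g ^ (r - 1) := ⟨_, rfl⟩
  have hαβ : β * AdjoinRoot.root g = 1 := by rw [hβ, ← pow_succ, show r - 1 + 1 = r by omega, hαr]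
  have hβs : aeval β gs = 0 := by rw [hgs, SympBlocks.aeval_starP_iff h0 hαβ]; exact hroot
  have hgd : ∀ f : F[X], g ∣ f ↔ aeval (AdjoinRoot.root g) f = 0 := fun f => by
    rw [AdjoinRoot.aeval_eq, AdjoinRoot.mk_eq_zero]
  have hsd : ∀ f : F[X], gs ∣ f ↔ aeval β f = 0 := by
    intro f
    refine ⟨fun hf => aeval_eq_zero_of_dvd_aeval_eq_zero hf hβs, fun hf => ?_⟩
    rw [minpoly.eq_of_irreducible_of_monic hsi hβs hsm]
    exact minpoly.dvd F β hf
  have hsimple : ∀ u : F[X] ⧸ Ideal.span {h}, (∀ v, lam (u * v) = 0) → u = 0 := by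
    intro u hu
    by_contra hu0
    obtain ⟨f, rfl⟩ := Ideal.Quotient.mk_surjective u
    obtain ⟨w, hw⟩ : ∃ w, w = f.comp (X ^ (r - 1)) := ⟨_, rfl⟩
    have hτw : τ (Ideal.Quotient.mk _ f) = Ideal.Quotient.mk _ w := by
      rw [hτ, hw, ← hmk, aeval_comp, map_pow, aeval_X, hy]
    have hwv : ∀ v, lam (Ideal.Quotient.mk _ w * v) = 0 := fun v => by
      rw [← hτw, ← hττ v, ← map_mul, hanti, hu]
    have hgw : g ∣ w ↔ gs ∣ f := by rw [hgd, hsd, hw, aeval_comp, map_pow, aeval_X, ← hβ]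
    have hsw : gs ∣ w ↔ g ∣ f := by
      rw [hgd, hsd, hw, aeval_comp, map_pow, aeval_X, hβ, ← pow_mul,
        show (r - 1) * (r - 1) = r * (r - 2) + 1 by
          obtain ⟨k, rfl⟩ : ∃ k, r = k + 3 := ⟨r - 3, by omega⟩
          simp only [show k + 3 - 1 = k + 2 by omega, show k + 3 - 2 = k + 1 by omega]
          ring, pow_succ, pow_mul, hαr, one_pow, one_mul]
    obtain ⟨d, hd1, hd2, hd3⟩ : ∃ d : F[X], ¬ g ∣ d ∧ ¬ gs ∣ d ∧ ∀ v, lam (Ideal.Quotient.mk _ d * v) = 0 := by
      by_cases a : g ∣ f <;> by_cases b : gs ∣ f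
      · exact absurd ((hmk0 f).2 (hzero f a b)) hu0
      · refine ⟨f + w, fun hh' => b (hgw.1 ((dvd_add_right a).1 hh')), fun hh' => b ((dvd_add_left (hsw.2 a)).1 hh'), fun v => ?_⟩
        rw [map_add, add_mul, map_add, hu, hwv, add_zero]
      · refine ⟨f + w, fun hh' => a ((dvd_add_left (hgw.2 b)).1 hh'), fun hh' => a (hsw.1 ((dvd_add_right b).1 hh')), fun v => ?_⟩
        rw [map_add, add_mul, map_add, hu, hwv, add_zero]
      · exact ⟨f, a, b, hu⟩
    obtain ⟨p, q, hpq⟩ := hdiv d (hi.coprime_iff_not_dvd.2 hd1) (hsi.coprime_iff_not_dvd.2 hd2)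
    have hq : Ideal.Quotient.mk (Ideal.span {h}) d * Ideal.Quotient.mk _ q = 1 := by
      rw [← map_mul, ← map_one (Ideal.Quotient.mk (Ideal.span {h})), Ideal.Quotient.eq, Ideal.mem_span_singleton]
      exact ⟨-p, by linear_combination hpq⟩
    have := hd3 (Ideal.Quotient.mk _ q * x)
    rw [← mul_assoc, hq, one_mul, hlam] at this
    exact hμ this
  obtain ⟨Q, hQ⟩ : ∃ Q : QuadraticForm F (F[X] ⧸ Ideal.span {h}), ∀ u, Q u = μ (u * τ u) :=
    ⟨LinearMap.BilinMap.toQuadraticMap (((Algebra.lmul F (F[X] ⧸ Ideal.span {h})).toLinearMap.compl₂ τ.toLinearMap).compr₂ μ),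
      fun u => rfl⟩
  have hB : ∀ u v, polarBilin Q u v = lam (u * τ v) := fun u v => by
    rw [QuadraticMap.polarBilin_apply_apply, QuadraticMap.polar, hQ, hQ, hQ, hlam, map_mul τ, hττ, map_add τ, ← map_sub, ← map_sub]
    congr 1
    ring
  refine ⟨F[X] ⧸ Ideal.span {h}, inferInstance, inferInstance, hfin, Q, Algebra.lmul F _ x, ⟨fun u hu => ?_, fun u hu => ?_⟩, ?_, ?_, ?_⟩
  · refine hsimple u fun v => ?_
    have := hu (τ v)
    rwa [hB, hττ] at this
  · refine ((hττ u).symm.trans (congrArg τ (hsimple (τ u) fun v => ?_))).trans (map_zero τ)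
    have := hu v
    rw [hB] at this
    rw [mul_comm]
    exact this
  · intro u
    rw [hQ, hQ]
    show μ (x * u * τ (x * u)) = _
    rw [map_mul τ, hτx, mul_mul_mul_comm, hxy, one_mul]
  · rw [← map_pow, hxr, map_one]
  · rw [show (Algebra.lmul F (F[X] ⧸ Ideal.span {h}) x : Module.End F _) = mulX h from LinearMap.ext fun v => by
      obtain ⟨f, rfl⟩ := Ideal.Quotient.mk_surjective v
      rw [hx]
      rfl, charpoly_mulX hhm]


/-- Direct sums. -/
theorem exists_prod {V W : Type u} [AddCommGroup V] [Module F V] [Module.Finite F V] [AddCommGroup W] [Module F W] [Module.Finite F W]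
    {Q : QuadraticForm F V} {T : Module.End F V} {Q' : QuadraticForm F W} {T' : Module.End F W} {r : ℕ}
    (a : (polarBilin Q).Nondegenerate ∧ (∀ v, Q (T v) = Q v) ∧ T ^ r = 1)
    (b : (polarBilin Q').Nondegenerate ∧ (∀ v, Q' (T' v) = Q' v) ∧ T' ^ r = 1) :
    ∃ (Q'' : QuadraticForm F (V × W)) (T'' : Module.End F (V × W)),
      (polarBilin Q'').Nondegenerate ∧ (∀ v, Q'' (T'' v) = Q'' v) ∧ T'' ^ r = 1 ∧ T''.charpoly = T.charpoly * T'.charpoly := by
  obtain ⟨hN, hI, hp⟩ := a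
  obtain ⟨hN', hI', hp'⟩ := b
  refine ⟨Q.prod Q', LinearMap.prodMap T T', ?_, fun v => ?_, ?_, LinearMap.charpoly_prodMap T T'⟩
  · have hB : ∀ u v, polarBilin (Q.prod Q') u v = polarBilin Q u.1 v.1 + polarBilin Q' u.2 v.2 := fun u v => by
      simp only [QuadraticMap.polarBilin_apply_apply, QuadraticMap.polar, QuadraticMap.prod_apply, Prod.fst_add, Prod.snd_add]
      ring
    refine ⟨fun u hu => ?_, fun u hu => ?_⟩
    · exact Prod.ext (hN.1 _ fun y => by simpa [hB] using hu (y, 0)) (hN'.1 _ fun y => by simpa [hB] using hu (0, y))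
    · exact Prod.ext (hN.2 _ fun y => by simpa [hB] using hu (y, 0)) (hN'.2 _ fun y => by simpa [hB] using hu (0, y))
  · rw [QuadraticMap.prod_apply, QuadraticMap.prod_apply]
    show Q (T v.1) + Q' (T' v.2) = _
    rw [hI, hI']
  · have hpow : ∀ k, (LinearMap.prodMap T T') ^ k = LinearMap.prodMap (T ^ k) (T' ^ k) := fun k => by
      induction k with
      | zero => rfl
      | succ k ih => rw [pow_succ, ih, pow_succ, pow_succ]; rfl
    rw [hpow, hp, hp']
    rfl

/-- An isometry for a self-reciprocal family without the eigenvalue one. -/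
theorem exists_model {r : ℕ} (hr : r.Prime) (hr2 : r ≠ 2) (J : Finset F[X])
    (hJ : ∀ g ∈ J, g.Monic ∧ Irreducible g ∧ g ∣ X ^ r - 1 ∧ g.coeff 0 ≠ 0 ∧ g ≠ X - C 1)
    (hJd : ∀ g ∈ J, starP (RingHom.id F) g ∣ X ^ r - 1)
    (hJev : ∀ g ∈ J, starP (RingHom.id F) g = g → Even g.natDegree) :
    ∀ (k : ℕ) (s : Multiset F[X]), s.card ≤ k → (∀ g ∈ s, g ∈ J) → s.map (starP (RingHom.id F)) = s →
      Even (s.map natDegree).sum ∧
      ∃ (V : Type u) (_ : AddCommGroup V) (_ : Module F V) (_ : Module.Finite F V)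
        (Q : QuadraticForm F V) (T : Module.End F V),
        (polarBilin Q).Nondegenerate ∧ (∀ v, Q (T v) = Q v) ∧ T ^ r = 1 ∧ T.charpoly = s.prod := by
  classical
  intro k
  induction k with
  | zero =>
    intro s hs _ _
    rw [Nat.le_zero, Multiset.card_eq_zero] at hs
    subst hs
    refine ⟨by simp, PUnit, inferInstance, inferInstance, inferInstance, 0, 1,
      ⟨fun u _ => Subsingleton.elim _ _, fun u _ => Subsingleton.elim _ _⟩, fun v => rfl, one_pow r, ?_⟩
    refine ((LinearMap.charpoly_monic _).natDegree_eq_zero.1 ?_).trans Multiset.prod_zero.symm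
    rw [LinearMap.charpoly_natDegree, Module.finrank_zero_of_subsingleton]
  | succ k ih =>
    intro s hs hmem hfix
    rcases Multiset.empty_or_exists_mem s with rfl | ⟨g, hgs⟩
    · exact ih 0 (Nat.zero_le _) hmem hfix
    · obtain ⟨g1, g2, g3, g4, g5⟩ := hJ g (hmem g hgs)
      obtain ⟨gs, hgd⟩ : ∃ gs, gs = starP (RingHom.id F) g := ⟨_, rfl⟩
      have hgss : gs ∈ s := by rw [hgd, ← hfix]; exact Multiset.mem_map_of_mem _ hgs
      obtain ⟨P, hP1, hPe, hPfix, hPh⟩ : ∃ P : Multiset F[X], P ≤ s ∧ 1 ≤ P.card ∧ P.map (starP (RingHom.id F)) = P ∧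
          ((P.prod = g ∧ gs = g) ∨ (P.prod = g * gs ∧ gs ≠ g)) := by
        by_cases h : gs = g
        · refine ⟨{g}, Multiset.singleton_le.2 hgs, le_rfl, ?_, .inl ⟨Multiset.prod_singleton g, h⟩⟩
          rw [Multiset.map_singleton, ← hgd, h]
        · refine ⟨{g, gs}, (Multiset.le_iff_subset (by simp [Ne.symm h])).2 fun z hz => ?_, by simp, ?_, .inr ⟨by simp, h⟩⟩
          · rcases Multiset.mem_cons.1 hz with rfl | hz
            · exact hgs
            · rw [Multiset.mem_singleton.1 hz]; exact hgss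
          · rw [Multiset.insert_eq_cons, Multiset.map_cons, Multiset.map_singleton, hgd, starP_starP (fun _ => rfl) g1 g4]
            exact Multiset.pair_comm _ _
      obtain ⟨R, hR⟩ : ∃ R, R = s - P := ⟨_, rfl⟩
      have hPR : P + R = s := by rw [hR, add_comm, tsub_add_cancel_of_le hP1]
      have hRfix : R.map (starP (RingHom.id F)) = R := by
        have e := congrArg (Multiset.map (starP (RingHom.id F))) hPR
        rw [hfix, Multiset.map_add, hPfix] at e
        rw [← hPR] at e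
        exact add_left_cancel e
      have hsi : Irreducible gs := hgd ▸ irreducible_starP (fun _ => rfl) g2 g1 g4
      have hhd : P.prod ∣ X ^ r - 1 := by
        rcases hPh with ⟨e, -⟩ | ⟨e, e'⟩ <;> rw [e]
        · exact g3
        · exact IsCoprime.mul_dvd (g2.coprime_iff_not_dvd.2 fun hd' => e'
            (eq_of_monic_of_associated g1 (hgd ▸ monic_starP g4) (g2.associated_of_dvd hsi hd')).symm) g3 (hgd ▸ hJd g (hmem g hgs))
      obtain ⟨V, iV1, iV2, iV3, Q, T, hN, hI, hp, hc⟩ := exists_block hr hr2 g1 g2 g3 g4 g5 (h := P.prod) (hgd ▸ hPh) hhd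
      have hPev : Even (P.map natDegree).sum := by
        rw [← natDegree_multiset_prod_of_monic _ fun f hf => (hJ f (hmem f (Multiset.mem_of_le hP1 hf))).1]
        rcases hPh with ⟨e, e'⟩ | ⟨e, -⟩ <;> rw [e]
        · exact hJev g (hmem g hgs) (hgd.symm.trans e')
        · rw [g1.natDegree_mul (hgd ▸ monic_starP g4), hgd, natDegree_starP g4]
          exact ⟨_, rfl⟩
      obtain ⟨hRev, W, iW1, iW2, iW3, Q', T', hN', hI', hp', hc'⟩ := ih R (by
          have := congrArg Multiset.card hPR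
          rw [Multiset.card_add] at this
          omega) (fun f hf => hmem f (hPR ▸ Multiset.mem_add.2 (.inr hf))) hRfix
      refine ⟨by rw [← hPR, Multiset.map_add, Multiset.sum_add]; exact hPev.add hRev, ?_⟩
      obtain ⟨Q'', T'', a1, a2, a3, a4⟩ := exists_prod ⟨hN, hI, hp⟩ ⟨hN', hI', hp'⟩
      exact ⟨V × W, inferInstance, inferInstance, inferInstance, Q'', T'', a1, a2, a3,
        by rw [a4, hc, hc', ← Multiset.prod_add, hPR]⟩

/-- Extension of an isometry of an embedded non-degenerate space by the identity on its orthogonal space. -/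
theorem exists_extend {V₀ V : Type u} [AddCommGroup V₀] [Module F V₀] [Module.Finite F V₀] [AddCommGroup V] [Module F V]
    [Module.Finite F V] {Q₀ : QuadraticForm F V₀} (hQ₀ : (polarBilin Q₀).Nondegenerate) {Q : QuadraticForm F V}
    (φ : V₀ →ₗ[F] V) (hφ : ∀ x, Q (φ x) = Q₀ x) {T : Module.End F V₀} (hT : ∀ x, Q₀ (T x) = Q₀ x) {r : ℕ} (hTr : T ^ r = 1) :
    ∃ T' : Module.End F V, (∀ v, Q (T' v) = Q v) ∧ T' ^ r = 1 ∧
      T'.charpoly = T.charpoly * (X - C 1) ^ (Module.finrank F V - Module.finrank F V₀) := by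
  have hB : ∀ x y, polarBilin Q (φ x) (φ y) = polarBilin Q₀ x y := fun x y => by
    simp only [QuadraticMap.polarBilin_apply_apply, QuadraticMap.polar, ← map_add φ, hφ]
  obtain ⟨π, hπ⟩ : ∃ π : V →ₗ[F] V₀, ∀ v y, polarBilin Q₀ (π v) y = polarBilin Q v (φ y) := by
    refine ⟨(LinearMap.BilinForm.toDual (polarBilin Q₀) hQ₀).symm.toLinearMap.comp (φ.dualMap.comp (polarBilin Q)), fun v y => ?_⟩
    rw [← LinearMap.BilinForm.toDual_def (b := hQ₀)]
    simp only [LinearMap.comp_apply, LinearEquiv.coe_coe, LinearEquiv.apply_symm_apply, LinearMap.dualMap_apply]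
  have hπφ : ∀ x, π (φ x) = x := fun x => sub_eq_zero.1 (hQ₀.1 _ fun y => by
    rw [map_sub, LinearMap.sub_apply, hπ, hB, sub_self])
  have hk : ∀ v, π (v - φ (π v)) = 0 := fun v => by rw [map_sub, hπφ, sub_self]
  let Φ : (V₀ × LinearMap.ker π) ≃ₗ[F] V :=
    { toFun := fun p => φ p.1 + p.2.1
      map_add' := fun p p' => by
        show φ (p.1 + p'.1) + (p.2.1 + p'.2.1) = _
        rw [map_add]; abel
      map_smul' := fun c p => by
        show φ (c • p.1) + c • p.2.1 = c • (φ p.1 + p.2.1)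
        rw [map_smul, smul_add]
      invFun := fun v => (π v, ⟨v - φ (π v), hk v⟩)
      left_inv := fun p => by
        obtain ⟨x, k, hkk⟩ := p
        have e : π (φ x + k) = x := by rw [map_add, hπφ, LinearMap.mem_ker.1 hkk, add_zero]
        refine Prod.ext e (Subtype.ext ?_)
        show φ x + k - φ (π (φ x + k)) = k
        rw [e, add_sub_cancel_left]
      right_inv := fun v => add_sub_cancel _ _ }
  refine ⟨Φ.conj (LinearMap.prodMap T 1), fun v => ?_, ?_, ?_⟩
  · obtain ⟨⟨x, k⟩, rfl⟩ := Φ.surjective v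
    rw [LinearEquiv.conj_apply_apply, LinearEquiv.symm_apply_apply]
    show Q (φ (T x) + k.1) = Q (φ x + k.1)
    have hz : ∀ y, polarBilin Q (φ y) k.1 = 0 := fun y => by
      rw [Cfsg.Agent.Lib.Geometry.quad_polar_comm, ← hπ, LinearMap.mem_ker.1 k.2, map_zero, LinearMap.zero_apply]
    rw [Cfsg.Agent.Lib.Geometry.quad_add, Cfsg.Agent.Lib.Geometry.quad_add, hz, hz, hφ, hφ, hT]
  · have hpow : ∀ k, (LinearMap.prodMap T (1 : Module.End F (LinearMap.ker π))) ^ k = LinearMap.prodMap (T ^ k) 1 := fun k => by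
      induction k with
      | zero => rfl
      | succ k ih => rw [pow_succ, ih, pow_succ]; rfl
    show (Φ.conjAlgEquiv F (LinearMap.prodMap T 1)) ^ r = 1
    rw [← map_pow, hpow, hTr]
    exact map_one (Φ.conjAlgEquiv F)
  · rw [LinearEquiv.charpoly_conj, LinearMap.charpoly_prodMap, LinearMap.charpoly_one, C_1]
    congr 2
    have := Φ.finrank_eq
    rw [Module.finrank_prod] at this
    omega

end Cfsg.Agent.Lib.Similar.OrthBlocks
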