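import Mathlib
import Cfsg.Agent.Lib.Classical.AutPOmega.QuadType

/-!
The type of a quadratic space with a fixed-point-free isometry of odd prime order, and embeddings of
even-dimensional quadratic spaces.
-/

set_option autoImplicit false

namespace Cfsg.Agent.Lib.Similar.Orth

open QuadraticMap (polarBilin)
open Cfsg.Agent.Lib.Geometry (quad_add quad_smul quad_polar_self quad_polar_comm quad_polar_map hypPerp mem_hypPerp hypPerp_nondeg finrank_hypPerp_ge)
open Cfsg.Agent.Lib.Classical (zeroCount zeroCount_congr zeroCount_hyperForm hyperForm plusEquiv)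
open Cfsg.Agent.Lib.Classical.AutPOmega (IsHyp plusR minusR hyp_eq ell_eq isHyp_of_hypBasis not_isHyp_of_ellBasis anisotropic_of_no_root)
open Module (finrank)

attribute [-simp] QuadraticMap.polarBilin_apply_apply

variable {F V : Type*} [Field F] [Fintype F] [AddCommGroup V] [Module F V] [FiniteDimensional F V] {q : ℕ}

theorem zeroCount_types (hq : Fintype.card F = q) {Q : QuadraticForm F V} (hQ : (polarBilin Q).Nondegenerate) {M : ℕ}
    (hM : 1 ≤ M) (hV : finrank F V = 2 * M) :
    (IsHyp Q M ∧ q * zeroCount Q + q ^ M = q ^ (M + 1) + q ^ (2 * M)) ∨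
      (¬ IsHyp Q M ∧ q * zeroCount Q + q ^ (M + 1) = q ^ M + q ^ (2 * M)) := by
  rcases QuadFin.exists_normal_basis Q hQ hM hV with ⟨B, hB⟩ | ⟨B, ζ, hB⟩
  · refine .inl ⟨isHyp_of_hypBasis hB, ?_⟩
    rw [zeroCount_congr Q (plusR M F) B.equivFun fun v => (hyp_eq hB v).symm,
      zeroCount_congr (plusR M F) (hyperForm M (0 : QuadraticForm F (Fin 0 → F))) (plusEquiv M F) fun v => rfl]
    have h := zeroCount_hyperForm hq (d := 0) (by simp) (0 : QuadraticForm F (Fin 0 → F)) M
    have hz : zeroCount (0 : QuadraticForm F (Fin 0 → F)) = 1 := by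
      rw [zeroCount, Nat.card_eq_one_iff_exists]
      exact ⟨⟨0, map_zero _⟩, fun x => Subsingleton.elim _ _⟩
    rw [hz, zero_add, zero_add, mul_one] at h
    exact h
  · obtain ⟨k, rfl⟩ : ∃ k, M = k + 1 := ⟨M - 1, by omega⟩
    obtain ⟨B, hB⟩ : ∃ B' : Module.Basis ((Fin k ⊕ Fin k) ⊕ Fin 2) F V, QuadFin.IsEllBasis Q B' ζ := ⟨B, hB⟩
    refine .inr ⟨not_isHyp_of_ellBasis hB, ?_⟩
    have hab := anisotropic_of_no_root (a := (1 : F)) (b := ζ) fun t => by rw [one_mul]; exact hB.1 t
    obtain ⟨Q₀, hQ₀⟩ : ∃ Q₀ : QuadraticForm F (F × F), ∀ z, Q₀ z = z.1 ^ 2 + 1 * z.1 * z.2 + ζ * z.2 ^ 2 :=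
      ⟨QuadraticMap.linMulLin (LinearMap.fst F F F) (LinearMap.fst F F F) +
        (1 : F) • QuadraticMap.linMulLin (LinearMap.fst F F F) (LinearMap.snd F F F) +
          ζ • QuadraticMap.linMulLin (LinearMap.snd F F F) (LinearMap.snd F F F), fun z => by
            simp [pow_two, mul_assoc]⟩
    obtain ⟨e, he⟩ : ∃ e : V ≃ₗ[F] ((Fin k → F) × (Fin k → F) × (F × F)), ∀ v, hyperForm k Q₀ (e v) = Q v := by
      let e' : (((Fin k ⊕ Fin k) ⊕ Fin 2) → F) ≃ₗ[F] ((Fin k → F) × (Fin k → F) × (F × F)) :=
        { toFun := fun v => (fun i => v (.inl (.inl i)), fun i => v (.inl (.inr i)), (v (.inr 0), v (.inr 1)))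
          map_add' := fun x y => rfl
          map_smul' := fun c x => rfl
          invFun := fun p => Sum.elim (Sum.elim p.1 p.2.1) ![p.2.2.1, p.2.2.2]
          left_inv := fun v => by
            funext i
            rcases i with (i | i) | i
            · rfl
            · rfl
            · fin_cases i <;> rfl
          right_inv := fun p => rfl }
      refine ⟨B.equivFun.trans e', fun v => ?_⟩
      rw [Classical.hyperForm_apply, hQ₀, ell_eq hB, Classical.AutPOmega.minusR_apply]
      rfl
    have hz : zeroCount Q₀ = 1 := by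
      rw [zeroCount, Nat.card_eq_one_iff_exists]
      exact ⟨⟨0, map_zero _⟩, fun x => Subtype.ext
        (Prod.ext (hab _ _ ((hQ₀ x.1).symm.trans x.2)).1 (hab _ _ ((hQ₀ x.1).symm.trans x.2)).2)⟩
    have h := zeroCount_hyperForm hq (d := 2) (by rw [Nat.card_prod, Nat.card_eq_fintype_card, hq, pow_two]) Q₀ k
    rw [hz, mul_one, show 2 + 2 * k = 2 * (k + 1) by ring, show 2 + k = k + 1 + 1 by ring] at h
    rw [zeroCount_congr Q _ e he]
    exact h

/-- The type is determined by `q ^ M` modulo the order of a fixed-point-free isometry of odd prime order. -/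
theorem type_of_fpf {r : ℕ} (hr : r.Prime) (hr2 : r ≠ 2) (hq : Fintype.card F = q) (hrq : (q : ZMod r) ≠ 0)
    {Q : QuadraticForm F V} (hQ : (polarBilin Q).Nondegenerate) {M : ℕ} (hM : 1 ≤ M) (hV : finrank F V = 2 * M)
    {T : Module.End F V} (hT : ∀ v, Q (T v) = Q v) (hTr : T ^ r = 1) (hfix : ∀ v, T v = v → v = 0) :
    IsHyp Q M ↔ (q : ZMod r) ^ M = 1 := by
  classical
  have : Fact r.Prime := ⟨hr⟩
  haveI : Finite V := Module.finite_of_finite F
  letI : Fintype V := Fintype.ofFinite V
  have hTi : Function.Injective T := (injective_iff_map_eq_zero T).2 fun v hv => hQ.1 _ fun w => by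
    rw [← quad_polar_map Q hT, hv, map_zero, LinearMap.zero_apply]
  obtain ⟨Te, hTe⟩ : ∃ Te : V ≃ₗ[F] V, ∀ v, Te v = T v := ⟨LinearEquiv.ofInjectiveEndo T hTi, fun v => rfl⟩
  -- the non-singular lines
  obtain ⟨L, hL⟩ : ∃ L : Finset (Submodule F V), L = (Finset.univ.filter fun v : V => Q v ≠ 0).image (fun v => Submodule.span F {v}) :=
    ⟨_, rfl⟩
  have hfib : ∀ l ∈ L, ((Finset.univ.filter fun v : V => Q v ≠ 0).filter fun v => Submodule.span F {v} = l).card = q - 1 := by
    intro l hl
    rw [hL, Finset.mem_image] at hl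
    obtain ⟨v, hv, rfl⟩ := hl
    rw [Finset.mem_filter] at hv
    have hv0 : v ≠ 0 := fun h => hv.2 (by rw [h, map_zero])
    rw [← hq, ← Fintype.card_units, ← Finset.card_univ]
    symm
    refine Finset.card_bij (fun c _ => (c : Fˣ) • v) (fun c _ => ?_) (fun c _ d _ h => ?_) (fun w hw => ?_)
    · simp only [Finset.mem_filter, Finset.mem_univ, true_and]
      refine ⟨?_, Submodule.span_singleton_group_smul_eq F c v⟩
      rw [Units.smul_def, quad_smul]
      exact mul_ne_zero (mul_ne_zero c.ne_zero c.ne_zero) hv.2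
    · rw [Units.smul_def, Units.smul_def] at h
      exact Units.ext (smul_left_injective F hv0 h)
    · simp only [Finset.mem_filter, Finset.mem_univ, true_and] at hw
      obtain ⟨c, hc⟩ := Submodule.span_singleton_eq_span_singleton.1 hw.2.symm
      exact ⟨c, Finset.mem_univ _, hc⟩
  have hcount : L.card * (q - 1) + zeroCount Q = q ^ (2 * M) := by
    have h1 := Finset.card_eq_sum_card_fiberwise (f := fun v : V => Submodule.span F {v})
      (s := Finset.univ.filter fun v : V => Q v ≠ 0) (t := L) (fun v hv => by rw [hL]; exact Finset.mem_image_of_mem _ hv)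
    rw [Finset.sum_congr rfl hfib, Finset.sum_const, smul_eq_mul] at h1
    rw [← h1, zeroCount, Nat.card_eq_fintype_card, Fintype.card_subtype, add_comm,
      Finset.card_filter_add_card_filter_not, Finset.card_univ, ← Nat.card_eq_fintype_card,
      Module.natCard_eq_pow_finrank (K := F), hV, Nat.card_eq_fintype_card, hq]
  have hLT : ∀ l ∈ L, l.map Te.toLinearMap ∈ L := by
    intro l hl
    rw [hL, Finset.mem_image] at hl ⊢
    obtain ⟨v, hv, rfl⟩ := hl
    rw [Finset.mem_filter] at hv
    refine ⟨Te v, Finset.mem_filter.2 ⟨Finset.mem_univ _, by rw [hTe, hT]; exact hv.2⟩, ?_⟩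
    rw [Submodule.map_span, Set.image_singleton]
    rfl
  obtain ⟨σ, hσ⟩ : ∃ σ : Equiv.Perm L, ∀ l : L, ((σ l : L) : Submodule F V) = (l : Submodule F V).map Te.toLinearMap :=
    ⟨Equiv.ofBijective (fun l => ⟨_, hLT _ l.2⟩) ((Finite.injective_iff_bijective).1 fun a b h =>
      Subtype.ext (Submodule.map_injective_of_injective (f := Te.toLinearMap) Te.injective (congrArg Subtype.val h))), fun l => rfl⟩
  have hσk : ∀ (k : ℕ) (l : L), (((σ ^ k) l : L) : Submodule F V) = (l : Submodule F V).map (T ^ k) := by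
    intro k
    induction k with
    | zero => intro l; rw [pow_zero, pow_zero]; exact (Submodule.map_id _).symm
    | succ k ih =>
      intro l
      rw [pow_succ', Equiv.Perm.mul_apply, hσ, ih, ← Submodule.map_comp, pow_succ']
      congr 1
      exact LinearMap.ext fun v => hTe _
  have hσr : σ ^ r ^ 1 = 1 := Equiv.ext fun l => Subtype.ext (by rw [pow_one, hσk, hTr]; exact Submodule.map_id _)
  have hmove : ∀ l : L, σ l ≠ l := by
    rintro ⟨l, hl⟩ he
    have he' := congrArg Subtype.val he
    rw [hσ] at he'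
    rw [hL, Finset.mem_image] at hl
    obtain ⟨v, hv, rfl⟩ := hl
    rw [Finset.mem_filter] at hv
    simp only [Submodule.map_span, Set.image_singleton, LinearEquiv.coe_coe, hTe] at he'
    obtain ⟨c, hc⟩ := Submodule.span_singleton_eq_span_singleton.1 he'.symm
    rw [Units.smul_def] at hc
    have h1 : (c : F) * c = 1 := by
      have := hT v
      rw [← hc, quad_smul] at this
      exact (mul_eq_right₀ hv.2).1 this
    have hpow : ∀ k, (T ^ k) v = (c : F) ^ k • v := by
      intro k
      induction k with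
      | zero => simp
      | succ k ih => rw [pow_succ', Module.End.mul_apply, ih, map_smul, ← hc, smul_smul, ← pow_succ]
    have h2 : (c : F) ^ r = 1 := by
      have h := hpow r
      rw [hTr, Module.End.one_apply] at h
      exact (smul_left_injective F (fun h0 => hv.2 (by rw [h0, map_zero])) (h.symm.trans (one_smul F v).symm))
    have hc1 : (c : F) = 1 := by
      obtain ⟨k, hk⟩ := hr.odd_of_ne_two hr2
      rwa [hk, pow_succ, pow_mul, pow_two, h1, one_pow, one_mul] at h2
    rw [hc1, one_smul] at hc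
    exact hv.2 (by rw [hfix v hc.symm, map_zero])
  have hL0 : (L.card : ZMod r) = 0 := by
    have h := Equiv.Perm.card_compl_support_modEq (p := r) (n := 1) hσr
    have h0 : σ.supportᶜ = ∅ := Finset.eq_empty_of_forall_notMem fun l => by
      simpa [Finset.mem_compl, Equiv.Perm.mem_support] using hmove l
    rw [h0, Finset.card_empty, Fintype.card_coe] at h
    exact (ZMod.natCast_eq_zero_iff _ _).2 (Nat.modEq_zero_iff_dvd.1 h.symm)
  have hq2 : 2 ≤ q := hq ▸ Fintype.one_lt_card
  have hne : (1 : ZMod r) ≠ -1 := by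
    intro h
    have h2 : ((2 : ℕ) : ZMod r) = 0 := by rw [Nat.cast_two]; linear_combination h
    rw [ZMod.natCast_eq_zero_iff] at h2
    exact hr2 ((Nat.prime_dvd_prime_iff_eq hr Nat.prime_two).1 h2)
  obtain ⟨c, rfl⟩ : ∃ c, q = c + 1 := ⟨q - 1, by omega⟩
  rw [Nat.add_sub_cancel] at hcount
  rcases zeroCount_types hq hQ hM hV with ⟨hh, hz⟩ | ⟨hh, hz⟩
  · refine iff_of_true hh ?_
    have key : L.card * (c + 1) + (c + 1) ^ M = (c + 1) ^ M * (c + 1) ^ M := by
      refine Nat.eq_of_mul_eq_mul_left (show 0 < c by omega) ?_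
      rw [pow_succ, two_mul, pow_add] at hz
      rw [two_mul, pow_add] at hcount
      zify at hz hcount ⊢
      linear_combination ((c : ℤ) + 1) * hcount - hz
    have h := congrArg (fun k : ℕ => (k : ZMod r)) key
    simp only [Nat.cast_add, Nat.cast_mul, Nat.cast_pow, hL0, zero_mul, zero_add] at h
    refine mul_left_cancel₀ (pow_ne_zero M hrq) ?_
    rw [mul_one]
    simpa using h.symm
  · refine iff_of_false hh ?_
    have key : L.card * (c + 1) = (c + 1) ^ M * ((c + 1) ^ M + 1) := by
      refine Nat.eq_of_mul_eq_mul_left (show 0 < c by omega) ?_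
      rw [pow_succ, two_mul, pow_add] at hz
      rw [two_mul, pow_add] at hcount
      zify at hz hcount ⊢
      linear_combination ((c : ℤ) + 1) * hcount - hz
    have h := congrArg (fun k : ℕ => (k : ZMod r)) key
    simp only [Nat.cast_add, Nat.cast_mul, Nat.cast_pow, Nat.cast_one, hL0, zero_mul] at h
    intro h1
    rw [Nat.cast_add, Nat.cast_one] at h1
    rw [h1, one_mul] at h
    exact hne (by linear_combination -h)

omit [Fintype F] in
theorem binary_value [Finite F] {γ ζ : F} (hγ : γ ≠ 0) : ∃ α s : F, α * α - α + ζ = γ * (s * s) := by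
  classical
  letI := Fintype.ofFinite F
  by_cases h2 : (2 : F) = 0
  · haveI : CharP F 2 := CharTwo.of_one_ne_zero_of_two_eq_zero one_ne_zero h2
    obtain ⟨s, hs⟩ := isSquare_of_charTwo' (γ⁻¹ * ζ)
    exact ⟨0, s, by rw [← hs, mul_inv_cancel_left₀ hγ]; ring⟩
  · have hodd : Fintype.card F % 2 = 1 := FiniteField.odd_card_of_char_ne_two fun h => h2 (by
      haveI := ringChar.charP F
      rw [← Nat.cast_two, CharP.cast_eq_zero_iff F (ringChar F), h])
    obtain ⟨α, s, h⟩ := FiniteField.exists_root_sum_quadratic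
      (f := Polynomial.X ^ 2 - Polynomial.X + Polynomial.C ζ) (g := Polynomial.C (-γ) * Polynomial.X ^ 2)
      (by compute_degree!) (by compute_degree! <;> simp [hγ]) hodd
    refine ⟨α, s, ?_⟩
    simp only [Polynomial.eval_add, Polynomial.eval_sub, Polynomial.eval_pow, Polynomial.eval_X, Polynomial.eval_C,
      Polynomial.eval_mul] at h
    linear_combination h

/-- An even-dimensional non-degenerate space embeds in every larger one. -/
theorem exists_embedding {W : Type*} [AddCommGroup W] [Module F W] [FiniteDimensional F W]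
    {R : QuadraticForm F W} (hR : (polarBilin R).Nondegenerate) {Q : QuadraticForm F V} (hQ : (polarBilin Q).Nondegenerate)
    {k : ℕ} (hW : finrank F W = 2 * k) (hV : 2 * k + 1 ≤ finrank F V) :
    ∃ φ : W →ₗ[F] V, Function.Injective φ ∧ ∀ w, Q (φ w) = R w := by
  classical
  have key : ∀ φ : W →ₗ[F] V, (∀ w, Q (φ w) = R w) → Function.Injective φ := by
    intro φ hφ
    refine (injective_iff_map_eq_zero φ).2 fun w hw => hR.1 _ fun u => ?_
    have e1 := quad_add R w u
    rw [← hφ, ← hφ, ← hφ, map_add, hw, zero_add, map_zero, zero_add] at e1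
    simpa using e1.symm
  rcases Nat.eq_zero_or_pos k with rfl | hk
  · haveI : Subsingleton W := Module.finrank_zero_iff.1 (by omega)
    exact ⟨0, fun x y _ => Subsingleton.elim _ _, fun w => by simp [Subsingleton.elim w 0]⟩
  rcases QuadFin.exists_normal_basis R hR hk hW with ⟨B, h1, h2, h3⟩ | ⟨B, ζ, hB⟩
  · obtain ⟨p, hp⟩ := QuadFin.exists_qFrame Q hQ k hV
    obtain ⟨f, hf⟩ : ∃ f : Fin k ⊕ Fin k → V, f = Sum.elim (fun a => (p a).1) fun a => (p a).2 := ⟨_, rfl⟩
    suffices hφ : ∀ w, Q (B.constr F f w) = R w from ⟨B.constr F f, key _ hφ, hφ⟩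
    · intro w
      refine (QuadFin.quad_ext_basis R B (Q.comp (B.constr F f)) (fun i => ?_) (fun i j => ?_) w).symm
      · simp only [QuadraticMap.comp_apply, Module.Basis.constr_basis, hf]
        rcases i with a | a <;> simp [(hp.2 a).1, (hp.2 a).2, (h1 a).1, (h1 a).2]
      · have hc : ∀ x y, polarBilin (Q.comp (B.constr F f)) x y = polarBilin Q (B.constr F f x) (B.constr F f y) := fun x y => by
          simp only [QuadraticMap.polarBilin_apply_apply, QuadraticMap.polar, QuadraticMap.comp_apply, map_add]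
        rw [hc, Module.Basis.constr_basis, Module.Basis.constr_basis, hf]
        have hs : ∀ x y, polarBilin R x y = polarBilin R y x := fun x y => quad_polar_comm R x y
        rcases i with a | a <;> rcases j with b | b <;> simp only [Sum.elim_inl, Sum.elim_inr]
        · rw [(hp.1 a b).1]; exact (h3 a b).1
        · rw [(hp.1 a b).2.2]; exact h2 a b
        · rw [quad_polar_comm Q, (hp.1 b a).2.2, hs]; exact h2 b a
        · rw [(hp.1 a b).2.1]; exact (h3 a b).2
  · obtain ⟨l, rfl⟩ : ∃ l, k = l + 1 := ⟨k - 1, by omega⟩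
    obtain ⟨B, hζ, h1, h2, h3, h4, h5, h6, h7⟩ : ∃ B' : Module.Basis ((Fin l ⊕ Fin l) ⊕ Fin 2) F W, QuadFin.IsEllBasis R B' ζ :=
      ⟨B, hB⟩
    obtain ⟨p, hp⟩ := QuadFin.exists_qFrame Q hQ (l + 1) hV
    obtain ⟨z, hz, hQz⟩ : ∃ z ∈ hypPerp (polarBilin Q) p, Q z ≠ 0 := by
      by_contra! hc
      have hb : hypPerp (polarBilin Q) p ≠ ⊥ := fun hb => by
        have := finrank_hypPerp_ge (polarBilin Q) p
        rw [hb, finrank_bot] at this
        omega
      obtain ⟨u, hu, hu0⟩ := (Submodule.ne_bot_iff _).1 hb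
      refine hu0 (hypPerp_nondeg _ (QuadFin.polar_isSymm Q) hQ hp.1 u hu fun v hv => ?_)
      have h := quad_add Q u v
      rw [hc _ hu, hc _ hv, hc _ (Submodule.add_mem _ hu hv)] at h
      simpa using h.symm
    obtain ⟨α, s, hαs⟩ := binary_value (ζ := ζ) hQz
    obtain ⟨e, he⟩ : ∃ e, e = (p (Fin.last l)).1 := ⟨_, rfl⟩
    obtain ⟨f', hf'⟩ : ∃ f', f' = (p (Fin.last l)).2 := ⟨_, rfl⟩
    have hee : polarBilin Q e e = 0 := by rw [he]; exact (hp.1 _ _).1
    have hff : polarBilin Q f' f' = 0 := by rw [hf']; exact (hp.1 _ _).2.1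
    have hef : polarBilin Q e f' = 1 := by rw [he, hf', (hp.1 _ _).2.2, if_pos rfl]
    have hQe : Q e = 0 := by rw [he]; exact (hp.2 _).1
    have hQf : Q f' = 0 := by rw [hf']; exact (hp.2 _).2
    have hze : polarBilin Q e z = 0 := by rw [he]; exact ((mem_hypPerp _).1 hz _).1
    have hzf : polarBilin Q f' z = 0 := by rw [hf']; exact ((mem_hypPerp _).1 hz _).2
    obtain ⟨x, hx⟩ : ∃ x, x = e + f' := ⟨_, rfl⟩
    obtain ⟨y, hy⟩ : ∃ y, y = α • e + (1 - α) • f' + s • z := ⟨_, rfl⟩
    have hQx : Q x = 1 := by rw [hx, quad_add, hQe, hQf, hef]; ring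
    have hxy : polarBilin Q x y = 1 := by
      rw [hx, hy]
      simp only [map_add, map_smul, LinearMap.add_apply, smul_eq_mul, hee, hff, hef, hze, hzf, quad_polar_comm Q f' e]
      ring
    have hQy : Q y = ζ := by
      rw [hy, quad_add, quad_add, quad_smul, quad_smul, quad_smul]
      simp only [map_add, map_smul, LinearMap.add_apply, LinearMap.smul_apply, smul_eq_mul, hQe, hQf, hef, hze, hzf]
      linear_combination -hαs
    have hperp : ∀ a : Fin l, ∀ u ∈ [(p a.castSucc).1, (p a.castSucc).2],
        polarBilin Q u x = 0 ∧ polarBilin Q u y = 0 := by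
      intro a u hu
      have q1 := hp.1 a.castSucc (Fin.last l)
      have q2 := hp.1 (Fin.last l) a.castSucc
      have q3 := (mem_hypPerp _).1 hz a.castSucc
      rw [if_neg (Fin.castSucc_lt_last a).ne] at q1
      rw [if_neg (Fin.castSucc_lt_last a).ne'] at q2
      simp only [List.mem_cons, List.not_mem_nil, or_false] at hu
      rw [hx, hy, he, hf']
      simp only [map_add, map_smul, smul_eq_mul]
      rcases hu with rfl | rfl
      · rw [q1.1, q1.2.2, q3.1]; simp
      · rw [quad_polar_comm Q _ (p (Fin.last l)).1, q2.2.2, q1.2.1, q3.2]; simp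
    obtain ⟨f, hf⟩ : ∃ f : (Fin l ⊕ Fin l) ⊕ Fin 2 → V,
        f = Sum.elim (Sum.elim (fun a => (p a.castSucc).1) fun a => (p a.castSucc).2) ![x, y] := ⟨_, rfl⟩
    suffices hφ : ∀ w, Q (B.constr F f w) = R w from ⟨B.constr F f, key _ hφ, hφ⟩
    · intro w
      refine (QuadFin.quad_ext_basis R B (Q.comp (B.constr F f)) (fun i => ?_) (fun i j => ?_) w).symm
      · simp only [QuadraticMap.comp_apply, Module.Basis.constr_basis, hf]
        rcases i with (a | a) | c
        · simp [(hp.2 a.castSucc).1, (h1 a).1]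
        · simp [(hp.2 a.castSucc).2, (h1 a).2]
        · fin_cases c <;> simp [hQx, hQy, h5, h7]
      · have hc : ∀ u v, polarBilin (Q.comp (B.constr F f)) u v = polarBilin Q (B.constr F f u) (B.constr F f v) := fun u v => by
          simp only [QuadraticMap.polarBilin_apply_apply, QuadraticMap.polar, QuadraticMap.comp_apply, map_add]
        rw [hc, Module.Basis.constr_basis, Module.Basis.constr_basis, hf]
        have hs : ∀ u v, polarBilin R u v = polarBilin R v u := fun u v => quad_polar_comm R u v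
        rcases i with (a | a) | c <;> rcases j with (b | b) | d <;> simp only [Sum.elim_inl, Sum.elim_inr]
        · rw [(hp.1 _ _).1]; exact (h3 a b).1
        · rw [(hp.1 _ _).2.2]; simp only [Fin.castSucc_inj]; exact h2 a b
        · fin_cases d
          · exact (h4 a 0).1.trans (hperp a (p a.castSucc).1 (by simp)).1.symm
          · exact (h4 a 1).1.trans (hperp a (p a.castSucc).1 (by simp)).2.symm
        · rw [quad_polar_comm Q, (hp.1 _ _).2.2, hs]; simp only [Fin.castSucc_inj]; exact h2 b a
        · rw [(hp.1 _ _).2.1]; exact (h3 a b).2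
        · fin_cases d
          · exact (h4 a 0).2.trans (hperp a (p a.castSucc).2 (by simp)).1.symm
          · exact (h4 a 1).2.trans (hperp a (p a.castSucc).2 (by simp)).2.symm
        · rw [quad_polar_comm Q, hs]
          fin_cases c
          · exact (h4 b 0).1.trans (hperp b (p b.castSucc).1 (by simp)).1.symm
          · exact (h4 b 1).1.trans (hperp b (p b.castSucc).1 (by simp)).2.symm
        · rw [quad_polar_comm Q, hs]
          fin_cases c
          · exact (h4 b 0).2.trans (hperp b (p b.castSucc).2 (by simp)).1.symm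
          · exact (h4 b 1).2.trans (hperp b (p b.castSucc).2 (by simp)).2.symm
        · have rxx : polarBilin R (B (.inr 0)) (B (.inr 0)) = polarBilin Q x x := by
            rw [quad_polar_self, quad_polar_self, h5, hQx]
          have ryy : polarBilin R (B (.inr 1)) (B (.inr 1)) = polarBilin Q y y := by
            rw [quad_polar_self, quad_polar_self, h7, hQy]
          fin_cases c <;> fin_cases d
          · exact rxx
          · exact h6.trans hxy.symm
          · exact (quad_polar_comm R _ _).trans (h6.trans (hxy.symm.trans (quad_polar_comm Q x y)))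
          · exact ryy

end Cfsg.Agent.Lib.Similar.Orth
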