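import Mathlib
import Cfsg.Agent.Lib.Similar.InvolNorm
import Cfsg.Agent.Lib.Geometry.WittQuadratic

/-!
Isometries of odd order prime to the characteristic of a quadratic space which are similar are
conjugate in the isometry group.
-/

set_option autoImplicit false

namespace Cfsg.Agent.Lib.Similar.Orth

open QuadraticMap (polarBilin)
open Cfsg.Agent.Lib.Geometry (quad_sub quad_polar_self quad_polar_comm quad_polar_map witt_quadratic)

attribute [-simp] QuadraticMap.polarBilin_apply_apply

variable {F V : Type*} [Field F] [AddCommGroup V] [Module F V] [FiniteDimensional F V] {Q : QuadraticForm F V}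

/-- The adjoint with respect to the polar form. -/
noncomputable def qadj (hQ : (polarBilin Q).Nondegenerate) (f : Module.End F V) : Module.End F V :=
  ((LinearMap.BilinForm.toDual (polarBilin Q) hQ).symm.toLinearMap).comp
    (f.dualMap.comp (LinearMap.BilinForm.toDual (polarBilin Q) hQ).toLinearMap)

theorem qadj_spec (hQ : (polarBilin Q).Nondegenerate) (f : Module.End F V) (u v : V) :
    polarBilin Q (qadj hQ f u) v = polarBilin Q u (f v) := by
  rw [← LinearMap.BilinForm.toDual_def (b := hQ), ← LinearMap.BilinForm.toDual_def (b := hQ)]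
  simp only [qadj, LinearMap.comp_apply, LinearEquiv.coe_coe, LinearEquiv.apply_symm_apply, LinearMap.dualMap_apply]

theorem eq_of_polar (hQ : (polarBilin Q).Nondegenerate) {f g : Module.End F V}
    (h : ∀ u v, polarBilin Q (f u) v = polarBilin Q (g u) v) : f = g :=
  LinearMap.ext fun u => sub_eq_zero.1 (hQ.1 _ fun v => by rw [map_sub, LinearMap.sub_apply, h, sub_self])

theorem qadj_qadj (hQ : (polarBilin Q).Nondegenerate) (f : Module.End F V) : qadj hQ (qadj hQ f) = f :=
  eq_of_polar hQ fun u v => by rw [qadj_spec, quad_polar_comm, qadj_spec, quad_polar_comm]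

theorem qadj_mul (hQ : (polarBilin Q).Nondegenerate) (f g : Module.End F V) : qadj hQ (f * g) = qadj hQ g * qadj hQ f :=
  eq_of_polar hQ fun u v => by rw [qadj_spec, Module.End.mul_apply, Module.End.mul_apply, qadj_spec, qadj_spec]

theorem qadj_add (hQ : (polarBilin Q).Nondegenerate) (f g : Module.End F V) : qadj hQ (f + g) = qadj hQ f + qadj hQ g :=
  eq_of_polar hQ fun u v => by simp only [qadj_spec, LinearMap.add_apply, map_add]

theorem qadj_smul (hQ : (polarBilin Q).Nondegenerate) (c : F) (f : Module.End F V) : qadj hQ (c • f) = c • qadj hQ f :=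
  eq_of_polar hQ fun u v => by simp only [qadj_spec, LinearMap.smul_apply, map_smul]

theorem qadj_one (hQ : (polarBilin Q).Nondegenerate) : qadj hQ (1 : Module.End F V) = 1 :=
  eq_of_polar hQ fun u v => by rw [qadj_spec]; rfl

theorem qadj_isometry (hQ : (polarBilin Q).Nondegenerate) {a : Module.End F V} (ha : ∀ v, Q (a v) = Q v) :
    qadj hQ a * a = 1 :=
  eq_of_polar hQ fun u v => by rw [Module.End.mul_apply, qadj_spec, quad_polar_map Q ha]; rfl

/-- Similar isometries of odd order prime to the characteristic are conjugate by an isometry. -/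
theorem exists_conj [Finite F] (hQ : (polarBilin Q).Nondegenerate) {n : ℕ} (hn : Odd n) (hnF : (n : F) ≠ 0)
    {a b G : Module.End F V} (ha : ∀ v, Q (a v) = Q v) (hb : ∀ v, Q (b v) = Q v) (han : a ^ n = 1)
    (hG : Function.Injective G) (hGab : G * a = b * G) :
    ∃ u : V ≃ₗ[F] V, (∀ v, Q (u v) = Q v) ∧ ∀ v, u (a v) = b (u v) := by
  classical
  haveI : Finite V := Module.finite_of_finite F
  haveI : Finite (Module.End F V) := Finite.of_injective (fun f => (f : V → V)) DFunLike.coe_injective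
  have haa : qadj hQ a * a = 1 := qadj_isometry hQ ha
  have haa' : a * qadj hQ a = 1 := mul_eq_one_comm.1 haa
  obtain ⟨X, hX⟩ : ∃ X, X = qadj hQ G * G := ⟨_, rfl⟩
  have hXs : ∀ u v, polarBilin Q (X u) v = polarBilin Q (G u) (G v) := fun u v => by
    rw [hX, Module.End.mul_apply, qadj_spec]
  have hGa : ∀ v, G (a v) = b (G v) := fun v => LinearMap.congr_fun hGab v
  have hXa : X * a = a * X := eq_of_polar hQ fun u v => by
    have e1 : a (qadj hQ a v) = v := LinearMap.congr_fun haa' v
    conv_rhs => rw [Module.End.mul_apply, ← e1, quad_polar_map Q ha, hXs, ← quad_polar_map Q hb, ← hGa, ← hGa, e1]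
    rw [Module.End.mul_apply, hXs]
  have hXadj : qadj hQ X = X := by rw [hX, qadj_mul, qadj_qadj]
  have hXai : X * qadj hQ a = qadj hQ a * X := by
    calc X * qadj hQ a = qadj hQ a * (a * X) * qadj hQ a := by rw [← mul_assoc (qadj hQ a), haa, one_mul]
      _ = qadj hQ a * X := by rw [← hXa, mul_assoc, mul_assoc, haa', mul_one]
  have hgen : ∀ u ∈ ({a, qadj hQ a, X} : Set (Module.End F V)), ∀ v ∈ ({a, qadj hQ a, X} : Set (Module.End F V)), u * v = v * u := by
    intro u hu v hv
    simp only [Set.mem_insert_iff, Set.mem_singleton_iff] at hu hv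
    rcases hu with rfl | rfl | rfl <;> rcases hv with rfl | rfl | rfl <;>
      first | rfl | exact haa'.trans haa.symm | exact haa.trans haa'.symm | exact hXa | exact hXa.symm | exact hXai | exact hXai.symm
  let _ : CommRing (Algebra.adjoin F ({a, qadj hQ a, X} : Set (Module.End F V))) := Algebra.adjoinCommRingOfComm F hgen
  obtain ⟨S, hS⟩ : ∃ S, S = Algebra.adjoin F ({a, qadj hQ a, X} : Set (Module.End F V)) := ⟨_, rfl⟩
  have hclosed : ∀ Y ∈ Algebra.adjoin F ({a, qadj hQ a, X} : Set (Module.End F V)),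
      qadj hQ Y ∈ Algebra.adjoin F ({a, qadj hQ a, X} : Set (Module.End F V)) := by
    intro Y hY
    induction hY using Algebra.adjoin_induction with
    | mem z hz =>
      simp only [Set.mem_insert_iff, Set.mem_singleton_iff] at hz
      rcases hz with rfl | rfl | rfl
      · exact Algebra.subset_adjoin (by simp)
      · rw [qadj_qadj]; exact Algebra.subset_adjoin (by simp)
      · rw [hXadj]; exact Algebra.subset_adjoin (by simp)
    | algebraMap c =>
      rw [Algebra.algebraMap_eq_smul_one, qadj_smul, qadj_one, ← Algebra.algebraMap_eq_smul_one]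
      exact Subalgebra.algebraMap_mem _ c
    | add x y _ _ hx hy => rw [qadj_add]; exact add_mem hx hy
    | mul x y _ _ hx hy => rw [qadj_mul]; exact mul_mem hy hx
  let τ : Algebra.adjoin F ({a, qadj hQ a, X} : Set (Module.End F V)) →+* Algebra.adjoin F ({a, qadj hQ a, X} : Set (Module.End F V)) :=
    { toFun := fun Y => ⟨qadj hQ Y.1, hclosed _ Y.2⟩
      map_one' := Subtype.ext (qadj_one hQ)
      map_mul' := fun u v => by
        rw [mul_comm (⟨qadj hQ u.1, _⟩ : Algebra.adjoin F ({a, qadj hQ a, X} : Set (Module.End F V)))]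
        exact Subtype.ext (qadj_mul hQ _ _)
      map_zero' := Subtype.ext (eq_of_polar hQ fun u v => by
        show polarBilin Q (qadj hQ (0 : Module.End F V) u) v = polarBilin Q ((0 : Module.End F V) u) v
        rw [qadj_spec]; simp)
      map_add' := fun u v => Subtype.ext (qadj_add hQ _ _) }
  have hττ : ∀ z, τ (τ z) = z := fun z => Subtype.ext (qadj_qadj hQ _)
  obtain ⟨A, hA⟩ : ∃ A : Algebra.adjoin F ({a, qadj hQ a, X} : Set (Module.End F V)), A.1 = a :=
    ⟨⟨a, Algebra.subset_adjoin (by simp)⟩, rfl⟩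
  obtain ⟨xS, hxS⟩ : ∃ xS : Algebra.adjoin F ({a, qadj hQ a, X} : Set (Module.End F V)), xS.1 = X :=
    ⟨⟨X, Algebra.subset_adjoin (by simp)⟩, rfl⟩
  have hAn : A ^ n = 1 := Subtype.ext (by rw [SubmonoidClass.coe_pow, hA, han]; rfl)
  have hAA : τ A * A = 1 := Subtype.ext (by show qadj hQ A.1 * A.1 = 1; rw [hA, haa])
  have hτx : τ xS = xS := Subtype.ext (by show qadj hQ xS.1 = xS.1; rw [hxS, hXadj])
  -- averaging
  obtain ⟨t0, ht0⟩ : ∃ t0, t0 = (n : F)⁻¹ • ∑ k ∈ Finset.range n, A ^ k := ⟨_, rfl⟩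
  have hAt0 : A * t0 = t0 := by
    rw [ht0, mul_smul_comm]
    congr 1
    have := mul_geom_sum A n
    rw [hAn, sub_self, sub_mul, one_mul, sub_eq_zero] at this
    exact this
  have hpow : ∀ k, A ^ k * t0 = t0 := by
    intro k
    induction k with
    | zero => rw [pow_zero, one_mul]
    | succ k ih => rw [pow_succ, mul_assoc, hAt0, ih]
  have hτA : τ A * t0 = t0 := by
    conv_lhs => rw [← hAt0, ← mul_assoc, hAA, one_mul]
  have hcast : (n : F)⁻¹ • (n • t0) = t0 := by rw [← Nat.cast_smul_eq_nsmul F, smul_smul, inv_mul_cancel₀ hnF, one_smul]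
  have hsmul : ∀ (c : F) z, τ (c • z) = c • τ z := fun c z => Subtype.ext (qadj_smul hQ c _)
  have h1 : τ t0 * t0 = t0 := by
    have hp : ∀ k, τ A ^ k * t0 = t0 := by
      intro k
      induction k with
      | zero => rw [pow_zero, one_mul]
      | succ k ih => rw [pow_succ, mul_assoc, hτA, ih]
    conv_lhs => arg 1; rw [ht0, hsmul, map_sum]
    rw [smul_mul_assoc, Finset.sum_mul, Finset.sum_congr rfl (fun k _ => by rw [map_pow, hp] : ∀ k ∈ Finset.range n,
      τ (A ^ k) * t0 = t0), Finset.sum_const, Finset.card_range, hcast]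
  have hτt0 : τ t0 = t0 := by
    have := congrArg τ h1
    rw [map_mul, hττ, mul_comm, h1] at this
    exact this.symm
  have htt0 : t0 * t0 = t0 := by rw [hτt0] at h1; exact h1
  obtain ⟨t, ht⟩ : ∃ t, t = 1 - t0 := ⟨_, rfl⟩
  have htt : t * t = t := by rw [ht]; linear_combination htt0
  have hτt : τ t = t := by rw [ht, map_sub, map_one, hτt0]
  obtain ⟨w, hw⟩ : ∃ w, (A - 1) * w = t := by
    refine ⟨(n : F)⁻¹ • ∑ k ∈ Finset.range n, -∑ j ∈ Finset.range k, A ^ j, ?_⟩
    rw [mul_smul_comm, Finset.mul_sum, Finset.sum_congr rfl (fun k _ => by rw [mul_neg, mul_geom_sum, neg_sub] :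
      ∀ k ∈ Finset.range n, (A - 1) * -∑ j ∈ Finset.range k, A ^ j = 1 - A ^ k),
      Finset.sum_sub_distrib, smul_sub, Finset.sum_const, Finset.card_range, ← Nat.cast_smul_eq_nsmul F, smul_smul,
      inv_mul_cancel₀ hnF, one_smul, ← ht0, ← ht]
  obtain ⟨w2, hw2⟩ : ∃ w2, (A * A - 1) * w2 = A - 1 := by
    obtain ⟨l, rfl⟩ := hn
    refine ⟨∑ j ∈ Finset.range (l + 1), (A * A) ^ j, ?_⟩
    rw [mul_geom_sum, ← pow_two, ← pow_mul, show 2 * (l + 1) = 2 * l + 1 + 1 by ring, pow_succ, hAn, one_mul]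
  -- the norm equation
  have hXu : Function.Injective X := by
    intro u v huv
    have hGs : Function.Surjective G := LinearMap.injective_iff_surjective.1 hG
    refine hG (sub_eq_zero.1 (hQ.1 _ fun z => ?_))
    obtain ⟨z, rfl⟩ := hGs z
    rw [← map_sub, ← hXs, map_sub, huv, sub_self, map_zero, LinearMap.zero_apply]
  obtain ⟨xi, hxi⟩ : ∃ xi, xS * xi = 1 := by
    have hinj : Function.Injective fun Y => xS * Y := fun Y Z h =>
      Subtype.ext (LinearMap.ext fun v => hXu (by
        have := LinearMap.congr_fun (congrArg Subtype.val h) v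
        simpa [hxS] using this))
    exact Finite.injective_iff_surjective.1 hinj 1
  have hτxi : τ xi = xi := by
    have e := congrArg τ hxi
    rw [map_mul, hτx, map_one] at e
    linear_combination xi * e - τ xi * hxi
  obtain ⟨I, hI'⟩ : ∃ I : Ideal (Algebra.adjoin F ({a, qadj hQ a, X} : Set (Module.End F V))), I = Ideal.span {1 - t} :=
    ⟨_, rfl⟩
  have hI : I ≤ I.comap τ := by
    rw [hI', Ideal.span_le]
    rintro _ rfl
    rw [SetLike.mem_coe, Ideal.mem_comap, map_sub, map_one, hτt]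
    exact Ideal.subset_span rfl
  have : Finite ((Algebra.adjoin F ({a, qadj hQ a, X} : Set (Module.End F V))) ⧸ I) :=
    Finite.of_surjective _ Ideal.Quotient.mk_surjective
  obtain ⟨y, hy⟩ := InvolNorm.exists_mul_tau (Ideal.quotientMap I τ hI)
    (fun z => by
      obtain ⟨z, rfl⟩ := Ideal.Quotient.mk_surjective z
      rw [Ideal.quotientMap_mk, Ideal.quotientMap_mk, hττ])
    ⟨Ideal.Quotient.mk I A, by
      rw [Ideal.quotientMap_mk, ← map_sub]
      refine IsUnit.of_mul_eq_one (Ideal.Quotient.mk I (A * w2 * w)) ?_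
      rw [← map_mul, ← map_one (Ideal.Quotient.mk I), Ideal.Quotient.eq, hI', Ideal.mem_span_singleton]
      exact ⟨-1, by linear_combination hw + w * hw2 - w2 * w * hAA⟩⟩
    (Ideal.Quotient.mk I xi) ((IsUnit.of_mul_eq_one xS (by rw [mul_comm]; exact hxi)).map _)
    (by rw [Ideal.quotientMap_mk, hτxi])
  obtain ⟨y, rfl⟩ := Ideal.Quotient.mk_surjective y
  rw [Ideal.quotientMap_mk, ← map_mul, Ideal.Quotient.eq, hI', Ideal.mem_span_singleton] at hy
  obtain ⟨k, hk⟩ := hy
  obtain ⟨Y, hY⟩ : ∃ Y, Y = y * t := ⟨_, rfl⟩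
  have hYY : τ Y * xS * Y = t := by
    rw [hY, map_mul, hτt]
    linear_combination (t * t * xS) * hk + (t * t) * hxi + (1 - xS * t * k) * htt
  obtain ⟨Y', hY'⟩ : ∃ Y', Y * Y' = t ∧ t * Y' = Y' := by
    refine ⟨τ y * xS * t, ?_, ?_⟩
    · rw [hY]
      linear_combination (t * t * xS) * hk + (t * t) * hxi + (1 - xS * t * k) * htt
    · linear_combination (τ y * xS) * htt
  obtain ⟨Z, hZ⟩ : ∃ Z, Z = G * Y.1 := ⟨_, rfl⟩
  have hv : ∀ (P R : Algebra.adjoin F ({a, qadj hQ a, X} : Set (Module.End F V))) (v : V), (P * R).1 v = P.1 (R.1 v) :=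
    fun P R v => rfl
  have hAv : ∀ v, a v = A.1 v := fun v => by rw [hA]
  have hXv : ∀ v, X v = xS.1 v := fun v => by rw [hxS]
  have hZB : ∀ u v, polarBilin Q (Z u) (Z v) = polarBilin Q (t.1 u) v := by
    intro u v
    rw [hZ, Module.End.mul_apply, Module.End.mul_apply, ← hXs, ← qadj_spec hQ, hXv]
    show polarBilin Q ((τ Y).1 (xS.1 (Y.1 u))) v = _
    rw [← hv, ← hv, hYY]
  have hZa : ∀ v, Z (a v) = b (Z v) := by
    intro v
    rw [hZ, Module.End.mul_apply, Module.End.mul_apply, hAv, ← hv, mul_comm, hv, ← hAv, hGa]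
  obtain ⟨W, hW⟩ : ∃ W : Submodule F V, W = LinearMap.range t.1 := ⟨_, rfl⟩
  have hWt : ∀ u ∈ W, t.1 u = u := by
    intro u hu
    rw [hW] at hu
    obtain ⟨v, rfl⟩ := hu
    rw [← hv, htt]
  have hWm : ∀ v, t.1 v ∈ W := fun v => by rw [hW]; exact ⟨v, rfl⟩
  have hiso : ∀ u ∈ W, Q (Z u) = Q u := by
    intro u hu
    obtain ⟨x, hx⟩ : ∃ x, x = (t * w).1 u := ⟨_, rfl⟩
    have hxW : x ∈ W := by rw [hx, hv]; exact hWm _
    have hu' : a x - x = u := by
      rw [hx, hAv, ← hv]
      show ((A * (t * w)).1 - (t * w).1) u = u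
      rw [← Subalgebra.coe_sub, show A * (t * w) - t * w = t * t by linear_combination t * hw, htt, hWt u hu]
    have h2 : 2 * Q (Z x) = 2 * Q x := by rw [← quad_polar_self, ← quad_polar_self, hZB, hWt x hxW]
    have h3 : polarBilin Q (Z (a x)) (Z x) = polarBilin Q (a x) x := by
      rw [hZB, quad_polar_comm, ← qadj_spec hQ]
      show polarBilin Q ((τ t).1 x) (a x) = _
      rw [hτt, hWt x hxW, quad_polar_comm]
    rw [← hu', map_sub, quad_sub, quad_sub, h3, hZa, hb, ha]
    linear_combination h2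
  have hinj : Function.Injective (Z.comp W.subtype) := by
    rw [injective_iff_map_eq_zero]
    intro u hu
    refine Subtype.ext (hQ.1 _ fun v => ?_)
    have hu' : Z u.1 = 0 := hu
    rw [← hWt u.1 u.2, ← hZB, hu', map_zero, LinearMap.zero_apply]
  obtain ⟨h, hh, hhW⟩ := witt_quadratic Q hQ W (Z.comp W.subtype) hinj fun u => hiso u.1 u.2
  refine ⟨h, hh, fun v => ?_⟩
  have hsplit : v = t.1 v + t0.1 v := by
    show v = (t.1 + t0.1) v
    rw [← Subalgebra.coe_add, ht, sub_add_cancel]
    rfl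
  have hb1 : b (h (t0.1 v)) = h (t0.1 v) := by
    have hbi : Function.Injective b := (injective_iff_map_eq_zero b).2 fun z hz => hQ.1 _ fun z' => by
      rw [← quad_polar_map Q hb, hz, map_zero, LinearMap.zero_apply]
    refine sub_eq_zero.1 (hQ.1 _ fun z => ?_)
    obtain ⟨z, rfl⟩ := LinearMap.injective_iff_surjective.1 hbi z
    obtain ⟨z, rfl⟩ := LinearMap.injective_iff_surjective.1 hG z
    have hdiff : b (G z) - G z = h (Y'.1 ((A - 1).1 z)) := by
      have hm : Y'.1 ((A - 1).1 z) ∈ W := by rw [← hY'.2, hv]; exact hWm _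
      refine Eq.trans ?_ (hhW ⟨_, hm⟩).symm
      show _ = Z (Y'.1 ((A - 1).1 z))
      rw [hZ, Module.End.mul_apply, ← hv, ← hv, hY'.1,
        show t * (A - 1) = A - 1 by rw [ht]; linear_combination -hAt0,
        Subalgebra.coe_sub, LinearMap.sub_apply, map_sub, hA, hGa]
      rfl
    rw [map_sub, LinearMap.sub_apply, quad_polar_map Q hb,
      show polarBilin Q (h (t0.1 v)) (G z) - polarBilin Q (h (t0.1 v)) (b (G z)) =
        - polarBilin Q (h (t0.1 v)) (b (G z) - G z) by rw [map_sub]; ring,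
      hdiff, ← LinearEquiv.coe_coe h, quad_polar_map Q hh, ← hY'.2, hv, ← qadj_spec hQ]
    show - polarBilin Q ((τ t).1 (t0.1 v)) _ = 0
    rw [hτt, ← hv, show t * t0 = 0 by rw [ht]; linear_combination -htt0]
    simp
  conv_rhs => rw [hsplit, map_add, map_add, hb1]
  have ha0 : a (t0.1 v) = t0.1 v := by rw [hAv, ← hv, hAt0]
  have hat : a (t.1 v) ∈ W := by rw [hAv, ← hv, mul_comm, hv]; exact hWm _
  conv_lhs => rw [hsplit, map_add, map_add, ha0]
  congr 1
  rw [hhW ⟨_, hat⟩, hhW ⟨_, hWm v⟩]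
  exact hZa _

end Cfsg.Agent.Lib.Similar.Orth
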