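import Mathlib
import Cfsg.Agent.Lib.Similar.InvolNorm
import Cfsg.Agent.Lib.Geometry.SympBasis

/-!
Semisimple symplectic matrices that are similar are conjugate in the symplectic group.
-/

set_option autoImplicit false

namespace Cfsg.Agent.Lib.Similar.Symp

open Matrix
open Polynomial (aeval)

variable {l : Type*} [Fintype l] [DecidableEq l] {K : Type*} [Field K]

local notation "M2" => Matrix (l ⊕ l) (l ⊕ l) K

/-- The symplectic adjoint. -/
def sadj (A : M2) : M2 := -(J l K * Aᵀ * J l K)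

theorem J_mul_sadj (A : M2) : J l K * sadj A = Aᵀ * J l K := by
  rw [sadj, mul_neg, ← mul_assoc, ← mul_assoc, J_squared, neg_one_mul, neg_mul, neg_neg]

theorem J_cancel {A B : M2} (h : J l K * A = J l K * B) : A = B := by
  have := congrArg (fun C => J l K * C) h
  simp only [← mul_assoc, J_squared, neg_one_mul, neg_inj] at this
  exact this

theorem sadj_mul (A B : M2) : sadj (A * B) = sadj B * sadj A := by
  apply J_cancel
  rw [J_mul_sadj, ← mul_assoc, J_mul_sadj, mul_assoc Bᵀ, J_mul_sadj, transpose_mul, mul_assoc]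

theorem sadj_sadj (A : M2) : sadj (sadj A) = A := by
  rw [sadj, sadj, transpose_neg, transpose_mul, transpose_mul, transpose_transpose, J_transpose]
  simp only [neg_mul, mul_neg, neg_neg, mul_assoc, J_squared, mul_one]
  rw [← mul_assoc, J_squared, neg_one_mul, neg_neg]

theorem sadj_one : sadj (1 : M2) = 1 := by
  rw [sadj, transpose_one, mul_one, J_squared, neg_neg]

theorem sadj_add (A B : M2) : sadj (A + B) = sadj A + sadj B := by
  rw [sadj, sadj, sadj, transpose_add, mul_add, add_mul, neg_add]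

theorem sadj_sub (A B : M2) : sadj (A - B) = sadj A - sadj B :=
  eq_sub_of_add_eq (by rw [← sadj_add, sub_add_cancel])

theorem sadj_smul (c : K) (A : M2) : sadj (c • A) = c • sadj A := by
  rw [sadj, sadj, transpose_smul, Matrix.mul_smul, Matrix.smul_mul, smul_neg]

theorem sadj_algebraMap (c : K) : sadj (algebraMap K M2 c) = algebraMap K M2 c := by
  rw [Algebra.algebraMap_eq_smul_one, sadj_smul, sadj_one]

theorem sadj_aeval (A : M2) (f : Polynomial K) : sadj (aeval A f) = aeval (sadj A) f := by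
  induction f using Polynomial.induction_on with
  | C c => simp [sadj_algebraMap]
  | add p q hp hq => rw [map_add, map_add, sadj_add, hp, hq]
  | monomial n c _ =>
    simp only [map_mul, Polynomial.aeval_C, map_pow, Polynomial.aeval_X, sadj_mul, sadj_algebraMap]
    have : sadj (A ^ (n + 1)) = sadj A ^ (n + 1) := by
      induction n + 1 with
      | zero => rw [pow_zero, pow_zero, sadj_one]
      | succ k ih => rw [pow_succ, sadj_mul, ih, ← pow_succ']
    rw [this]
    exact (Algebra.commutes c _).symm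

theorem mem_iff {A : M2} : A ∈ symplecticGroup l K ↔ sadj A * A = 1 := by
  rw [SymplecticGroup.mem_iff']
  constructor
  · intro h
    refine J_cancel ?_
    rw [← mul_assoc, J_mul_sadj, h, mul_one]
  · intro h
    rw [← J_mul_sadj, mul_assoc, h, mul_one]

/-- The projection to an eigenspace for a self-inverse eigenvalue. -/
theorem exists_proj {a : M2} (ha : sadj a * a = 1) {P : Polynomial K} (hP : Squarefree P) (hPa : aeval a P = 0) {ε : K}
    (hε : ε * ε = 1) :
    ∃ e w : Polynomial K, aeval a e * aeval a e = aeval a e ∧ sadj (aeval a e) = aeval a e ∧ a * aeval a e = ε • aeval a e ∧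
      1 - aeval a e = (a - ε • 1) * aeval a w := by
  obtain ⟨Q, hQ0, hQa⟩ : ∃ Q : Polynomial K, Q.eval ε ≠ 0 ∧ (a - ε • 1) * aeval a Q = 0 := by
    by_cases h : P.IsRoot ε
    · obtain ⟨Q, hQ⟩ := Polynomial.dvd_iff_isRoot.2 h
      refine ⟨Q, fun h0 => ?_, ?_⟩
      · obtain ⟨R, hR⟩ := Polynomial.dvd_iff_isRoot.2 h0
        exact Polynomial.not_isUnit_X_sub_C ε (hP _ ⟨R, by rw [hQ, hR, mul_assoc]⟩)
      · rw [hQ, map_mul, map_sub, Polynomial.aeval_X, Polynomial.aeval_C, Algebra.algebraMap_eq_smul_one] at hPa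
        exact hPa
    · exact ⟨P, h, by rw [hPa, mul_zero]⟩
  obtain ⟨e, he⟩ : ∃ e, e = Polynomial.C (Q.eval ε)⁻¹ * Q := ⟨_, rfl⟩
  have he1 : e.eval ε = 1 := by rw [he, Polynomial.eval_mul, Polynomial.eval_C, inv_mul_cancel₀ hQ0]
  have hea : a * aeval a e = ε • aeval a e := by
    rw [← sub_eq_zero, show a * aeval a e - ε • aeval a e = (a - ε • 1) * aeval a e by rw [sub_mul, Matrix.smul_mul, one_mul],
      he, map_mul, Polynomial.aeval_C, Algebra.algebraMap_eq_smul_one, Matrix.smul_mul, one_mul, Matrix.mul_smul, hQa, smul_zero]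
  have hf : ∀ (b : M2), b * aeval a e = ε • aeval a e → ∀ f : Polynomial K, aeval b f * aeval a e = f.eval ε • aeval a e := by
    intro b hb f
    induction f using Polynomial.induction_on with
    | C c => rw [Polynomial.aeval_C, Polynomial.eval_C, Algebra.algebraMap_eq_smul_one, Matrix.smul_mul, one_mul]
    | add p q hp hq => rw [map_add, add_mul, hp, hq, Polynomial.eval_add, add_smul]
    | monomial n c ih =>
      rw [pow_succ, ← mul_assoc, map_mul, Polynomial.aeval_X, mul_assoc, hb, Matrix.mul_smul, ih, smul_smul]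
      congr 1
      simp only [Polynomial.eval_mul, Polynomial.eval_X]
      ring
  have hee : aeval a e * aeval a e = aeval a e := by rw [hf a hea e, he1, one_smul]
  have hadje : sadj a * aeval a e = ε • aeval a e := by
    have h := congrArg (fun C => ε • (sadj a * C)) hea
    simp only [← mul_assoc, ha, one_mul, Matrix.mul_smul, smul_smul, hε, one_smul] at h
    exact h.symm
  have hadj : sadj (aeval a e) * aeval a e = aeval a e := by rw [sadj_aeval, hf _ hadje e, he1, one_smul]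
  have hself : sadj (aeval a e) = aeval a e := by
    have h := congrArg sadj hadj
    rw [sadj_mul, sadj_sadj] at h
    exact h.symm.trans hadj
  obtain ⟨w, hw⟩ : Polynomial.X - Polynomial.C ε ∣ 1 - e := by
    rw [Polynomial.dvd_iff_isRoot, Polynomial.IsRoot, Polynomial.eval_sub, Polynomial.eval_one, he1, sub_self]
  refine ⟨e, w, hee, hself, hea, ?_⟩
  have := congrArg (aeval a) hw
  rw [map_sub, map_one, map_mul, map_sub, Polynomial.aeval_X, Polynomial.aeval_C, Algebra.algebraMap_eq_smul_one] at this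
  exact this

theorem ext_bilin {A B : M2} (h : ∀ u v, u ⬝ᵥ (A *ᵥ v) = u ⬝ᵥ (B *ᵥ v)) : A = B := by
  ext i j
  have := h (Pi.single i 1) (Pi.single j 1)
  simpa using this

theorem dot_J (u : l ⊕ l → K) : u ⬝ᵥ (J l K *ᵥ u) = 0 := by
  have e : ∀ v : l ⊕ l → K, J l K *ᵥ v = Sum.elim (fun i => -v (Sum.inr i)) (fun i => v (Sum.inl i)) := by
    intro v
    rw [J, fromBlocks_mulVec]
    congr 1 <;> ext i <;> simp [Function.comp_def, Matrix.neg_mulVec]
  rw [e, dotProduct, Fintype.sum_sum_type, ← Finset.sum_add_distrib]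
  exact Finset.sum_eq_zero fun i _ => by simp only [Sum.elim_inl, Sum.elim_inr]; ring

theorem form_mulVec (A B : M2) (u v : l ⊕ l → K) : (A *ᵥ u) ⬝ᵥ ((J l K * B) *ᵥ v) = u ⬝ᵥ ((J l K * (sadj A * B)) *ᵥ v) := by
  rw [← mul_assoc (J l K), J_mul_sadj, mul_assoc Aᵀ, ← mulVec_mulVec v Aᵀ, dotProduct_mulVec u Aᵀ, vecMul_transpose]

/-- On the image of an idempotent the two alternating forms are equivalent. -/
theorem exists_piece {G X e : M2} (hX : X = sadj G * G) (hXu : IsUnit X) (hee : e * e = e) (hes : sadj e = e) (heX : e * X = X * e) :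
    ∃ Y : M2, sadj Y * Y = X * e ∧ e * Y = Y ∧ Y * e = Y := by
  classical
  obtain ⟨E, hE⟩ : ∃ E : Submodule K (l ⊕ l → K), E = LinearMap.range (Matrix.toLin' e) := ⟨_, rfl⟩
  have hmem : ∀ v, e *ᵥ v ∈ E := fun v => by rw [hE]; exact ⟨v, Matrix.toLin'_apply e v⟩
  have hid : ∀ u : E, e *ᵥ (u : l ⊕ l → K) = (u : l ⊕ l → K) := by
    rintro ⟨u, hu⟩
    rw [hE] at hu
    obtain ⟨v, rfl⟩ := hu
    show e *ᵥ (e *ᵥ v) = e *ᵥ v
    rw [mulVec_mulVec, hee]
  let bf : M2 → LinearMap.BilinForm K E := fun W =>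
    (Matrix.toBilin' (J l K * W)).comp E.subtype E.subtype
  have hbf : ∀ W (u v : E), bf W u v = (u : l ⊕ l → K) ⬝ᵥ ((J l K * W) *ᵥ (v : l ⊕ l → K)) := fun W u v => by
    simp [bf, Matrix.toBilin'_apply']
  have hnd : ∀ W : M2, IsUnit W → e * W = W * e → ∀ u : E, (∀ v : E, bf W u v = 0) → u = 0 := by
    intro W hW heW u hu
    obtain ⟨V, hV⟩ := hW
    have hzero : ∀ v, (u : l ⊕ l → K) ⬝ᵥ ((J l K * W) *ᵥ v) = 0 := by
      intro v
      have h := hu ⟨e *ᵥ v, hmem v⟩
      rw [hbf] at h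
      rw [← hid u, form_mulVec, hes, heW, ← mul_assoc, ← mulVec_mulVec]
      exact h
    refine Subtype.ext (funext fun i => ?_)
    have h := hzero (((V⁻¹ : GL (l ⊕ l) K) : M2) *ᵥ (-(J l K) *ᵥ Pi.single i 1))
    rw [mulVec_mulVec, ← hV, mul_assoc, Units.mul_inv, mul_one, mulVec_mulVec, mul_neg, J_squared, neg_neg, one_mulVec] at h
    simpa using h
  have hA0 : (bf 1).IsAlt := fun u => by rw [hbf, mul_one]; exact dot_J _
  have hA1 : (bf X).IsAlt := fun u => by
    rw [hbf, hX, ← form_mulVec, ← mulVec_mulVec]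
    exact dot_J _
  have hbasis : ∀ W : M2, IsUnit W → e * W = W * e → (bf W).IsAlt → ∃ (m : ℕ) (b : Module.Basis (Fin m ⊕ Fin m) K E),
      ∀ i j, bf W (b i) (b j) = Sum.elim (fun a => Sum.elim (fun _ => (0 : K)) (fun c => if a = c then 1 else 0))
        (fun a => Sum.elim (fun c => if c = a then -1 else 0) (fun _ => 0)) i j := by
    intro W hW heW hA
    obtain ⟨m, k, b, h1, h2, h3, h4⟩ := Cfsg.Agent.Lib.Geometry.exists_sympBasis (bf W) hA
    have hk : k = 0 := by
      by_contra hk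
      exact b.ne_zero _ (hnd W hW heW _ (h4 ⟨0, Nat.pos_of_ne_zero hk⟩))
    subst hk
    refine ⟨m, b.reindex (Equiv.sumEmpty _ _), ?_⟩
    rintro (a | a) (c | c) <;> simp only [Module.Basis.reindex_apply, Equiv.sumEmpty_symm_apply, Sum.elim_inl, Sum.elim_inr]
    · exact h2 a c
    · exact h1 a c
    · rw [← hA.neg_eq, h1]
      split_ifs <;> simp
    · exact h3 a c
  obtain ⟨m, b0, h0⟩ := hbasis 1 isUnit_one (by rw [mul_one, one_mul]) hA0
  obtain ⟨m', b1, h1⟩ := hbasis X hXu heX hA1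
  obtain rfl : m = m' := by
    have := (Module.finrank_eq_card_basis b0).symm.trans (Module.finrank_eq_card_basis b1)
    simp only [Fintype.card_sum, Fintype.card_fin] at this
    omega
  obtain ⟨Z, hZ⟩ : ∃ Z : E →ₗ[K] E, ∀ u v, bf 1 (Z u) (Z v) = bf X u v := by
    refine ⟨(b1.equiv b0 (Equiv.refl _)).toLinearMap, fun u v => ?_⟩
    refine LinearMap.congr_fun₂ (?_ : (bf 1).comp (b1.equiv b0 (Equiv.refl _)).toLinearMap (b1.equiv b0 (Equiv.refl _)).toLinearMap = bf X) u v
    refine LinearMap.BilinForm.ext_basis b1 fun i j => ?_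
    rw [LinearMap.BilinForm.comp_apply, LinearEquiv.coe_coe, Module.Basis.equiv_apply, Module.Basis.equiv_apply,
      Equiv.refl_apply, Equiv.refl_apply, h0, h1]
  obtain ⟨Y, hY⟩ : ∃ Y : M2, ∀ v, Y *ᵥ v = (Z ⟨e *ᵥ v, hmem v⟩ : l ⊕ l → K) := by
    refine ⟨LinearMap.toMatrix' (E.subtype.comp (Z.comp ((Matrix.toLin' e).codRestrict E fun v => by
      rw [Matrix.toLin'_apply]; exact hmem v))), fun v => ?_⟩
    rw [← Matrix.toLin'_apply, Matrix.toLin'_toMatrix']
    rfl
  refine ⟨Y, ?_, ?_, ?_⟩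
  · refine J_cancel (ext_bilin fun u v => ?_)
    rw [← form_mulVec, ← mulVec_mulVec, hY, hY]
    have h := hZ ⟨e *ᵥ u, hmem u⟩ ⟨e *ᵥ v, hmem v⟩
    rw [hbf, hbf, mul_one] at h
    refine h.trans ?_
    show (e *ᵥ u) ⬝ᵥ ((J l K * X) *ᵥ (e *ᵥ v)) = _
    rw [mulVec_mulVec, mul_assoc, form_mulVec, hes, ← mul_assoc e, heX, mul_assoc X, hee]
  · refine ext_bilin fun u v => ?_
    rw [← mulVec_mulVec, hY, hid]
  · refine ext_bilin fun u v => ?_
    rw [← mulVec_mulVec, hY, hY]
    congr 4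
    rw [mulVec_mulVec, hee]

variable [Finite K]

/-- Similar semisimple symplectic matrices are conjugate by a symplectic matrix. -/
theorem exists_symp_conj {a b G : M2} (ha : sadj a * a = 1) (hb : sadj b * b = 1) {P : Polynomial K} (hP : Squarefree P)
    (hPa : aeval a P = 0) (hG : IsUnit G) (hGab : G * a = b * G) :
    ∃ h ∈ symplecticGroup l K, h * a = b * h := by
  classical
  obtain ⟨X, hX⟩ : ∃ X, X = sadj G * G := ⟨_, rfl⟩
  have hXs : sadj X = X := by rw [hX, sadj_mul, sadj_sadj]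
  have ha2 : a * sadj a = 1 := mul_eq_one_comm.1 ha
  have hXa : X * a = a * X := by
    have h1 : sadj a * sadj G = sadj G * sadj b := by rw [← sadj_mul, ← sadj_mul, hGab]
    have h3 : sadj G * b = a * sadj G := by
      calc sadj G * b = (a * sadj a) * sadj G * b := by rw [ha2, one_mul]
        _ = a * (sadj a * sadj G) * b := by rw [mul_assoc a]
        _ = a * (sadj G * (sadj b * b)) := by rw [h1]; simp only [mul_assoc]
        _ = a * sadj G := by rw [hb, mul_one]
    rw [hX, mul_assoc, hGab, ← mul_assoc, h3, mul_assoc]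
  have hGs : IsUnit (sadj G) := by
    obtain ⟨g, rfl⟩ := hG
    exact IsUnit.of_mul_eq_one _ (by rw [← sadj_mul, Units.inv_mul, sadj_one] : sadj (g : M2) * sadj ((g⁻¹ : GL (l ⊕ l) K) : M2) = 1)
  have hXu : IsUnit X := hX ▸ hGs.mul hG
  obtain ⟨p1, w1, a1, a2, a3, a4⟩ := exists_proj ha hP hPa (one_mul (1 : K))
  obtain ⟨p2, w2, b1, b2, b3, b4⟩ := exists_proj ha hP hPa (ε := -1) (by rw [neg_mul_neg, one_mul])
  obtain ⟨e1, he1⟩ : ∃ e1, e1 = aeval a p1 := ⟨_, rfl⟩
  obtain ⟨e2, he2⟩ : ∃ e2, e2 = aeval a (p2 * (1 - p1)) := ⟨_, rfl⟩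
  obtain ⟨e3, he3⟩ : ∃ e3, e3 = aeval a ((1 - p2) * (1 - p1)) := ⟨_, rfl⟩
  rw [← he1] at a1 a2 a3
  have hcomm : ∀ f : Polynomial K, Commute (aeval a f) X := fun f =>
    (Algebra.commute_of_mem_adjoin_singleton_of_commute (Polynomial.aeval_mem_adjoin_singleton K a) hXa).symm
  have hfa : ∀ f g : Polynomial K, Commute (aeval a f) (aeval a g) := fun f g => (Commute.all f g).map _
  have hsum : e1 + e2 + e3 = 1 := by
    rw [he1, he2, he3, ← map_add, ← map_add, show p1 + p2 * (1 - p1) + (1 - p2) * (1 - p1) = 1 by ring, map_one]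
  have h12 : e1 * e2 = 0 := by
    rw [he1, he2, map_mul, (hfa p2 (1 - p1)).eq, ← mul_assoc, map_sub, map_one, mul_sub, mul_one, ← he1, a1, sub_self, zero_mul]
  have h13 : e1 * e3 = 0 := by
    rw [he1, he3, map_mul, (hfa (1 - p2) (1 - p1)).eq, ← mul_assoc, show aeval a (1 - p1) = 1 - e1 by rw [map_sub, map_one, he1],
      mul_sub, mul_one, ← he1, a1, sub_self, zero_mul]
  have h23 : e2 * e3 = 0 := by
    rw [he2, he3, ← map_mul, show p2 * (1 - p1) * ((1 - p2) * (1 - p1)) = (p2 * (1 - p2)) * ((1 - p1) * (1 - p1)) by ring,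
      map_mul, map_mul _ p2, map_sub, map_one, mul_sub, mul_one, b1, sub_self, zero_mul]
  have hs2 : sadj e2 = e2 := by
    rw [he2, map_mul, sadj_mul, b2, map_sub, map_one, sadj_sub, sadj_one, ← he1, a2, ← map_one (aeval a (R := K)), he1, ← map_sub]
    exact (hfa _ _).eq
  have hs3 : sadj e3 = e3 := by
    rw [show e3 = 1 - e1 - e2 by rw [← hsum]; abel, sadj_sub, sadj_sub, sadj_one, a2, hs2]
  have h21 : e2 * e1 = 0 := by rw [he2, he1, (hfa _ _).eq, ← he2, ← he1, h12]
  have h31 : e3 * e1 = 0 := by rw [he3, he1, (hfa _ _).eq, ← he3, ← he1, h13]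
  have h32 : e3 * e2 = 0 := by rw [he3, he2, (hfa _ _).eq, ← he3, ← he2, h23]
  have h22 : e2 * e2 = e2 := by
    calc e2 * e2 = (e1 + e2 + e3) * e2 := by rw [add_mul, add_mul, h12, h32, zero_add, add_zero]
      _ = e2 := by rw [hsum, one_mul]
  have ha2e : a * e2 = (-1 : K) • e2 := by
    rw [he2, map_mul, ← mul_assoc, b3, Matrix.smul_mul]
  obtain ⟨Y1, y11, y12, y13⟩ := exists_piece hX hXu a1 a2 (he1 ▸ (hcomm p1).eq)
  obtain ⟨Y2, y21, y22, y23⟩ := exists_piece hX hXu h22 hs2 (he2 ▸ (hcomm _).eq)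
  -- the part without self-inverse eigenvalues
  have hgen : ∀ u ∈ ({a, sadj a, X} : Set M2), ∀ v ∈ ({a, sadj a, X} : Set M2), u * v = v * u := by
    have hXai : X * sadj a = sadj a * X := by
      calc X * sadj a = sadj a * (a * X) * sadj a := by rw [← mul_assoc (sadj a), ha, one_mul]
        _ = sadj a * X := by rw [← hXa, mul_assoc, mul_assoc, ha2, mul_one]
    intro u hu v hv
    simp only [Set.mem_insert_iff, Set.mem_singleton_iff] at hu hv
    rcases hu with rfl | rfl | rfl <;> rcases hv with rfl | rfl | rfl <;>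
      first | rfl | exact ha2.trans ha.symm | exact ha.trans ha2.symm | exact hXa | exact hXa.symm | exact hXai | exact hXai.symm
  let _ : CommRing (Algebra.adjoin K ({a, sadj a, X} : Set M2)) := Algebra.adjoinCommRingOfComm K hgen
  have hclosed : ∀ Y ∈ Algebra.adjoin K ({a, sadj a, X} : Set M2), sadj Y ∈ Algebra.adjoin K ({a, sadj a, X} : Set M2) := by
    intro Y hY
    induction hY using Algebra.adjoin_induction with
    | mem z hz =>
      simp only [Set.mem_insert_iff, Set.mem_singleton_iff] at hz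
      rcases hz with rfl | rfl | rfl
      · exact Algebra.subset_adjoin (by simp)
      · rw [sadj_sadj]; exact Algebra.subset_adjoin (by simp)
      · rw [hXs]; exact Algebra.subset_adjoin (by simp)
    | algebraMap c => rw [sadj_algebraMap]; exact Subalgebra.algebraMap_mem _ c
    | add x y _ _ hx hy => rw [sadj_add]; exact add_mem hx hy
    | mul x y _ _ hx hy => rw [sadj_mul]; exact mul_mem hy hx
  have haS : a ∈ Algebra.adjoin K ({a, sadj a, X} : Set M2) := Algebra.subset_adjoin (by simp)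
  have hpS : ∀ f : Polynomial K, aeval a f ∈ Algebra.adjoin K ({a, sadj a, X} : Set M2) := fun f =>
    Algebra.adjoin_mono (by simp) (Polynomial.aeval_mem_adjoin_singleton K a)
  let τ : Algebra.adjoin K ({a, sadj a, X} : Set M2) →+* Algebra.adjoin K ({a, sadj a, X} : Set M2) :=
    { toFun := fun Y => ⟨sadj Y.1, hclosed _ Y.2⟩
      map_one' := Subtype.ext sadj_one
      map_mul' := fun u v => by
        rw [mul_comm (⟨sadj u.1, _⟩ : Algebra.adjoin K ({a, sadj a, X} : Set M2))]
        exact Subtype.ext (sadj_mul _ _)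
      map_zero' := Subtype.ext (by show sadj (0 : M2) = 0; simp [sadj])
      map_add' := fun u v => Subtype.ext (sadj_add _ _) }
  let t : Algebra.adjoin K ({a, sadj a, X} : Set M2) := ⟨e3, he3 ▸ hpS _⟩
  have ht : τ t = t := Subtype.ext hs3
  let I : Ideal (Algebra.adjoin K ({a, sadj a, X} : Set M2)) := Ideal.span {1 - t}
  have hI : I ≤ I.comap τ := by
    rw [Ideal.span_le]
    rintro _ rfl
    rw [SetLike.mem_coe, Ideal.mem_comap, map_sub, map_one, ht]
    exact Ideal.subset_span rfl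
  let xS : Algebra.adjoin K ({a, sadj a, X} : Set M2) := ⟨X, Algebra.subset_adjoin (by simp)⟩
  have hxu : IsUnit xS := by
    have hinj : Function.Injective fun Y => xS * Y := fun Y Z h =>
      Subtype.ext (hXu.mul_left_cancel (congrArg Subtype.val h))
    obtain ⟨Y, hY⟩ := Finite.injective_iff_surjective.1 hinj 1
    exact IsUnit.of_mul_eq_one _ hY
  have he3w : e3 = (a - sadj a) * (a * (aeval a w2 * aeval a w1)) := by
    rw [he3, map_mul, map_sub, map_one, map_sub, map_one, b4, a4]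
    simp only [one_smul, neg_smul, sub_neg_eq_add]
    rw [← mul_assoc (a - sadj a), sub_mul a (sadj a) a, ha]
    have hc : Commute (aeval a w2) (a - 1) := by
      have := hfa w2 (Polynomial.X - 1)
      rwa [map_sub, Polynomial.aeval_X, map_one] at this
    rw [mul_assoc, ← mul_assoc (aeval a w2), hc.eq]
    simp only [← mul_assoc]
    congr 2
    rw [add_mul, one_mul, mul_sub, mul_one]
    abel
  have : Finite ((Algebra.adjoin K ({a, sadj a, X} : Set M2)) ⧸ I) := Finite.of_surjective _ Ideal.Quotient.mk_surjective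
  obtain ⟨y, hy⟩ := InvolNorm.exists_mul_tau (Ideal.quotientMap I τ hI)
    (fun z => by
      obtain ⟨z, rfl⟩ := Ideal.Quotient.mk_surjective z
      rw [Ideal.quotientMap_mk, Ideal.quotientMap_mk]
      exact congrArg _ (Subtype.ext (sadj_sadj _)))
    ⟨Ideal.Quotient.mk I ⟨a, haS⟩, by
      rw [Ideal.quotientMap_mk, ← map_sub]
      refine IsUnit.of_mul_eq_one (Ideal.Quotient.mk I ⟨a * (aeval a w2 * aeval a w1), mul_mem haS (mul_mem (hpS _) (hpS _))⟩) ?_
      rw [← map_mul, ← map_one (Ideal.Quotient.mk I), Ideal.Quotient.eq, Ideal.mem_span_singleton]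
      refine ⟨-1, Subtype.ext ?_⟩
      show (a - sadj a) * (a * (aeval a w2 * aeval a w1)) - 1 = (1 - e3) * -1
      rw [← he3w, mul_neg_one, neg_sub]⟩
    (Ideal.Quotient.mk I xS) (hxu.map _) (by rw [Ideal.quotientMap_mk]; exact congrArg _ (Subtype.ext hXs))
  obtain ⟨y, rfl⟩ := Ideal.Quotient.mk_surjective y
  rw [Ideal.quotientMap_mk, ← map_mul, Ideal.Quotient.eq, Ideal.mem_span_singleton] at hy
  obtain ⟨k, hk⟩ := hy
  have htt : t * t = t := Subtype.ext (by
    show e3 * e3 = e3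
    calc e3 * e3 = (e1 + e2 + e3) * e3 := by rw [add_mul, add_mul, h13, h23, zero_add, zero_add]
      _ = e3 := by rw [hsum, one_mul])
  obtain ⟨Y3, hY3⟩ : ∃ Y3, Y3 = (y * t : Algebra.adjoin K ({a, sadj a, X} : Set M2)) := ⟨_, rfl⟩
  have y31 : sadj Y3.1 * Y3.1 = X * e3 := congrArg Subtype.val (show τ Y3 * Y3 = xS * t by
    rw [hY3, map_mul, ht]
    linear_combination t * hk + (y * τ y - k) * htt)
  have y32 : e3 * Y3.1 = Y3.1 := congrArg Subtype.val (show t * Y3 = Y3 by rw [hY3, mul_comm y t, ← mul_assoc, htt])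
  have y33 : Y3.1 * e3 = Y3.1 := congrArg Subtype.val (show Y3 * t = Y3 by rw [hY3, mul_assoc, htt])
  have y3a : Y3.1 * a = a * Y3.1 := congrArg Subtype.val (mul_comm Y3 ⟨a, haS⟩)
  have eig : ∀ (ε : K) (e Y : M2), Commute a e → a * e = ε • e → e * Y = Y → Y * e = Y → Y * a = a * Y := by
    intro ε e Y hc hae h1 h2
    calc Y * a = Y * (e * a) := by rw [← mul_assoc, h2]
      _ = ε • Y := by rw [← hc.eq, hae, Matrix.mul_smul, h2]
      _ = a * Y := by rw [← h1, ← mul_assoc a, hae, Matrix.smul_mul]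
  have y1a := eig _ e1 Y1 (he1 ▸ (show Commute a (aeval a p1) by simpa using hfa Polynomial.X p1)) a3 y12 y13
  have y2a := eig _ e2 Y2 (he2 ▸ (show Commute a (aeval a (p2 * (1 - p1))) by
    have := hfa Polynomial.X (p2 * (1 - p1)); rwa [Polynomial.aeval_X] at this)) ha2e y22 y23
  have cross : ∀ (e e' A B : M2), sadj e = e → e * e' = 0 → e * A = A → e' * B = B → sadj A * B = 0 := by
    intro e e' A B hs h0 hA hB
    rw [← hA, ← hB, sadj_mul, hs, mul_assoc, ← mul_assoc e, h0, zero_mul, mul_zero]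
  obtain ⟨Y, hY⟩ : ∃ Y, Y = Y1 + Y2 + Y3.1 := ⟨_, rfl⟩
  have hYY : sadj Y * Y = X := by
    rw [hY, sadj_add, sadj_add]
    simp only [add_mul, mul_add, y11, y21, y31, cross _ _ _ _ a2 h12 y12 y22, cross _ _ _ _ a2 h13 y12 y32,
      cross _ _ _ _ hs2 h21 y22 y12, cross _ _ _ _ hs2 h23 y22 y32, cross _ _ _ _ hs3 h31 y32 y12, cross _ _ _ _ hs3 h32 y32 y22,
      add_zero, zero_add]
    rw [← mul_add, ← mul_add, hsum, mul_one]
  have hYa : Y * a = a * Y := by rw [hY, add_mul, add_mul, mul_add, mul_add, y1a, y2a, y3a]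
  have hYu : IsUnit Y := by
    rw [Matrix.isUnit_iff_isUnit_det] at hXu ⊢
    rw [← hYY, det_mul] at hXu
    exact isUnit_of_mul_isUnit_right hXu
  obtain ⟨u, hu⟩ := hYu
  refine ⟨G * ((u⁻¹ : GL (l ⊕ l) K) : M2), mem_iff.2 ?_, ?_⟩
  · rw [sadj_mul, mul_assoc, ← mul_assoc (sadj G), ← hX, ← hYY, ← hu]
    simp only [mul_assoc, Units.mul_inv, mul_one]
    rw [← sadj_mul, Units.mul_inv, sadj_one]
  · have : ((u⁻¹ : GL (l ⊕ l) K) : M2) * a = a * ((u⁻¹ : GL (l ⊕ l) K) : M2) := by
      rw [Units.inv_mul_eq_iff_eq_mul, ← mul_assoc, Units.eq_mul_inv_iff_mul_eq, hu, hYa]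
    rw [mul_assoc, this, ← mul_assoc, hGab, mul_assoc]

end Cfsg.Agent.Lib.Similar.Symp
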