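import Mathlib
import Cfsg.Agent.S2590
import Cfsg.Agent.Lib.Geometry.OrthBasic
import Cfsg.Agent.Lib.Similar.OrbitPoly
import Cfsg.Agent.Lib.Similar.FamCount
import Cfsg.Agent.Lib.Similar.OrthBlocks
import Cfsg.Agent.Lib.Similar.OrthType
import Cfsg.Agent.S2645

/-!
Classes of elements of odd prime order prime to the characteristic in orthogonal groups.
-/

set_option autoImplicit false

namespace Cfsg.Agent.Lib.Similar.OrthCount

open Polynomial
open QuadraticMap (polarBilin)
open Cfsg.Agent.Lib.Classical.AutPOmega (IsHyp quad_equiv_of_type)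
open scoped Matrix

attribute [-simp] QuadraticMap.polarBilin_apply_apply

universe u

variable {F : Type u} [Field F] {ι : Type} [Fintype ι] [DecidableEq ι]

/-- The characteristic polynomial of an isometry and of its inverse agree. -/
theorem charpoly_inv_eq (Q : QuadraticForm F (ι → F)) (hQ : (polarBilin Q).Nondegenerate) (g : ↥(Cfsg.isometryGroup F ⇑Q)) :
    (((g : Matrix.GeneralLinearGroup ι F) : Matrix ι ι F)⁻¹).charpoly =
      ((g : Matrix.GeneralLinearGroup ι F) : Matrix ι ι F).charpoly := by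
  classical
  obtain ⟨A, hA'⟩ : ∃ A, A = ((g : Matrix.GeneralLinearGroup ι F) : Matrix ι ι F) := ⟨_, rfl⟩
  obtain ⟨M, hM⟩ : ∃ M, M = LinearMap.BilinForm.toMatrix' (polarBilin Q) := ⟨_, rfl⟩
  have hMdet : M.det ≠ 0 :=
    (LinearMap.BilinForm.nondegenerate_iff_det_ne_zero (Pi.basisFun F ι)).mp hQ |> fun h => by
      rw [hM]; rwa [LinearMap.BilinForm.toMatrix_basisFun] at h
  have hA : Aᵀ * M * A = M := by
    refine Matrix.toBilin'.injective (LinearMap.ext fun x => LinearMap.ext fun y => ?_)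
    rw [← Matrix.toBilin'_comp, LinearMap.BilinForm.comp_apply, hM, Matrix.toBilin'_toMatrix',
      Matrix.toLin'_apply, Matrix.toLin'_apply]
    exact Geometry.quad_polar_map Q (T := Matrix.toLin' A)
      (fun z => by rw [Matrix.toLin'_apply, hA']; exact Geometry.mem_isometryGroup_iff.mp g.2 z) x y
  obtain ⟨U, hU⟩ := (Matrix.isUnit_iff_isUnit_det M).2 (isUnit_iff_ne_zero.2 hMdet)
  have h : (((U⁻¹ : (Matrix ι ι F)ˣ) : Matrix ι ι F) * Aᵀ * M) * A = 1 := by
    rw [mul_assoc, mul_assoc, ← mul_assoc Aᵀ, hA, ← hU, Units.inv_mul]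
  rw [← hA', Matrix.inv_eq_left_inv h, ← hU, Matrix.coe_units_inv, Matrix.charpoly_units_conj', Matrix.charpoly_transpose]

theorem pow_eq_one_mat {Q : QuadraticForm F (ι → F)} {g : ↥(Cfsg.isometryGroup F ⇑Q)} {r : ℕ} (hg : g ^ r = 1) :
    ((g : Matrix.GeneralLinearGroup ι F) : Matrix ι ι F) ^ r = 1 := by
  rw [← Units.val_pow_eq_pow_val, ← SubmonoidClass.coe_pow, hg]
  rfl

variable [Fintype F]

/-- Classes of elements of odd prime order, by the characteristic polynomial. -/
theorem card_classes {p q : ℕ} [Fact p.Prime] [CharP F p] (hF : Fintype.card F = q) (Q : QuadraticForm F (ι → F))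
    (hQ : (polarBilin Q).Nondegenerate) {r i t N : ℕ} (hN : Fintype.card ι = N) (hr : r.Prime) (hr2 : r ≠ 2) (hrp : r ≠ p)
    (hi : i = orderOf (q : ZMod r)) (ht : t * i = r - 1) (b : Prop) [Decidable b]
    (hb : b ↔ ∀ M : ℕ, N = 2 * M → 1 ≤ M → (IsHyp Q M ↔ (q : ZMod r) ^ M = 1)) :
    ∃ c u : ℕ, c = (if Odd i then 2 else 1) ∧ c * u = t ∧ 1 ≤ u ∧
      Nat.card {C : ConjClasses ↥(Cfsg.isometryGroup F ⇑Q) // ∃ g : ↥(Cfsg.isometryGroup F ⇑Q), ConjClasses.mk g = C ∧ orderOf g = r} =
        (Nat.choose (N / (c * i) + u) u - 1 -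
          if ¬ b ∧ c * i ∣ N then
            Nat.choose (N / (c * i) + u - 1) (u - 1) else 0) := by
  classical
  have : Fact r.Prime := ⟨hr⟩
  obtain ⟨cond, hcond⟩ : ∃ cond : Prop, cond = (∀ M : ℕ, N = 2 * M → 1 ≤ M → (IsHyp Q M ↔ (q : ZMod r) ^ M = 1)) := ⟨_, rfl⟩
  obtain ⟨⟨f, hf⟩, -, hcard⟩ := FiniteField.card F p
  simp only [PNat.mk_coe] at hcard
  have hp : p.Prime := Fact.out
  have hrr : r.Coprime p := (Nat.coprime_primes hr hp).2 hrp
  have hsq : Squarefree (X ^ r - 1 : F[X]) := squarefree_X_pow_sub_one hrr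
  have hrq : (q : ZMod r) ≠ 0 := by
    rw [Ne, ZMod.natCast_eq_zero_iff]
    intro h
    have h2 : r ∣ p ^ f := hcard ▸ hF ▸ h
    exact hrp ((Nat.prime_dvd_prime_iff_eq hr hp).1 (hr.dvd_of_dvd_pow h2))
  have hrF : (r : F) ≠ 0 := fun h => hrp ((Nat.prime_dvd_prime_iff_eq hp hr).1 ((CharP.cast_eq_zero_iff F p r).1 h)).symm
  let J : Finset F[X] := (UniqueFactorizationMonoid.normalizedFactors (cyclotomic r F)).toFinset
  have hJ1 : ∀ g ∈ J, g.Monic ∧ Irreducible g ∧ g ∣ cyclotomic r F := fun g hg => by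
    rw [Multiset.mem_toFinset] at hg
    have h := UniqueFactorizationMonoid.irreducible_of_normalized_factor g hg
    refine ⟨?_, h, UniqueFactorizationMonoid.dvd_of_mem_normalizedFactors hg⟩
    rw [← UniqueFactorizationMonoid.normalize_normalized_factor g hg]
    exact monic_normalize h.ne_zero
  have hipos : 0 < i := by
    rw [hi, ← Units.val_mk0 hrq, orderOf_units]
    exact orderOf_pos _
  have hJdeg : ∀ g ∈ J, g.natDegree = i := fun g hg => by
    rw [natDegree_of_dvd_cyclotomic_of_irreducible (n := r) hcard hrr.symm (hJ1 g hg).2.2 (hJ1 g hg).2.1,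
      ← orderOf_units, ZMod.coe_unitOfCoprime, hi, ← hcard, hF]
  have hcsq : Squarefree (cyclotomic r F) := hsq.squarefree_of_dvd (cyclotomic.dvd_X_pow_sub_one r F)
  have hprodJ : ∏ g ∈ J, g = cyclotomic r F := by
    have hnd := (UniqueFactorizationMonoid.squarefree_iff_nodup_normalizedFactors
      (cyclotomic_ne_zero r F)).1 hcsq
    rw [Finset.prod_eq_multiset_prod, Multiset.map_id', Multiset.toFinset_val,
      Multiset.dedup_eq_self.2 hnd, UniqueFactorizationMonoid.prod_normalizedFactors_eq,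
      (cyclotomic.monic r F).normalize_eq_self]
    exact cyclotomic_ne_zero r F
  have hJcard : J.card = t := by
    have h := natDegree_prod_of_monic J (fun g => g) (fun g hg => (hJ1 g hg).1)
    rw [hprodJ, natDegree_cyclotomic, Nat.totient_prime hr, Finset.sum_const_nat hJdeg] at h
    rw [← ht] at h
    exact Nat.eq_of_mul_eq_mul_right hipos h.symm
  have hX1 : ∀ g ∈ J, g ≠ X - C 1 := by
    intro g hg h
    have hdvd := (hJ1 g hg).2.2
    rw [h, dvd_iff_isRoot] at hdvd
    rw [IsRoot, eval_one_cyclotomic_prime] at hdvd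
    exact hrF hdvd
  have hJ : ∀ g ∈ J, g.Monic ∧ Irreducible g ∧ g ∣ X ^ r - 1 ∧ g.coeff 0 ≠ 0 ∧ g ≠ X - C 1 := by
    intro g hg
    have h1 : g ∣ X ^ r - 1 := (hJ1 g hg).2.2.trans (cyclotomic.dvd_X_pow_sub_one r F)
    refine ⟨(hJ1 g hg).1, (hJ1 g hg).2.1, h1, ?_, hX1 g hg⟩
    intro h0
    obtain ⟨w, hw⟩ := h1
    have := congrArg (fun P : F[X] => P.coeff 0) hw
    simp [mul_coeff_zero, h0, hr.ne_zero.symm, coeff_X_pow, coeff_one] at this
  have hall : ∀ g : F[X], g.Monic → Irreducible g → g ∣ X ^ r - 1 → g = X - C 1 ∨ g ∈ J := by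
    intro g hgm hgi hgd
    rw [← cyclotomic_prime_mul_X_sub_one F r] at hgd
    rcases hgi.prime.dvd_or_dvd hgd with h | h
    · right
      obtain ⟨w, hw, hw'⟩ := UniqueFactorizationMonoid.exists_mem_normalizedFactors_of_dvd
        (cyclotomic_ne_zero r F) hgi h
      rw [eq_of_monic_of_associated hgm (hJ1 w (Multiset.mem_toFinset.2 hw)).1 hw']
      exact Multiset.mem_toFinset.2 hw
    · left
      rw [← C_1] at h
      exact eq_of_monic_of_associated hgm (monic_X_sub_C 1) (hgi.associated_of_dvd (irreducible_X_sub_C 1) h)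
  have hJd : ∀ g ∈ J, starP (RingHom.id F) g ∣ X ^ r - 1 := by
    intro g hg
    obtain ⟨w, hw⟩ := (hJ g hg).2.2.1
    rw [← S2645.starP_X_pow_sub_one hr.one_le, hw, starP_mul]
    exact Dvd.intro _ rfl
  have hst : ∀ g ∈ J, starP (RingHom.id F) g ∈ J := by
    intro g hg
    obtain ⟨g1, g2, -, g4, g6⟩ := hJ g hg
    refine (hall _ (monic_starP g4) (irreducible_starP (fun _ => rfl) g2 g1 g4) (hJd g hg)).resolve_left fun h => g6 ?_
    rw [← starP_starP (σ := RingHom.id F) (fun _ => rfl) g1 g4, h, starP_X_sub_C_one]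
  have hfixiff : ∀ g ∈ J, starP (RingHom.id F) g = g ↔ ¬ Odd i := fun g hg => by
    obtain ⟨g1, g2, g3, g4, g6⟩ := hJ g hg
    rw [hi]
    exact S2645.starP_eq_self_iff hr hr2 hF hrq g2 g1 g3 g4 g6
  have hJev : ∀ g ∈ J, starP (RingHom.id F) g = g → Even g.natDegree := fun g hg h => by
    rw [hJdeg g hg]; exact Nat.not_odd_iff_even.1 ((hfixiff g hg).1 h)
  have hsmem : ∀ (n : ℕ) (s : SelfFam (RingHom.id F) J n), ∀ g ∈ s.1, g.Monic ∧ Irreducible g := fun n s g hg => (s.2.1 g hg).elim
    (fun e => e ▸ ⟨monic_X_sub_C _, irreducible_X_sub_C _⟩) fun e => ⟨(hJ g e).1, (hJ g e).2.1⟩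
  have hnf : ∀ s : SelfFam (RingHom.id F) J N, UniqueFactorizationMonoid.normalizedFactors s.1.prod = s.1 := fun s => by
    rw [UniqueFactorizationMonoid.normalizedFactors_prod_eq _ fun g hg => (hsmem N s g hg).2]
    conv_rhs => rw [← Multiset.map_id s.1]
    exact Multiset.map_congr rfl fun g hg => (hsmem N s g hg).1.normalize_eq_self
  have hfpf : ∀ {V : Type u} [AddCommGroup V] [Module F V] [Module.Finite F V] (T : Module.End F V) (s : Multiset F[X]),
      T.charpoly = s.prod → (∀ f ∈ s, f ∈ J) → ∀ v, T v = v → v = 0 := by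
    intro V _ _ _ T s hc hs v hv
    by_contra hv0
    have he : T.HasEigenvalue 1 :=
      Module.End.hasEigenvalue_of_hasEigenvector (x := v) ⟨Module.End.mem_eigenspace_iff.2 (by rw [hv, one_smul]), hv0⟩
    have hroot := (Module.End.hasEigenvalue_iff_isRoot_charpoly T 1).1 he
    rw [hc, ← dvd_iff_isRoot, ← Multiset.map_id' s] at hroot
    obtain ⟨f, hf, hdf⟩ := (irreducible_X_sub_C (1 : F)).prime.exists_mem_multiset_map_dvd hroot
    exact (hJ f (hs f hf)).2.2.2.2
      (eq_of_monic_of_associated (monic_X_sub_C 1) (hJ f (hs f hf)).1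
        ((irreducible_X_sub_C (1 : F)).associated_of_dvd (hJ f (hs f hf)).2.1 hdf)).symm
  let Good := {s : SelfFam (RingHom.id F) J N // cond ∨ (X - C 1) ∈ s.1}
  let A := {C : ConjClasses ↥(Cfsg.isometryGroup F ⇑Q) // ∃ g : ↥(Cfsg.isometryGroup F ⇑Q), ConjClasses.mk g = C ∧ g ^ r = 1}
  have hex : ∀ s : Good, ∃ x : ↥(Cfsg.isometryGroup F ⇑Q), x ^ r = 1 ∧
      ((x : Matrix.GeneralLinearGroup ι F) : Matrix ι ι F).charpoly = s.1.1.prod := by
    rintro ⟨⟨s, hs1, hs2, hs3⟩, hgood⟩
    simp only at hgood ⊢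
    obtain ⟨s0, hs0⟩ : ∃ s0, s0 = s.filter (· ≠ X - C 1) := ⟨_, rfl⟩
    have hsplit : s = s0 + Multiset.replicate (s.count (X - C 1)) (X - C 1) := by
      conv_lhs => rw [← Multiset.filter_add_not (· ≠ X - C 1) s, ← hs0]
      congr 1
      simp only [not_not]
      exact Multiset.filter_eq' s _
    have hs0m : ∀ f ∈ s0, f ∈ J := fun f hf => by
      rw [hs0, Multiset.mem_filter] at hf
      exact (hs1 f hf.1).resolve_left hf.2
    have hs0f : s0.map (starP (RingHom.id F)) = s0 := by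
      have e := congrArg (Multiset.map (starP (RingHom.id F))) hsplit
      rw [hs2, Multiset.map_add, Multiset.map_replicate, starP_X_sub_C_one] at e
      conv_lhs at e => rw [hsplit]
      exact (add_right_cancel e).symm
    obtain ⟨hev, V₀, iV1, iV2, iV3, Q₀, T, hQ₀, hT, hTr, hTc⟩ :=
      OrthBlocks.exists_model hr hr2 J hJ hJd hJev _ s0 le_rfl hs0m hs0f
    have hd0 : Module.finrank F V₀ = (s0.map natDegree).sum := by
      rw [← LinearMap.charpoly_natDegree T, hTc, natDegree_multiset_prod_of_monic _ fun f hf => (hJ f (hs0m f hf)).1]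
    obtain ⟨k, hk⟩ := hev
    rw [hk] at hd0
    have hsum : N = k + k + s.count (X - C 1) := by
      rw [← hs3]
      conv_lhs => rw [hsplit]
      rw [Multiset.map_add, Multiset.sum_add, Multiset.map_replicate, Multiset.sum_replicate, natDegree_X_sub_C, hk]
      simp
    have hdim : Module.finrank F (ι → F) = N := by rw [Module.finrank_fintype_fun_eq_card, hN]
    obtain ⟨φ, -, hφ⟩ : ∃ φ : V₀ →ₗ[F] (ι → F), Function.Injective φ ∧ ∀ x, Q (φ x) = Q₀ x := by
      rcases Nat.eq_zero_or_pos (s.count (X - C 1)) with h1 | h1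
      · rcases Nat.eq_zero_or_pos k with hk0 | hk0
        · haveI : Subsingleton V₀ := (Module.finrank_zero_iff (R := F) (M := V₀)).1 (by omega)
          exact ⟨0, fun x y _ => Subsingleton.elim _ _, fun x => by simp [Subsingleton.elim x 0]⟩
        · have hNk : N = 2 * k := by omega
          have hc' : cond := hgood.resolve_right (Multiset.count_eq_zero.1 h1)
          rw [hcond] at hc'
          obtain ⟨e, he⟩ := quad_equiv_of_type hQ₀ hQ hk0 (by omega) (by omega)
            ((Orth.type_of_fpf hr hr2 hF hrq hQ₀ hk0 (by omega) hT hTr (hfpf T s0 hTc hs0m)).trans (hc' k hNk hk0).symm)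
          exact ⟨e.toLinearMap, e.injective, he⟩
      · exact Orth.exists_embedding hQ₀ hQ (k := k) (by omega) (by omega)
    obtain ⟨T', hT', hT'r, hT'c⟩ := OrthBlocks.exists_extend hQ₀ φ hφ hT hTr
    have hTmat : (LinearMap.toMatrix' T') ^ r = 1 := by
      show (LinearMap.toMatrixAlgEquiv' T') ^ r = 1
      rw [← map_pow, hT'r, map_one]
    obtain ⟨u, hu⟩ := IsUnit.of_pow_eq_one hTmat hr.ne_zero
    refine ⟨⟨u, fun v _ => by
        show Q ((u : Matrix ι ι F) *ᵥ v) = Q v
        rw [hu, LinearMap.toMatrix'_mulVec]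
        exact hT' v⟩, Subtype.ext (Units.ext ?_), ?_⟩
    · show (u : Matrix ι ι F) ^ r = 1
      rw [hu, hTmat]
    · show (u : Matrix ι ι F).charpoly = _
      have e : (LinearMap.toMatrix' T').charpoly = T'.charpoly := by
        rw [← charpoly_toEnd]
        congr 1
        exact LinearMap.ext fun v => by rw [show toEnd (LinearMap.toMatrix' T') v = (LinearMap.toMatrix' T') *ᵥ v from rfl, LinearMap.toMatrix'_mulVec]
      rw [hu, e, hT'c, hTc, hdim, hd0, show N - (k + k) = s.count (X - C 1) by omega]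
      conv_rhs => rw [hsplit, Multiset.prod_add, Multiset.prod_replicate]
  choose x hx1 hx2 using hex
  have hbij : Function.Bijective (fun s => (⟨ConjClasses.mk (x s), x s, rfl, hx1 s⟩ : A)) := by
    constructor
    · intro s t h
      obtain ⟨c, hc⟩ := isConj_iff.1 (ConjClasses.mk_eq_mk_iff_isConj.1 (congrArg Subtype.val h))
      refine Subtype.ext (Subtype.ext ?_)
      rw [← hnf s.1, ← hnf t.1, ← hx2 s, ← hx2 t, ← hc]
      simp only [Subgroup.coe_mul, Units.val_mul, Subgroup.coe_inv]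
      rw [Matrix.coe_units_inv, Matrix.charpoly_units_conj]
    · rintro ⟨C, g, rfl, hg⟩
      obtain ⟨G, hG⟩ : ∃ G, G = (g : Matrix.GeneralLinearGroup ι F) := ⟨_, rfl⟩
      have hMr : (G : Matrix ι ι F) ^ r = 1 := hG ▸ pow_eq_one_mat hg
      obtain ⟨P, hP⟩ : ∃ P, P = (G : Matrix ι ι F).charpoly := ⟨_, rfl⟩
      have hPm : P.Monic := hP ▸ Matrix.charpoly_monic _
      have hdet : IsUnit (G : Matrix ι ι F).det := (Matrix.isUnit_iff_isUnit_det _).1 G.isUnit
      have hP0 : P.coeff 0 ≠ 0 := by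
        intro h0
        refine hdet.ne_zero ?_
        rw [Matrix.det_eq_sign_charpoly_coeff, ← hP, h0, mul_zero]
      have h0 : aeval (toEnd (G : Matrix ι ι F)) (X ^ r - 1 : F[X]) = 0 := by
        rw [map_sub, map_one, map_pow, aeval_X, ← map_pow, hMr]
        simp
      have hPstar : starP (RingHom.id F) P = P := by
        have h := Matrix.charpoly_inv (G : Matrix ι ι F) G.isUnit
        rw [hG, charpoly_inv_eq Q hQ g, ← hG, ← Matrix.reverse_charpoly, ← hP, ← C_1, ← C_neg, ← C_pow, ← C_mul] at h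
        obtain ⟨a, ha⟩ : ∃ a, P = C a * starP (RingHom.id F) P := by
          refine ⟨(-1) ^ Fintype.card ι * Ring.inverse (G : Matrix ι ι F).det * P.coeff 0, ?_⟩
          rw [starP, Polynomial.map_id, RingHom.id_apply, ← mul_assoc, ← C_mul, mul_assoc _ (P.coeff 0), mul_inv_cancel₀ hP0, mul_one]
          exact h
        have h1 := congrArg leadingCoeff ha
        rw [hPm.leadingCoeff, leadingCoeff_mul, leadingCoeff_C, (monic_starP hP0).leadingCoeff, mul_one] at h1
        rw [← h1, C_1, one_mul] at ha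
        exact ha.symm
      obtain ⟨s, hs⟩ : ∃ s, s = UniqueFactorizationMonoid.normalizedFactors P := ⟨_, rfl⟩
      have hsi : ∀ f ∈ s, f.Monic ∧ Irreducible f ∧ f.coeff 0 ≠ 0 := fun f hf => FamCount.mem_factors hP0 (hs ▸ hf)
      have hsP : s.prod = P := by rw [hs, FamCount.prod_factors hPm]
      have hs1 : ∀ f ∈ s, f = X - C 1 ∨ f ∈ J := by
        intro f hf
        obtain ⟨f1, f2, -⟩ := hsi f hf
        have hd : f ∣ P := UniqueFactorizationMonoid.dvd_of_mem_normalizedFactors (hs ▸ hf)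
        rw [hP, charpoly_eq_matInv] at hd
        obtain ⟨z, hz, hfz⟩ := f2.prime.exists_mem_multiset_map_dvd hd
        obtain ⟨-, -, -, h4⟩ := (matInv_spec G).1 z hz
        exact hall f f1 f2 ((f2.prime.dvd_of_dvd_pow hfz).trans ((dvd_pow_self _ (by omega)).trans ((aeval_eq_zero_iff_matInv _ _).1 h0 z hz)))
      have hs2 : s.map (starP (RingHom.id F)) = s := by
        rw [hs]
        conv_rhs => rw [← hPstar, ← FamCount.prod_factors hPm, starP_multiset_prod]
        rw [UniqueFactorizationMonoid.normalizedFactors_prod_eq]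
        · rw [Multiset.map_map]
          refine Multiset.map_congr rfl fun f hf => ?_
          exact ((monic_starP (hsi f (hs ▸ hf)).2.2).normalize_eq_self).symm
        · intro a ha
          obtain ⟨f, hf, rfl⟩ := Multiset.mem_map.1 ha
          obtain ⟨k1, k2, k3⟩ := hsi f (hs ▸ hf)
          exact irreducible_starP (fun _ => rfl) k2 k1 k3
      have hs3 : (s.map natDegree).sum = N := by
        rw [← natDegree_multiset_prod_of_monic _ (fun f hf => (hsi f hf).1), hsP, hP, Matrix.charpoly_natDegree_eq_dim, hN]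
      have hgood : cond ∨ X - C 1 ∈ s := by
        by_cases h1 : X - C 1 ∈ s
        · exact .inr h1
        · refine .inl ?_
          rw [hcond]
          intro M hM hM1
          refine Orth.type_of_fpf hr hr2 hF hrq hQ hM1 (by rw [Module.finrank_fintype_fun_eq_card, hN, hM])
            (T := toEnd (G : Matrix ι ι F)) (fun v => ?_) (by rw [← map_pow, hMr, map_one])
            (hfpf _ s (by rw [charpoly_toEnd, ← hP, hsP]) fun f hf => (hs1 f hf).resolve_left fun e => h1 (e ▸ hf))
          show Q ((G : Matrix ι ι F) *ᵥ v) = Q v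
          rw [hG]
          exact Geometry.mem_isometryGroup_iff.mp g.2 v
      refine ⟨⟨⟨s, hs1, hs2, hs3⟩, hgood⟩, Subtype.ext (ConjClasses.mk_eq_mk_iff_isConj.2 ?_)⟩
      have hcop : ∀ y : ↥(Cfsg.isometryGroup F ⇑Q), y ^ r = 1 → (orderOf (y : Matrix.GeneralLinearGroup ι F)).Coprime p :=
        fun y hy => by
          rw [Subgroup.orderOf_coe]
          exact Nat.Coprime.coprime_dvd_left (orderOf_dvd_of_pow_eq_one hy) hrr
      obtain ⟨w, hw⟩ := isConj_iff.1 (isConj_of_charpoly_eq (hcop _ (hx1 ⟨⟨s, hs1, hs2, hs3⟩, hgood⟩)) (hcop _ hg)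
        (by rw [hx2, ← hG, ← hP]; exact hsP))
      refine S2590.isConj_isometryGroup Q hQ _ g (hr.odd_of_ne_two hr2) hrF (hx1 _) w.isUnit ?_
      rw [← Units.val_mul, ← Units.val_mul, ← hw, inv_mul_cancel_right]
  have hAcard : Nat.card A = Nat.card Good := (Nat.card_eq_of_bijective _ hbij).symm
  have hsub : Nat.card {C : ConjClasses ↥(Cfsg.isometryGroup F ⇑Q) // ∃ g : ↥(Cfsg.isometryGroup F ⇑Q), ConjClasses.mk g = C ∧ orderOf g = r} =
      Nat.card A - 1 := by
    haveI : Finite (Matrix.GeneralLinearGroup ι F) := inferInstance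
    let _ : Fintype A := Fintype.ofFinite A
    rw [Nat.card_congr
      ({ toFun := fun C => ⟨⟨C.1, by
          obtain ⟨g, hg, ho⟩ := C.2
          exact ⟨g, hg, by rw [← ho]; exact pow_orderOf_eq_one g⟩⟩, by
          intro h
          obtain ⟨g, hg, ho⟩ := C.2
          have h' : ConjClasses.mk g = ConjClasses.mk 1 := by rw [hg]; exact congrArg Subtype.val h
          rw [ConjClasses.mk_eq_mk_iff_isConj, isConj_one_left] at h'
          rw [h', orderOf_one] at ho
          exact hr.one_lt.ne ho⟩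
         invFun := fun C => ⟨C.1.1, by
          obtain ⟨g, hg, ho⟩ := C.1.2
          refine ⟨g, hg, orderOf_eq_prime ho ?_⟩
          rintro rfl
          exact C.2 (Subtype.ext hg.symm)⟩
         left_inv := fun C => rfl
         right_inv := fun C => rfl } : _ ≃ {C : A // C ≠ ⟨ConjClasses.mk 1, 1, rfl, one_pow r⟩}),
      Nat.card_eq_fintype_card, Fintype.card_subtype_compl, Fintype.card_subtype_eq, ← Nat.card_eq_fintype_card]
  have hJ4 : ∀ g ∈ J, g.Monic ∧ g.coeff 0 ≠ 0 ∧ g.natDegree = i ∧ g ≠ X - C 1 :=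
    fun g hg => ⟨(hJ g hg).1, (hJ g hg).2.2.2.1, hJdeg g hg, hX1 g hg⟩
  obtain ⟨c, hc⟩ : ∃ c, c = (if Odd i then 2 else 1) := ⟨_, rfl⟩
  have hcJ : ∀ g ∈ J, ({g, starP (RingHom.id F) g} : Finset F[X]).card = c := by
    intro g hg
    rw [hc]
    split_ifs with ho
    · exact Finset.card_pair fun h => (hfixiff g hg).1 h.symm ho
    · rw [(hfixiff g hg).2 ho]; simp
  have hc1 : 1 ≤ c := by rw [hc]; split_ifs <;> omega
  have hcard' : ∀ n, ∃ u, u * c = t ∧ Nat.card (SelfFam (RingHom.id F) J n) = Nat.choose (n / (c * i) + u) u := by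
    intro n
    obtain ⟨u, hu, hn⟩ := card_selfFam (RingHom.id F) (fun _ => rfl) J n hJ4 hst hcJ hipos hc1
    exact ⟨u, hJcard ▸ hu, hn⟩
  obtain ⟨u, hu, hNu⟩ := hcard' N
  have hu1 : 1 ≤ u := by
    have := hr.two_le
    by_contra h
    rw [show u = 0 by omega, zero_mul] at hu
    rw [← hu, zero_mul] at ht
    omega
  refine ⟨c, u, hc, by rw [mul_comm]; exact hu, hu1, ?_⟩
  rw [hsub, hAcard]
  by_cases hcd : cond
  · rw [if_neg (fun h => h.1 (hb.2 (hcond ▸ hcd))), Nat.sub_zero,
      Nat.card_congr (Equiv.subtypeUnivEquiv fun s => Or.inl hcd : Good ≃ SelfFam (RingHom.id F) J N), hNu]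
  · obtain ⟨n, rfl⟩ : ∃ n, N = n + 1 := ⟨N - 1, by
      have : N ≠ 0 := fun h0 => hcd (hcond ▸ fun M hM hM1 => absurd hM (by omega))
      omega⟩
    obtain ⟨u', hu', hnu'⟩ := hcard' n
    obtain rfl : u' = u := Nat.eq_of_mul_eq_mul_right hc1 (hu'.trans hu.symm)
    have e : Nat.card Good = Nat.card (SelfFam (RingHom.id F) J n) := by
      refine Nat.card_congr
        { toFun := fun s => ⟨s.1.1.erase (X - C 1), fun g hg => s.1.2.1 g (Multiset.mem_of_mem_erase hg), ?_, ?_⟩
          invFun := fun s => ⟨⟨(X - C 1) ::ₘ s.1, fun g hg => (Multiset.mem_cons.1 hg).elim Or.inl (s.2.1 g),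
            by rw [Multiset.map_cons, starP_X_sub_C_one, s.2.2.1],
            by rw [Multiset.map_cons, Multiset.sum_cons, s.2.2.2, natDegree_X_sub_C, add_comm]⟩, .inr (Multiset.mem_cons_self _ _)⟩
          left_inv := fun s => Subtype.ext (Subtype.ext (Multiset.cons_erase (s.2.resolve_left hcd)))
          right_inv := fun s => Subtype.ext (Multiset.erase_cons_head _ _) }
      · have h := s.1.2.2.1
        rw [← Multiset.cons_erase (s.2.resolve_left hcd), Multiset.map_cons, starP_X_sub_C_one, Multiset.cons_inj_right] at h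
        exact h
      · have h := s.1.2.2.2
        rw [← Multiset.cons_erase (s.2.resolve_left hcd), Multiset.map_cons, Multiset.sum_cons, natDegree_X_sub_C] at h
        omega
    rw [e, hnu', Nat.succ_div]
    by_cases hd : c * i ∣ n + 1
    · rw [if_pos hd, if_pos ⟨fun h => hcd (hcond ▸ hb.1 h), hd⟩]
      obtain ⟨w, rfl⟩ : ∃ w, u' = w + 1 := ⟨u' - 1, by omega⟩
      simp only [Nat.add_sub_cancel, ← add_assoc]
      rw [show n / (c * i) + 1 + w + 1 = (n / (c * i) + w + 1) + 1 by ring, Nat.choose_succ_succ (n / (c * i) + w + 1) w,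
        show n / (c * i) + 1 + w = n / (c * i) + w + 1 by ring]
      simp only [Nat.succ_eq_add_one]
      omega
    · rw [if_neg hd, add_zero, if_neg fun h => hd h.2, Nat.sub_zero]

end Cfsg.Agent.Lib.Similar.OrthCount
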