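import Mathlib
import Cfsg.Agent.S2645
import Cfsg.Agent.Lib.Similar.PrimeGraph
import Cfsg.Agent.Lib.SpSpec.Elements

/-!
Odd orders of elements of symplectic groups: existence from tori, and restrictions from the characteristic polynomial.
-/

set_option autoImplicit false

namespace Cfsg.Agent.Lib.Similar.SympGraph

open Polynomial
open Cfsg.Agent.Lib.SpSpec (Isom exists_ext)

variable {F : Type*} [Field F] [Fintype F]

/-- Tori of both types. -/
theorem exists_torus {d : ℕ} (hd : 0 < d) (minus : Bool) :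
    ∃ (V : Type) (_ : AddCommGroup V) (_ : Module F V) (_ : Module.Finite F V)
      (B : LinearMap.BilinForm F V) (g : Module.End F V),
      B.IsAlt ∧ B.Nondegenerate ∧ Module.finrank F V = 2 * d ∧ Isom B g ∧
      orderOf g = (if minus then Fintype.card F ^ d - 1 else Fintype.card F ^ d + 1) := by
  classical
  cases minus with
  | true =>
    obtain ⟨K, _, _, _, hfin, hcard⟩ := exists_ext (F := F) d hd
    obtain ⟨z, hz⟩ := IsCyclic.exists_generator (α := Kˣ)
    have hzord : orderOf z = Fintype.card F ^ d - 1 := by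
      rw [orderOf_eq_card_of_forall_mem_zpowers hz, Nat.card_units, Nat.card_eq_fintype_card, hcard]
    haveI : Module.Finite F K := Module.Finite.of_finite
    haveI : Algebra.IsSeparable F K := Algebra.IsAlgebraic.isSeparable_of_perfectField
    let B : LinearMap.BilinForm F (K × K) :=
      (Algebra.traceForm F K).compl₁₂ (LinearMap.fst F K K) (LinearMap.snd F K K) -
        (Algebra.traceForm F K).compl₁₂ (LinearMap.snd F K K) (LinearMap.fst F K K)
    let g : Module.End F (K × K) :=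
      LinearMap.prodMap (Algebra.lmul F K (z : K)) (Algebra.lmul F K ((z⁻¹ : Kˣ) : K))
    have hB : ∀ u v : K × K, B u v =
        Algebra.trace F K (u.1 * v.2) - Algebra.trace F K (u.2 * v.1) := fun _ _ => rfl
    refine ⟨K × K, inferInstance, inferInstance, inferInstance, B, g, ?_, ?_, ?_, ?_, ?_⟩
    · intro u; rw [hB, mul_comm, sub_self]
    · have hnd := (traceForm_nondegenerate F K).1
      refine ⟨fun u hu => Prod.ext (hnd _ fun y => ?_) (hnd _ fun y => ?_),
        fun u hu => Prod.ext (hnd _ fun y => ?_) (hnd _ fun y => ?_)⟩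
      · simpa [hB, Algebra.traceForm_apply] using hu (0, y)
      · simpa [hB, Algebra.traceForm_apply] using hu (y, 0)
      · simpa [hB, Algebra.traceForm_apply, mul_comm] using hu (0, y)
      · simpa [hB, Algebra.traceForm_apply, mul_comm] using hu (y, 0)
    · rw [Module.finrank_prod, hfin]; omega
    · intro u v
      rw [hB, hB]
      show Algebra.trace F K ((z : K) * u.1 * (((z⁻¹ : Kˣ) : K) * v.2)) -
        Algebra.trace F K (((z⁻¹ : Kˣ) : K) * u.2 * ((z : K) * v.1)) = _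
      rw [mul_mul_mul_comm, Units.mul_inv, one_mul, mul_mul_mul_comm, Units.inv_mul, one_mul]
    · show orderOf g = Fintype.card F ^ d - 1
      rw [← hzord]
      let Φ : Kˣ →* Module.End F (K × K) :=
        { toFun := fun w => LinearMap.prodMap (Algebra.lmul F K (w : K))
            (Algebra.lmul F K ((w⁻¹ : Kˣ) : K))
          map_one' := LinearMap.ext fun u => Prod.ext (by simp) (by simp)
          map_mul' := fun a b => LinearMap.ext fun u => Prod.ext
            (by simp [mul_assoc]) (by simp [mul_inv]; ring) }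
      refine orderOf_injective Φ (fun a b h => Units.ext ?_) z
      simpa [Φ] using congrArg (fun q : Module.End F (K × K) => (q (1, 0)).1) h
  | false =>
    obtain ⟨L, _, _, _, hfin, hcard⟩ := exists_ext (F := F) (2 * d) (by omega)
    haveI : Module.Finite F L := Module.Finite.of_finite
    haveI : Algebra.IsSeparable F L := Algebra.IsAlgebraic.isSeparable_of_perfectField
    set Q := Fintype.card F ^ d with hQ
    have hQ1 : 1 < Q := Nat.one_lt_pow hd.ne' Fintype.one_lt_card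
    have hcard2 : Fintype.card L = Q * Q := by rw [hcard, hQ, two_mul, pow_add]
    let σ : L →ₐ[F] L := FiniteField.frobeniusAlgHom F L ^ d
    have hσ : ∀ x, σ x = x ^ Q := fun x => by
      have : ∀ k, ((FiniteField.frobeniusAlgHom F L) ^ k) x = x ^ Fintype.card F ^ k := by
        intro k
        induction k with
        | zero => simp
        | succ k ih =>
          rw [pow_succ', AlgHom.mul_apply, ih, pow_succ]
          show (x ^ Fintype.card F ^ k) ^ Fintype.card F = _
          rw [← pow_mul]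
      exact this d
    have hdvd : Q + 1 ∣ Nat.card Lˣ := by
      rw [Nat.card_units, Nat.card_eq_fintype_card, hcard2]
      exact ⟨Q - 1, by rw [← Nat.sq_sub_sq Q 1, pow_two, one_pow]⟩
    obtain ⟨w, hw⟩ := IsCyclic.exists_generator (α := Lˣ)
    obtain ⟨z, hz⟩ : ∃ z : Lˣ, orderOf z = Q + 1 := by
      refine ⟨w ^ (orderOf w / (Q + 1)), ?_⟩
      rw [orderOf_eq_card_of_forall_mem_zpowers hw]
      rw [orderOf_pow' _ (Nat.div_pos (Nat.le_of_dvd Nat.card_pos hdvd) (by omega)).ne',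
        orderOf_eq_card_of_forall_mem_zpowers hw, Nat.gcd_eq_right (Nat.div_dvd_of_dvd hdvd),
        Nat.div_div_self hdvd Nat.card_pos.ne']
    have hzQ : σ (z : L) = ((z⁻¹ : Lˣ) : L) := by
      rw [hσ, ← Units.val_pow_eq_pow_val]
      congr 1
      rw [eq_inv_iff_mul_eq_one, ← pow_succ, ← hz, pow_orderOf_eq_one]
    set δ : L := (z : L) - ((z⁻¹ : Lˣ) : L) with hδ
    have hδσ : σ δ = -δ := by
      rw [hδ, map_sub, hzQ, hσ, ← Units.val_pow_eq_pow_val]
      have : (z⁻¹) ^ Q = z := by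
        rw [inv_pow, inv_eq_iff_mul_eq_one, ← pow_succ, ← hz, pow_orderOf_eq_one]
      rw [this]; ring
    have hδ0 : δ ≠ 0 := by
      intro h
      rw [hδ, sub_eq_zero] at h
      have : z ^ 2 = 1 := by
        rw [pow_two]; nth_rewrite 1 [Units.ext h]; exact inv_mul_cancel z
      have := orderOf_dvd_of_pow_eq_one this
      rw [hz] at this
      have := Nat.le_of_dvd two_pos this
      omega
    have hσσ : ∀ x, σ (σ x) = x := fun x => by
      rw [hσ, hσ, ← pow_mul, ← hcard2, FiniteField.pow_card]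
    let σe : L ≃ₐ[F] L := AlgEquiv.ofBijective σ σ.bijective
    have htr : ∀ x, Algebra.trace F L (σ x) = Algebra.trace F L x := fun x =>
      Algebra.trace_eq_of_algEquiv σe x
    let B : LinearMap.BilinForm F L :=
      (Algebra.traceForm F L).compl₁₂ (Algebra.lmul F L δ) σ.toLinearMap
    have hB : ∀ u v : L, B u v = Algebra.trace F L (δ * u * σ v) := fun _ _ => rfl
    refine ⟨L, inferInstance, inferInstance, inferInstance, B, Algebra.lmul F L (z : L),
      ?_, ?_, hfin, ?_, ?_⟩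
    · intro u
      rw [hB]
      obtain ⟨c, hc⟩ : ∃ c : L, c + σ c = 1 := by
        obtain ⟨c0, hc0⟩ : ∃ c0 : L, c0 + σ c0 ≠ 0 := by
          by_contra! hall
          have h1 := hall 1
          rw [map_one] at h1
          refine hδ0 ?_
          rw [hδ, ← hzQ, eq_neg_of_add_eq_zero_right (hall (z : L))]
          linear_combination (z : L) * h1
        refine ⟨c0 / (c0 + σ c0), ?_⟩
        rw [map_div₀, map_add, hσσ, add_comm (σ c0) c0, ← add_div, div_self hc0]
      have hx : σ (δ * u * σ u) = -(δ * u * σ u) := by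
        rw [map_mul σ, map_mul σ, hδσ, hσσ]; ring
      have e : δ * u * σ u = c * (δ * u * σ u) - σ (c * (δ * u * σ u)) := by
        rw [map_mul σ, hx]
        linear_combination -(δ * u * σ u) * hc
      rw [e, map_sub, htr, sub_self]
    · have hnd := traceForm_nondegenerate F L
      refine ⟨fun u hu => ?_, fun u hu => ?_⟩
      · refine (mul_eq_zero.1 (hnd.1 (δ * u) fun y => ?_)).resolve_left hδ0
        rw [Algebra.traceForm_apply]
        have := hu (σ y)
        rwa [hB, hσσ] at this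
      · have h0 : σ u = 0 := hnd.2 (σ u) fun y => by
          rw [Algebra.traceForm_apply]
          have := hu (δ⁻¹ * y)
          rwa [hB, ← mul_assoc, mul_inv_cancel₀ hδ0, one_mul] at this
        exact σ.injective (h0.trans (map_zero σ).symm)
    · intro u v
      rw [hB, hB]
      show Algebra.trace F L (δ * ((z : L) * u) * σ ((z : L) * v)) = _
      rw [map_mul σ, hzQ]
      congr 1
      rw [show δ * ((z : L) * u) * (((z⁻¹ : Lˣ) : L) * σ v) =
        ((z : L) * ((z⁻¹ : Lˣ) : L)) * (δ * u * σ v) by ring, Units.mul_inv, one_mul]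
    · show orderOf (Algebra.lmul F L (z : L)) = Q + 1
      rw [← hz, ← orderOf_units]
      refine orderOf_injective (Algebra.lmul F L : L →ₐ[F] Module.End F L).toMonoidHom
        (fun a b h => ?_) (z : L)
      simpa using congrArg (fun q : Module.End F L => q 1) h


/-- An element of the symplectic group acts with the prescribed orders. -/
def Has (F : Type*) [Field F] [Fintype F] (d N : ℕ) : Prop :=
  ∃ (V : Type) (_ : AddCommGroup V) (_ : Module F V) (_ : Module.Finite F V)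
    (B : LinearMap.BilinForm F V) (g : Module.End F V),
    B.IsAlt ∧ B.Nondegenerate ∧ Module.finrank F V = 2 * d ∧ Isom B g ∧ N ∣ orderOf g

theorem has_torus {d N : ℕ} (hd : 0 < d) (h : N ∣ Fintype.card F ^ d - 1 ∨ N ∣ Fintype.card F ^ d + 1) : Has F d N := by
  rcases h with h | h
  · obtain ⟨V, i1, i2, i3, B, g, hA, hB, hfin, hg, ho⟩ := exists_torus (F := F) hd true
    exact ⟨V, i1, i2, i3, B, g, hA, hB, hfin, hg, by rw [ho]; simpa using h⟩
  · obtain ⟨V, i1, i2, i3, B, g, hA, hB, hfin, hg, ho⟩ := exists_torus (F := F) hd false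
    exact ⟨V, i1, i2, i3, B, g, hA, hB, hfin, hg, by rw [ho]; simpa using h⟩

theorem Has.prod {d d' N N' : ℕ} (h : Has F d N) (h' : Has F d' N') : Has F (d + d') (Nat.lcm N N') := by
  obtain ⟨V, i1, i2, i3, B, g, hA, hB, hfin, hg, ho⟩ := h
  obtain ⟨W, j1, j2, j3, B', g', hA', hB', hfin', hg', ho'⟩ := h'
  obtain ⟨B'', hB''⟩ : ∃ B'' : LinearMap.BilinForm F (V × W), ∀ u v, B'' u v = B u.1 v.1 + B' u.2 v.2 :=
    ⟨B.compl₁₂ (LinearMap.fst F V W) (LinearMap.fst F V W) + B'.compl₁₂ (LinearMap.snd F V W) (LinearMap.snd F V W), fun u v => rfl⟩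
  refine ⟨V × W, inferInstance, inferInstance, inferInstance, B'', LinearMap.prodMap g g', fun u => ?_,
    ⟨fun u hu => ?_, fun u hu => ?_⟩, by rw [Module.finrank_prod, hfin, hfin']; ring, fun u v => ?_, ?_⟩
  · rw [hB'', hA, hA', add_zero]
  · exact Prod.ext (hB.1 _ fun y => by simpa [hB''] using hu (y, 0)) (hB'.1 _ fun y => by simpa [hB''] using hu (0, y))
  · exact Prod.ext (hB.2 _ fun y => by simpa [hB''] using hu (y, 0)) (hB'.2 _ fun y => by simpa [hB''] using hu (0, y))
  · rw [hB'', hB'']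
    show B (g u.1) (g v.1) + B' (g' u.2) (g' v.2) = _
    rw [hg, hg']
  · have hpow : ∀ k, (LinearMap.prodMap g g') ^ k = LinearMap.prodMap (g ^ k) (g' ^ k) := fun k => by
      induction k with
      | zero => rfl
      | succ k ih => rw [pow_succ, ih, pow_succ, pow_succ]; rfl
    have h := pow_orderOf_eq_one (LinearMap.prodMap g g')
    rw [hpow] at h
    refine Nat.lcm_dvd (ho.trans (orderOf_dvd_of_pow_eq_one (LinearMap.ext fun v => ?_)))
      (ho'.trans (orderOf_dvd_of_pow_eq_one (LinearMap.ext fun v => ?_)))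
    · exact congrArg Prod.fst (LinearMap.congr_fun h (v, 0))
    · exact congrArg Prod.snd (LinearMap.congr_fun h (0, v))

theorem has_zero : Has F 0 1 :=
  ⟨PUnit, inferInstance, inferInstance, inferInstance, 0, 1, fun u => rfl,
    ⟨fun u _ => Subsingleton.elim _ _, fun u _ => Subsingleton.elim _ _⟩, Module.finrank_zero_of_subsingleton, fun u v => rfl, one_dvd _⟩

theorem has_one (d : ℕ) : Has F d 1 := by
  induction d with
  | zero => exact has_zero
  | succ d ih => simpa using ih.prod (has_torus (F := F) (d := 1) (N := 1) one_pos (.inl (one_dvd _)))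

theorem has_transvection {p : ℕ} [Fact p.Prime] [CharP F p] : Has F 1 p := by
  obtain ⟨L, _, _, _, hfin, -⟩ := exists_ext (F := F) 1 one_pos
  haveI : Module.Finite F L := Module.Finite.of_finite
  haveI : Algebra.IsSeparable F L := Algebra.IsAlgebraic.isSeparable_of_perfectField
  haveI : CharP L p := charP_of_injective_algebraMap (algebraMap F L).injective p
  obtain ⟨B, hB⟩ : ∃ B : LinearMap.BilinForm F (L × L), ∀ u v, B u v =
      Algebra.trace F L (u.1 * v.2) - Algebra.trace F L (u.2 * v.1) :=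
    ⟨(Algebra.traceForm F L).compl₁₂ (LinearMap.fst F L L) (LinearMap.snd F L L) -
      (Algebra.traceForm F L).compl₁₂ (LinearMap.snd F L L) (LinearMap.fst F L L), fun u v => rfl⟩
  obtain ⟨g, hg⟩ : ∃ g : Module.End F (L × L), ∀ u, g u = (u.1 + u.2, u.2) :=
    ⟨(LinearMap.fst F L L + LinearMap.snd F L L).prod (LinearMap.snd F L L), fun u => rfl⟩
  have hnd := (traceForm_nondegenerate F L).1
  refine ⟨L × L, inferInstance, inferInstance, inferInstance, B, g, fun u => by rw [hB, mul_comm, sub_self],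
    ⟨fun u hu => Prod.ext (hnd _ fun y => ?_) (hnd _ fun y => ?_), fun u hu => Prod.ext (hnd _ fun y => ?_) (hnd _ fun y => ?_)⟩,
    by rw [Module.finrank_prod, hfin], fun u v => ?_, ?_⟩
  · simpa [hB, Algebra.traceForm_apply] using hu (0, y)
  · simpa [hB, Algebra.traceForm_apply] using hu (y, 0)
  · simpa [hB, Algebra.traceForm_apply, mul_comm] using hu (0, y)
  · simpa [hB, Algebra.traceForm_apply, mul_comm] using hu (y, 0)
  · rw [hB, hB, hg, hg, ← map_sub, ← map_sub]
    congr 1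
    ring
  · have hk : ∀ k : ℕ, (g ^ k) (0, 1) = ((k : L), 1) := fun k => by
      induction k with
      | zero => simp
      | succ k ih => rw [pow_succ', Module.End.mul_apply, ih, hg]; simp
    have h := hk (orderOf g)
    rw [pow_orderOf_eq_one, Module.End.one_apply] at h
    exact (CharP.cast_eq_zero_iff L p _).1 (congrArg Prod.fst h).symm

/-- An odd order in `PSp` from the model. -/
theorem mem_range_of_has {n N : ℕ} (hn : 1 ≤ n) (hN : N.Coprime 2 ∨ (2 : F) = 0) {d : ℕ} (hd : d ≤ n) (h : Has F d N) :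
    N ∈ Set.range (orderOf : Cfsg.PSp n F → ℕ) := by
  have h' : Has F n N := by simpa [Nat.add_sub_cancel' hd] using h.prod (has_one (F := F) (n - d))
  obtain ⟨V, i1, i2, i3, B, g, hA, hB, hfin, hg, ho⟩ := h'
  obtain ⟨x, hx⟩ := SpSpec.realize B hA hB hfin hg
  refine PrimeGraph.mem_range_of_dvd (QuotientGroup.mk x : Cfsg.PSp n F) ?_
  rcases hN with hN | h2
  rotate_left
  · refine ho.trans (orderOf_dvd_of_pow_eq_one ?_)
    rcases (SpSpec.mk_pow_eq_one hn x _).1 (pow_orderOf_eq_one (QuotientGroup.mk x : Cfsg.PSp n F)) with h | h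
    · exact (hx _).1.1 h
    · rw [(hx _).2.1 h]
      ext v
      have hv : v + v = 0 := by rw [← two_smul F v, h2, zero_smul]
      simpa using (eq_neg_of_add_eq_zero_left hv).symm
  refine hN.dvd_of_dvd_mul_right (ho.trans (orderOf_dvd_of_pow_eq_one ?_))
  rcases (SpSpec.mk_pow_eq_one hn x _).1 (pow_orderOf_eq_one (QuotientGroup.mk x : Cfsg.PSp n F)) with h | h
  · rw [pow_mul, (hx _).1.1 h, one_pow]
  · rw [pow_mul, (hx _).2.1 h, neg_one_sq]

/-- An odd order in `PSp` is an order in `Sp`. -/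
theorem exists_sp {n N : ℕ} (hn : 1 ≤ n) (h : N ∈ Set.range (orderOf : Cfsg.PSp n F → ℕ)) :
    ∃ x : Matrix.symplecticGroup (Fin n) F, orderOf x = N := by
  obtain ⟨y, rfl⟩ := h
  obtain ⟨x, rfl⟩ := QuotientGroup.mk_surjective y
  exact PrimeGraph.mem_range_of_dvd x (orderOf_dvd_of_pow_eq_one
    ((SpSpec.mk_pow_eq_one hn x _).2 (Or.inl (pow_orderOf_eq_one x))))

/-- The irreducible factors of the characteristic polynomial. -/
theorem factors {n : ℕ} (g : Matrix.symplecticGroup (Fin n) F) {M : ℕ} (hgM : g ^ M = 1) :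
    ∃ s : Multiset F[X], (∀ f ∈ s, f.Monic ∧ Irreducible f ∧ f.coeff 0 ≠ 0 ∧ f ∣ X ^ M - 1) ∧
      s.map (starP (RingHom.id F)) = s ∧ (s.map natDegree).sum = 2 * n ∧
      ∀ b : ℕ, g ^ b ≠ 1 → ∃ f ∈ s, ∃ e, Multiset.replicate e f ≤ s ∧ f ^ e ∣ X ^ M - 1 ∧ ¬ f ^ e ∣ X ^ b - 1 := by
  classical
  obtain ⟨G, hG⟩ := (S2389.toMat_isUnit g : IsUnit (g : Matrix (Fin n ⊕ Fin n) (Fin n ⊕ Fin n) F))
  obtain ⟨P, hP⟩ : ∃ P, P = (G : Matrix (Fin n ⊕ Fin n) (Fin n ⊕ Fin n) F).charpoly := ⟨_, rfl⟩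
  have hPm : P.Monic := hP ▸ Matrix.charpoly_monic _
  have hdet : IsUnit (G : Matrix (Fin n ⊕ Fin n) (Fin n ⊕ Fin n) F).det := (Matrix.isUnit_iff_isUnit_det _).1 G.isUnit
  have hP0 : P.coeff 0 ≠ 0 := by
    intro h0
    refine hdet.ne_zero ?_
    rw [Matrix.det_eq_sign_charpoly_coeff, ← hP, h0, mul_zero]
  have hpow : ∀ b, g ^ b = 1 ↔ G ^ b = 1 := fun b => by
    rw [Units.ext_iff, Subtype.ext_iff, Units.val_pow_eq_pow_val, SubmonoidClass.coe_pow, hG]
    exact Iff.rfl
  have hPstar : starP (RingHom.id F) P = P := by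
    have hsadj : Symp.sadj (G : Matrix (Fin n ⊕ Fin n) (Fin n ⊕ Fin n) F) * G = 1 := by rw [hG]; exact Symp.mem_iff.1 g.2
    have e : (G : Matrix (Fin n ⊕ Fin n) (Fin n ⊕ Fin n) F)⁻¹ = Symp.sadj (G : Matrix (Fin n ⊕ Fin n) (Fin n ⊕ Fin n) F) :=
      Matrix.inv_eq_left_inv hsadj
    have e2 : (Symp.sadj (G : Matrix (Fin n ⊕ Fin n) (Fin n ⊕ Fin n) F)).charpoly = P := by
      rw [Symp.sadj, ← mul_neg, Matrix.charpoly_mul_comm, neg_mul, ← mul_assoc, Matrix.J_squared, neg_one_mul, neg_neg, Matrix.charpoly_transpose, hP]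
    have h := Matrix.charpoly_inv (G : Matrix (Fin n ⊕ Fin n) (Fin n ⊕ Fin n) F) G.isUnit
    rw [e, e2, ← Matrix.reverse_charpoly, ← hP, ← C_1, ← C_neg, ← C_pow, ← C_mul] at h
    obtain ⟨a, ha⟩ : ∃ a, P = C a * starP (RingHom.id F) P := by
      refine ⟨(-1) ^ Fintype.card (Fin n ⊕ Fin n) * Ring.inverse (G : Matrix (Fin n ⊕ Fin n) (Fin n ⊕ Fin n) F).det * P.coeff 0, ?_⟩
      rw [starP, Polynomial.map_id, RingHom.id_apply, ← mul_assoc, ← C_mul, mul_assoc _ (P.coeff 0), mul_inv_cancel₀ hP0, mul_one]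
      exact h
    have h1 := congrArg leadingCoeff ha
    rw [hPm.leadingCoeff, leadingCoeff_mul, leadingCoeff_C, (monic_starP hP0).leadingCoeff, mul_one] at h1
    rw [← h1, C_1, one_mul] at ha
    exact ha.symm
  obtain ⟨hspec, -⟩ := matInv_spec G
  have hall := (pow_eq_one_iff_matInv G M).1 ((hpow M).1 hgM)
  obtain ⟨s, hs⟩ : ∃ s, s = UniqueFactorizationMonoid.normalizedFactors P := ⟨_, rfl⟩
  have hsi : ∀ f ∈ s, f.Monic ∧ Irreducible f ∧ f.coeff 0 ≠ 0 := fun f hf => FamCount.mem_factors hP0 (hs ▸ hf)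
  refine ⟨s, fun f hf => ⟨(hsi f hf).1, (hsi f hf).2.1, (hsi f hf).2.2, ?_⟩, ?_, ?_, ?_⟩
  · have hd : f ∣ P := UniqueFactorizationMonoid.dvd_of_mem_normalizedFactors (hs ▸ hf)
    rw [hP, charpoly_eq_matInv] at hd
    obtain ⟨z, hz, hfz⟩ := (hsi f hf).2.1.prime.exists_mem_multiset_map_dvd hd
    exact ((hsi f hf).2.1.prime.dvd_of_dvd_pow hfz).trans ((dvd_pow_self _ (by have := (hspec z hz).2.2.2; omega)).trans (hall z hz))
  · rw [hs]
    conv_rhs => rw [← hPstar, ← FamCount.prod_factors hPm, starP_multiset_prod]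
    rw [UniqueFactorizationMonoid.normalizedFactors_prod_eq]
    · rw [Multiset.map_map]
      refine Multiset.map_congr rfl fun f hf => ?_
      exact ((monic_starP (hsi f (hs ▸ hf)).2.2).normalize_eq_self).symm
    · intro a ha
      obtain ⟨f, hf, rfl⟩ := Multiset.mem_map.1 ha
      obtain ⟨k1, k2, k3⟩ := hsi f (hs ▸ hf)
      exact irreducible_starP (fun _ => rfl) k2 k1 k3
  · rw [← natDegree_multiset_prod_of_monic _ (fun f hf => (hsi f hf).1), hs, FamCount.prod_factors hPm, hP,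
      Matrix.charpoly_natDegree_eq_dim, Fintype.card_sum, Fintype.card_fin, two_mul]
  · intro b hb
    rw [Ne, hpow, pow_eq_one_iff_matInv] at hb
    push Not at hb
    obtain ⟨z, hz, hzn⟩ := hb
    obtain ⟨hm, hi, h0, he⟩ := hspec z hz
    have hdP : z.1 ^ z.2 ∣ P := by
      rw [hP, charpoly_eq_matInv]
      exact Multiset.dvd_prod (Multiset.mem_map_of_mem _ hz)
    have hcnt : z.2 ≤ s.count z.1 := by
      have h := (UniqueFactorizationMonoid.dvd_iff_normalizedFactors_le_normalizedFactors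
        (pow_ne_zero _ hi.ne_zero) hPm.ne_zero).1 hdP
      rw [UniqueFactorizationMonoid.normalizedFactors_pow, UniqueFactorizationMonoid.normalizedFactors_irreducible hi,
        hm.normalize_eq_self, Multiset.nsmul_singleton, ← hs] at h
      exact Multiset.le_count_iff_replicate_le.2 h
    exact ⟨z.1, Multiset.count_pos.1 (by omega), z.2, Multiset.le_count_iff_replicate_le.1 hcnt, hall z hz, hzn⟩

theorem sub_one_self_dvd {f : F[X]} {M : ℕ} (hi : Irreducible f) (hm : f.Monic) (h0 : f.coeff 0 ≠ 0) (hd : f ∣ X ^ M - 1) (hM : 1 ≤ M) :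
    starP (RingHom.id F) f ∣ X ^ M - 1 := by
  obtain ⟨w, hw⟩ := hd
  rw [← S2645.starP_X_pow_sub_one hM, hw, starP_mul]
  exact Dvd.intro _ rfl

/-- The sign of `q` modulo the primes seen by a self-reciprocal factor. -/
theorem self_sign {f : F[X]} (hi : Irreducible f) (h0 : f.coeff 0 ≠ 0) (hself : starP (RingHom.id F) f = f) :
    ∃ j : ℕ, ∀ a b : ℕ, a.Prime → f ∣ X ^ (a * b) - 1 → ¬ f ∣ X ^ b - 1 → (((Fintype.card F : ℕ) : ZMod a)) ^ j = -1 := by
  have : Fact (Irreducible f) := ⟨hi⟩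
  have : Module.Finite F (AdjoinRoot f) := (AdjoinRoot.powerBasis hi.ne_zero).finite
  have : Finite (AdjoinRoot f) := Module.finite_of_finite F
  obtain ⟨α, hα⟩ : ∃ α, α = AdjoinRoot.root f := ⟨_, rfl⟩
  have hev : ∀ k : ℕ, f ∣ X ^ k - 1 ↔ α ^ k = 1 := fun k => by
    rw [hα, ← AdjoinRoot.mk_eq_zero, ← AdjoinRoot.aeval_eq, map_sub, map_pow, aeval_X, map_one, sub_eq_zero]
  have hev0 : aeval α f = 0 := by rw [hα, AdjoinRoot.aeval_eq, AdjoinRoot.mk_self]
  have hα0 : α ≠ 0 := fun h => by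
    rw [h, ← coeff_zero_eq_aeval_zero', map_eq_zero] at hev0
    exact h0 hev0
  have hinv : aeval α⁻¹ f = 0 := by
    rwa [← SympBlocks.aeval_starP_iff h0 (mul_inv_cancel₀ hα0), hself]
  obtain ⟨φ, hφ⟩ : ∃ φ : AdjoinRoot f →ₐ[F] AdjoinRoot f, φ α = α⁻¹ :=
    ⟨AdjoinRoot.liftAlgHom f (Algebra.ofId F _) _ hinv, (congrArg _ hα).trans (AdjoinRoot.liftAlgHom_root f (Algebra.ofId F _) _ hinv)⟩
  obtain ⟨⟨j, hj⟩, hjφ⟩ := (FiniteField.bijective_frobeniusAlgHom_pow F (AdjoinRoot f)).2 φ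
  have hjα : α ^ Fintype.card F ^ j = α⁻¹ := by
    rw [← hφ, ← hjφ]
    show _ = (FiniteField.frobeniusAlgHom F (AdjoinRoot f) ^ j) α
    rw [AlgHom.coe_pow, FiniteField.coe_frobeniusAlgHom, pow_iterate]
  refine ⟨j, fun a b ha hd hnd => ?_⟩
  have : Fact a.Prime := ⟨ha⟩
  rw [hev] at hd hnd
  have hord : orderOf (α ^ b) = a := orderOf_eq_prime (by rw [← pow_mul, mul_comm, hd]) hnd
  have h3 : a ∣ Fintype.card F ^ j + 1 := by
    rw [← hord, orderOf_dvd_iff_pow_eq_one, ← pow_mul, mul_comm, pow_mul, pow_succ, hjα, inv_mul_cancel₀ hα0, one_pow]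
  rw [eq_neg_iff_add_eq_zero, ← Nat.cast_pow, ← Nat.cast_one, ← Nat.cast_add, ZMod.natCast_eq_zero_iff]
  exact h3

/-- The order of an element with `-1` among its powers is even, and halves. -/
theorem neg_one_order {R : Type*} [CommRing R] {a : R} (hne : (-1 : R) ≠ 1) {j : ℕ} (h : a ^ j = -1) :
    Even (orderOf a) ∧ orderOf a ∣ 2 * j ∧ ¬ orderOf a ∣ j := by
  have h1 : ¬ orderOf a ∣ j := fun hd => hne (h ▸ orderOf_dvd_iff_pow_eq_one.1 hd)
  have h2 : orderOf a ∣ 2 * j := orderOf_dvd_of_pow_eq_one (by rw [mul_comm, pow_mul, h, neg_one_sq])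
  refine ⟨?_, h2, h1⟩
  by_contra hodd
  exact h1 ((Nat.coprime_two_right.2 (Nat.not_even_iff_odd.1 hodd)).dvd_of_dvd_mul_left h2)

theorem one_le_orderOf {p : ℕ} [Fact p.Prime] [CharP F p] {a : ℕ} (ha : a.Prime) (hap : a ≠ p) :
    1 ≤ orderOf ((Fintype.card F : ℕ) : ZMod a) := by
  have : Fact a.Prime := ⟨ha⟩
  have hq0 : ((Fintype.card F : ℕ) : ZMod a) ≠ 0 := by
    obtain ⟨⟨m, hm⟩, -, hcard⟩ := FiniteField.card F p
    simp only [PNat.mk_coe] at hcard
    rw [Ne, ZMod.natCast_eq_zero_iff, hcard]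
    exact fun h => hap ((Nat.prime_dvd_prime_iff_eq ha Fact.out).1 (ha.dvd_of_dvd_pow h))
  rw [← Units.val_mk0 hq0, orderOf_units]
  exact orderOf_pos _

theorem neg_one_ne_one {a : ℕ} (ha : a.Prime) (ha2 : a ≠ 2) : (-1 : ZMod a) ≠ 1 := fun h => by
  have : Fact a.Prime := ⟨ha⟩
  have h2 : ((2 : ℕ) : ZMod a) = 0 := by rw [Nat.cast_two]; linear_combination -h
  rw [ZMod.natCast_eq_zero_iff] at h2
  exact ha2 ((Nat.prime_dvd_prime_iff_eq ha Nat.prime_two).1 h2)

/-- The divisibility of `q ^ η ± 1`. -/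
theorem dvd_eta {a k η : ℕ} (ha : a.Prime) (hk : k = orderOf ((Fintype.card F : ℕ) : ZMod a)) (h1 : 1 ≤ k)
    (hη : (Odd k ∧ η = k) ∨ (Even k ∧ 2 * η = k)) {t : ℕ} (ht : Odd t) :
    (Odd k → a ∣ Fintype.card F ^ (η * t) - 1) ∧ (Even k → a ∣ Fintype.card F ^ (η * t) + 1) := by
  have : Fact a.Prime := ⟨ha⟩
  constructor
  · intro ho
    obtain ⟨-, rfl⟩ := hη.resolve_right fun h => Nat.not_even_iff_odd.2 ho h.1
    rw [← ZMod.natCast_eq_zero_iff, Nat.cast_sub (Nat.one_le_pow _ _ Fintype.card_pos), Nat.cast_pow, pow_mul, hk,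
      pow_orderOf_eq_one, one_pow, Nat.cast_one, sub_self]
  · intro he
    obtain ⟨-, hη⟩ := hη.resolve_left fun h => Nat.not_even_iff_odd.2 h.1 he
    have h : ((Fintype.card F : ℕ) : ZMod a) ^ η = -1 := by
      refine (mul_self_eq_one_iff.1 ?_).resolve_left fun h => ?_
      · rw [← pow_add, ← two_mul, hη, hk, pow_orderOf_eq_one]
      · have := Nat.le_of_dvd (by omega) (hk ▸ orderOf_dvd_of_pow_eq_one h)
        omega
    rw [← ZMod.natCast_eq_zero_iff, Nat.cast_add, Nat.cast_pow, pow_mul, h, ht.neg_one_pow, Nat.cast_one, neg_add_cancel]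

theorem starP_injOn {s : Multiset F[X]} (hs : ∀ f ∈ s, f.Monic ∧ f.coeff 0 ≠ 0) :
    Set.InjOn (starP (RingHom.id F)) {x | x ∈ s} := fun x hx y hy h => by
  rw [← starP_starP (σ := RingHom.id F) (fun _ => rfl) (hs x hx).1 (hs x hx).2,
    ← starP_starP (σ := RingHom.id F) (fun _ => rfl) (hs y hy).1 (hs y hy).2, h]

/-- What a factor seeing the prime `a` contributes. -/
theorem contrib [DecidableEq F[X]] {s : Multiset F[X]} (hs : s.map (starP (RingHom.id F)) = s)
    {f : F[X]} (hfs : f ∈ s) (hi : Irreducible f) (h0 : f.coeff 0 ≠ 0)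
    {a b k η : ℕ} (ha : a.Prime) (ha2 : a ≠ 2) (hk : k = orderOf ((Fintype.card F : ℕ) : ZMod a))
    (hη : (Odd k ∧ η = k) ∨ (Even k ∧ 2 * η = k)) (hd : f ∣ X ^ (a * b) - 1) (hnd : ¬ f ∣ X ^ b - 1) :
    2 * η ≤ (({f, starP (RingHom.id F) f} : Finset F[X]).sum natDegree) ∧
      (({f, starP (RingHom.id F) f} : Finset F[X])).1 ≤ s := by
  refine ⟨?_, (Multiset.le_iff_subset (Finset.nodup _)).2 fun x hx => ?_⟩
  · have hdeg := Nat.le_of_dvd hi.natDegree_pos (hk ▸ PrimeGraph.dvd_natDegree hi h0 ha hd hnd)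
    by_cases hself : starP (RingHom.id F) f = f
    · rw [hself, Finset.pair_eq_singleton, Finset.sum_singleton]
      obtain ⟨j, hj⟩ := self_sign hi h0 hself
      obtain ⟨he, -, -⟩ := neg_one_order (neg_one_ne_one ha ha2) (hj a b ha hd hnd)
      rw [← hk] at he
      rcases hη with ⟨ho, -⟩ | ⟨-, hη⟩
      · exact absurd he (Nat.not_even_iff_odd.2 ho)
      · omega
    · rw [Finset.sum_pair (Ne.symm hself), natDegree_starP h0]
      rcases hη with ⟨-, hη⟩ | ⟨-, hη⟩ <;> omega
  · rw [Finset.mem_val, Finset.mem_insert, Finset.mem_singleton] at hx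
    rcases hx with rfl | rfl
    · exact hfs
    · exact hs ▸ Multiset.mem_map_of_mem _ hfs

theorem sum_le_of_le {s t : Multiset F[X]} (h : t ≤ s) : (t.map natDegree).sum ≤ (s.map natDegree).sum := by
  obtain ⟨u, rfl⟩ := Multiset.le_iff_exists_add.1 h
  simp

end Cfsg.Agent.Lib.Similar.SympGraph
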