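import Mathlib
import Cfsg.Agent.Lib.Similar.SympGraph
import Cfsg.Agent.Lib.Similar.OrthType
import Cfsg.Agent.Lib.Geometry.OrthQuotient
import Cfsg.Agent.Lib.Geometry.OrthTransfer
import Cfsg.Agent.Lib.Classical.OrthCenter
import Cfsg.Agent.Lib.Classical.AutPOmega.Odd
import Cfsg.Agent.Lib.Geometry.OrthNegOne

/-!
Elements of the commutator subgroup of an odd-dimensional orthogonal group of prescribed order.
-/

set_option autoImplicit false

namespace Cfsg.Agent.Lib.Similar.OrthElements

open QuadraticMap (polarBilin)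
open Module (finrank)
open Cfsg.Agent.Lib.Geometry
open Cfsg.Agent.Lib.SpSpec (exists_ext)

attribute [-simp] QuadraticMap.polarBilin_apply_apply

variable {F : Type*} [Field F] [Fintype F]

/-- An isometry of a non-degenerate space of dimension `2 k` whose order is divisible by `N`. -/
def HasO (F : Type*) [Field F] (k N : ℕ) : Prop :=
  ∃ (W : Type) (_ : AddCommGroup W) (_ : Module F W) (_ : Module.Finite F W) (R : QuadraticForm F W)
    (g : Module.End F W), (polarBilin R).Nondegenerate ∧ finrank F W = 2 * k ∧ (∀ w, R (g w) = R w) ∧ N ∣ orderOf g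

theorem hasO_zero : HasO F 0 1 :=
  ⟨PUnit, inferInstance, inferInstance, inferInstance, 0, 1,
    ⟨fun u _ => Subsingleton.elim _ _, fun u _ => Subsingleton.elim _ _⟩, Module.finrank_zero_of_subsingleton,
    fun _ => rfl, one_dvd _⟩

/-- The two types of tori. -/
theorem hasO_torus (h2 : (2 : F) ≠ 0) {d N : ℕ} (hd : 0 < d)
    (h : N ∣ Fintype.card F ^ d - 1 ∨ N ∣ Fintype.card F ^ d + 1) : HasO F d N := by
  classical
  rcases h with h | h
  · obtain ⟨K, _, _, _, hfin, hcard⟩ := exists_ext (F := F) d hd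
    obtain ⟨z, hz⟩ := IsCyclic.exists_generator (α := Kˣ)
    have hzord : orderOf z = Fintype.card F ^ d - 1 := by
      rw [orderOf_eq_card_of_forall_mem_zpowers hz, Nat.card_units, Nat.card_eq_fintype_card, hcard]
    haveI : Module.Finite F K := Module.Finite.of_finite
    haveI : Algebra.IsSeparable F K := Algebra.IsAlgebraic.isSeparable_of_perfectField
    obtain ⟨R, hR⟩ : ∃ R : QuadraticForm F (K × K), ∀ u, R u = Algebra.trace F K (u.1 * u.2) :=
      ⟨LinearMap.BilinMap.toQuadraticMap ((Algebra.traceForm F K).compl₁₂ (LinearMap.fst F K K) (LinearMap.snd F K K)), fun _ => rfl⟩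
    let Φ : Kˣ →* Module.End F (K × K) :=
      { toFun := fun w => LinearMap.prodMap (Algebra.lmul F K (w : K)) (Algebra.lmul F K ((w⁻¹ : Kˣ) : K))
        map_one' := LinearMap.ext fun u => Prod.ext (by simp) (by simp)
        map_mul' := fun a b => LinearMap.ext fun u => Prod.ext (by simp [mul_assoc]) (by simp [mul_inv]; ring) }
    have hB : ∀ u v, polarBilin R u v = Algebra.trace F K (u.1 * v.2 + u.2 * v.1) := fun u v => by
      rw [QuadraticMap.polarBilin_apply_apply, QuadraticMap.polar, hR, hR, hR, ← map_sub, ← map_sub]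
      congr 1
      simp only [Prod.fst_add, Prod.snd_add]
      ring
    have hnd := (traceForm_nondegenerate F K).1
    refine ⟨K × K, inferInstance, inferInstance, inferInstance, R, Φ z, ⟨fun u hu => ?_, fun u hu => ?_⟩,
      by rw [Module.finrank_prod, hfin]; ring, fun u => ?_, ?_⟩
    · refine Prod.ext (hnd _ fun y => ?_) (hnd _ fun y => ?_)
      · simpa [hB, Algebra.traceForm_apply] using hu (0, y)
      · simpa [hB, Algebra.traceForm_apply] using hu (y, 0)
    · refine Prod.ext (hnd _ fun y => ?_) (hnd _ fun y => ?_)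
      · simpa [hB, Algebra.traceForm_apply, mul_comm] using hu (0, y)
      · simpa [hB, Algebra.traceForm_apply, mul_comm] using hu (y, 0)
    · rw [hR, hR]
      show Algebra.trace F K ((z : K) * u.1 * (((z⁻¹ : Kˣ) : K) * u.2)) = _
      rw [mul_mul_mul_comm, Units.mul_inv, one_mul]
    · rw [orderOf_injective Φ (fun a b h => Units.ext (by
        simpa [Φ] using congrArg (fun q : Module.End F (K × K) => (q (1, 0)).1) h)) z, hzord]
      exact h
  · obtain ⟨L, _, _, _, hfin, hcard⟩ := exists_ext (F := F) (2 * d) (by omega)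
    haveI : Module.Finite F L := Module.Finite.of_finite
    haveI : Algebra.IsSeparable F L := Algebra.IsAlgebraic.isSeparable_of_perfectField
    obtain ⟨Q, hQ⟩ : ∃ Q, Q = Fintype.card F ^ d := ⟨_, rfl⟩
    rw [← hQ] at h
    have hQ1 : 1 < Q := hQ ▸ Nat.one_lt_pow hd.ne' Fintype.one_lt_card
    have hcard2 : Fintype.card L = Q * Q := by rw [hcard, hQ, two_mul, pow_add]
    obtain ⟨σ, hσ⟩ : ∃ σ : L →ₐ[F] L, ∀ x, σ x = x ^ Q := ⟨FiniteField.frobeniusAlgHom F L ^ d, fun x => by
      rw [AlgHom.coe_pow, FiniteField.coe_frobeniusAlgHom, pow_iterate, hQ]⟩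
    obtain ⟨w, hw⟩ := IsCyclic.exists_generator (α := Lˣ)
    have hdvd : Q + 1 ∣ Nat.card Lˣ := by
      rw [Nat.card_units, Nat.card_eq_fintype_card, hcard2]
      exact ⟨Q - 1, by rw [← Nat.sq_sub_sq Q 1, pow_two, one_pow]⟩
    obtain ⟨z, hz⟩ : ∃ z : Lˣ, orderOf z = Q + 1 := by
      refine ⟨w ^ (orderOf w / (Q + 1)), ?_⟩
      rw [orderOf_eq_card_of_forall_mem_zpowers hw]
      rw [orderOf_pow' _ (Nat.div_pos (Nat.le_of_dvd Nat.card_pos hdvd) (by omega)).ne',
        orderOf_eq_card_of_forall_mem_zpowers hw, Nat.gcd_eq_right (Nat.div_dvd_of_dvd hdvd),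
        Nat.div_div_self hdvd Nat.card_pos.ne']
    have hzz : (z : L) * σ (z : L) = 1 := by
      rw [hσ, ← pow_succ', ← Units.val_pow_eq_pow_val, ← hz, pow_orderOf_eq_one, Units.val_one]
    have hσσ : ∀ x, σ (σ x) = x := fun x => by rw [hσ, hσ, ← pow_mul, ← hcard2, FiniteField.pow_card]
    obtain ⟨R, hR⟩ : ∃ R : QuadraticForm F L, ∀ u, R u = Algebra.trace F L (u * σ u) :=
      ⟨LinearMap.BilinMap.toQuadraticMap ((Algebra.traceForm F L).compl₁₂ LinearMap.id σ.toLinearMap), fun _ => rfl⟩
    have hB : ∀ u v, polarBilin R u v = 2 * Algebra.trace F L (u * σ v) := fun u v => by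
      have e : Algebra.trace F L (v * σ u) = Algebra.trace F L (u * σ v) := by
        rw [← Algebra.trace_eq_of_algEquiv (AlgEquiv.ofBijective σ σ.bijective) (v * σ u), AlgEquiv.coe_ofBijective,
          map_mul, hσσ, mul_comm]
      rw [QuadraticMap.polarBilin_apply_apply, QuadraticMap.polar, hR, hR, hR, map_add σ, mul_add, add_mul, add_mul,
        map_add, map_add, map_add, e]
      ring
    have hnd := (traceForm_nondegenerate F L).1
    refine ⟨L, inferInstance, inferInstance, inferInstance, R, Algebra.lmul F L (z : L),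
      ⟨fun u hu => hnd u fun y => ?_, fun u hu => hnd u fun y => ?_⟩, hfin, fun u => ?_, ?_⟩
    · have := hu (σ y)
      rw [hB, hσσ] at this
      exact (mul_eq_zero.1 this).resolve_left h2
    · have := hu (σ y)
      rw [quad_polar_comm, hB, hσσ] at this
      exact (mul_eq_zero.1 this).resolve_left h2
    · rw [hR, hR]
      show Algebra.trace F L ((z : L) * u * σ ((z : L) * u)) = _
      rw [map_mul σ, mul_mul_mul_comm, hzz, one_mul]
    · have e : orderOf (Algebra.lmul F L (z : L)) = orderOf z :=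
        (orderOf_injective (Algebra.lmul F L : L →ₐ[F] Module.End F L).toMonoidHom
          (fun a b h => by simpa using congrArg (fun q : Module.End F L => q 1) h) (z : L)).trans orderOf_units
      rw [e, hz]
      exact h

/-- Direct sums. -/
theorem HasO.prod {k k' N N' : ℕ} (h : HasO F k N) (h' : HasO F k' N') : HasO F (k + k') (Nat.lcm N N') := by
  obtain ⟨W, i1, i2, i3, R, g, hR, hk, hg, ho⟩ := h
  obtain ⟨W', j1, j2, j3, R', g', hR', hk', hg', ho'⟩ := h'
  have hB : ∀ u v, polarBilin (R.prod R') u v = polarBilin R u.1 v.1 + polarBilin R' u.2 v.2 := fun u v => by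
    simp only [QuadraticMap.polarBilin_apply_apply, QuadraticMap.polar, QuadraticMap.prod_apply, Prod.fst_add, Prod.snd_add]
    ring
  refine ⟨W × W', inferInstance, inferInstance, inferInstance, R.prod R', LinearMap.prodMap g g',
    ⟨fun u hu => ?_, fun u hu => ?_⟩, by rw [Module.finrank_prod, hk, hk']; ring, fun u => ?_, ?_⟩
  · exact Prod.ext (hR.1 _ fun y => by simpa [hB] using hu (y, 0)) (hR'.1 _ fun y => by simpa [hB] using hu (0, y))
  · exact Prod.ext (hR.2 _ fun y => by simpa [hB] using hu (y, 0)) (hR'.2 _ fun y => by simpa [hB] using hu (0, y))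
  · rw [QuadraticMap.prod_apply, QuadraticMap.prod_apply]
    show R (g u.1) + R' (g' u.2) = _
    rw [hg, hg']
  · have hpow : ∀ k, (LinearMap.prodMap g g') ^ k = LinearMap.prodMap (g ^ k) (g' ^ k) := fun k => by
      induction k with
      | zero => rfl
      | succ k ih => rw [pow_succ, ih, pow_succ, pow_succ]; rfl
    have h := pow_orderOf_eq_one (LinearMap.prodMap g g')
    rw [hpow] at h
    refine Nat.lcm_dvd (ho.trans (orderOf_dvd_of_pow_eq_one (LinearMap.ext fun v => ?_)))
      (ho'.trans (orderOf_dvd_of_pow_eq_one (LinearMap.ext fun v => ?_)))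
    · exact congrArg Prod.fst (LinearMap.congr_fun h (v, 0))
    · exact congrArg Prod.snd (LinearMap.congr_fun h (0, v))

variable {V : Type*} [AddCommGroup V] [Module F V] [FiniteDimensional F V]

/-- An isometry as an element of the group. -/
theorem exists_lift {Q : QuadraticForm F V} (hQ : (polarBilin Q).Nondegenerate) {T : Module.End F V} (hT : ∀ x, Q (T x) = Q x) :
    ∃ g : quadIsometries Q, ∀ x, (g : V ≃ₗ[F] V) x = T x := by
  have hTi : Function.Injective T := (injective_iff_map_eq_zero T).2 fun v hv => hQ.1 _ fun w => by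
    rw [← quad_polar_map Q hT, hv, map_zero, LinearMap.zero_apply]
  exact ⟨⟨LinearEquiv.ofInjectiveEndo T hTi, mem_quadIsometries.mpr hT⟩, fun x => rfl⟩

theorem pow_apply_iso {Q : QuadraticForm F V} (g : quadIsometries Q) {T : Module.End F V}
    (h : ∀ x, (g : V ≃ₗ[F] V) x = T x) : ∀ (k : ℕ) (x : V), ((g ^ k : quadIsometries Q) : V ≃ₗ[F] V) x = (T ^ k) x := by
  intro k
  induction k with
  | zero => intro x; rfl
  | succ k ih => intro x; rw [pow_succ', pow_succ', Module.End.mul_apply, ← ih, ← h]; rfl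

/-- An element acting as a given isometry on an embedded space, and the space left over. -/
theorem exists_place {W : Type*} [AddCommGroup W] [Module F W] [FiniteDimensional F W] {R : QuadraticForm F W}
    (hR : (polarBilin R).Nondegenerate) {Q : QuadraticForm F V} (hQ : (polarBilin Q).Nondegenerate) {k : ℕ}
    (hW : finrank F W = 2 * k) (hV : 2 * k + 1 ≤ finrank F V) {g : Module.End F W} (hg : ∀ w, R (g w) = R w) :
    ∃ (T : quadIsometries Q) (U : Submodule F V), finrank F V ≤ finrank F U + 2 * k ∧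
      (polarBilin (Q.comp U.subtype)).Nondegenerate ∧ orderOf g ∣ orderOf T ∧ ∀ u ∈ U, (T : V ≃ₗ[F] V) u = u := by
  obtain ⟨φ, hφi, hφ⟩ := Orth.exists_embedding hR hQ hW hV
  have hB : ∀ x y, polarBilin Q (φ x) (φ y) = polarBilin R x y := fun x y => by
    simp only [QuadraticMap.polarBilin_apply_apply, QuadraticMap.polar, ← map_add φ, hφ]
  obtain ⟨π, hπ⟩ : ∃ π : V →ₗ[F] W, ∀ v y, polarBilin R (π v) y = polarBilin Q v (φ y) := by
    refine ⟨(LinearMap.BilinForm.toDual (polarBilin R) hR).symm.toLinearMap.comp (φ.dualMap.comp (polarBilin Q)), fun v y => ?_⟩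
    rw [← LinearMap.BilinForm.toDual_def (b := hR)]
    simp only [LinearMap.comp_apply, LinearEquiv.coe_coe, LinearEquiv.apply_symm_apply, LinearMap.dualMap_apply]
  have hπφ : ∀ x, π (φ x) = x := fun x => sub_eq_zero.1 (hR.1 _ fun y => by
    rw [map_sub, LinearMap.sub_apply, hπ, hB, sub_self])
  have hperp : ∀ u, π u = 0 → ∀ w, polarBilin Q (φ w) u = 0 := fun u hu w => by
    rw [quad_polar_comm, ← hπ, hu, map_zero, LinearMap.zero_apply]
  have hk : ∀ v, π (v - φ (π v)) = 0 := fun v => by rw [map_sub, hπφ, sub_self]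
  obtain ⟨T, hTd⟩ : ∃ T : Module.End F V, ∀ v, T v = φ (g (π v)) + (v - φ (π v)) :=
    ⟨φ.comp (g.comp π) + (LinearMap.id - φ.comp π), fun v => rfl⟩
  have hTφ : ∀ w, T (φ w) = φ (g w) := fun w => by rw [hTd, hπφ, sub_self, add_zero]
  have hTiso : ∀ v, Q (T v) = Q v := fun v => by
    conv_rhs => rw [← add_sub_cancel (φ (π v)) v]
    rw [hTd, quad_add, quad_add, hperp _ (hk v), hperp _ (hk v), hφ, hφ, hg]
  obtain ⟨G, hG⟩ := exists_lift hQ hTiso
  refine ⟨G, LinearMap.ker π, ?_, ⟨fun u hu => ?_, fun u hu => ?_⟩, ?_, fun u hu => ?_⟩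
  · have h1 := LinearMap.finrank_range_add_finrank_ker π
    have h2 := Submodule.finrank_le (LinearMap.range π)
    omega
  · have key : ∀ u : LinearMap.ker π, (∀ y : LinearMap.ker π, polarBilin Q u.1 y.1 = 0) → u = 0 := fun u h =>
      Subtype.ext (hQ.1 _ fun y => by
        rw [← add_sub_cancel (φ (π y)) y, map_add, quad_polar_comm Q u.1 (φ (π y)), hperp _ u.2, zero_add]
        exact h ⟨_, hk y⟩)
    refine key u fun y => ?_
    simpa [QuadraticMap.polarBilin_apply_apply, QuadraticMap.polar] using hu y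
  · have key : ∀ u : LinearMap.ker π, (∀ y : LinearMap.ker π, polarBilin Q u.1 y.1 = 0) → u = 0 := fun u h =>
      Subtype.ext (hQ.1 _ fun y => by
        rw [← add_sub_cancel (φ (π y)) y, map_add, quad_polar_comm Q u.1 (φ (π y)), hperp _ u.2, zero_add]
        exact h ⟨_, hk y⟩)
    refine key u fun y => ?_
    rw [quad_polar_comm]
    simpa [QuadraticMap.polarBilin_apply_apply, QuadraticMap.polar] using hu y
  · refine orderOf_dvd_of_pow_eq_one (LinearMap.ext fun w => hφi ?_)
    have e : ∀ m : ℕ, (T ^ m) (φ w) = φ ((g ^ m) w) := fun m => by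
      induction m with
      | zero => rfl
      | succ m ih => rw [pow_succ', Module.End.mul_apply, ih, hTφ, pow_succ', Module.End.mul_apply]
    rw [← e, ← pow_apply_iso G hG, pow_orderOf_eq_one]
    rfl
  · rw [hG, hTd, LinearMap.mem_ker.1 hu, map_zero, map_zero, zero_add, sub_zero]

/-- Vectors for a unipotent isometry. -/
theorem exists_eichler_data {U : Submodule F V} {Q : QuadraticForm F V} (hU : (polarBilin (Q.comp U.subtype)).Nondegenerate)
    (h3 : 3 ≤ finrank F U) :
    ∃ e f z : V, e ∈ U ∧ f ∈ U ∧ z ∈ U ∧ Q e = 0 ∧ Q f = 0 ∧ polarBilin Q e f = 1 ∧ polarBilin Q e z = 0 ∧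
      polarBilin Q f z = 0 ∧ Q z ≠ 0 := by
  obtain ⟨p, hp⟩ := QuadFin.exists_qFrame (Q.comp U.subtype) hU 1 (by omega)
  obtain ⟨z, hz, hQz⟩ : ∃ z ∈ hypPerp (polarBilin (Q.comp U.subtype)) p, (Q.comp U.subtype) z ≠ 0 := by
    by_contra! hc
    have hb : hypPerp (polarBilin (Q.comp U.subtype)) p ≠ ⊥ := fun hb => by
      have := finrank_hypPerp_ge (polarBilin (Q.comp U.subtype)) p
      rw [hb, finrank_bot] at this
      omega
    obtain ⟨u, hu, hu0⟩ := (Submodule.ne_bot_iff _).1 hb
    refine hu0 (hypPerp_nondeg _ (QuadFin.polar_isSymm (Q.comp U.subtype)) hU hp.1 u hu fun v hv => ?_)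
    have h := quad_add (Q.comp U.subtype) u v
    rw [hc _ hu, hc _ hv, hc _ (Submodule.add_mem _ hu hv)] at h
    simpa using h.symm
  have hc : ∀ x y : U, polarBilin (Q.comp U.subtype) x y = polarBilin Q x.1 y.1 := fun x y => by
    simp [QuadraticMap.polarBilin_apply_apply, QuadraticMap.polar]
  have h12 := (hp.1 0 0).2.2
  rw [if_pos rfl, hc] at h12
  refine ⟨(p 0).1.1, (p 0).2.1, z.1, (p 0).1.2, (p 0).2.2, z.2, (hp.2 0).1, (hp.2 0).2, h12, ?_, ?_, hQz⟩
  · rw [← hc]; exact ((mem_hypPerp _).1 hz 0).1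
  · rw [← hc]; exact ((mem_hypPerp _).1 hz 0).2

/-- Unipotent isometries fixing what is orthogonal to a pair of vectors. -/
theorem exists_eichler {p : ℕ} [Fact p.Prime] [CharP F p] {Q : QuadraticForm F V} (hQ : (polarBilin Q).Nondegenerate)
    {e f z : V} (he : Q e = 0) (hef : polarBilin Q e f = 1) (hez : polarBilin Q e z = 0) (hz : z ≠ 0)
    (hfz : polarBilin Q f z = 0) :
    ∃ E : quadIsometries Q, orderOf E = p ∧
      (∀ x, polarBilin Q x e = 0 → polarBilin Q x z = 0 → (E : V ≃ₗ[F] V) x = x) ∧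
      ∀ T : quadIsometries Q, (T : V ≃ₗ[F] V) e = e → (T : V ≃ₗ[F] V) z = z → Commute T E := by
  obtain ⟨T, hT⟩ : ∃ T : Module.End F V, ∀ x, T x = x + (polarBilin Q x e) • z +
      (-(polarBilin Q x z + Q z * polarBilin Q x e)) • e :=
    ⟨LinearMap.id + ((polarBilin Q).flip e).smulRight z + (-((polarBilin Q).flip z + Q z • (polarBilin Q).flip e)).smulRight e,
      fun x => rfl⟩
  have hzz := quad_polar_self Q z
  have hee : polarBilin Q e e = 0 := by rw [quad_polar_self, he, mul_zero]
  have hze : polarBilin Q z e = 0 := by rw [quad_polar_comm]; exact hez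
  have hiso : ∀ x, Q (T x) = Q x := fun x => by
    rw [hT, quad_add, quad_add, quad_smul, quad_smul, map_add, LinearMap.add_apply]
    simp only [map_smul, LinearMap.smul_apply, smul_eq_mul, he, hze]
    ring
  obtain ⟨E, hE⟩ := exists_lift hQ hiso
  have hpow : ∀ (k : ℕ) (x : V), (T ^ k) x = x + ((k : F) * polarBilin Q x e) • z +
      (-((k : F) * polarBilin Q x z + (k : F) * (k : F) * (Q z * polarBilin Q x e))) • e := by
    intro k
    induction k with
    | zero => intro x; simp
    | succ k ih =>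
      intro x
      rw [pow_succ', Module.End.mul_apply, ih, hT]
      simp only [map_add, LinearMap.add_apply, map_smul, LinearMap.smul_apply, smul_eq_mul, hze, hee, hzz, hez, Nat.cast_succ]
      match_scalars <;> ring
  refine ⟨E, orderOf_eq_prime ?_ ?_, fun x h1 h2 => ?_, fun S hSe hSz => ?_⟩
  · refine Subtype.ext (LinearEquiv.ext fun x => ?_)
    rw [pow_apply_iso E hE, hpow, CharP.cast_eq_zero F p]
    simp
  · intro h1
    have := hE f
    rw [h1, hT, quad_polar_comm Q f e, hef, hfz] at this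
    have e2 : z = Q z • e := by
      have h2 : f = f + (1 : F) • z + (-(0 + Q z * 1)) • e := this
      rw [one_smul, zero_add, mul_one, neg_smul, add_assoc] at h2
      exact sub_eq_zero.1 (by rw [sub_eq_add_neg]; exact left_eq_add.1 h2)
    have h3 := congrArg (polarBilin Q f) e2
    rw [hfz, map_smul, quad_polar_comm Q f e, hef, smul_eq_mul, mul_one] at h3
    rw [← h3, zero_smul] at e2
    exact hz e2
  · rw [hE, hT, h1, h2]
    simp
  · refine Subtype.ext (LinearEquiv.ext fun x => ?_)
    show (S : V ≃ₗ[F] V) ((E : V ≃ₗ[F] V) x) = (E : V ≃ₗ[F] V) ((S : V ≃ₗ[F] V) x)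
    have he' : polarBilin Q ((S : V ≃ₗ[F] V) x) e = polarBilin Q x e := by
      conv_lhs => rw [← hSe]
      exact iso_polar Q S x e
    have hz' : polarBilin Q ((S : V ≃ₗ[F] V) x) z = polarBilin Q x z := by
      conv_lhs => rw [← hSz]
      exact iso_polar Q S x z
    rw [hE, hE, hT, hT, he', hz', map_add, map_add, map_smul, map_smul, hSe, hSz]

omit [FiniteDimensional F V] in
/-- The invariants kill odd orders. -/
theorem eq_one_of_odd {G : Type*} [Group G] (χ : G →* ℤˣ × ℤˣ) (g : G) (h : Odd (orderOf g)) : χ g = 1 := by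
  obtain ⟨j, hj⟩ := h
  have h1 : χ g ^ (2 * j + 1) = 1 := by rw [← map_pow, ← hj, pow_orderOf_eq_one, map_one]
  rwa [pow_succ, pow_mul, show χ g ^ 2 = 1 from Prod.ext (Int.units_sq _) (Int.units_sq _), one_pow, one_mul] at h1

omit [FiniteDimensional F V] in
theorem sq_eq_one {G : Type*} [Group G] (χ : G →* ℤˣ × ℤˣ) (g : G) : χ (g ^ 2) = 1 := by
  rw [map_pow]; exact Prod.ext (Int.units_sq _) (Int.units_sq _)

omit [Fintype F] [FiniteDimensional F V] in
theorem commute_of_fix {Q : QuadraticForm F V} (T : quadIsometries Q) {v : V} (h : (T : V ≃ₗ[F] V) v = v) :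
    Commute T (refl Q v) := by
  have := refl_conj Q T v
  rw [h, mul_inv_eq_iff_eq_mul] at this
  exact this

/-- An involution with trivial invariants, fixing what is orthogonal to two vectors. -/
theorem exists_involution {Q : QuadraticForm F V} (hQ : (polarBilin Q).Nondegenerate) (h2 : (2 : F) ≠ 0) {v w : V}
    (hv : Q v = 1) (hw : Q w = 1) (hvw : polarBilin Q v w = 0) :
    orderOf (refl Q v * refl Q w) = 2 ∧ dickSpinHom Q hQ h2 (refl Q v * refl Q w) = 1 := by
  have hv0 : Q v ≠ 0 := by rw [hv]; exact one_ne_zero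
  have hw0 : Q w ≠ 0 := by rw [hw]; exact one_ne_zero
  have hwv : (refl Q w : V ≃ₗ[F] V) v = v := by rw [refl_apply, quad_polar_comm, hvw, mul_zero, zero_smul, sub_zero]
  refine ⟨orderOf_eq_prime ?_ fun h => ?_, ?_⟩
  · rw [sq, mul_assoc, ← mul_assoc (refl Q w), (commute_of_fix _ hwv).eq, mul_assoc, refl_mul_self, mul_one, refl_mul_self]
  · have h' : (refl Q v : V ≃ₗ[F] V) ((refl Q w : V ≃ₗ[F] V) v) = v := by
      exact congrArg (fun g : quadIsometries Q => (g : V ≃ₗ[F] V) v) h
    rw [hwv, refl_apply_self Q hv0, neg_eq_iff_add_eq_zero, ← two_smul F, smul_eq_zero] at h'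
    exact hv0 (by rw [h'.resolve_left h2, map_zero])
  · rw [map_mul, dickSpinHom_refl Q hQ h2 hv0, dickSpinHom_refl Q hQ h2 hw0, hv, hw, sqClass_eq_one_iff.mpr IsSquare.one]
    rfl

/-- Two orthogonal vectors of value one in a space of dimension at least three. -/
theorem exists_one_one {U : Submodule F V} {Q : QuadraticForm F V} (hU : (polarBilin (Q.comp U.subtype)).Nondegenerate)
    (h2 : (2 : F) ≠ 0) (h3 : 3 ≤ finrank F U) :
    ∃ v w : V, v ∈ U ∧ w ∈ U ∧ Q v = 1 ∧ Q w = 1 ∧ polarBilin Q v w = 0 := by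
  classical
  obtain ⟨e, f, z, he, hf, hz, hQe, hQf, hef, hez, hfz, hQz⟩ := exists_eichler_data hU h3
  obtain ⟨a, b, hab⟩ := FiniteField.exists_root_sum_quadratic
    (f := Polynomial.C (-1 : F) * Polynomial.X ^ 2) (g := Polynomial.C (Q z) * Polynomial.X ^ 2 - Polynomial.C 1)
    (Polynomial.degree_C_mul_X_pow 2 (neg_ne_zero.2 one_ne_zero))
    (by compute_degree! <;> simp [hQz])
    (FiniteField.odd_card_of_char_ne_two fun h => h2 (by
      have h3 : ((2 : ℕ) : F) = 0 := by rw [← h]; exact ringChar.Nat.cast_ringChar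
      exact_mod_cast h3))
  simp only [Polynomial.eval_mul, Polynomial.eval_C, Polynomial.eval_pow, Polynomial.eval_X, Polynomial.eval_sub] at hab
  refine ⟨e + f, a • (e - f) + b • z, U.add_mem he hf, U.add_mem (U.smul_mem _ (U.sub_mem he hf)) (U.smul_mem _ hz), ?_, ?_, ?_⟩
  · rw [quad_add, hQe, hQf, hef]; ring
  · rw [quad_add, quad_smul, quad_smul, quad_sub, hQe, hQf, hef]
    simp only [map_smul, LinearMap.smul_apply, smul_eq_mul, map_sub, LinearMap.sub_apply, hez, hfz]
    linear_combination hab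
  · simp only [map_add, map_smul, smul_eq_mul, map_sub, LinearMap.add_apply, quad_polar_self, hQe, hQf, hef, hez, hfz,
      quad_polar_comm Q f e]
    ring

end Cfsg.Agent.Lib.Similar.OrthElements
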