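import Mathlib
import Cfsg.Agent.Lib.Similar.SympGraph

/-!
Tori forced by the irreducible factors of a self-reciprocal characteristic polynomial.
-/

set_option autoImplicit false

namespace Cfsg.Agent.Lib.Similar.TorusFactors

open Polynomial

variable {F : Type*} [Field F] [Fintype F]

/-- `N` divides the order of a cyclic torus in dimension `2 d`. -/
def Tor (F : Type*) [Fintype F] (d N : ℕ) : Prop :=
  0 < d ∧ (N ∣ Fintype.card F ^ d - 1 ∨ N ∣ Fintype.card F ^ d + 1)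

/-- The order of the roots. -/
theorem exists_order {f : F[X]} (hi : Irreducible f) :
    ∃ o : ℕ, ∀ k : ℕ, f ∣ X ^ k - 1 ↔ o ∣ k := by
  have : Fact (Irreducible f) := ⟨hi⟩
  refine ⟨orderOf (AdjoinRoot.root f), fun k => ?_⟩
  rw [orderOf_dvd_iff_pow_eq_one, ← AdjoinRoot.mk_eq_zero, ← AdjoinRoot.aeval_eq, map_sub, map_pow, aeval_X, map_one, sub_eq_zero]

theorem sees {o a b N : ℕ} (ha : a.Prime) (hab : o ∣ a * b) (hb : ¬ o ∣ b) (hN : o ∣ N) : a ∣ N := by
  refine dvd_trans ?_ hN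
  by_contra h
  exact hb (((ha.coprime_iff_not_dvd.2 h).symm).dvd_of_dvd_mul_left hab)

/-- An orbit of factors under the reciprocal lies in a torus. -/
theorem orbit [DecidableEq F[X]] {t : Multiset F[X]} (hs : t.map (starP (RingHom.id F)) = t) {f : F[X]} (hf : f ∈ t)
    (hm : f.Monic) (hi : Irreducible f) (h0 : f.coeff 0 ≠ 0) (h2 : ¬ f ∣ X ^ 2 - 1) :
    ∃ d, 0 < d ∧ ({f, starP (RingHom.id F) f} : Finset F[X]).1 ≤ t ∧
      ({f, starP (RingHom.id F) f} : Finset F[X]).sum natDegree = 2 * d ∧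
      ∃ N, (N = Fintype.card F ^ d - 1 ∨ N = Fintype.card F ^ d + 1) ∧ f ∣ X ^ N - 1 ∧ starP (RingHom.id F) f ∣ X ^ N - 1 := by
  have hle : ({f, starP (RingHom.id F) f} : Finset F[X]).1 ≤ t := (Multiset.le_iff_subset (Finset.nodup _)).2 fun x hx => by
    rw [Finset.mem_val, Finset.mem_insert, Finset.mem_singleton] at hx
    rcases hx with rfl | rfl
    · exact hf
    · exact hs ▸ Multiset.mem_map_of_mem _ hf
  have : Fact (Irreducible f) := ⟨hi⟩
  have : Module.Finite F (AdjoinRoot f) := (AdjoinRoot.powerBasis hi.ne_zero).finite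
  have : Finite (AdjoinRoot f) := Module.finite_of_finite F
  letI := Fintype.ofFinite (AdjoinRoot f)
  have hfin : Module.finrank F (AdjoinRoot f) = f.natDegree := by
    rw [(AdjoinRoot.powerBasis hi.ne_zero).finrank, AdjoinRoot.powerBasis_dim]
  obtain ⟨α, hα⟩ : ∃ α, α = AdjoinRoot.root f := ⟨_, rfl⟩
  have hev : ∀ k : ℕ, f ∣ X ^ k - 1 ↔ α ^ k = 1 := fun k => by
    rw [hα, ← AdjoinRoot.mk_eq_zero, ← AdjoinRoot.aeval_eq, map_sub, map_pow, aeval_X, map_one, sub_eq_zero]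
  have hev0 : aeval α f = 0 := by rw [hα, AdjoinRoot.aeval_eq, AdjoinRoot.mk_self]
  have hα0 : α ≠ 0 := fun h => by
    rw [h, ← coeff_zero_eq_aeval_zero', map_eq_zero] at hev0
    exact h0 hev0
  have hq : 1 < Fintype.card F := Fintype.one_lt_card
  by_cases hself : starP (RingHom.id F) f = f
  · have hinv : aeval α⁻¹ f = 0 := by
      rwa [← SympBlocks.aeval_starP_iff h0 (mul_inv_cancel₀ hα0), hself]
    obtain ⟨φ, hφ⟩ : ∃ φ : AdjoinRoot f →ₐ[F] AdjoinRoot f, φ α = α⁻¹ :=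
      ⟨AdjoinRoot.liftAlgHom f (Algebra.ofId F _) _ hinv, (congrArg _ hα).trans (AdjoinRoot.liftAlgHom_root f (Algebra.ofId F _) _ hinv)⟩
    obtain ⟨⟨j, hj⟩, hjφ⟩ := (FiniteField.bijective_frobeniusAlgHom_pow F (AdjoinRoot f)).2 φ
    simp only at hjφ
    have hφ2 : φ ^ 2 = 1 := by
      refine AdjoinRoot.algHom_ext ?_
      rw [pow_two, AlgHom.mul_apply, ← hα, hφ, map_inv₀, hφ, inv_inv]
      rfl
    have hφ1 : φ ≠ 1 := by
      intro h
      rw [h, AlgHom.one_apply, ← mul_eq_one_iff_eq_inv₀ hα0, ← pow_two, ← hev] at hφ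
      exact h2 hφ
    rw [← hjφ, ← pow_mul, ← orderOf_dvd_iff_pow_eq_one, FiniteField.orderOf_frobeniusAlgHom] at hφ2
    have hj0 : j ≠ 0 := fun h => hφ1 (by rw [← hjφ, h, pow_zero])
    have h2j : 2 * j = Module.finrank F (AdjoinRoot f) := by
      obtain ⟨c, hc⟩ := hφ2
      rcases c with _ | _ | c
      · omega
      · omega
      · rw [show Module.finrank F (AdjoinRoot f) * (c + 1 + 1) =
          Module.finrank F (AdjoinRoot f) * c + 2 * Module.finrank F (AdjoinRoot f) by ring] at hc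
        omega
    refine ⟨j, by omega, hle, ?_, Fintype.card F ^ j + 1, .inr rfl, ?_⟩
    · rw [hself, Finset.pair_eq_singleton, Finset.sum_singleton, h2j, hfin]
    · rw [hself, and_self, hev, pow_succ]
      have hjα : α ^ Fintype.card F ^ j = α⁻¹ := by
        rw [← hφ, ← hjφ, AlgHom.coe_pow, FiniteField.coe_frobeniusAlgHom, pow_iterate]
      rw [hjα, inv_mul_cancel₀ hα0]
  · have hN : f ∣ X ^ (Fintype.card F ^ f.natDegree - 1) - 1 := by
      rw [hev, show Fintype.card F ^ f.natDegree = Fintype.card (AdjoinRoot f) by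
        rw [← Nat.card_eq_fintype_card (α := AdjoinRoot f), Module.natCard_eq_pow_finrank (K := F), hfin, Nat.card_eq_fintype_card]]
      exact FiniteField.pow_card_sub_one_eq_one α hα0
    refine ⟨f.natDegree, hi.natDegree_pos, hle, ?_, _, .inl rfl, hN, SympGraph.sub_one_self_dvd hi hm h0 hN ?_⟩
    · rw [Finset.sum_pair (Ne.symm hself), natDegree_starP h0, two_mul]
    · have := Nat.one_lt_pow hi.natDegree_pos.ne' hq
      omega

/-- The factors of the characteristic polynomial of an element similar to its inverse. -/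
theorem factors {ι : Type} [Fintype ι] [DecidableEq ι] (G : Matrix.GeneralLinearGroup ι F)
    (hinv : ((G : Matrix ι ι F)⁻¹).charpoly = (G : Matrix ι ι F).charpoly) {M : ℕ} (hGM : G ^ M = 1) :
    ∃ s : Multiset F[X], (∀ f ∈ s, f.Monic ∧ Irreducible f ∧ f.coeff 0 ≠ 0 ∧ f ∣ X ^ M - 1) ∧
      s.map (starP (RingHom.id F)) = s ∧ (s.map natDegree).sum = Fintype.card ι ∧ s.prod = (G : Matrix ι ι F).charpoly ∧
      ∀ b : ℕ, G ^ b ≠ 1 → ∃ f ∈ s, ∃ e, Multiset.replicate e f ≤ s ∧ f ^ e ∣ X ^ M - 1 ∧ ¬ f ^ e ∣ X ^ b - 1 := by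
  classical
  obtain ⟨P, hP⟩ : ∃ P, P = (G : Matrix ι ι F).charpoly := ⟨_, rfl⟩
  have hPm : P.Monic := hP ▸ Matrix.charpoly_monic _
  have hdet : IsUnit (G : Matrix ι ι F).det := (Matrix.isUnit_iff_isUnit_det _).1 G.isUnit
  have hP0 : P.coeff 0 ≠ 0 := by
    intro h0
    refine hdet.ne_zero ?_
    rw [Matrix.det_eq_sign_charpoly_coeff, ← hP, h0, mul_zero]
  have hPstar : starP (RingHom.id F) P = P := by
    have h := Matrix.charpoly_inv (G : Matrix ι ι F) G.isUnit
    rw [hinv, ← Matrix.reverse_charpoly, ← hP, ← C_1, ← C_neg, ← C_pow, ← C_mul] at h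
    obtain ⟨a, ha⟩ : ∃ a, P = C a * starP (RingHom.id F) P := by
      refine ⟨(-1) ^ Fintype.card ι * Ring.inverse (G : Matrix ι ι F).det * P.coeff 0, ?_⟩
      rw [starP, Polynomial.map_id, RingHom.id_apply, ← mul_assoc, ← C_mul, mul_assoc _ (P.coeff 0), mul_inv_cancel₀ hP0, mul_one]
      exact h
    have h1 := congrArg leadingCoeff ha
    rw [hPm.leadingCoeff, leadingCoeff_mul, leadingCoeff_C, (monic_starP hP0).leadingCoeff, mul_one] at h1
    rw [← h1, C_1, one_mul] at ha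
    exact ha.symm
  obtain ⟨hspec, -⟩ := matInv_spec G
  have hall := (pow_eq_one_iff_matInv G M).1 hGM
  obtain ⟨s, hs⟩ : ∃ s, s = UniqueFactorizationMonoid.normalizedFactors P := ⟨_, rfl⟩
  have hsi : ∀ f ∈ s, f.Monic ∧ Irreducible f ∧ f.coeff 0 ≠ 0 := fun f hf => FamCount.mem_factors hP0 (hs ▸ hf)
  refine ⟨s, fun f hf => ⟨(hsi f hf).1, (hsi f hf).2.1, (hsi f hf).2.2, ?_⟩, ?_, ?_, by rw [hs, FamCount.prod_factors hPm, hP], ?_⟩
  · have hd : f ∣ P := UniqueFactorizationMonoid.dvd_of_mem_normalizedFactors (hs ▸ hf)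
    rw [hP, charpoly_eq_matInv] at hd
    obtain ⟨z, hz, hfz⟩ := (hsi f hf).2.1.prime.exists_mem_multiset_map_dvd hd
    exact ((hsi f hf).2.1.prime.dvd_of_dvd_pow hfz).trans ((dvd_pow_self _ (by have := (hspec z hz).2.2.2; omega)).trans (hall z hz))
  · rw [hs]
    conv_rhs => rw [← hPstar, ← FamCount.prod_factors hPm, starP_multiset_prod]
    rw [UniqueFactorizationMonoid.normalizedFactors_prod_eq]
    · rw [Multiset.map_map]
      refine Multiset.map_congr rfl fun f hf => ?_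
      exact ((monic_starP (hsi f (hs ▸ hf)).2.2).normalize_eq_self).symm
    · intro a ha
      obtain ⟨f, hf, rfl⟩ := Multiset.mem_map.1 ha
      obtain ⟨k1, k2, k3⟩ := hsi f (hs ▸ hf)
      exact irreducible_starP (fun _ => rfl) k2 k1 k3
  · rw [← natDegree_multiset_prod_of_monic _ (fun f hf => (hsi f hf).1), hs, FamCount.prod_factors hPm, hP,
      Matrix.charpoly_natDegree_eq_dim]
  · intro b hb
    rw [Ne, pow_eq_one_iff_matInv] at hb
    push Not at hb
    obtain ⟨z, hz, hzn⟩ := hb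
    obtain ⟨hm, hi, h0, he⟩ := hspec z hz
    have hdP : z.1 ^ z.2 ∣ P := by
      rw [hP, charpoly_eq_matInv]
      exact Multiset.dvd_prod (Multiset.mem_map_of_mem _ hz)
    have hcnt : z.2 ≤ s.count z.1 := by
      have h := (UniqueFactorizationMonoid.dvd_iff_normalizedFactors_le_normalizedFactors
        (pow_ne_zero _ hi.ne_zero) hPm.ne_zero).1 hdP
      rw [UniqueFactorizationMonoid.normalizedFactors_pow, UniqueFactorizationMonoid.normalizedFactors_irreducible hi,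
        hm.normalize_eq_self, Multiset.nsmul_singleton, ← hs] at h
      exact Multiset.le_count_iff_replicate_le.2 h
    exact ⟨z.1, Multiset.count_pos.1 (by omega), z.2, Multiset.le_count_iff_replicate_le.1 hcnt, hall z hz, hzn⟩

/-- The data given by `factors`. -/
def Data (t : Multiset F[X]) (M n : ℕ) : Prop :=
  (∀ f ∈ t, f.Monic ∧ Irreducible f ∧ f.coeff 0 ≠ 0 ∧ f ∣ X ^ M - 1) ∧
    t.map (starP (RingHom.id F)) = t ∧ (t.map natDegree).sum ≤ 2 * n + 1

theorem exponent_le_one {p : ℕ} [Fact p.Prime] [CharP F p] {M : ℕ} (hM : ¬ p ∣ M) {f : F[X]} {e : ℕ}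
    (hf : Irreducible f) (hd : f ^ e ∣ X ^ M - 1) : e ≤ 1 := by
  by_contra he
  refine hf.not_isUnit ((Polynomial.separable_X_pow_sub_C (n := M) (1 : F) ?_ one_ne_zero).squarefree f ?_)
  · rwa [Ne, CharP.cast_eq_zero_iff F p]
  · rw [C_1]
    exact dvd_trans (by rw [← sq]; exact pow_dvd_pow _ (by omega)) hd

theorem see_factor {p : ℕ} [Fact p.Prime] [CharP F p] {M b : ℕ} (hM : ¬ p ∣ M) {t : Multiset F[X]}
    (ht : ∀ f ∈ t, Irreducible f) (h : ∃ f ∈ t, ∃ e, Multiset.replicate e f ≤ t ∧ f ^ e ∣ X ^ M - 1 ∧ ¬ f ^ e ∣ X ^ b - 1) :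
    ∃ f ∈ t, f ∣ X ^ M - 1 ∧ ¬ f ∣ X ^ b - 1 := by
  obtain ⟨f, hf, e, -, h1, h2⟩ := h
  have he := exponent_le_one (p := p) hM (ht f hf) h1
  interval_cases e
  · exact absurd (by rw [pow_zero]; exact one_dvd _) h2
  · exact ⟨f, hf, by simpa using h1, by simpa using h2⟩

/-- Two odd primes: a torus for both, or two tori. -/
theorem two_primes {t : Multiset F[X]} {n r s : ℕ} (hr : r.Prime) (hs : s.Prime) (hr2 : r ≠ 2) (hs2 : s ≠ 2) (hrs : r ≠ s)
    (hD : Data t (r * s) n) (hfr : ∃ f ∈ t, ¬ f ∣ X ^ s - 1) (hfs : ∃ f ∈ t, ¬ f ∣ X ^ r - 1) :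
    (∃ d, d ≤ n ∧ Tor F d (r * s)) ∨ ∃ d d', d + d' ≤ n ∧ Tor F d r ∧ Tor F d' s := by
  classical
  obtain ⟨ht1, ht2, ht3⟩ := hD
  obtain ⟨f, hf, hfn⟩ := hfr
  obtain ⟨g, hg, hgn⟩ := hfs
  obtain ⟨hfm, hfi, hf0, hfd⟩ := ht1 f hf
  obtain ⟨hgm, hgi, hg0, hgd⟩ := ht1 g hg
  obtain ⟨o, ho⟩ := exists_order hfi
  obtain ⟨o', ho'⟩ := exists_order hgi
  rw [ho] at hfd hfn
  rw [ho'] at hgd hgn
  have hodd : (2 : ℕ).Coprime (r * s) := Nat.Coprime.mul_right ((Nat.coprime_primes Nat.prime_two hr).2 hr2.symm)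
    ((Nat.coprime_primes Nat.prime_two hs).2 hs2.symm)
  have h2f : ¬ f ∣ X ^ 2 - 1 := fun h => hfn (by
    have := Nat.dvd_gcd ((ho 2).1 h) hfd
    rw [hodd] at this
    exact this.trans (one_dvd _))
  have h2g : ¬ g ∣ X ^ 2 - 1 := fun h => hgn (by
    have := Nat.dvd_gcd ((ho' 2).1 h) hgd
    rw [hodd] at this
    exact this.trans (one_dvd _))
  obtain ⟨d, hd0, hdle, hdsum, N, hN, hNf, hNf'⟩ := orbit ht2 hf hfm hfi hf0 h2f
  obtain ⟨d', hd0', hdle', hdsum', N', hN', hNg, hNg'⟩ := orbit ht2 hg hgm hgi hg0 h2g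
  have htor : ∀ {d N a : ℕ}, 0 < d → (N = Fintype.card F ^ d - 1 ∨ N = Fintype.card F ^ d + 1) → a ∣ N → Tor F d a :=
    fun h0 h ha => ⟨h0, h.elim (fun e => .inl (e ▸ ha)) fun e => .inr (e ▸ ha)⟩
  by_cases hsame : g ∈ ({f, starP (RingHom.id F) f} : Finset F[X])
  · left
    have hgN : g ∣ X ^ N - 1 := by
      rw [Finset.mem_insert, Finset.mem_singleton] at hsame
      rcases hsame with rfl | rfl
      exacts [hNf, hNf']
    refine ⟨d, ?_, htor hd0 hN (((Nat.coprime_primes hr hs).2 hrs).mul_dvd_of_dvd_of_dvd (sees hr hfd hfn ((ho N).1 hNf))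
      (sees hs (mul_comm r s ▸ hgd) hgn ((ho' N).1 hgN)))⟩
    have := SympGraph.sum_le_of_le hdle
    change ({f, starP (RingHom.id F) f} : Finset F[X]).sum natDegree ≤ _ at this
    omega
  · right
    refine ⟨d, d', ?_, htor hd0 hN (sees hr hfd hfn ((ho N).1 hNf)),
      htor hd0' hN' (sees hs (mul_comm r s ▸ hgd) hgn ((ho' N').1 hNg))⟩
    have hff : starP (RingHom.id F) (starP (RingHom.id F) f) = f := starP_starP (fun _ => rfl) hfm hf0
    have hgg : starP (RingHom.id F) (starP (RingHom.id F) g) = g := starP_starP (fun _ => rfl) hgm hg0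
    have hdis : Disjoint ({f, starP (RingHom.id F) f} : Finset F[X]) {g, starP (RingHom.id F) g} := by
      rw [Finset.mem_insert, Finset.mem_singleton] at hsame
      push Not at hsame
      rw [Finset.disjoint_left]
      intro y hy hy'
      simp only [Finset.mem_insert, Finset.mem_singleton] at hy hy'
      rcases hy with rfl | rfl <;> rcases hy' with h' | h'
      · exact hsame.1 h'.symm
      · exact hsame.2 (by rw [h', hgg])
      · exact hsame.2 h'.symm
      · exact hsame.1 (by rw [← hgg, ← h', hff])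
    have hle : (({f, starP (RingHom.id F) f} : Finset F[X]) ∪ {g, starP (RingHom.id F) g}).1 ≤ t :=
      (Multiset.le_iff_subset (Finset.nodup _)).2 fun y hy => by
        rw [Finset.mem_val, Finset.mem_union] at hy
        exact hy.elim (fun h => Multiset.mem_of_le hdle h) (fun h => Multiset.mem_of_le hdle' h)
    have hsum := SympGraph.sum_le_of_le hle
    change (({f, starP (RingHom.id F) f} : Finset F[X]) ∪ {g, starP (RingHom.id F) g}).sum natDegree ≤ _ at hsum
    rw [Finset.sum_union hdis] at hsum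
    erw [hdsum, hdsum'] at hsum
    omega

/-- An odd prime and the characteristic. -/
theorem prime_char {p : ℕ} [Fact p.Prime] [CharP F p] {t : Multiset F[X]} {n r : ℕ} (hr : r.Prime) (hr2 : r ≠ 2) (hrp : r ≠ p)
    (hD : Data t (r * p) n)
    (ht4 : ∀ b, b = p ∨ b = r → ∃ f ∈ t, ∃ e, Multiset.replicate e f ≤ t ∧ f ^ e ∣ X ^ (r * p) - 1 ∧ ¬ f ^ e ∣ X ^ b - 1) :
    ∃ d, d + 1 ≤ n ∧ Tor F d r := by
  classical
  obtain ⟨ht1, ht2, ht3⟩ := hD
  have hp : p.Prime := Fact.out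
  have hfr : (X ^ (r * p) - 1 : F[X]) = (X ^ r - 1) ^ p := by rw [sub_pow_char, one_pow, pow_mul]
  have hdr : ∀ y ∈ t, y ∣ X ^ r - 1 := fun y hy => (ht1 y hy).2.1.prime.dvd_of_dvd_pow (hfr ▸ (ht1 y hy).2.2.2)
  obtain ⟨f, hf, e, -, he1, he2⟩ := ht4 p (.inl rfl)
  obtain ⟨g, hg, e', hrep, -, he2'⟩ := ht4 r (.inr rfl)
  obtain ⟨hfm, hfi, hf0, -⟩ := ht1 f hf
  obtain ⟨-, hgi, -, -⟩ := ht1 g hg
  have hfn : ¬ f ∣ X ^ 1 - 1 := by
    intro hone
    rw [pow_one] at hone
    refine he2 ?_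
    have hle : e ≤ p := by
      by_contra hgt
      obtain ⟨w, hw⟩ := hdr f hf
      have h2 : f ^ (p + 1) ∣ (X ^ r - 1) ^ p := (pow_dvd_pow _ (by omega)).trans (hfr ▸ he1)
      rw [hw, mul_pow, pow_succ] at h2
      obtain ⟨w', hw'⟩ := hfi.prime.dvd_of_dvd_pow ((mul_dvd_mul_iff_left (pow_ne_zero p hfi.ne_zero)).1 h2)
      refine hfi.not_isUnit ((Polynomial.separable_X_pow_sub_C (n := r) (1 : F) ?_ one_ne_zero).squarefree f ?_)
      · rw [Ne, CharP.cast_eq_zero_iff F p]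
        exact fun hd => hrp ((Nat.prime_dvd_prime_iff_eq hp hr).1 hd).symm
      · rw [C_1, hw, hw', ← mul_assoc]; exact dvd_mul_right _ _
    calc f ^ e ∣ f ^ p := pow_dvd_pow _ hle
      _ ∣ (X - 1) ^ p := pow_dvd_pow_of_dvd hone p
      _ = X ^ p - 1 := by rw [sub_pow_char, one_pow]
  have he' : 2 ≤ e' := by
    by_contra hgt
    refine he2' ((pow_dvd_pow _ (show e' ≤ 1 by omega)).trans ?_)
    rw [pow_one]
    exact hdr g hg
  obtain ⟨o, ho⟩ := exists_order hfi
  have hfd := (ho r).1 (hdr f hf)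
  rw [ho] at hfn
  have h2f : ¬ f ∣ X ^ 2 - 1 := fun h => hfn (by
    have := Nat.dvd_gcd ((ho 2).1 h) hfd
    rwa [((Nat.coprime_primes Nat.prime_two hr).2 hr2.symm : Nat.Coprime 2 r)] at this)
  obtain ⟨d, hd0, hdle, hdsum, N, hN, hNf, -⟩ := orbit ht2 hf hfm hfi hf0 h2f
  have hrN : r ∣ N := sees hr (by rw [mul_one]; exact hfd) hfn ((ho N).1 hNf)
  refine ⟨d, ?_, hd0, hN.elim (fun e => .inl (e ▸ hrN)) fun e => .inr (e ▸ hrN)⟩
  obtain ⟨O, hO⟩ : ∃ O, O = ({f, starP (RingHom.id F) f} : Finset F[X]) := ⟨_, rfl⟩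
  rw [← hO] at hdle hdsum
  have hcnt : 2 ≤ t.count g := he'.trans (Multiset.le_count_iff_replicate_le.2 hrep)
  by_cases hgO : g ∈ O
  · have hstar : ∀ y ∈ t, t.count (starP (RingHom.id F) y) = t.count y := fun y hy => by
      conv_lhs => rw [← ht2]
      exact Multiset.count_map_eq_count _ t (SympGraph.starP_injOn fun z hz => ⟨(ht1 z hz).1, (ht1 z hz).2.2.1⟩) y hy
    have hboth : ∀ y ∈ O, 2 ≤ t.count y := by
      intro y hy
      have hff : starP (RingHom.id F) (starP (RingHom.id F) f) = f := starP_starP (fun _ => rfl) hfm hf0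
      rw [hO, Finset.mem_insert, Finset.mem_singleton] at hy hgO
      rcases hgO with rfl | rfl <;> rcases hy with rfl | rfl
      · exact hcnt
      · rw [hstar _ hg]; exact hcnt
      · rw [← hstar _ hf]; exact hcnt
      · exact hcnt
    have hle2 : O.1 + O.1 ≤ t := Multiset.le_iff_count.2 fun y => by
      rw [Multiset.count_add]
      by_cases hy : y ∈ O
      · have := Multiset.nodup_iff_count_le_one.1 O.nodup y
        have := hboth y hy
        omega
      · rw [Multiset.count_eq_zero.2 (fun hc => hy hc)]; simp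
    have hsum := SympGraph.sum_le_of_le hle2
    rw [Multiset.map_add, Multiset.sum_add] at hsum
    change O.sum natDegree + O.sum natDegree ≤ _ at hsum
    omega
  · have hle2 : g ::ₘ g ::ₘ O.1 ≤ t := Multiset.le_iff_count.2 fun y => by
      rw [Multiset.count_cons, Multiset.count_cons]
      have := Multiset.le_iff_count.1 hdle y
      by_cases hy : y = g
      · subst hy
        rw [if_pos rfl, Multiset.count_eq_zero.2 (fun hc => hgO hc)]
        omega
      · rw [if_neg hy]; omega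
    have hsum := SympGraph.sum_le_of_le hle2
    rw [Multiset.map_cons, Multiset.map_cons, Multiset.sum_cons, Multiset.sum_cons] at hsum
    change g.natDegree + (g.natDegree + O.sum natDegree) ≤ _ at hsum
    have := hgi.natDegree_pos
    omega

theorem natDegree_pos_of_data {t : Multiset F[X]} {M n : ℕ} (hD : Data t M n) {u : Multiset F[X]} (hu : u ≤ t) :
    ∀ f ∈ u, 0 < f.natDegree := fun f hf => (hD.1 f (Multiset.mem_of_le hu hf)).2.1.natDegree_pos

/-- The number two and an odd prime: a short torus, or one orbit and at most one linear factor. -/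
theorem two_prime {t : Multiset F[X]} {n r M : ℕ} (hn : 2 ≤ n) (hr : r.Prime) (hM : M = 2 * r ∨ M = 4 * r)
    (hD : Data t M n) (hfr : ∃ f ∈ t, ¬ f ∣ X ^ 4 - 1) :
    (∃ d, d + 1 ≤ n ∧ Tor F d r) ∨
      ∃ N, (N = Fintype.card F ^ n - 1 ∨ N = Fintype.card F ^ n + 1) ∧ 0 < n ∧ r ∣ N ∧
        ((4 * r ∣ M ∧ 4 * r ∣ N) ∨
          ∃ (R : F[X]) (c : F) (u : Multiset F[X]), (c = 1 ∨ c = -1) ∧ R ∣ X ^ r - C c ∧ R.natDegree = 2 * n ∧
            R.eval 1 ≠ 0 ∧ R.eval (-1) ≠ 0 ∧ t.prod = R * u.prod ∧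
            (u = 0 ∨ ∃ e : F, (e = 1 ∨ e = -1) ∧ u = {X - C e})) := by
  classical
  obtain ⟨f, hf, hfn⟩ := hfr
  obtain ⟨hfm, hfi, hf0, hfd⟩ := hD.1 f hf
  obtain ⟨o, ho⟩ := exists_order hfi
  rw [ho] at hfd hfn
  have h4 : M ∣ r * 4 := by
    rcases hM with rfl | rfl
    · exact ⟨2, by ring⟩
    · exact ⟨1, by ring⟩
  have h4f : o ∣ r * 4 := hfd.trans h4
  have h2f : ¬ f ∣ X ^ 2 - 1 := fun h => hfn (((ho 2).1 h).trans ⟨2, rfl⟩)
  obtain ⟨d, hd0, hdle, hdsum, N, hN, hNf, -⟩ := orbit hD.2.1 hf hfm hfi hf0 h2f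
  have hrN : r ∣ N := sees hr h4f hfn ((ho N).1 hNf)
  have hsum : ({f, starP (RingHom.id F) f} : Finset F[X]).sum natDegree ≤ 2 * n + 1 := (SympGraph.sum_le_of_le hdle).trans hD.2.2
  rcases Nat.lt_or_ge d n with hlt | hge
  · exact .inl ⟨d, hlt, hd0, hN.elim (fun e => .inl (e ▸ hrN)) fun e => .inr (e ▸ hrN)⟩
  obtain rfl : d = n := by omega
  refine .inr ⟨N, hN, hd0, hrN, ?_⟩
  by_cases h2r : o ∣ 2 * r
  swap
  · left
    obtain ⟨c, hc⟩ : r ∣ o := sees hr h4f hfn dvd_rfl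
    have hc4 : c ∣ 4 := Nat.dvd_of_mul_dvd_mul_left hr.pos (hc ▸ h4f)
    have ho4 : o = 4 * r := by
      have := Nat.le_of_dvd (by norm_num) hc4
      interval_cases c
      · simp at hc4
      · exact absurd (hc ▸ ⟨2, by ring⟩) h2r
      · exact absurd (hc ▸ ⟨1, by ring⟩) h2r
      · norm_num at hc4
      · rw [hc, mul_comm]
    exact ⟨ho4 ▸ hfd, ho4 ▸ (ho N).1 hNf⟩
  right
  obtain ⟨fs, hfs⟩ : ∃ fs, fs = starP (RingHom.id F) f := ⟨_, rfl⟩
  rw [← hfs] at hdle hdsum hsum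
  have hfsm : fs.Monic := hfs ▸ monic_starP hf0
  have hfsi : Irreducible fs := hfs ▸ irreducible_starP (fun _ => rfl) hfi hfm hf0
  have hfs0 : fs.coeff 0 ≠ 0 := by rw [hfs, coeff_zero_starP hfm]; exact inv_ne_zero hf0
  have hfss : starP (RingHom.id F) fs = f := hfs ▸ starP_starP (fun _ => rfl) hfm hf0
  have hf2r : f ∣ X ^ (2 * r) - 1 := (ho _).2 h2r
  have hfac : (X ^ (2 * r) - 1 : F[X]) = (X ^ r - 1) * (X ^ r + 1) := by rw [two_mul, pow_add]; ring
  obtain ⟨c, hc, hfc, hfsc⟩ : ∃ c : F, (c = 1 ∨ c = -1) ∧ f ∣ X ^ r - C c ∧ fs ∣ X ^ r - C c := by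
    by_cases h1 : f ∣ X ^ r - 1
    · exact ⟨1, .inl rfl, by rw [C_1]; exact h1, by rw [C_1, hfs]; exact SympGraph.sub_one_self_dvd hfi hfm hf0 h1 hr.one_le⟩
    · refine ⟨-1, .inr rfl, ?_, ?_⟩ <;> rw [C_neg, C_1, sub_neg_eq_add]
      · exact ((hfi.prime.dvd_or_dvd (hfac ▸ hf2r))).resolve_left h1
      · refine ((hfsi.prime.dvd_or_dvd (hfac ▸ hfs ▸ SympGraph.sub_one_self_dvd hfi hfm hf0 hf2r (by have := hr.pos; omega)))).resolve_left fun h => h1 ?_
        rw [← hfss]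
        exact SympGraph.sub_one_self_dvd hfsi hfsm hfs0 h hr.one_le
  obtain ⟨O, hO⟩ : ∃ O, O = ({f, fs} : Finset F[X]) := ⟨_, rfl⟩
  rw [← hO] at hdle hdsum
  have hOmem : ∀ y ∈ O, y.Monic ∧ Irreducible y ∧ ¬ y ∣ X ^ 2 - 1 := by
    intro y hy
    rw [hO, Finset.mem_insert, Finset.mem_singleton] at hy
    rcases hy with rfl | rfl
    · exact ⟨hfm, hfi, h2f⟩
    · refine ⟨hfsm, hfsi, fun h => h2f ?_⟩
      rw [← hfss]
      exact SympGraph.sub_one_self_dvd hfsi hfsm hfs0 h (by norm_num)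
  have hdeg : ∀ y ∈ O, d ≤ y.natDegree := by
    intro y hy
    rw [hO] at hy hdsum
    by_cases hff : f = fs
    · simp [← hff] at hy hdsum; subst hy; omega
    · rw [Finset.sum_pair hff] at hdsum
      have : fs.natDegree = f.natDegree := by rw [hfs, natDegree_starP hf0]
      rw [Finset.mem_insert, Finset.mem_singleton] at hy
      rcases hy with rfl | rfl <;> omega
  obtain ⟨u, rfl⟩ := Multiset.le_iff_exists_add.1 hdle
  refine ⟨∏ y ∈ O, y, c, u, hc, ?_, ?_, ?_, ?_, ?_, ?_⟩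
  · rw [hO]
    by_cases hff : f = fs
    · rw [← hff]; simpa using hfc
    · rw [Finset.prod_pair hff]
      exact IsCoprime.mul_dvd (hfi.coprime_iff_not_dvd.2 fun hd' => hff
        (eq_of_monic_of_associated hfm hfsm (hfi.associated_of_dvd hfsi hd'))) hfc hfsc
  · rw [natDegree_prod_of_monic O (fun y => y) fun y hy => (hOmem y hy).1, hdsum]
  · rw [eval_prod, Finset.prod_ne_zero_iff]
    intro y hy he
    obtain ⟨k1, k2, k3⟩ := hOmem y hy
    have := eq_of_monic_of_associated (monic_X_sub_C 1) k1 ((irreducible_X_sub_C 1).associated_of_dvd k2 (dvd_iff_isRoot.2 he))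
    exact k3 (this ▸ ⟨X + 1, by rw [C_1]; ring⟩)
  · rw [eval_prod, Finset.prod_ne_zero_iff]
    intro y hy he
    obtain ⟨k1, k2, k3⟩ := hOmem y hy
    have := eq_of_monic_of_associated (monic_X_sub_C (-1)) k1 ((irreducible_X_sub_C (-1)).associated_of_dvd k2 (dvd_iff_isRoot.2 he))
    exact k3 (this ▸ ⟨X - 1, by rw [C_neg, C_1]; ring⟩)
  · rw [Multiset.prod_add, Finset.prod_eq_multiset_prod, Multiset.map_id']
  · have hs := hD.2.2
    rw [Multiset.map_add, Multiset.sum_add] at hs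
    change O.sum natDegree + _ ≤ _ at hs
    have hpos := natDegree_pos_of_data hD (Multiset.le_add_left u O.1)
    rcases Multiset.empty_or_exists_mem u with rfl | ⟨h, hh⟩
    · exact .inl rfl
    obtain ⟨v, rfl⟩ := Multiset.exists_cons_of_mem hh
    rw [Multiset.map_cons, Multiset.sum_cons] at hs
    have h1 := hpos h (Multiset.mem_cons_self _ _)
    obtain rfl : v = 0 := by
      rcases Multiset.empty_or_exists_mem v with rfl | ⟨w, hw⟩
      · rfl
      · have h2 := hpos w (Multiset.mem_cons_of_mem hw)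
        have h3 := Multiset.le_sum_of_mem (Multiset.mem_map_of_mem natDegree hw)
        omega
    right
    obtain ⟨hhm, -, hh0, -⟩ := hD.1 h (Multiset.mem_add.2 (.inr hh))
    have hhd : h.natDegree = 1 := by simp at hs; omega
    have hfix : starP (RingHom.id F) h = h := by
      have hmem : starP (RingHom.id F) h ∈ O.1 + {h} := by
        have := Multiset.mem_map_of_mem (starP (RingHom.id F)) (Multiset.mem_add.2 (.inr hh) : h ∈ O.1 + h ::ₘ 0)
        rwa [hD.2.1] at this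
      rcases Multiset.mem_add.1 hmem with e | e
      · have := hdeg _ e
        rw [natDegree_starP hh0] at this
        omega
      · exact Multiset.mem_singleton.1 e
    have h0' := coeff_zero_starP (σ := RingHom.id F) hhm
    rw [hfix, RingHom.id_apply] at h0'
    refine ⟨-h.coeff 0, ?_, ?_⟩
    · rcases mul_self_eq_one_iff.1 (show h.coeff 0 * h.coeff 0 = 1 by nth_rewrite 1 [h0']; exact inv_mul_cancel₀ hh0) with e | e <;> rw [e] <;> simp
    · rw [C_neg, sub_neg_eq_add, ← hhm.eq_X_add_C hhd]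
      rfl

end Cfsg.Agent.Lib.Similar.TorusFactors
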