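import Mathlib
import Cfsg.Agent.Lib.Similar.TorusFactors
import Cfsg.Agent.Lib.Similar.OrthElements
import Cfsg.Agent.Lib.Similar.OrthCount

/-!
Element orders of the odd-dimensional orthogonal groups which are products of two primes.
-/

set_option autoImplicit false

namespace Cfsg.Agent.Lib.Similar.OddGraph

open QuadraticMap (polarBilin)
open Module (finrank)
open Cfsg.Agent.Lib.Geometry
open Cfsg.Agent.Lib.Similar.OrthElements
open Cfsg.Agent.Lib.Similar.TorusFactors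
open Cfsg.Agent.Lib.Classical.AutPOmega (oddR coe_oddR IsHyp)
open Matrix (GeneralLinearGroup)

attribute [-simp] QuadraticMap.polarBilin_apply_apply

variable {F : Type*} [Field F] [Fintype F] {n : ℕ}

local notation "𝕍" => (Unit ⊕ (Fin n ⊕ Fin n) → F)

theorem odd_nondeg (h2 : (2 : F) ≠ 0) : (polarBilin (oddR n F)).Nondegenerate :=
  Classical.nondegenerate_of_equiv _ _ (Classical.oddEquiv n F) (fun _ => rfl)
    (Classical.hyperForm_nondegenerate n _ (Classical.sq_nondegenerate h2))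

theorem odd_finrank : finrank F 𝕍 = 2 * n + 1 := by
  rw [Module.finrank_fintype_fun_eq_card]; simp only [Fintype.card_sum, Fintype.card_unit, Fintype.card_fin]; omega

theorem center_bot (h2 : (2 : F) ≠ 0) (hn : 3 ≤ n) : Subgroup.center (Cfsg.Omega F ⇑(oddR n F)) = ⊥ := by
  rw [eq_bot_iff]
  intro z hz
  rcases (Classical.center_Omega_eq (QuadraticMap.sq : QuadraticForm F F) n hn
    (Classical.hyperForm_nondegenerate n _ (Classical.sq_nondegenerate h2)) (Classical.oddEquiv n F) ⇑(oddR n F)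
      (fun _ => rfl) z).1 hz with hz | hz
  · exact Subgroup.mem_bot.2 (Subtype.ext (Subtype.ext (Units.ext hz)))
  · exfalso
    have h1 := Abelianization.commutator_subset_ker ((Matrix.GeneralLinearGroup.det :
      GL (Unit ⊕ (Fin n ⊕ Fin n)) F →* Fˣ).comp (Cfsg.isometryGroup F ⇑(oddR n F)).subtype) z.2
    have h1' := congrArg Units.val (MonoidHom.mem_ker.mp h1)
    simp [hz, Matrix.det_neg, show Fintype.card (Unit ⊕ (Fin n ⊕ Fin n)) = 1 + 2 * n by simp; omega,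
      pow_add, pow_mul] at h1'
    exact h2 (by linear_combination -h1')

theorem mem_range_iff (h2 : (2 : F) ≠ 0) (hn : 3 ≤ n) (hQ : (polarBilin (oddR n F)).Nondegenerate) (N : ℕ) :
    N ∈ Set.range (orderOf : Cfsg.POmega F (Cfsg.quadFormOdd n F) → ℕ) ↔
      ∃ g : quadIsometries (oddR n F), dickSpinHom (oddR n F) hQ h2 g = 1 ∧ orderOf g = N := by
  rw [coe_oddR]
  have hmem : ∀ x : Cfsg.isometryGroup F ⇑(oddR n F),
      x ∈ Cfsg.Omega F ⇑(oddR n F) ↔ dickSpinHom (oddR n F) hQ h2 (isometryEquiv _ x) = 1 := fun x => by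
    rw [mem_Omega_iff _ hQ h2 (by simp only [Fintype.card_sum, Fintype.card_unit, Fintype.card_fin]; omega),
      dickSpinHom_apply, Prod.ext_iff]
    rfl
  have hinj : Function.Injective (QuotientGroup.mk' (Subgroup.center (Cfsg.Omega F ⇑(oddR n F)))) :=
    (MonoidHom.ker_eq_bot_iff _).1 (by rw [QuotientGroup.ker_mk']; exact center_bot h2 hn)
  constructor
  · rintro ⟨y, rfl⟩
    obtain ⟨x, rfl⟩ := QuotientGroup.mk'_surjective _ y
    refine ⟨isometryEquiv _ x.1, (hmem _).1 x.2, ?_⟩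
    rw [orderOf_injective _ hinj, MulEquiv.orderOf_eq, Subgroup.orderOf_coe]
  · rintro ⟨g, hg, rfl⟩
    refine ⟨QuotientGroup.mk' _ ⟨(isometryEquiv _).symm g, (hmem _).2 (by rw [MulEquiv.apply_symm_apply]; exact hg)⟩, ?_⟩
    rw [orderOf_injective _ hinj, ← Subgroup.orderOf_coe, MulEquiv.orderOf_eq]

theorem finite_iso : Finite (quadIsometries (oddR n F)) := by
  haveI : Finite (𝕍 ≃ₗ[F] 𝕍) := Finite.of_injective (fun e => (e : 𝕍 → 𝕍)) DFunLike.coe_injective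
  infer_instance

theorem mem_range_odd (h2 : (2 : F) ≠ 0) (hn : 3 ≤ n) {N : ℕ} (hN : Odd N) (g : quadIsometries (oddR n F))
    (h : N ∣ orderOf g) : N ∈ Set.range (orderOf : Cfsg.POmega F (Cfsg.quadFormOdd n F) → ℕ) := by
  haveI := finite_iso (F := F) (n := n)
  obtain ⟨x, hx⟩ := PrimeGraph.mem_range_of_dvd g h
  exact (mem_range_iff h2 hn (odd_nondeg h2) N).2 ⟨x, eq_one_of_odd _ x (hx ▸ hN), hx⟩

theorem exists_place_torus (h2 : (2 : F) ≠ 0) {k N : ℕ} (hk : k ≤ n) (h : HasO F k N) :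
    ∃ (T : quadIsometries (oddR n F)) (U : Submodule F 𝕍), 2 * n + 1 ≤ finrank F U + 2 * k ∧
      (polarBilin ((oddR n F).comp U.subtype)).Nondegenerate ∧ N ∣ orderOf T ∧
      ∀ u ∈ U, (T : 𝕍 ≃ₗ[F] 𝕍) u = u := by
  obtain ⟨W, i1, i2, i3, R, g, hR, hW, hg, ho⟩ := h
  obtain ⟨T, U, hU, hUn, hT, hTU⟩ := exists_place hR (odd_nondeg (n := n) h2) hW
    (by rw [odd_finrank]; omega) hg
  exact ⟨T, U, by rw [odd_finrank] at hU; exact hU, hUn, ho.trans hT, hTU⟩

/-- Two odd primes. -/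
theorem two_odd (h2 : (2 : F) ≠ 0) (hn : 3 ≤ n) {p r s : ℕ} [Fact p.Prime] [CharP F p] (hr : r.Prime) (hs : s.Prime)
    (hr2 : r ≠ 2) (hs2 : s ≠ 2) (hrp : r ≠ p) (hsp : s ≠ p) (hrs : r ≠ s) :
    r * s ∈ Set.range (orderOf : Cfsg.POmega F (Cfsg.quadFormOdd n F) → ℕ) ↔
      ((∃ d, d ≤ n ∧ Tor F d (r * s)) ∨ ∃ d d', d + d' ≤ n ∧ Tor F d r ∧ Tor F d' s) := by
  classical
  have hodd : Odd (r * s) := (hr.odd_of_ne_two hr2).mul (hs.odd_of_ne_two hs2)
  constructor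
  · intro h
    obtain ⟨g, -, hg⟩ := (mem_range_iff h2 hn (odd_nondeg h2) _).1 h
    obtain ⟨G, hG⟩ : ∃ G, G = (isometryEquiv (oddR n F)).symm g := ⟨_, rfl⟩
    have hGo : orderOf G.1 = r * s := by rw [Subgroup.orderOf_coe, hG, MulEquiv.orderOf_eq, hg]
    obtain ⟨t, ht1, ht2, ht3, -, ht5⟩ := factors G.1
      (OrthCount.charpoly_inv_eq _ (odd_nondeg h2) G) (hGo ▸ pow_orderOf_eq_one _)
    have hp : p.Prime := Fact.out
    have hM : ¬ p ∣ r * s := fun h => (hp.dvd_mul.1 h).elim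
      (fun h => hrp ((Nat.prime_dvd_prime_iff_eq hp hr).1 h).symm) fun h => hsp ((Nat.prime_dvd_prime_iff_eq hp hs).1 h).symm
    have hne : ∀ b, 0 < b → b < r * s → G.1 ^ b ≠ 1 := fun b h1 h2' h => by
      have := Nat.le_of_dvd h1 (hGo ▸ orderOf_dvd_of_pow_eq_one h); omega
    have hti : ∀ f ∈ t, Irreducible f := fun f hf => (ht1 f hf).2.1
    obtain ⟨f, hf, -, hfn⟩ := see_factor (p := p) hM hti (ht5 s (hne s hs.pos (lt_mul_of_one_lt_left hs.pos hr.one_lt)))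
    obtain ⟨f', hf', -, hfn'⟩ := see_factor (p := p) hM hti (ht5 r (hne r hr.pos (lt_mul_of_one_lt_right hr.pos hs.one_lt)))
    refine two_primes hr hs hr2 hs2 hrs ⟨ht1, ht2, ?_⟩ ⟨f, hf, hfn⟩ ⟨f', hf', hfn'⟩
    rw [ht3]; simp only [Fintype.card_sum, Fintype.card_unit, Fintype.card_fin]; omega
  · rintro (⟨d, hd, hd0, ht⟩ | ⟨d, d', hd, ⟨hd0, ht⟩, hd0', ht'⟩)
    · obtain ⟨T, -, -, -, hT, -⟩ := exists_place_torus (n := n) h2 hd (hasO_torus h2 hd0 ht)
      exact mem_range_odd h2 hn hodd T hT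
    · have h := (hasO_torus h2 hd0 ht).prod (hasO_torus h2 hd0' ht')
      rw [((Nat.coprime_primes hr hs).2 hrs).lcm_eq_mul] at h
      obtain ⟨T, -, -, -, hT, -⟩ := exists_place_torus (n := n) h2 hd h
      exact mem_range_odd h2 hn hodd T hT

theorem exists_short (h2 : (2 : F) ≠ 0) {d r : ℕ} (hd : d + 1 ≤ n) (ht : Tor F d r) :
    ∃ (T : quadIsometries (oddR n F)) (U : Submodule F 𝕍), orderOf T = r ∧
      (polarBilin ((oddR n F).comp U.subtype)).Nondegenerate ∧ 3 ≤ finrank F U ∧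
      ∀ u ∈ U, (T : 𝕍 ≃ₗ[F] 𝕍) u = u := by
  obtain ⟨T, U, hU, hUn, hT, hTU⟩ := exists_place_torus (n := n) h2 (show d ≤ n by omega) (hasO_torus h2 ht.1 ht.2)
  have hpos : 0 < orderOf T := by
    haveI := finite_iso (F := F) (n := n)
    exact orderOf_pos T
  refine ⟨T ^ (orderOf T / r), U, ?_, hUn, by omega, fun u hu => ?_⟩
  · rw [orderOf_pow_of_dvd (Nat.div_pos (Nat.le_of_dvd hpos hT) (Nat.pos_of_dvd_of_pos hT hpos)).ne'
      (Nat.div_dvd_of_dvd hT), Nat.div_div_self hT hpos.ne']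
  · generalize orderOf T / r = k
    induction k with
    | zero => rfl
    | succ k ih =>
      rw [pow_succ']
      show (T : 𝕍 ≃ₗ[F] 𝕍) (((T ^ k : quadIsometries (oddR n F)) : 𝕍 ≃ₗ[F] 𝕍) u) = u
      rw [ih, hTU u hu]

/-- An odd prime and the characteristic. -/
theorem odd_char (h2 : (2 : F) ≠ 0) (hn : 3 ≤ n) {p r : ℕ} [Fact p.Prime] [CharP F p] (hp2 : p ≠ 2) (hr : r.Prime)
    (hr2 : r ≠ 2) (hrp : r ≠ p) :
    r * p ∈ Set.range (orderOf : Cfsg.POmega F (Cfsg.quadFormOdd n F) → ℕ) ↔ ∃ d, d + 1 ≤ n ∧ Tor F d r := by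
  classical
  have hp : p.Prime := Fact.out
  have hodd : Odd (r * p) := (hr.odd_of_ne_two hr2).mul (hp.odd_of_ne_two hp2)
  constructor
  · intro h
    obtain ⟨g, -, hg⟩ := (mem_range_iff h2 hn (odd_nondeg h2) _).1 h
    obtain ⟨G, hG⟩ : ∃ G, G = (isometryEquiv (oddR n F)).symm g := ⟨_, rfl⟩
    have hGo : orderOf G.1 = r * p := by rw [Subgroup.orderOf_coe, hG, MulEquiv.orderOf_eq, hg]
    obtain ⟨t, ht1, ht2, ht3, -, ht5⟩ := factors G.1
      (OrthCount.charpoly_inv_eq _ (odd_nondeg h2) G) (hGo ▸ pow_orderOf_eq_one _)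
    have hne : ∀ b, 0 < b → b < r * p → G.1 ^ b ≠ 1 := fun b h1 h2' h => by
      have := Nat.le_of_dvd h1 (hGo ▸ orderOf_dvd_of_pow_eq_one h); omega
    refine prime_char hr hr2 hrp ⟨ht1, ht2, by rw [ht3]; simp only [Fintype.card_sum, Fintype.card_unit, Fintype.card_fin]; omega⟩ ?_
    rintro b (rfl | rfl)
    · exact ht5 _ (hne _ hp.pos (lt_mul_of_one_lt_left hp.pos hr.one_lt))
    · exact ht5 _ (hne _ hr.pos (lt_mul_of_one_lt_right hr.pos hp.one_lt))
  · rintro ⟨d, hd, ht⟩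
    obtain ⟨T, U, hT, hUn, hU, hTU⟩ := exists_short (n := n) h2 hd ht
    obtain ⟨e, f, z, he, hf, hz, hQe, hQf, hef, hez, hfz, hQz⟩ := exists_eichler_data hUn hU
    obtain ⟨E, hE, -, hEc⟩ := exists_eichler (p := p) (odd_nondeg h2) hQe hef hez
      (fun h => hQz (by rw [h, map_zero])) hfz
    have hc : Commute T E := hEc T (hTU e he) (hTU z hz)
    refine mem_range_odd h2 hn hodd (T * E) ?_
    rw [hc.orderOf_mul_eq_mul_orderOf_of_coprime (by rw [hT, hE]; exact (Nat.coprime_primes hr hp).2 hrp), hT, hE]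

end Cfsg.Agent.Lib.Similar.OddGraph
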