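import Mathlib
import Cfsg.Agent.Lib.Similar.OddPrimeGraph
import Cfsg.Agent.Lib.Similar.OrthType
import Cfsg.Agent.Lib.Classical.AutPOmega.QuadType

/-!
Element orders of the odd-dimensional orthogonal groups which are twice a prime.
-/

set_option autoImplicit false

namespace Cfsg.Agent.Lib.Similar.OddGraph

open QuadraticMap (polarBilin)
open Module (finrank)
open Cfsg.Agent.Lib.Geometry
open Cfsg.Agent.Lib.Similar.OrthElements
open Cfsg.Agent.Lib.Similar.TorusFactors
open Cfsg.Agent.Lib.Classical.AutPOmega (oddR coe_oddR IsHyp plusR minusR gram)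
open Polynomial (X C)

attribute [-simp] QuadraticMap.polarBilin_apply_apply

variable {F : Type*} [Field F] [Fintype F] {n : ℕ}

local notation "𝕍" => (Unit ⊕ (Fin n ⊕ Fin n) → F)

theorem units_neg_pow_eq_one {d : ℕ} (h : (-1 : ℤˣ) ^ d = 1) : Even d := by
  rcases Nat.even_or_odd d with he | ho
  · exact he
  · rw [ho.neg_one_pow] at h; exact absurd h (by decide)

/-- The class of the discriminant tells the type of an even-dimensional form. -/
theorem gram_class {W : Type*} [AddCommGroup W] [Module F W] [FiniteDimensional F W] (hodd : Odd (Fintype.card F))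
    {Q : QuadraticForm F W} (hQ : (polarBilin Q).Nondegenerate) (hn : 1 ≤ n) (hW : finrank F W = 2 * n) :
    ∃ b : Module.Basis (Fin (2 * n)) F W,
      sqClass ((2 : F) ^ (2 * n) * (Matrix.of fun i j => polarBilin Q (b i) (b j)).det) = 1 ↔
        (IsHyp Q n ↔ Fintype.card F ^ n % 4 = 1) := by
  classical
  have h2 := two_ne_zero_of_odd_card hodd
  have key : ∀ {J : Type} [Fintype J] [DecidableEq J] (B : Module.Basis J F W) (R : QuadraticForm F (J → F)),
      (∀ v, Q v = R (B.equivFun v)) → Fintype.card J = 2 * n → ∃ b : Module.Basis (Fin (2 * n)) F W,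
        (Matrix.of fun i j => polarBilin Q (b i) (b j)).det = (gram R).det := by
    intro J _ _ B R hR hJ
    refine ⟨B.reindex (Fintype.equivFinOfCardEq hJ), ?_⟩
    rw [← Matrix.det_submatrix_equiv_self (Fintype.equivFinOfCardEq hJ).symm (gram R)]
    congr 1
    ext i j
    rw [Matrix.of_apply, Matrix.submatrix_apply, Classical.AutPOmega.gram_apply, Module.Basis.reindex_apply, Module.Basis.reindex_apply]
    have e : ∀ k, B.equivFun (B k) = Pi.single k 1 := fun k => funext fun l => by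
      simp [Pi.single_apply, Finsupp.single_apply, eq_comm]
    simp only [QuadraticMap.polarBilin_apply_apply, QuadraticMap.polar, hR, map_add, e]
  have hpow : ∀ x : F, sqClass ((2 : F) ^ (2 * n) * x) = sqClass x := fun x => by
    rw [two_mul, pow_add, sqClass_sq_mul _ (pow_ne_zero _ h2)]
  have hne : ((-1 : F) ^ n) ≠ 0 := pow_ne_zero _ (neg_ne_zero.2 one_ne_zero)
  rcases QuadFin.exists_normal_basis Q hQ hn hW with ⟨B, hB⟩ | ⟨B, ζ, hB⟩
  · obtain ⟨b, hb⟩ := key B _ (Classical.AutPOmega.hyp_eq hB) (by simp; omega)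
    refine ⟨b, ?_⟩
    rw [hb, hpow, Classical.AutPOmega.gram_plusR, sqClass_neg_one_pow hodd]
    exact ⟨fun h => iff_of_true (Classical.AutPOmega.isHyp_of_hypBasis hB) h, fun h => h.1 (Classical.AutPOmega.isHyp_of_hypBasis hB)⟩
  · obtain ⟨b, hb⟩ := key B _ (Classical.AutPOmega.ell_eq hB) (by simp; omega)
    refine ⟨b, ?_⟩
    have hns := discr_not_isSquare h2 (Classical.AutPOmega.anisotropic_of_no_root (a := 1) (b := ζ) fun t => by
      rw [one_mul]; exact hB.1 t)
    have hz : (1 : F) ^ 2 - 4 * ζ ≠ 0 := fun h => hns (h ▸ IsSquare.zero)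
    rw [hb, hpow, Classical.AutPOmega.gram_minusR,
      show ((-1 : F) ^ (n - 1)) * (4 * ζ - 1 ^ 2) = (-1) ^ n * (1 ^ 2 - 4 * ζ) by
        rw [← pow_sub_one_mul (show n ≠ 0 by omega) (-1 : F)]; ring,
      sqClass_mul hne hz, sqClass_eq_neg_one_iff.mpr hns, mul_neg_one, ← sqClass_neg_one_pow hodd]
    have hH : ¬ IsHyp Q n := by
      have := Classical.AutPOmega.not_isHyp_of_ellBasis (k := n - 1) hB
      rwa [Nat.sub_add_cancel hn] at this
    rcases Int.units_eq_one_or (sqClass ((-1 : F) ^ n)) with e | e <;> rw [e] <;> simp [hH]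

/-- One long torus with a prescribed square class. -/
theorem four_dvd (hodd : Odd (Fintype.card F)) (hn : 3 ≤ n) {r : ℕ} (hr : r.Prime) (hr2 : r ≠ 2)
    (hq : ¬ r ∣ Fintype.card F) (h2 : (2 : F) ≠ 0) (g : quadIsometries (oddR n F))
    (hχ : dickSpinHom (oddR n F) (odd_nondeg h2) h2 g = 1) (ho : orderOf g = 2 * r) {R : Polynomial F} {c e : F}
    (hc : c = 1 ∨ c = -1) (he : e = 1 ∨ e = -1) (hRd : R ∣ X ^ r - C c) (hR1 : R.eval 1 ≠ 0) (hR2 : R.eval (-1) ≠ 0)
    (hP : LinearMap.charpoly ((g : 𝕍 ≃ₗ[F] 𝕍) : Module.End F 𝕍) = R * (X - C e))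
    {N : ℕ} (hN : N = Fintype.card F ^ n - 1 ∨ N = Fintype.card F ^ n + 1) (hrN : r ∣ N) : 4 * r ∣ N := by
  classical
  obtain ⟨T, hTd⟩ : ∃ T : Module.End F 𝕍, T = ((g : 𝕍 ≃ₗ[F] 𝕍) : Module.End F 𝕍) := ⟨_, rfl⟩
  rw [← hTd] at hP
  have hgT : ∀ (k : ℕ) x, ((g ^ k : quadIsometries (oddR n F)) : 𝕍 ≃ₗ[F] 𝕍) x = (T ^ k) x :=
    pow_apply_iso g fun x => by rw [hTd]; rfl
  have hTQ : ∀ x, oddR n F (T x) = oddR n F x := fun x => by rw [hTd]; exact mem_quadIsometries.mp g.2 x
  have hpow2 : ∀ x, (T ^ (2 * r)) x = x := fun x => by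
    rw [← hgT, ← ho, pow_orderOf_eq_one]; rfl
  obtain ⟨j, hj⟩ := hr.odd_of_ne_two hr2
  have her : e ^ r = e := by rcases he with rfl | rfl <;> simp [hj, pow_add, pow_mul]
  have hne : g ^ r ≠ 1 := fun h => by
    have := Nat.le_of_dvd hr.pos (ho ▸ orderOf_dvd_of_pow_eq_one h)
    have := hr.pos
    omega
  have hne1 : (-1 : F) ≠ 1 := fun h => h2 (by linear_combination -h)
  have hT1 : (T ^ r : Module.End F 𝕍) ≠ 1 := fun h => hne (Subtype.ext (LinearEquiv.ext fun x => by
    rw [hgT, h]; rfl))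
  have hCH : Polynomial.aeval T ((X - C e) * (X ^ r - C c)) = 0 := by
    obtain ⟨w, hw⟩ := hRd
    have h0 := LinearMap.aeval_self_charpoly T
    rw [hP] at h0
    rw [show (X - C e) * (X ^ r - C c) = (R * (X - C e)) * w by rw [hw]; ring, map_mul, h0, zero_mul]
  by_cases hce : c = e
  · subst hce
    exfalso
    have hco : IsCoprime R (X - C c) := ((Polynomial.irreducible_X_sub_C c).coprime_iff_not_dvd.2 fun h => by
      rw [Polynomial.dvd_iff_isRoot] at h
      rcases hc with rfl | rfl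
      exacts [hR1 h, hR2 h]).symm
    have hd : R * (X - C c) ∣ X ^ r - C c :=
      hco.mul_dvd hRd (Polynomial.dvd_iff_isRoot.2 (by simp [her]))
    have h0 : Polynomial.aeval T (X ^ r - C c) = 0 := by
      obtain ⟨w, hw⟩ := hd
      rw [hw, map_mul, ← hP, LinearMap.aeval_self_charpoly, zero_mul]
    rw [map_sub, map_pow, Polynomial.aeval_X, Polynomial.aeval_C, sub_eq_zero] at h0
    rcases hc with rfl | rfl
    · exact hT1 (by rw [h0, map_one])
    · have hneg : ∀ x, ((g ^ r : quadIsometries (oddR n F)) : 𝕍 ≃ₗ[F] 𝕍) x = -x := fun x => by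
        rw [hgT, h0]; simp
      have hd1 := (spinor_of_neg _ (odd_nondeg h2) h2 _ hneg (Module.finBasis F 𝕍)).1
      have h1 : dickson (oddR n F) (g ^ r) = 1 := by
        have := congrArg Prod.fst (dickSpinHom_apply (oddR n F) (odd_nondeg h2) h2 (g ^ r))
        rw [map_pow, hχ, one_pow] at this
        exact this.symm
      rw [h1] at hd1
      have := units_neg_pow_eq_one hd1.symm
      rw [odd_finrank] at this
      exact absurd this (by simp [parity_simps])
  have hχr : dickSpinHom (oddR n F) (odd_nondeg h2) h2 (g ^ r) = 1 := by rw [map_pow, hχ, one_pow]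
  rw [dickSpinHom_apply, Prod.ext_iff] at hχr
  obtain ⟨hdick, hspin⟩ := hχr
  simp only [Prod.fst_one, Prod.snd_one] at hdick hspin
  have heven := units_neg_pow_eq_one hdick
  have hone : ∀ x, oneSub (oddR n F) (g ^ r) x = x - (T ^ r) x := fun x => by rw [oneSub_apply, hgT]
  have hcomm : ∀ x, T ((T ^ r) x) = (T ^ r) (T x) := fun x =>
    LinearMap.congr_fun ((Commute.refl T).pow_right r).eq x
  have hann : ∀ x, T ((T ^ r) x - c • x) = e • ((T ^ r) x - c • x) := fun x => by
    have h := LinearMap.congr_fun hCH x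
    rw [map_mul, map_sub, map_sub, map_pow, Polynomial.aeval_X, Polynomial.aeval_C, Polynomial.aeval_C] at h
    simp only [Module.End.mul_apply, LinearMap.sub_apply, Module.algebraMap_end_apply, LinearMap.zero_apply] at h
    exact sub_eq_zero.1 h
  have heig : finrank F (T.eigenspace e) ≤ 1 := by
    refine (LinearMap.finrank_eigenspace_le T e).trans ?_
    rw [hP, Polynomial.rootMultiplicity_mul (hP ▸ (LinearMap.charpoly_monic T).ne_zero),
      Polynomial.rootMultiplicity_X_sub_C_self, Polynomial.rootMultiplicity_eq_zero, zero_add]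
    rcases he with rfl | rfl
    exacts [hR1, hR2]
  have hrn := LinearMap.finrank_range_add_finrank_ker (oneSub (oddR n F) (g ^ r))
  rw [odd_finrank] at hrn
  change finrank F (movedSpace (oddR n F) (g ^ r)) + finrank F (fixedSpace (oddR n F) (g ^ r)) = _ at hrn
  obtain ⟨rfl, rfl⟩ : c = -1 ∧ e = 1 := by
    rcases hc with rfl | rfl <;> rcases he with rfl | rfl
    · exact absurd rfl hce
    · exfalso
      have hle : movedSpace (oddR n F) (g ^ r) ≤ T.eigenspace (-1 : F) := by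
        rintro _ ⟨x, rfl⟩
        rw [Module.End.mem_eigenspace_iff, hone, show x - (T ^ r) x = -((T ^ r) x - (1 : F) • x) by rw [one_smul, neg_sub],
          map_neg, hann, smul_neg]
      have hd0 : finrank F (movedSpace (oddR n F) (g ^ r)) ≤ 1 := (Submodule.finrank_mono hle).trans heig
      obtain ⟨k, hk⟩ := heven
      have hbot : movedSpace (oddR n F) (g ^ r) = ⊥ := Submodule.finrank_eq_zero.1 (by omega)
      rw [movedSpace, LinearMap.range_eq_bot] at hbot
      exact hT1 (LinearMap.ext fun x => by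
        have h := LinearMap.congr_fun hbot x
        rw [hone, LinearMap.zero_apply, sub_eq_zero] at h
        exact h.symm)
    · exact ⟨rfl, rfl⟩
    · exact absurd rfl hce
  have hfix : finrank F (fixedSpace (oddR n F) (g ^ r)) ≤ 1 := by
    refine (Submodule.finrank_mono (fun x hx => ?_)).trans heig
    rw [mem_fixedSpace, hgT] at hx
    have h := hann x
    rw [hx, neg_smul, one_smul, sub_neg_eq_add, one_smul, ← two_smul F, map_smul] at h
    rw [Module.End.mem_eigenspace_iff, one_smul]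
    exact smul_right_injective 𝕍 h2 h
  obtain ⟨W, hW⟩ : ∃ W, W = movedSpace (oddR n F) (g ^ r) := ⟨_, rfl⟩
  have hWdim : finrank F W = 2 * n := by
    obtain ⟨k, hk⟩ := heven
    rw [hW]; omega
  have hneg : ∀ v ∈ W, (T ^ r) v = -v := by
    intro v hv
    rw [hW] at hv
    obtain ⟨x, rfl⟩ := hv
    rw [hone, map_sub, ← Module.End.mul_apply, ← pow_add, ← two_mul, hpow2, neg_sub]
  have hTW : ∀ v ∈ W, T v ∈ W := by
    intro v hv
    rw [hW] at hv ⊢
    obtain ⟨x, rfl⟩ := hv
    exact ⟨T x, by rw [hone, hone, map_sub, hcomm]⟩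
  have hnd : (polarBilin ((oddR n F).comp W.subtype)).Nondegenerate := by
    have key : ∀ u : W, (∀ y : W, polarBilin (oddR n F) u.1 y.1 = 0) → u = 0 := fun u h => by
      refine Subtype.ext ((odd_nondeg h2).1 _ fun y => ?_)
      have e1 : y - (T ^ r) y ∈ W := by rw [hW, ← hone]; exact ⟨y, rfl⟩
      have e2 : y + (T ^ r) y ∈ fixedSpace (oddR n F) (g ^ r) := by
        rw [mem_fixedSpace, hgT, map_add, ← Module.End.mul_apply, ← pow_add, ← two_mul, hpow2, add_comm]
      have e3 : (2 : F) • y = (y - (T ^ r) y) + (y + (T ^ r) y) := by rw [two_smul]; abel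
      have h0 : (2 : F) * polarBilin (oddR n F) u.1 y = 0 := by
        rw [← smul_eq_mul, ← map_smul, e3, map_add, h ⟨_, e1⟩, zero_add]
        exact polar_moved_fixed _ _ (hW ▸ u.2) e2
      exact (mul_eq_zero.1 h0).resolve_left h2
    refine ⟨fun u hu => key u fun y => ?_, fun u hu => key u fun y => ?_⟩
    · simpa [QuadraticMap.polarBilin_apply_apply, QuadraticMap.polar] using hu y
    · rw [quad_polar_comm]
      simpa [QuadraticMap.polarBilin_apply_apply, QuadraticMap.polar] using hu y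
  obtain ⟨b, hb⟩ := gram_class (n := n) hodd hnd (by omega) hWdim
  have hframe : IsWallFrame (oddR n F) (g ^ r) (fun i => (b i : 𝕍)) := by
    have e : (fun i => oneSub (oddR n F) (g ^ r) (b i : 𝕍)) = fun i => (2 : F) • (b i : 𝕍) := funext fun i => by
      rw [hone, hneg _ (b i).2, sub_neg_eq_add, two_smul]
    refine ⟨?_, by rw [← hW, hWdim]⟩
    show LinearIndependent F fun i => oneSub (oddR n F) (g ^ r) (b i : 𝕍)
    rw [e]
    exact (b.linearIndependent.map' W.subtype (Submodule.ker_subtype W)).units_smul fun _ => Units.mk0 2 h2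
  rw [spinor_eq _ (odd_nondeg h2) hframe, show wallMatrix (oddR n F) (g ^ r) (fun i => (b i : 𝕍)) =
      (2 : F) • Matrix.of fun i j => polarBilin ((oddR n F).comp W.subtype) (b i) (b j) by
    ext i k
    simp only [wallMatrix, Matrix.of_apply, Matrix.smul_apply, smul_eq_mul]
    rw [hone, hneg _ (b i).2, sub_neg_eq_add, ← two_smul F, map_smul, LinearMap.smul_apply, smul_eq_mul]
    congr 1,
    Matrix.det_smul, Fintype.card_fin] at hspin
  have h4 := hb.1 hspin
  obtain ⟨S, hS⟩ : ∃ S : Module.End F W, ∀ v, (S v : 𝕍) = T (T v) :=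
    ⟨(T * T).restrict (fun v hv => hTW _ (hTW v hv)), fun v => rfl⟩
  have hSk : ∀ (k : ℕ) v, ((S ^ k) v : 𝕍) = (T ^ (2 * k)) (v : 𝕍) := fun k => by
    induction k with
    | zero => intro v; rfl
    | succ k ih =>
      intro v
      rw [pow_succ', Module.End.mul_apply, hS, ih, show 2 * (k + 1) = 2 * k + 1 + 1 by ring, pow_succ', pow_succ']
      rfl
  have hSr : S ^ r = 1 := LinearMap.ext fun v => Subtype.ext (by rw [hSk, hpow2]; rfl)
  have hSQ : ∀ v, ((oddR n F).comp W.subtype) (S v) = ((oddR n F).comp W.subtype) v := fun v => by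
    show oddR n F (S v : 𝕍) = oddR n F (v : 𝕍)
    rw [hS, hTQ, hTQ]
  have hSfix : ∀ v, S v = v → v = 0 := by
    intro v hv
    have hTT : T (T (v : 𝕍)) = v := by rw [← hS, hv]
    have h2k : ∀ k : ℕ, (T ^ (2 * k)) (v : 𝕍) = v := fun k => by
      induction k with
      | zero => rfl
      | succ k ih => rw [show 2 * (k + 1) = 2 * k + 1 + 1 by ring, pow_succ', pow_succ', Module.End.mul_apply, Module.End.mul_apply, ih, hTT]
    have hTv : T (v : 𝕍) = -(v : 𝕍) := by
      rw [← hneg _ v.2, hj, pow_succ', Module.End.mul_apply, h2k]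
    have hz : finrank F (T.eigenspace (-1 : F)) = 0 := by
      refine Nat.le_zero.1 ((LinearMap.finrank_eigenspace_le T (-1)).trans ?_)
      rw [Nat.le_zero, Polynomial.rootMultiplicity_eq_zero]
      rw [hP, Polynomial.IsRoot, Polynomial.eval_mul]
      simp [hR2, sub_eq_zero, hne1]
    rw [Submodule.finrank_eq_zero] at hz
    have : (v : 𝕍) ∈ T.eigenspace (-1 : F) := by rw [Module.End.mem_eigenspace_iff, hTv, neg_one_smul]
    rw [hz, Submodule.mem_bot] at this
    exact Subtype.ext this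
  haveI := Fact.mk hr
  have hq0 : (Fintype.card F : ZMod r) ≠ 0 := by rwa [Ne, ZMod.natCast_eq_zero_iff]
  rw [Orth.type_of_fpf hr hr2 rfl hq0 hnd (show 1 ≤ n by omega) hWdim hSQ hSr hSfix] at h4
  have hQ1 : 1 ≤ Fintype.card F ^ n := Nat.one_le_pow _ _ Fintype.card_pos
  have h4r : Nat.Coprime 4 r := (Nat.coprime_primes Nat.prime_two hr).2 hr2.symm |>.pow_left 2
  refine h4r.mul_dvd_of_dvd_of_dvd ?_ hrN
  rcases hN with rfl | rfl
  · have : (Fintype.card F : ZMod r) ^ n = 1 := by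
      have h := (ZMod.natCast_eq_zero_iff _ r).2 hrN
      rwa [Nat.cast_sub hQ1, Nat.cast_pow, Nat.cast_one, sub_eq_zero] at h
    have := h4.1 this
    omega
  · have hne' : ¬ (Fintype.card F : ZMod r) ^ n = 1 := by
      intro h1
      have h := (ZMod.natCast_eq_zero_iff _ r).2 hrN
      rw [Nat.cast_add, Nat.cast_pow, Nat.cast_one, h1, one_add_one_eq_two,
        show (2 : ZMod r) = ((2 : ℕ) : ZMod r) by norm_cast, ZMod.natCast_eq_zero_iff] at h
      exact hr2 ((Nat.prime_dvd_prime_iff_eq hr Nat.prime_two).1 h)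
    have hm := Nat.odd_iff.1 (hodd.pow (n := n))
    have : ¬ Fintype.card F ^ n % 4 = 1 := fun h => hne' (h4.2 h)
    omega

theorem mem_of_dvd (h2 : (2 : F) ≠ 0) (hn : 3 ≤ n) (g : quadIsometries (oddR n F))
    (hχ : dickSpinHom (oddR n F) (odd_nondeg h2) h2 g = 1) {N : ℕ} (h : N ∣ orderOf g) :
    N ∈ Set.range (orderOf : Cfsg.POmega F (Cfsg.quadFormOdd n F) → ℕ) := by
  haveI := finite_iso (F := F) (n := n)
  refine (mem_range_iff h2 hn (odd_nondeg h2) N).2 ⟨g ^ (orderOf g / N), by rw [map_pow, hχ, one_pow], ?_⟩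
  rw [orderOf_pow_of_dvd (Nat.div_pos (Nat.le_of_dvd (orderOf_pos g) h) (Nat.pos_of_dvd_of_pos h (orderOf_pos g))).ne'
      (Nat.div_dvd_of_dvd h), Nat.div_div_self h (orderOf_pos g).ne']

/-- Twice the characteristic. -/
theorem two_p (h2 : (2 : F) ≠ 0) (hn : 3 ≤ n) {p : ℕ} [Fact p.Prime] [CharP F p] (hp2 : p ≠ 2) :
    2 * p ∈ Set.range (orderOf : Cfsg.POmega F (Cfsg.quadFormOdd n F) → ℕ) := by
  classical
  have hp : p.Prime := Fact.out
  obtain ⟨q, hq⟩ := QuadFin.exists_qFrame (oddR n F) (odd_nondeg h2) 3 (by rw [odd_finrank]; omega)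
  obtain ⟨h1, h0⟩ := hq
  obtain ⟨v, hv⟩ : ∃ v, v = (q 0).1 + (q 0).2 := ⟨_, rfl⟩
  obtain ⟨w, hw⟩ : ∃ w, w = (q 1).1 + (q 1).2 := ⟨_, rfl⟩
  obtain ⟨z, hz⟩ : ∃ z, z = (q 0).1 - (q 0).2 := ⟨_, rfl⟩
  have b11 := fun a b => (h1 a b).1
  have b22 := fun a b => (h1 a b).2.1
  have b12 := fun a b => (h1 a b).2.2
  have b21 : ∀ a b, polarBilin (oddR n F) (q a).2 (q b).1 = if b = a then 1 else 0 := fun a b => by
    rw [quad_polar_comm]; exact b12 b a
  have hQz : oddR n F z = -1 := by rw [hz, quad_sub, (h0 0).1, (h0 0).2, b12]; simp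
  obtain ⟨E, hE, hEfix, -⟩ := exists_eichler (p := p) (odd_nondeg h2) (h0 2).1
    (show polarBilin (oddR n F) (q 2).1 (q 2).2 = 1 by rw [b12]; simp)
    (show polarBilin (oddR n F) (q 2).1 z = 0 by rw [hz, map_sub, b11, b12]; simp)
    (fun h => by rw [h, map_zero] at hQz; exact one_ne_zero (by linear_combination hQz : (1 : F) = 0))
    (show polarBilin (oddR n F) (q 2).2 z = 0 by rw [hz, map_sub, b21, b22]; simp)
  have hQv : oddR n F v = 1 := by rw [hv, quad_add, (h0 0).1, (h0 0).2, b12]; simp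
  have hQw : oddR n F w = 1 := by rw [hw, quad_add, (h0 1).1, (h0 1).2, b12]; simp
  have hvw : polarBilin (oddR n F) v w = 0 := by
    rw [hv, hw]; simp only [map_add, LinearMap.add_apply, b11, b12, b21, b22]; simp
  obtain ⟨ho, hχ⟩ := exists_involution (odd_nondeg h2) h2 hQv hQw hvw
  have hEv : (E : 𝕍 ≃ₗ[F] 𝕍) v = v := hEfix v
    (by rw [hv, map_add, LinearMap.add_apply, b11, b21]; simp)
    (by rw [hv, hz]; simp only [map_add, map_sub, LinearMap.add_apply, b11, b12, b21, b22]; simp)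
  have hEw : (E : 𝕍 ≃ₗ[F] 𝕍) w = w := hEfix w
    (by rw [hw, map_add, LinearMap.add_apply, b11, b21]; simp)
    (by rw [hw, hz]; simp only [map_add, map_sub, LinearMap.add_apply, b11, b12, b21, b22]; simp)
  have hc := ((commute_of_fix E hEv).mul_right (commute_of_fix E hEw)).symm
  refine mem_of_dvd h2 hn (refl (oddR n F) v * refl (oddR n F) w * E) ?_ (dvd_of_eq ?_)
  · rw [map_mul, hχ, eq_one_of_odd _ E (hE ▸ hp.odd_of_ne_two hp2), one_mul]
  · rw [hc.orderOf_mul_eq_mul_orderOf_of_coprime (by rw [ho, hE]; exact (Nat.coprime_primes Nat.prime_two hp).2 hp2.symm), ho, hE]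

/-- Twice an odd prime different from the characteristic. -/
theorem two_odd_prime (hodd : Odd (Fintype.card F)) (h2 : (2 : F) ≠ 0) (hn : 3 ≤ n) {p r : ℕ} [Fact p.Prime] [CharP F p]
    (hp2 : p ≠ 2) (hr : r.Prime) (hr2 : r ≠ 2) (hrp : r ≠ p) :
    2 * r ∈ Set.range (orderOf : Cfsg.POmega F (Cfsg.quadFormOdd n F) → ℕ) ↔
      ((∃ d, d + 1 ≤ n ∧ Tor F d r) ∨ Tor F n (4 * r)) := by
  classical
  have hp : p.Prime := Fact.out
  constructor
  · intro h
    obtain ⟨g, hχ, hg⟩ := (mem_range_iff h2 hn (odd_nondeg h2) _).1 h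
    obtain ⟨G, hG⟩ : ∃ G, G = (isometryEquiv (oddR n F)).symm g := ⟨_, rfl⟩
    have hGo : orderOf G.1 = 2 * r := by rw [Subgroup.orderOf_coe, hG, MulEquiv.orderOf_eq, hg]
    obtain ⟨t, ht1, ht2, ht3, ht4, ht5⟩ := factors G.1 (OrthCount.charpoly_inv_eq _ (odd_nondeg h2) G)
      (hGo ▸ pow_orderOf_eq_one _)
    have hM : ¬ p ∣ 2 * r := fun h => (hp.dvd_mul.1 h).elim
      (fun h => hp2 ((Nat.prime_dvd_prime_iff_eq hp Nat.prime_two).1 h))
      fun h => hrp ((Nat.prime_dvd_prime_iff_eq hp hr).1 h).symm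
    have hb : G.1 ^ 4 ≠ 1 := fun h => by
      have h4 : r ∣ 2 ^ 2 := (dvd_mul_left r 2).trans (hGo ▸ orderOf_dvd_of_pow_eq_one h)
      exact hr2 ((Nat.prime_dvd_prime_iff_eq hr Nat.prime_two).1 (hr.dvd_of_dvd_pow h4))
    obtain ⟨f, hf, -, hfn⟩ := see_factor (p := p) hM (fun f hf => (ht1 f hf).2.1) (ht5 4 hb)
    rcases two_prime (n := n) (show 2 ≤ n by omega) hr (.inl rfl)
      ⟨ht1, ht2, by rw [ht3]; simp only [Fintype.card_sum, Fintype.card_unit, Fintype.card_fin]; omega⟩ ⟨f, hf, hfn⟩ with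
      hl | ⟨N, hN, hn0, hrN, h⟩
    · exact .inl hl
    rcases h with ⟨h4, -⟩ | ⟨R, c, u, hc, hRd, hRdeg, hR1, hR2, hprod, hu⟩
    · exact absurd (Nat.le_of_dvd (Nat.mul_pos two_pos hr.pos) h4) (by have := hr.pos; omega)
    have hchar : Matrix.charpoly (G.1.1 : Matrix (Unit ⊕ (Fin n ⊕ Fin n)) (Unit ⊕ (Fin n ⊕ Fin n)) F) = R * u.prod := by rw [← ht4, hprod]
    rcases hu with rfl | ⟨e, he, rfl⟩
    · exfalso
      have h := congrArg Polynomial.natDegree hchar
      rw [Matrix.charpoly_natDegree_eq_dim, Multiset.prod_zero, mul_one, hRdeg] at h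
      simp only [Fintype.card_sum, Fintype.card_unit, Fintype.card_fin] at h
      omega
    rw [Multiset.prod_singleton] at hchar
    have hT : ((g : 𝕍 ≃ₗ[F] 𝕍) : Module.End F 𝕍) = Matrix.toLin' (G.1.1 : Matrix (Unit ⊕ (Fin n ⊕ Fin n)) (Unit ⊕ (Fin n ⊕ Fin n)) F) := LinearMap.ext fun x => by
      rw [Matrix.toLin'_apply, ← isometryEquiv_apply, hG, MulEquiv.apply_symm_apply]
      rfl
    refine .inr ⟨hn0, ?_⟩
    have h4r := four_dvd hodd hn hr hr2 (fun h => hrp ?_) h2 g hχ hg hc he hRd hR1 hR2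
      (by rw [hT, Matrix.charpoly_toLin', hchar]) hN hrN
    · exact hN.elim (fun e => .inl (e ▸ h4r)) fun e => .inr (e ▸ h4r)
    · obtain ⟨k, -, hk⟩ := FiniteField.card F p
      rw [hk] at h
      exact (Nat.prime_dvd_prime_iff_eq hr hp).1 (hr.dvd_of_dvd_pow h)
  · rintro (⟨d, hd, ht⟩ | ⟨-, ht⟩)
    · obtain ⟨T, U, hT, hUn, hU, hTU⟩ := exists_short (n := n) h2 hd ht
      obtain ⟨v, w, hv, hw, hQv, hQw, hvw⟩ := exists_one_one hUn h2 hU
      obtain ⟨ho, hχ⟩ := exists_involution (odd_nondeg h2) h2 hQv hQw hvw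
      have hc := ((commute_of_fix T (hTU v hv)).mul_right (commute_of_fix T (hTU w hw))).symm
      refine mem_of_dvd h2 hn (refl (oddR n F) v * refl (oddR n F) w * T) ?_ (dvd_of_eq ?_)
      · rw [map_mul, hχ, eq_one_of_odd _ T (hT ▸ hr.odd_of_ne_two hr2), one_mul]
      · rw [hc.orderOf_mul_eq_mul_orderOf_of_coprime (by rw [ho, hT]; exact (Nat.coprime_primes Nat.prime_two hr).2 hr2.symm), ho, hT]
    · obtain ⟨T, -, -, -, hT, -⟩ := exists_place_torus (n := n) h2 le_rfl (hasO_torus h2 (by omega) ht)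
      refine mem_of_dvd h2 hn (T ^ 2) (sq_eq_one _ T) ?_
      haveI := finite_iso (F := F) (n := n)
      obtain ⟨k, hk⟩ := hT
      rw [orderOf_pow_of_dvd two_ne_zero (by rw [hk]; exact ⟨2 * r * k, by ring⟩), hk,
        show 4 * r * k = 2 * (2 * r * k) by ring, Nat.mul_div_cancel_left _ two_pos]
      exact dvd_mul_right _ _

end Cfsg.Agent.Lib.Similar.OddGraph
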