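import Mathlib
import Cfsg.Agent.Lib.Similar.SympConj
import Cfsg.Agent.Lib.Similar.Classes
import Cfsg.Agent.Lib.Similar.SignedForms
import Cfsg.Agent.Lib.Similar.JordanChains

/-!
Chains of a symplectic matrix for the eigenvalues `1` and `-1`.
-/

set_option autoImplicit false
set_option linter.unusedSectionVars false

namespace Cfsg.Agent.Lib.Similar.SpClass

open Matrix
open Polynomial (aeval)
open Cfsg.Agent.Lib.Similar.Symp
open Cfsg.Agent.S2581 (nil)
open Cfsg.Agent.Lib.Similar.UnipU (Idx)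

variable {l : Type*} [Fintype l] [DecidableEq l] {K : Type*} [Field K]

local notation "M2" => Matrix (l ⊕ l) (l ⊕ l) K

theorem sadj_neg (A : M2) : sadj (-A) = -sadj A := by
  rw [← neg_one_smul K A, sadj_smul, neg_one_smul]

theorem sadj_pow (A : M2) (i : ℕ) : sadj (A ^ i) = sadj A ^ i := by
  induction i with
  | zero => rw [pow_zero, pow_zero, sadj_one]
  | succ i ih => rw [pow_succ, sadj_mul, ih, ← pow_succ']

theorem sadj_zero : sadj (0 : M2) = 0 := by
  rw [← zero_smul K (0 : M2), sadj_smul, zero_smul, zero_smul]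

/-- The chains of `a` at the eigenvalue `ε`. -/
structure Chain (a : M2) (ε : K) where
  t : ℕ
  d : Fin t → ℕ
  hd : ∀ k, 1 ≤ d k
  e : M2
  e_poly : ∃ p : Polynomial K, aeval a p = e
  idem : e * e = e
  self : sadj e = e
  minus : ∃ w : Polynomial K, 1 - e = (a - ε • 1) * aeval a w
  kill : ∃ i, (a - ε • 1) ^ i * e = 0
  N : M2
  N_poly : ∃ p : Polynomial K, aeval a p = N
  N_skew : sadj N = -N
  comm : ∀ Z : M2, e * Z = Z → Z * e = Z → Z * N = N * Z → Z * a = a * Z
  P : Matrix (l ⊕ l) (Idx d) K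
  Q : Matrix (Idx d) (l ⊕ l) K
  QP : Q * P = 1
  PQ : P * Q = e
  shift : N * P = P * nil K d
  count : ∀ j, Fintype.card {k // d k = j} =
    Nat.card {i // ((nonempty_decomp (toEnd a)).some.p i, (nonempty_decomp (toEnd a)).some.e i) =
      (Polynomial.X - Polynomial.C ε, j)}

theorem smul_quot_eq_self {g E : Polynomial K} (h : g ∣ E - 1) (x : Polynomial K ⧸ Ideal.span {g}) : E • x = x := by
  obtain ⟨c, rfl⟩ := Ideal.Quotient.mk_surjective x
  show Ideal.Quotient.mk _ (E * c) = _
  rw [Ideal.Quotient.eq, Ideal.mem_span_singleton, ← sub_one_mul]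
  exact h.trans (dvd_mul_right _ _)

theorem smul_quot_eq_zero {g E : Polynomial K} (h : g ∣ E) (x : Polynomial K ⧸ Ideal.span {g}) : E • x = 0 := by
  obtain ⟨c, rfl⟩ := Ideal.Quotient.mk_surjective x
  show Ideal.Quotient.mk _ (E * c) = 0
  rw [Ideal.Quotient.eq_zero_iff_mem, Ideal.mem_span_singleton]
  exact h.trans (dvd_mul_right _ _)

/-- A basis of chains for the primary component of `L`. -/
theorem exists_chain_basis (a : M2) (D : Decomp (toEnd a)) {L E y v' : Polynomial K} (hLi : Irreducible L)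
    (hL : ∃ ε, L = Polynomial.X - Polynomial.C ε) (hy : y = L * v') (hyev : ∀ k, ¬ L ∣ v' ^ k)
    (hon : ∀ i, D.p i = L → D.p i ^ D.e i ∣ E - 1) (hoff : ∀ i, D.p i ≠ L → D.p i ^ D.e i ∣ E) :
    ∃ (t : ℕ) (d : Fin t → ℕ), (∀ k, 1 ≤ d k) ∧ ∃ (P : Matrix (l ⊕ l) (Idx d) K) (Q : Matrix (Idx d) (l ⊕ l) K),
      Q * P = 1 ∧ P * Q = aeval a E ∧ aeval a y * P = P * nil K d ∧
      ∀ j, Fintype.card {k // d k = j} = Nat.card {i // (D.p i, D.e i) = (L, j)} := by
  classical
  obtain ⟨ε, hL⟩ := hL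
  obtain ⟨t, σ⟩ : ∃ t, Nonempty (Fin t ≃ {i // D.p i = L}) :=
    ⟨Fintype.card {i // D.p i = L}, ⟨(Fintype.equivFin _).symm⟩⟩
  obtain ⟨σ⟩ := σ
  let d : Fin t → ℕ := fun k => D.e (σ k).1
  have : ∀ i, Module.Finite K (Polynomial K ⧸ Ideal.span {D.p i ^ D.e i}) := fun i =>
    finite_quot (pow_ne_zero _ (D.irr i).ne_zero)
  have hli : ∀ k, LinearIndependent K fun i : Fin (d k) =>
      (Ideal.Quotient.mk (Ideal.span {D.p (σ k).1 ^ D.e (σ k).1}) (y ^ (i : ℕ))) := by
    intro k
    let x := Polynomial K ⧸ Ideal.span {D.p (σ k).1 ^ D.e (σ k).1}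
    have hpow : ∀ i : ℕ, ((smulEnd (M := x) y) ^ i) 1 = Ideal.Quotient.mk _ (y ^ i) := by
      intro i
      induction i with
      | zero => simp
      | succ i ih =>
        rw [pow_succ' (smulEnd (M := x) y), Module.End.mul_apply, ih, pow_succ' y, map_mul]
        rfl
    have := JordanChains.chain_li (smulEnd (M := x) y) (1 : x) (d k) (by
        rw [hpow, Ideal.Quotient.eq_zero_iff_mem, Ideal.mem_span_singleton, (σ k).2, hy, mul_pow]
        exact dvd_mul_right _ _) (by
        rw [hpow, ne_eq, Ideal.Quotient.eq_zero_iff_mem, Ideal.mem_span_singleton, (σ k).2, hy, mul_pow]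
        have : 1 ≤ D.e (σ k).1 := D.pos _
        rw [show d k = D.e (σ k).1 from rfl]
        obtain ⟨r, hr⟩ : ∃ r, D.e (σ k).1 = r + 1 := ⟨D.e (σ k).1 - 1, by omega⟩
        rw [hr, Nat.add_sub_cancel, pow_succ, mul_dvd_mul_iff_left (pow_ne_zero _ hLi.ne_zero)]
        exact hyev _)
    simpa only [hpow] using this
  have hdeg : ∀ k, Module.finrank K (Polynomial K ⧸ Ideal.span {D.p (σ k).1 ^ D.e (σ k).1}) = d k := fun k => by
    rw [finrank_quotient_span_eq_natDegree, Polynomial.natDegree_pow, (σ k).2,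
      show L.natDegree = 1 by rw [hL, Polynomial.natDegree_X_sub_C], mul_one]
  have hne : ∀ k, Nonempty (Fin (d k)) := fun k => ⟨⟨0, D.pos _⟩⟩
  let b := fun k => haveI := hne k
    basisOfLinearIndependentOfCardEqFinrank (hli k) (by rw [Fintype.card_fin, hdeg])
  have hb : ∀ k i, b k i = Ideal.Quotient.mk _ (y ^ (i : ℕ)) := fun k i => by
    haveI := hne k
    simp [b]
  obtain ⟨w, hw⟩ : ∃ w : Idx d → ((l ⊕ l) → K),
      ∀ x, D.linEquiv (w x) = Pi.single (σ x.1).1 (b x.1 x.2) :=
    ⟨fun x => D.linEquiv.symm (Pi.single (σ x.1).1 (b x.1 x.2)), fun x => D.linEquiv.apply_symm_apply _⟩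
  obtain ⟨qmap, hq⟩ : ∃ qmap : ((l ⊕ l) → K) →ₗ[K] (Idx d → K),
      ∀ z x, qmap z x = (b x.1).repr (D.linEquiv z (σ x.1).1) x.2 :=
    ⟨LinearMap.pi fun x => (((b x.1).coord x.2).comp (LinearMap.proj (σ x.1).1)).comp D.linEquiv.toLinearMap,
      fun z x => rfl⟩
  obtain ⟨pmap, hp⟩ : ∃ pmap : (Idx d → K) →ₗ[K] ((l ⊕ l) → K), ∀ c, pmap c = ∑ x, c x • w x :=
    ⟨Fintype.linearCombination K w, fun c => Fintype.linearCombination_apply K w c⟩
  have hpsingle : ∀ x, pmap (Pi.single x 1) = w x := fun x => by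
    rw [hp, Finset.sum_eq_single x (fun z _ hz => by rw [Pi.single_eq_of_ne hz, zero_smul]) (by simp),
      Pi.single_eq_same, one_smul]
  have hqw : ∀ x, qmap (w x) = Pi.single x 1 := by
    intro x
    funext z
    rw [hq, hw]
    obtain ⟨k, i⟩ := z
    obtain ⟨k', i'⟩ := x
    by_cases h : k = k'
    · subst h
      rw [Pi.single_eq_same, Module.Basis.repr_self, Finsupp.single_apply, Pi.single_apply]
      exact if_congr ⟨fun h => by subst h; rfl, fun h => by simpa using h.symm⟩ rfl rfl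
    · rw [Pi.single_eq_of_ne (fun h' => h (σ.injective (Subtype.ext h'))), map_zero, Finsupp.zero_apply,
        Pi.single_eq_of_ne (fun h' => h (congrArg Sigma.fst h'))]
  have hte : ∀ p : Polynomial K, toEnd (aeval a p) = aeval (toEnd a) p := fun p =>
    (Polynomial.aeval_algHom_apply (Matrix.toLinAlgEquiv' (R := K) (n := l ⊕ l)).toAlgHom a p).symm
  have hsum : ∀ z, pmap (qmap z) = toEnd (aeval a E) z := by
    intro z
    apply D.linEquiv.injective
    rw [hp, map_sum, hte, D.linEquiv_aeval]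
    funext i
    rw [Finset.sum_apply, Fintype.sum_sigma, Pi.smul_apply]
    by_cases hi : D.p i = L
    · obtain ⟨k, hk⟩ := σ.surjective ⟨i, hi⟩
      have hk' : (σ k).1 = i := congrArg Subtype.val hk
      subst hk'
      rw [Finset.sum_eq_single k]
      · have e1 : ∀ y, D.linEquiv (qmap z ⟨k, y⟩ • w ⟨k, y⟩) (σ k).1 =
            (b k).repr (D.linEquiv z (σ k).1) y • b k y := fun y => by
          rw [map_smul, Pi.smul_apply, hw, hq, Pi.single_eq_same]
        rw [Finset.sum_congr rfl fun y _ => e1 y, (b k).sum_repr]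
        exact (smul_quot_eq_self (hon _ (σ k).2) _).symm
      · intro k' _ hne'
        refine Finset.sum_eq_zero fun a _ => ?_
        rw [map_smul, Pi.smul_apply, hw, Pi.single_eq_of_ne (fun h' => hne' (σ.injective (Subtype.ext h'.symm))),
          smul_zero]
      · simp
    · rw [smul_quot_eq_zero (hoff i hi)]
      refine Finset.sum_eq_zero fun k _ => Finset.sum_eq_zero fun a _ => ?_
      rw [map_smul, Pi.smul_apply, hw, Pi.single_eq_of_ne (fun h' : i = (σ k).1 => hi (h' ▸ (σ k).2)), smul_zero]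
  obtain ⟨P, hP⟩ : ∃ P, P = LinearMap.toMatrix' pmap := ⟨_, rfl⟩
  obtain ⟨Q, hQ⟩ : ∃ Q, Q = LinearMap.toMatrix' qmap := ⟨_, rfl⟩
  refine ⟨t, d, fun k => D.pos _, P, Q, ?_, ?_, ?_, ?_⟩
  · rw [hP, hQ, ← LinearMap.toMatrix'_comp, ← LinearMap.toMatrix'_id]
    congr 1
    exact (Pi.basisFun K _).ext fun x => by
      rw [Pi.basisFun_apply, LinearMap.comp_apply, hpsingle, hqw, LinearMap.id_apply]
  · rw [hP, hQ, ← LinearMap.toMatrix'_comp]
    rw [show pmap.comp qmap = toEnd (aeval a E) from LinearMap.ext hsum]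
    exact LinearMap.toMatrix'_toLin' (aeval a E)
  · ext r x
    have hcol : ∀ z, P r z = w z r := fun z => by
      rw [hP, LinearMap.toMatrix'_apply, ← hpsingle z]
    have hl : (aeval a y * P) r x = (toEnd (aeval a y) (w x)) r := by
      show ∑ c, (aeval a y) r c * P c x = ((aeval a y) *ᵥ w x) r
      refine Finset.sum_congr rfl fun c _ => ?_
      rw [show P c x = w x c by rw [hP, LinearMap.toMatrix'_apply, ← hpsingle x]]
    obtain ⟨k, i, hi⟩ := x
    rw [hl, hte]
    have key : D.linEquiv (aeval (toEnd a) y (w ⟨k, ⟨i, hi⟩⟩)) =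
        Pi.single (σ k).1 (Ideal.Quotient.mk _ (y ^ (i + 1))) := by
      rw [D.linEquiv_aeval, hw, ← Pi.single_smul, hb, pow_succ', map_mul]
      rfl
    rcases Nat.lt_or_ge (i + 1) (d k) with h | h
    · have : aeval (toEnd a) y (w ⟨k, ⟨i, hi⟩⟩) = w ⟨k, ⟨i + 1, h⟩⟩ := by
        apply D.linEquiv.injective
        rw [key]
        rw [hw, hb]
      rw [this, Matrix.mul_apply, Finset.sum_eq_single ⟨k, ⟨i + 1, h⟩⟩]
      · rw [nil, of_apply, if_pos ⟨rfl, rfl⟩, mul_one, hcol]
      · intro z _ hz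
        rw [nil, of_apply, if_neg, mul_zero]
        rintro ⟨h1, h2'⟩
        obtain ⟨z1, z2⟩ := z
        simp only at h1 h2'
        subst h1
        exact hz (congrArg (Sigma.mk z1) (Fin.ext h2'))
      · simp
    · have : aeval (toEnd a) y (w ⟨k, ⟨i, hi⟩⟩) = 0 := by
        apply D.linEquiv.injective
        rw [key, map_zero, (Ideal.Quotient.eq_zero_iff_mem).2, Pi.single_zero]
        rw [Ideal.mem_span_singleton, (σ k).2, hy, mul_pow]
        exact (pow_dvd_pow L h).trans (dvd_mul_right _ _)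
      rw [this, Matrix.mul_apply, Pi.zero_apply]
      refine (Finset.sum_eq_zero fun z _ => ?_).symm
      rw [nil, of_apply, if_neg, mul_zero]
      rintro ⟨h1, h2'⟩
      obtain ⟨z1, z2⟩ := z
      simp only at h1 h2'
      subst h1
      have := z2.2
      omega
  · intro j
    rw [← Nat.card_eq_fintype_card]
    refine Nat.card_congr ?_
    exact {
      toFun := fun k => ⟨(σ k.1).1, Prod.ext (σ k.1).2 k.2⟩
      invFun := fun i => ⟨σ.symm ⟨i.1, congrArg Prod.fst i.2⟩, by
        show D.e (σ _).1 = j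
        rw [Equiv.apply_symm_apply]
        exact congrArg Prod.snd i.2⟩
      left_inv := fun k => Subtype.ext (by simp)
      right_inv := fun i => Subtype.ext (by simp) }

theorem nonempty_chain {a : M2} (ha : sadj a * a = 1) {ε : K} (hε : ε * ε = 1) (h2 : (2 : K) ≠ 0) :
    Nonempty (Chain a ε) := by
  classical
  obtain ⟨Q0, hQ0, hQn⟩ := Polynomial.exists_eq_pow_rootMultiplicity_mul_and_not_dvd a.charpoly
    (Matrix.charpoly_monic a).ne_zero ε
  obtain ⟨M, hM⟩ : ∃ M, M = a.charpoly.rootMultiplicity ε + 1 := ⟨_, rfl⟩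
  obtain ⟨L, hL⟩ : ∃ L, L = Polynomial.X - Polynomial.C ε := ⟨_, rfl⟩
  rw [← hL] at hQ0 hQn
  have hLi : Irreducible L := hL ▸ Polynomial.irreducible_X_sub_C ε
  obtain ⟨u, v, huv⟩ := (hLi.coprime_iff_not_dvd.2 hQn).pow_left (m := M)
  have hε0 : ε ≠ 0 := left_ne_zero_of_mul_eq_one hε
  have hεε : IsUnit (-ε - ε) := IsUnit.mk0 _ (by
    rw [show -ε - ε = -(2 * ε) by ring]; exact neg_ne_zero.2 (mul_ne_zero h2 hε0))
  obtain ⟨v', u', huv'⟩ := (Polynomial.isCoprime_X_sub_C_of_isUnit_sub hεε).pow_right (n := M)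
  rw [← hL] at huv'
  obtain ⟨e, he⟩ : ∃ e, e = aeval a (v * Q0) := ⟨_, rfl⟩
  obtain ⟨y, hy⟩ : ∃ y, y = L * v' * (v * Q0) := ⟨_, rfl⟩
  obtain ⟨N, hN⟩ : ∃ N, N = aeval a y := ⟨_, rfl⟩
  have hann : ∀ w : Polynomial K, aeval a (w * (L ^ M * Q0)) = 0 := fun w => by
    have : L ^ M * Q0 = L * a.charpoly := by rw [hQ0, hM, pow_succ]; ring
    rw [map_mul, this, map_mul, Matrix.aeval_self_charpoly, mul_zero, mul_zero]
  have hvan : ∀ p q : Polynomial K, (∃ w, p - q = w * (L ^ M * Q0)) → aeval a p = aeval a q := by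
    rintro p q ⟨w, hw⟩
    rw [← sub_eq_zero, ← map_sub, hw, hann]
  have hLa : aeval a L = a - ε • 1 := by
    rw [hL, map_sub, Polynomial.aeval_X, Polynomial.aeval_C, Algebra.algebraMap_eq_smul_one]
  have hcf : ∀ p q : Polynomial K, Commute (aeval a p) (aeval a q) := fun p q => (Commute.all p q).map _
  have idem : e * e = e := by
    rw [he, ← map_mul]
    exact hvan _ _ ⟨-(u * v), by linear_combination (v * Q0) * huv⟩
  have kill : (a - ε • 1) ^ M * e = 0 := by
    rw [← hLa, ← map_pow, he, ← map_mul, show L ^ M * (v * Q0) = v * (L ^ M * Q0) by ring, hann]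
  have hminus : ∃ w : Polynomial K, 1 - e = (a - ε • 1) * aeval a w := by
    refine ⟨u * L ^ (M - 1), ?_⟩
    rw [← hLa, ← map_mul, he, ← map_one (aeval a (R := K)), ← map_sub]
    congr 1
    have : L * (u * L ^ (M - 1)) = u * L ^ M := by
      rw [hM, Nat.add_sub_cancel, pow_succ]; ring
    rw [this]
    linear_combination -huv
  have ha2 : a * sadj a = 1 := mul_eq_one_comm.1 ha
  have hea : ∀ p : Polynomial K, Commute (aeval a p) (sadj a) := fun p => by
    have h1 : Commute a (sadj a) := ha2.trans ha.symm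
    exact (Algebra.commute_of_mem_adjoin_singleton_of_commute
      (Polynomial.aeval_mem_adjoin_singleton K a) h1.symm).symm
  have kill' : (a - ε • 1) ^ M * sadj e = 0 := by
    have h1 : (sadj a - ε • (1 : M2)) ^ M * sadj e = 0 := by
      have := congrArg sadj kill
      rw [sadj_mul, sadj_pow, sadj_sub, sadj_smul, sadj_one, sadj_zero, he, sadj_aeval] at this
      rw [he, sadj_aeval]
      have hcx : Commute (aeval (sadj a) (v * Q0)) (sadj a) := by
        have h : Commute (aeval (sadj a) (v * Q0)) (aeval (sadj a) Polynomial.X) := (Commute.all _ _).map _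
        rwa [Polynomial.aeval_X] at h
      have hc : Commute (aeval (sadj a) (v * Q0)) ((sadj a - ε • (1 : M2)) ^ M) :=
        (hcx.sub_right ((Commute.one_right _).smul_right ε)).pow_right M
      rw [← hc.eq]
      exact this
    have h3 : (a - ε • (1 : M2)) = (-ε) • (a * (sadj a - ε • 1)) := by
      rw [mul_sub, ha2, Matrix.mul_smul, mul_one, smul_sub, smul_smul, neg_mul, hε, neg_one_smul, neg_smul]
      abel
    have hc : Commute a (sadj a - ε • (1 : M2)) :=
      (show Commute a (sadj a) from ha2.trans ha.symm).sub_right ((Commute.one_right a).smul_right ε)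
    rw [h3, _root_.smul_pow, hc.mul_pow, Matrix.smul_mul, mul_assoc, h1, mul_zero, smul_zero]
  have self : sadj e = e := by
    have hcee : Commute e (sadj e) := by
      rw [he, sadj_aeval]
      exact (Algebra.commute_of_mem_adjoin_singleton_of_commute
        (Polynomial.aeval_mem_adjoin_singleton K (sadj a)) (hea _))
    have h1 : (1 - e) * sadj e = 0 := by
      rw [he, ← map_one (aeval a (R := K)), ← map_sub,
        show 1 - v * Q0 = u * L ^ M by linear_combination -huv, map_mul, map_pow, hLa, mul_assoc, ← he, kill',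
        mul_zero]
    rw [sub_mul, one_mul, sub_eq_zero] at h1
    have h2' := congrArg sadj h1
    rw [sadj_sadj, sadj_mul, sadj_sadj] at h2'
    exact h1.trans h2'.symm
  have heN : e * N = N ∧ N * e = N := by
    have : N * e = N := by
      rw [hN, he, ← map_mul]
      exact hvan _ _ ⟨L * v' * (-(u * v)), by rw [hy]; linear_combination (L * v' * v * Q0) * huv⟩
    refine ⟨?_, this⟩
    rw [he, hN, (hcf _ _).eq, ← hN, ← he, this]
  have hinv : aeval a v' * (a + ε • 1) * e = e := by
    have : a + ε • (1 : M2) = aeval a (Polynomial.X - Polynomial.C (-ε)) := by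
      rw [map_sub, Polynomial.aeval_X, Polynomial.aeval_C, Algebra.algebraMap_eq_smul_one, neg_smul, sub_neg_eq_add]
    rw [this, he, ← map_mul, ← map_mul]
    exact hvan _ _ ⟨-(u' * v), by linear_combination (v * Q0) * huv'⟩
  have hNa : N * (a + ε • 1) = (a - ε • 1) * e := by
    have e1 : N = (a - ε • 1) * (aeval a v' * e) := by
      rw [hN, hy, map_mul, map_mul, hLa, he, mul_assoc]
    have hc : Commute e (a + ε • (1 : M2)) := by
      refine Commute.add_right ?_ ((Commute.one_right e).smul_right ε)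
      rw [he]
      have := hcf (v * Q0) Polynomial.X
      rwa [Polynomial.aeval_X] at this
    rw [e1, mul_assoc, mul_assoc, hc.eq, ← mul_assoc (aeval a v'), hinv]
  have N_skew : sadj N = -N := by
    have h1 := congrArg sadj hNa
    rw [sadj_mul, sadj_mul, sadj_add, sadj_sub, sadj_smul, sadj_one, self] at h1
    have h2' : (a + ε • (1 : M2)) * (sadj N + N) = 0 := by
      have e1 : a + ε • (1 : M2) = (ε • a) * (sadj a + ε • 1) := by
        rw [mul_add, Matrix.smul_mul, ha2, Matrix.mul_smul, mul_one, smul_smul, hε, one_smul, add_comm]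
      have e2 : (ε • a) * (e * (sadj a - ε • 1)) = -((a - ε • (1 : M2)) * e) := by
        have hc : Commute a e := by
          rw [he]
          have := hcf Polynomial.X (v * Q0)
          rwa [Polynomial.aeval_X] at this
        rw [← mul_assoc, Matrix.smul_mul, hc.eq, Matrix.smul_mul, mul_assoc, mul_sub a, ha2,
          Matrix.mul_smul, mul_one, mul_sub e, mul_one, Matrix.mul_smul, smul_sub, smul_smul, hε, one_smul,
          ← hc.eq, sub_mul, Matrix.smul_mul, one_mul, neg_sub]
      have e3 : (a + ε • (1 : M2)) * N = N * (a + ε • 1) := by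
        refine Commute.eq (Commute.add_left ?_ ((Commute.one_left N).smul_left ε))
        rw [hN]
        have := hcf Polynomial.X y
        rwa [Polynomial.aeval_X] at this
      have e5 : Commute (sadj a + ε • (1 : M2)) (sadj N) := by
        refine Commute.add_left ?_ ((Commute.one_left _).smul_left ε)
        rw [hN, sadj_aeval]
        have : Commute (aeval (sadj a) Polynomial.X) (aeval (sadj a) y) := (Commute.all _ _).map _
        rwa [Polynomial.aeval_X] at this
      rw [mul_add, e3, hNa]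
      conv_lhs => arg 1; rw [e1, mul_assoc, e5.eq]
      rw [← e5.eq, h1, e2, neg_add_cancel]
    have h3 : e * (sadj N + N) = sadj N + N := by
      have : e * sadj N = sadj N := by
        have := congrArg sadj heN.2
        rwa [sadj_mul, self] at this
      rw [mul_add, this, heN.1]
    have h4 : aeval a v' * (a + ε • 1) * e * (sadj N + N) = 0 := by
      rw [mul_assoc _ e, h3, mul_assoc, h2', mul_zero]
    rw [hinv, h3] at h4
    exact eq_neg_of_add_eq_zero_left h4
  have hnil : IsNilpotent N := by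
    refine ⟨M, ?_⟩
    rw [hN, ← map_pow, hy, mul_pow, mul_pow, mul_pow]
    obtain ⟨r, rfl⟩ : ∃ r, M = r + 1 := ⟨M - 1, by omega⟩
    rw [show L ^ (r + 1) * v' ^ (r + 1) * (v ^ (r + 1) * Q0 ^ (r + 1)) =
      (v' ^ (r + 1) * v ^ (r + 1) * Q0 ^ r) * (L ^ (r + 1) * Q0) by ring, hann]
  have hcomm : ∀ Z : M2, e * Z = Z → Z * e = Z → Z * N = N * Z → Z * a = a * Z := by
    intro Z h1 h2' h3
    have hc : e * a = a * e := by
      rw [he]
      have := hcf (v * Q0) Polynomial.X
      rw [Polynomial.aeval_X] at this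
      exact this.eq
    have hA : (e - N) * a = ε • (e + N) := by
      have := hNa
      rw [mul_add, sub_mul, Matrix.mul_smul, mul_one, Matrix.smul_mul, one_mul, ← hc] at this
      rw [sub_mul, smul_add]
      have e' : e * a - N * a = ε • e + ε • N := by
        rw [← sub_eq_zero] at this ⊢
        rw [← neg_eq_zero, ← this]
        abel
      exact e'
    obtain ⟨D, hD⟩ : ∃ D, D = a * Z - Z * a := ⟨_, rfl⟩
    have hD0 : (e - N) * D = 0 := by
      have e1 : (e - N) * Z = Z * (e - N) := by rw [sub_mul, mul_sub, h1, h2', h3]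
      rw [hD, mul_sub, ← mul_assoc, hA, ← mul_assoc, e1, mul_assoc, hA, Matrix.smul_mul, Matrix.mul_smul,
        add_mul, mul_add, h1, h2', h3, sub_self]
    have hD1 : e * D = D := by
      rw [hD, mul_sub, ← mul_assoc, hc, mul_assoc, h1, ← mul_assoc, h1]
    have : (1 - N) * D = 0 := by rw [sub_mul, one_mul, ← hD0, sub_mul, hD1]
    rw [(IsNilpotent.isUnit_one_sub hnil).mul_right_eq_zero, hD, sub_eq_zero] at this
    exact this.symm
  -- the basis
  obtain ⟨D, hD⟩ : ∃ D, D = (nonempty_decomp (toEnd a)).some := ⟨_, rfl⟩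
  have hCH : ∀ i, D.p i ^ D.e i ∣ a.charpoly := fun i => by
    rw [← charpoly_toEnd, D.charpoly_eq]
    exact Finset.dvd_prod_of_mem _ (Finset.mem_univ i)
  have hon : ∀ i, D.p i = L → D.p i ^ D.e i ∣ L ^ M := by
    intro i hi
    rw [hi]
    refine pow_dvd_pow _ ?_
    by_contra hlt
    have h1 : L ^ M ∣ a.charpoly := (pow_dvd_pow L (by omega : M ≤ D.e i)).trans (hi ▸ hCH i)
    rw [hQ0, hM, pow_succ] at h1
    exact hQn ((mul_dvd_mul_iff_left (pow_ne_zero _ hLi.ne_zero)).1 h1)
  have hoff : ∀ i, D.p i ≠ L → D.p i ^ D.e i ∣ Q0 := by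
    intro i hi
    refine IsCoprime.dvd_of_dvd_mul_left ?_ (hQ0 ▸ hCH i)
    refine IsCoprime.pow ((D.irr i).coprime_iff_not_dvd.2 fun h => hi ?_)
    exact Polynomial.eq_of_monic_of_associated (D.monic i) (hL ▸ Polynomial.monic_X_sub_C ε)
      ((D.irr i).associated_of_dvd hLi h)
  have hyev : ∀ k, ¬ L ∣ (v' * (v * Q0)) ^ k := by
    intro k h
    have h' := hLi.prime.dvd_of_dvd_pow h
    rw [hL, Polynomial.dvd_iff_isRoot, Polynomial.IsRoot, Polynomial.eval_mul] at h'
    have hz : L.eval ε ^ M = 0 := by rw [hL, hM]; simp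
    have e1 := congrArg (Polynomial.eval ε) huv
    have e2 := congrArg (Polynomial.eval ε) huv'
    rw [Polynomial.eval_add, Polynomial.eval_mul, Polynomial.eval_pow, hz, mul_zero, zero_add, Polynomial.eval_one] at e1
    rw [Polynomial.eval_add, Polynomial.eval_mul, Polynomial.eval_mul, Polynomial.eval_pow, hz, mul_zero, add_zero, Polynomial.eval_one] at e2
    rcases mul_eq_zero.1 h' with h' | h'
    · rw [h', zero_mul] at e2
      exact zero_ne_one e2
    · rw [h'] at e1
      exact zero_ne_one e1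
  obtain ⟨t, d, hd, P, Q, h1, h2', h3, h4⟩ := exists_chain_basis a D (L := L) (E := v * Q0) (y := y)
    (v' := v' * (v * Q0)) hLi ⟨ε, hL⟩ (by rw [hy, mul_assoc]) hyev
    (fun i hi => (hon i hi).trans ⟨-u, by linear_combination huv⟩)
    (fun i hi => (hoff i hi).trans (dvd_mul_left _ _))
  exact ⟨⟨t, d, hd, e, ⟨_, he.symm⟩, idem, self, hminus, ⟨M, kill⟩, N, ⟨_, hN.symm⟩, N_skew, hcomm,
    P, Q, h1, he ▸ h2', hN ▸ h3, fun j => by rw [h4, hD, hL]⟩⟩

end Cfsg.Agent.Lib.Similar.SpClass
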