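import Mathlib
import Cfsg.Agent.Lib.Similar.SympChains

/-!
The adjoint for a symmetric nondegenerate matrix.
-/

set_option autoImplicit false
set_option linter.unusedSectionVars false

namespace Cfsg.Agent.Lib.Similar.OClass

open Matrix
open Polynomial (aeval)

variable {l : Type*} [Fintype l] [DecidableEq l] {K : Type*} [Field K]

local notation "M2" => Matrix (l ⊕ l) (l ⊕ l) K

/-- A symmetric nondegenerate matrix. -/
structure Sym (B : Matrix (l ⊕ l) (l ⊕ l) K) : Prop where
  symm : Bᵀ = B
  det : IsUnit B.det

/-- The adjoint. -/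
noncomputable def adj (B A : M2) : M2 := B⁻¹ * Aᵀ * B

variable {B : Matrix (l ⊕ l) (l ⊕ l) K} (hB : OClass.Sym B)
include hB

theorem mul_adj (A : M2) : B * adj B A = Aᵀ * B := by
  rw [adj, ← mul_assoc, ← mul_assoc, mul_nonsing_inv _ hB.det, one_mul]

theorem cancel {A C : M2} (h : B * A = B * C) : A = C := by
  have := congrArg (fun D => B⁻¹ * D) h
  simpa only [← mul_assoc, nonsing_inv_mul _ hB.det, one_mul] using this

theorem adj_mul (A C : M2) : adj B (A * C) = adj B C * adj B A := by
  apply cancel hB
  rw [mul_adj hB, ← mul_assoc, mul_adj hB, mul_assoc Cᵀ, mul_adj hB, transpose_mul, mul_assoc]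

theorem adj_adj (A : M2) : adj B (adj B A) = A := by
  apply cancel hB
  rw [mul_adj hB]
  have h := congrArg transpose (mul_adj hB A)
  rw [transpose_mul, transpose_mul, transpose_transpose, hB.symm] at h
  exact h

theorem adj_one : adj B (1 : M2) = 1 := by
  rw [adj, transpose_one, mul_one, nonsing_inv_mul _ hB.det]

omit hB in
theorem adj_add (A C : M2) : adj B (A + C) = adj B A + adj B C := by
  rw [adj, adj, adj, transpose_add, mul_add, add_mul]

omit hB in
theorem adj_sub (A C : M2) : adj B (A - C) = adj B A - adj B C := by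
  rw [adj, adj, adj, transpose_sub, mul_sub, sub_mul]

omit hB in
theorem adj_smul (c : K) (A : M2) : adj B (c • A) = c • adj B A := by
  rw [adj, adj, transpose_smul, Matrix.mul_smul, Matrix.smul_mul]

omit hB in
theorem adj_zero : adj B (0 : M2) = 0 := by
  rw [adj, transpose_zero, mul_zero, zero_mul]

omit hB in
theorem adj_neg (A : M2) : adj B (-A) = -adj B A := by
  rw [← neg_one_smul K A, adj_smul, neg_one_smul]

theorem adj_algebraMap (c : K) : adj B (algebraMap K M2 c) = algebraMap K M2 c := by
  rw [Algebra.algebraMap_eq_smul_one, adj_smul, adj_one hB]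

theorem adj_pow (A : M2) (i : ℕ) : adj B (A ^ i) = adj B A ^ i := by
  induction i with
  | zero => rw [pow_zero, pow_zero, adj_one hB]
  | succ i ih => rw [pow_succ, adj_mul hB, ih, ← pow_succ']

theorem adj_aeval (A : M2) (f : Polynomial K) : adj B (aeval A f) = aeval (adj B A) f := by
  induction f using Polynomial.induction_on with
  | C c => simp [adj_algebraMap hB]
  | add p q hp hq => rw [map_add, map_add, adj_add, hp, hq]
  | monomial n c _ =>
    simp only [map_mul, Polynomial.aeval_C, map_pow, Polynomial.aeval_X, adj_mul hB, adj_algebraMap hB, adj_pow hB]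
    exact (Algebra.commutes c _).symm

theorem det_adj (A : M2) : (adj B A).det = A.det := by
  have h := congrArg Matrix.det (mul_adj hB A)
  rw [det_mul, det_mul, det_transpose, mul_comm A.det] at h
  exact mul_left_cancel₀ hB.det.ne_zero h

theorem mem_iff {A : M2} : Aᵀ * B * A = B ↔ adj B A * A = 1 := by
  constructor
  · intro h
    refine cancel hB ?_
    rw [← mul_assoc, mul_adj hB, h, mul_one]
  · intro h
    rw [← mul_adj hB, mul_assoc, h, mul_one]

end Cfsg.Agent.Lib.Similar.OClass
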