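import Mathlib
import Cfsg.Agent.Lib.Similar.Star

/-!
Counting self-reciprocal polynomials with signs.
-/

set_option autoImplicit false
set_option linter.unusedSectionVars false

namespace Cfsg.Agent.Lib.Similar.SpCount

open Polynomial
open Cfsg.Agent.Lib.Similar (starP starP_mul natDegree_starP coeff_starP monic_starP coeff_zero_starP)

variable {F : Type*} [Field F] [Fintype F] [DecidableEq F]

/-- Self-reciprocal polynomials of degree `D`. -/
def IsSR (D : ℕ) (f : F[X]) : Prop :=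
  f.Monic ∧ f.natDegree = D ∧ f.coeff 0 ≠ 0 ∧ starP (RingHom.id F) f = f

omit [Fintype F] [DecidableEq F] in
theorem IsSR.rel {D : ℕ} {f : F[X]} (h : IsSR D f) {i : ℕ} (hi : i ≤ D) : f.coeff i = (f.coeff 0)⁻¹ * f.coeff (D - i) := by
  obtain ⟨h1, h2, h3, h4⟩ := h
  have e := coeff_starP (σ := RingHom.id F) (f := f) (i := i) (by omega)
  rw [h4, h2] at e
  exact e

omit [Fintype F] [DecidableEq F] in
theorem IsSR.coeff_sq {D : ℕ} {f : F[X]} (h : IsSR D f) : f.coeff 0 * f.coeff 0 = 1 := by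
  have e := coeff_zero_starP (σ := RingHom.id F) h.1
  rw [h.2.2.2, RingHom.id_apply] at e
  nth_rewrite 2 [e]
  exact mul_inv_cancel₀ h.2.2.1

omit [DecidableEq F] in
theorem finite_sr (D : ℕ) (c : F) : {f : F[X] | IsSR D f ∧ f.coeff 0 = c}.Finite := by
  refine Set.Finite.of_finite_image (f := fun f => fun i : Fin (D + 1) => f.coeff i) (Set.toFinite _) ?_
  intro f hf g hg e
  refine Polynomial.ext fun i => ?_
  by_cases hi : i < D + 1
  · exact congrFun e ⟨i, hi⟩
  · rw [coeff_eq_zero_of_natDegree_lt (by rw [hf.1.2.1]; omega), coeff_eq_zero_of_natDegree_lt (by rw [hg.1.2.1]; omega)]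

/-- Self-reciprocal polynomials with given constant term. -/
noncomputable def srFin (D : ℕ) (c : F) : Finset F[X] := (finite_sr D c).toFinset

omit [DecidableEq F] in
theorem mem_srFin {D : ℕ} {c : F} {f : F[X]} : f ∈ srFin D c ↔ IsSR D f ∧ f.coeff 0 = c :=
  (finite_sr D c).mem_toFinset

theorem card_srFin_le (h2 : (2 : F) ≠ 0) (D : ℕ) (c : F) (hc : c * c = 1) (r : ℕ)
    (hr : ∀ i, 1 ≤ i → i ≤ D / 2 → r < i → (2 * i = D ∧ c = -1)) :
    (srFin D c).card ≤ Fintype.card F ^ r := by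
  classical
  have hcard : (Finset.univ : Finset (Fin r → F)).card = Fintype.card F ^ r := by simp
  rw [← hcard]
  refine Finset.card_le_card_of_injOn (fun f => fun i : Fin r => f.coeff (i + 1)) (fun f _ => Finset.mem_univ _) ?_
  intro f hf g hg e
  simp only [Finset.mem_coe, mem_srFin] at hf hg
  have hlow : ∀ i ≤ D / 2, f.coeff i = g.coeff i := by
    intro i hi
    rcases Nat.eq_zero_or_pos i with rfl | h1
    · rw [hf.2, hg.2]
    · by_cases h : i ≤ r
      · have := congrFun e ⟨i - 1, by omega⟩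
        simpa [show i - 1 + 1 = i by omega] using this
      · obtain ⟨h3, h4⟩ := hr i h1 hi (by omega)
        have z : ∀ u : F[X], IsSR D u → u.coeff 0 = c → u.coeff i = 0 := by
          intro u hu hu0
          have := hu.rel (i := i) (by omega)
          rw [hu0, h4, inv_neg, inv_one, show D - i = i by omega, neg_one_mul] at this
          have h5 : (2 : F) * u.coeff i = 0 := by linear_combination this
          exact (mul_eq_zero.1 h5).resolve_left h2
        rw [z f hf.1 hf.2, z g hg.1 hg.2]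
  refine Polynomial.ext fun i => ?_
  rcases Nat.lt_or_ge D i with h | h
  · rw [coeff_eq_zero_of_natDegree_lt (by rw [hf.1.2.1]; exact h), coeff_eq_zero_of_natDegree_lt (by rw [hg.1.2.1]; exact h)]
  rcases Nat.lt_or_ge (D / 2) i with hh | hh
  · rw [hf.1.rel h, hg.1.rel h, hf.2, hg.2, hlow (D - i) (by omega)]
  · exact hlow i hh

theorem card_srFin_one (h2 : (2 : F) ≠ 0) (D : ℕ) : (srFin D (1 : F)).card ≤ Fintype.card F ^ (D / 2) :=
  card_srFin_le h2 D 1 (one_mul 1) _ fun i _ h h' => absurd h (by omega)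

/-- The shift of a sequence. -/
def sh (g : ℕ → ℕ) : ℕ → ℕ
  | 0 => 0
  | D + 1 => g D

/-- The product with `1 + X`. -/
def cv (g : ℕ → ℕ) (D : ℕ) : ℕ := g D + sh g D

/-- The even geometric sequence. -/
def geo (q : ℕ) (D : ℕ) : ℕ := if Even D then q ^ (D / 2) else 0

/-- The bound for self-reciprocal polynomials. -/
def sb (q : ℕ) : ℕ → ℕ := cv (cv (geo q))

/-- All self-reciprocal polynomials of degree `D`. -/
noncomputable def sr (D : ℕ) : Finset F[X] := srFin D 1 ∪ srFin D (-1)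

theorem mem_sr {D : ℕ} {f : F[X]} : f ∈ sr D ↔ IsSR D f := by
  rw [sr, Finset.mem_union, mem_srFin, mem_srFin]
  refine ⟨fun h => h.elim (·.1) (·.1), fun h => ?_⟩
  rcases mul_self_eq_one_iff.1 h.coeff_sq with e | e
  · exact Or.inl ⟨h, e⟩
  · exact Or.inr ⟨h, e⟩

theorem card_sr_le (h2 : (2 : F) ≠ 0) (D : ℕ) : (sr (F := F) D).card ≤ sb (Fintype.card F) D := by
  refine (Finset.card_union_le _ _).trans ?_
  have h1 := card_srFin_one (F := F) h2 D
  rcases D with _ | D
  · have h3 : (srFin 0 (-1 : F)).card = 0 := by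
      rw [Finset.card_eq_zero, Finset.eq_empty_iff_forall_notMem]
      intro f hf
      obtain ⟨⟨hm, hd, -, -⟩, h0⟩ := mem_srFin.1 hf
      rw [hm.natDegree_eq_zero.1 hd, coeff_one_zero] at h0
      exact h2 (by linear_combination h0)
    rw [h3]
    simpa [sb, cv, sh, geo] using h1
  have h3 := card_srFin_le (F := F) h2 (D + 1) (-1) (by ring) (D / 2) fun i _ h h' => ⟨by omega, rfl⟩
  refine (Nat.add_le_add h1 h3).trans (le_of_eq ?_)
  rcases Nat.even_or_odd D with ⟨k, rfl⟩ | ⟨k, rfl⟩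
  · simp only [sb, cv, sh, geo]
    rcases k with _ | k
    · norm_num [sh]
    · rw [show k + 1 + (k + 1) = (2 * k + 1) + 1 by ring]
      simp only [sh, show ¬ Even (2 * k + 1 + 1 + 1) by rw [Nat.not_even_iff_odd]; exact ⟨k + 1, by ring⟩,
        show Even (2 * k + 1 + 1) from ⟨k + 1, by ring⟩, show ¬ Even (2 * k + 1) by simp [parity_simps], if_false, if_true]
      rw [show (2 * k + 1 + 1 + 1) / 2 = k + 1 by omega, show (2 * k + 1 + 1) / 2 = k + 1 by omega]
      ring
  · simp only [sb, cv, sh, geo]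
    simp only [show Even (2 * k + 1 + 1) from ⟨k + 1, by ring⟩, show ¬ Even (2 * k + 1) by simp [parity_simps],
      if_false, if_true, sh, show Even (2 * k) from ⟨k, by ring⟩]
    rw [show (2 * k + 1 + 1) / 2 = k + 1 by omega, show (2 * k + 1) / 2 = k by omega, show 2 * k / 2 = k by omega]
    ring

theorem starP_lin {ε : F} (hε : ε * ε = 1) : starP (RingHom.id F) (X - C ε) = X - C ε := by
  have h0 : (X - C ε).coeff 0 ≠ 0 := by simpa using left_ne_zero_of_mul_eq_one hε
  have hd : (starP (RingHom.id F) (X - C ε)).natDegree = 1 := by rw [natDegree_starP h0, natDegree_X_sub_C]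
  rw [(monic_starP h0).eq_X_add_C hd, coeff_zero_starP (monic_X_sub_C ε), RingHom.id_apply]
  simp [inv_neg, inv_eq_of_mul_eq_one_right hε, sub_eq_add_neg]

theorem exists_root_factor {D : ℕ} {f : F[X]} (hf : IsSR D f) {ε : F} (hε : ε * ε = 1) (hr : f.IsRoot ε) :
    ∃ g D', IsSR D' g ∧ D = D' + 1 ∧ f = (X - C ε) * g := by
  obtain ⟨g, hg⟩ := dvd_iff_isRoot.2 hr
  obtain ⟨hm, hd, h0, hs⟩ := hf
  have hgm : g.Monic := (monic_X_sub_C ε).of_mul_monic_left (hg ▸ hm)
  refine ⟨g, g.natDegree, ⟨hgm, rfl, fun h => h0 (by rw [hg, mul_coeff_zero, h, mul_zero]), ?_⟩, ?_, hg⟩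
  · rw [hg, starP_mul, starP_lin hε] at hs
    exact mul_left_cancel₀ (monic_X_sub_C ε).ne_zero hs
  · rw [← hd, hg, (monic_X_sub_C ε).natDegree_mul hgm, natDegree_X_sub_C, add_comm]

/-- Polynomials with signs at `1` and `-1`. -/
noncomputable def dat : ℕ → Finset (F[X] × Bool × Bool)
  | D => ((sr D).image fun f => (f, false, false)) ∪
      ((if 1 ≤ D then (sr (D - 1)).image fun f => ((X - C 1) * f, true, false) else ∅) ∪
        ((if 1 ≤ D then (sr (D - 1)).image fun f => ((X - C (-1)) * f, false, true) else ∅) ∪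
          (if 2 ≤ D then (sr (D - 2)).image fun f => ((X - C 1) * ((X - C (-1)) * f), true, true) else ∅)))

theorem mem_dat (h2 : (2 : F) ≠ 0) {D : ℕ} {f : F[X]} {s t : Bool} (hf : IsSR D f) (hs : s = true → f.IsRoot 1)
    (ht : t = true → f.IsRoot (-1)) : (f, s, t) ∈ dat D := by
  simp only [dat, Finset.mem_union]
  cases s <;> cases t
  · exact Or.inl (Finset.mem_image.2 ⟨f, mem_sr.2 hf, rfl⟩)
  · obtain ⟨g, D', hg, rfl, rfl⟩ := exists_root_factor hf (by ring) (ht rfl)
    refine Or.inr (Or.inr (Or.inl ?_))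
    rw [if_pos (by omega)]
    exact Finset.mem_image.2 ⟨g, mem_sr.2 (by simpa using hg), rfl⟩
  · obtain ⟨g, D', hg, rfl, rfl⟩ := exists_root_factor hf (one_mul 1) (hs rfl)
    refine Or.inr (Or.inl ?_)
    rw [if_pos (by omega)]
    exact Finset.mem_image.2 ⟨g, mem_sr.2 (by simpa using hg), rfl⟩
  · obtain ⟨g, D', hg, rfl, rfl⟩ := exists_root_factor hf (one_mul 1) (hs rfl)
    have hr : g.IsRoot (-1) := by
      have := ht rfl
      rw [IsRoot, eval_mul, eval_sub, eval_X, eval_C] at this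
      refine (mul_eq_zero.1 this).resolve_left fun e => h2 ?_
      linear_combination -e
    obtain ⟨g', D'', hg', rfl, rfl⟩ := exists_root_factor hg (by ring) hr
    refine Or.inr (Or.inr (Or.inr ?_))
    rw [if_pos (by omega)]
    exact Finset.mem_image.2 ⟨g', mem_sr.2 (by simpa using hg'), rfl⟩

theorem natDegree_of_mem_dat {D : ℕ} {x : F[X] × Bool × Bool} (hx : x ∈ dat D) : x.1.natDegree = D := by
  simp only [dat, Finset.mem_union] at hx
  have e : ∀ (ε : F) (g : F[X]), g.Monic → ((X - C ε) * g).natDegree = g.natDegree + 1 := fun ε g hg => by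
    rw [(monic_X_sub_C ε).natDegree_mul hg, natDegree_X_sub_C, add_comm]
  rcases hx with h | h | h | h
  · obtain ⟨f, hf, rfl⟩ := Finset.mem_image.1 h
    exact (mem_sr.1 hf).2.1
  all_goals
    split_ifs at h with hD
    swap
    · exact absurd h (Finset.notMem_empty _)
    obtain ⟨f, hf, rfl⟩ := Finset.mem_image.1 h
    obtain ⟨hm, hd, -, -⟩ := mem_sr.1 hf
  · show ((X - C 1) * f).natDegree = D
    rw [e 1 f hm]; omega
  · show ((X - C (-1)) * f).natDegree = D
    rw [e _ f hm]; omega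
  · show ((X - C 1) * ((X - C (-1)) * f)).natDegree = D
    rw [e 1 _ ((monic_X_sub_C _).mul hm), e _ f hm]; omega

theorem card_dat_le (h2 : (2 : F) ≠ 0) (D : ℕ) :
    (dat (F := F) D).card ≤ cv (cv (sb (Fintype.card F))) D := by
  have h := card_sr_le (F := F) h2
  refine (Finset.card_union_le _ _).trans ?_
  simp only [cv]
  rw [add_assoc]
  refine Nat.add_le_add (Finset.card_image_le.trans (h D)) ((Finset.card_union_le _ _).trans ?_)
  have h1 : ∀ (φ : F[X] → F[X] × Bool × Bool), (if 1 ≤ D then (sr (D - 1)).image φ else ∅).card ≤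
      sh (sb (Fintype.card F)) D := by
    intro φ
    rcases D with _ | D
    · simp
    · rw [if_pos (by omega)]
      exact Finset.card_image_le.trans (h D)
  refine Nat.add_le_add (h1 _) ((Finset.card_union_le _ _).trans ?_)
  rcases D with _ | D
  · simp [sh]
  · show _ ≤ sb (Fintype.card F) D + sh (sb (Fintype.card F)) D
    refine Nat.add_le_add (h1 _) ?_
    rcases D with _ | D
    · simp
    · rw [if_pos (by omega)]
      exact Finset.card_image_le.trans (h D)

theorem sum_cv_le {x C : ℚ} (hx : 0 ≤ x) {g : ℕ → ℕ} (h : ∀ N, ∑ D ∈ Finset.range N, (g D : ℚ) * x ^ D ≤ C)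
    (hC : 0 ≤ C) : ∀ N, ∑ D ∈ Finset.range N, (cv g D : ℚ) * x ^ D ≤ (1 + x) * C := by
  intro N
  simp only [cv, Nat.cast_add, add_mul, Finset.sum_add_distrib, one_mul]
  refine add_le_add (h N) ?_
  rcases N with _ | N
  · simpa using mul_nonneg hx hC
  rw [Finset.sum_range_succ', show (sh g 0 : ℕ) = 0 from rfl, Nat.cast_zero, zero_mul, add_zero]
  refine le_trans (le_of_eq ?_) (mul_le_mul_of_nonneg_left (h N) hx)
  rw [Finset.mul_sum]
  exact Finset.sum_congr rfl fun D _ => by rw [show sh g (D + 1) = g D from rfl, pow_succ]; ring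

theorem sum_geo_le {x : ℚ} (hx : 0 ≤ x) (q : ℕ) (hz : (q : ℚ) * x ^ 2 < 1) (N : ℕ) :
    ∑ D ∈ Finset.range N, (geo q D : ℚ) * x ^ D ≤ 1 / (1 - (q : ℚ) * x ^ 2) := by
  rw [le_div_iff₀ (by linarith)]
  have hm : ∑ D ∈ Finset.range N, (geo q D : ℚ) * x ^ D ≤ ∑ D ∈ Finset.range (N + 2), (geo q D : ℚ) * x ^ D :=
    Finset.sum_le_sum_of_subset_of_nonneg (Finset.range_mono (by omega)) fun D _ _ => by positivity
  have he : ∑ D ∈ Finset.range (N + 2), (geo q D : ℚ) * x ^ D =
      1 + (q : ℚ) * x ^ 2 * ∑ D ∈ Finset.range N, (geo q D : ℚ) * x ^ D := by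
    rw [Finset.sum_range_succ', Finset.sum_range_succ', Finset.mul_sum]
    simp only [geo, Nat.zero_add, Nat.not_even_one, if_false, Nat.cast_zero, zero_mul, add_zero]
    simp only [Even.zero, if_true, Nat.zero_div, pow_zero, Nat.cast_one, mul_one]
    rw [add_comm]
    congr 1
    refine Finset.sum_congr rfl fun D _ => ?_
    simp only [Nat.even_add_one, not_not]
    split_ifs
    · rw [show (D + 1 + 1) / 2 = D / 2 + 1 by omega, pow_succ]
      push_cast
      ring
    · simp
  linarith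

/-- The factor of the bound belonging to exponent `i`. -/
def fac (y : ℚ) (i : ℕ) : ℚ := (if Even i then (1 + y ^ (i / 2)) ^ 4 else 1) / (1 - y ^ (i - 1))

/-- The data allowed at exponent `i`. -/
noncomputable def data (n i : ℕ) : Finset (F[X] × Bool × Bool) :=
  if Even i then (Finset.range (2 * n + 1)).biUnion dat
  else (Finset.range (2 * n + 1)).biUnion fun k => (srFin (2 * k) (1 : F)) ×ˢ {(false, false)}

/-- The weight. -/
noncomputable def wt (i : ℕ) (x : F[X] × Bool × Bool) : ℕ := i * x.1.natDegree / 2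

theorem sum_data_le (h2 : (2 : F) ≠ 0) (hq : 2 ≤ Fintype.card F) (n : ℕ) {i : ℕ} (hi : 2 ≤ i) :
    ∑ x ∈ data (F := F) n i, ((Fintype.card F : ℚ)⁻¹) ^ wt i x ≤ fac (Fintype.card F : ℚ)⁻¹ i := by
  classical
  obtain ⟨q, hqd⟩ : ∃ q, q = Fintype.card F := ⟨_, rfl⟩
  obtain ⟨y, hy⟩ : ∃ y : ℚ, y = (q : ℚ)⁻¹ := ⟨_, rfl⟩
  rw [← hqd, ← hy]
  have hq0 : (0 : ℚ) < q := by rw [Nat.cast_pos]; omega
  have hy0 : 0 < y := hy ▸ inv_pos.2 hq0
  have hy1 : y < 1 := by rw [hy]; exact inv_lt_one_of_one_lt₀ (by exact_mod_cast (by omega : 1 < q))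
  have hqy : (q : ℚ) * y ^ i = y ^ (i - 1) := by
    conv_lhs => rw [show i = (i - 1) + 1 by omega, pow_succ]
    rw [hy]; field_simp
  have hz : y ^ (i - 1) < 1 := pow_lt_one₀ hy0.le hy1 (by omega)
  rw [data, fac]
  split_ifs with hev
  · obtain ⟨j, hj⟩ := hev
    rw [Finset.sum_biUnion (fun a _ b _ hab => Finset.disjoint_left.2 fun x ha hb =>
      hab ((natDegree_of_mem_dat ha).symm.trans (natDegree_of_mem_dat hb))), show i / 2 = j by omega]
    have hxx : (q : ℚ) * (y ^ j) ^ 2 = y ^ (i - 1) := by rw [← pow_mul, show j * 2 = i by omega, hqy]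
    have hb := sum_cv_le (pow_nonneg hy0.le j) (sum_cv_le (pow_nonneg hy0.le j) (sum_cv_le (pow_nonneg hy0.le j)
      (sum_cv_le (pow_nonneg hy0.le j) (sum_geo_le (pow_nonneg hy0.le j) q (by rw [hxx]; exact hz))
      (by rw [hxx]; exact div_nonneg zero_le_one (by linarith)))
      (by rw [hxx]; have : 0 ≤ 1 / (1 - y ^ (i - 1)) := div_nonneg zero_le_one (by linarith); positivity))
      (by rw [hxx]; have : 0 ≤ 1 / (1 - y ^ (i - 1)) := div_nonneg zero_le_one (by linarith); positivity))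
      (by rw [hxx]; have : 0 ≤ 1 / (1 - y ^ (i - 1)) := div_nonneg zero_le_one (by linarith); positivity)
      (2 * n + 1)
    rw [hxx] at hb
    refine le_trans ?_ (hb.trans (le_of_eq (by ring)))
    refine Finset.sum_le_sum fun D _ => ?_
    rw [Finset.sum_congr rfl (g := fun _ => (y ^ j) ^ D) (fun x hx => by
      rw [wt, natDegree_of_mem_dat hx, ← pow_mul, show i * D / 2 = j * D by
        rw [hj, show (j + j) * D = 2 * (j * D) by ring]; omega]), Finset.sum_const, nsmul_eq_mul]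
    exact mul_le_mul_of_nonneg_right (by exact_mod_cast hqd ▸ card_dat_le h2 D) (by positivity)
  · rw [Finset.sum_biUnion (fun a _ b _ hab => Finset.disjoint_left.2 fun x ha hb => hab (by
      have e1 := (mem_srFin.1 (Finset.mem_product.1 ha).1).1.2.1
      have e2 := (mem_srFin.1 (Finset.mem_product.1 hb).1).1.2.1
      omega))]
    refine le_trans (Finset.sum_le_sum (g := fun k => (y ^ (i - 1)) ^ k) fun k _ => ?_) ?_
    · rw [Finset.sum_congr rfl (g := fun _ => y ^ (i * k)) (fun x hx => by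
        rw [wt, (mem_srFin.1 (Finset.mem_product.1 hx).1).1.2.1, show i * (2 * k) / 2 = i * k by
          rw [Nat.mul_left_comm]; omega]), Finset.sum_const, nsmul_eq_mul, Finset.card_product, Finset.card_singleton,
        mul_one, ← hqy, mul_pow, ← pow_mul]
      refine mul_le_mul_of_nonneg_right ?_ (by positivity)
      have := card_srFin_one (F := F) h2 (2 * k)
      rw [show 2 * k / 2 = k by omega, ← hqd] at this
      exact_mod_cast this
    · rw [le_div_iff₀ (by linarith), geom_sum_mul_neg]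
      have := pow_nonneg (pow_nonneg hy0.le (i - 1)) (2 * n + 1)
      linarith

/-- The factor of the final bound. -/
def gg (x : ℚ) : ℚ := (1 + x) ^ 4 / (1 - x)

theorem gg_ge_one {x : ℚ} (h0 : 0 ≤ x) (h1 : x < 1) : 1 ≤ gg x := by
  rw [gg, le_div_iff₀ (by linarith), one_mul]
  have : 1 ≤ (1 + x) ^ 4 := one_le_pow₀ (by linarith)
  linarith

theorem prod_gg_le (N : ℕ) : ∏ m ∈ Finset.range N, gg ((1 / 3) ^ (m + 1)) ≤ 54 / 5 := by
  have hx : ∀ m : ℕ, (0 : ℚ) ≤ (1 / 3) ^ (m + 1) ∧ ((1 : ℚ) / 3) ^ (m + 1) < 1 := fun m =>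
    ⟨by positivity, pow_lt_one₀ (by norm_num) (by norm_num) (by omega)⟩
  have key : ∀ k, ∏ m ∈ Finset.range (6 + k), gg ((1 / 3) ^ (m + 1)) ≤ 54 / 5 * (1 - 3 * (1 / 3) ^ (6 + k)) := by
    intro k
    induction k with
    | zero => norm_num [Finset.prod_range_succ, gg]
    | succ k ih =>
      rw [← add_assoc, Finset.prod_range_succ]
      obtain ⟨h0, h1⟩ := hx (6 + k)
      refine (mul_le_mul_of_nonneg_right ih (zero_le_one.trans (gg_ge_one h0 h1))).trans ?_
      obtain ⟨x, hxd⟩ : ∃ x : ℚ, x = (1 / 3) ^ (6 + k + 1) := ⟨_, rfl⟩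
      have hxx : ((1 : ℚ) / 3) ^ (6 + k) = 3 * x := by rw [hxd, pow_succ]; ring
      rw [hxx, ← hxd, mul_assoc]
      refine mul_le_mul_of_nonneg_left ?_ (by norm_num)
      rw [gg, ← mul_div_assoc, div_le_iff₀ (by rw [hxd]; linarith)]
      have hx1 : x ≤ 1 / 2187 := by
        rw [hxd]
        exact (pow_le_pow_of_le_one (by norm_num) (by norm_num) (show 7 ≤ 6 + k + 1 by omega)).trans (by norm_num)
      have hx0 : 0 ≤ x := hxd ▸ h0
      nlinarith [mul_nonneg hx0 hx0, mul_nonneg (mul_nonneg hx0 hx0) hx0, mul_nonneg (mul_nonneg hx0 hx0) (mul_nonneg hx0 hx0),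
        mul_nonneg (mul_nonneg (mul_nonneg hx0 hx0) (mul_nonneg hx0 hx0)) hx0]
  refine le_trans ?_ ((key N).trans ?_)
  · refine Finset.prod_le_prod_of_subset_of_one_le (Finset.range_mono (by omega))
      (fun m _ => zero_le_one.trans (gg_ge_one (hx m).1 (hx m).2))
      fun m _ _ => gg_ge_one (hx m).1 (hx m).2
  · have : (0 : ℚ) ≤ (1 / 3) ^ (6 + N) := by positivity
    linarith

theorem prod_fac_le {y : ℚ} (hy0 : 0 ≤ y) (hy1 : y ≤ 1 / 3) (n : ℕ) :
    ∏ t : Fin (2 * n + 1), fac y ((t : ℕ) + 2) ≤ 54 / 5 := by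
  have hp : ∀ m : ℕ, 0 ≤ y ^ (m + 1) ∧ y ^ (m + 1) < 1 := fun m =>
    ⟨by positivity, pow_lt_one₀ hy0 (by linarith) (by omega)⟩
  have he : ∀ n, ∏ t ∈ Finset.range (2 * n + 1), fac y (t + 2) =
      (∏ m ∈ Finset.range (n + 1), (1 + y ^ (m + 1)) ^ 4) / ∏ m ∈ Finset.range (2 * n + 1), (1 - y ^ (m + 1)) := by
    intro n
    induction n with
    | zero => simp [fac]
    | succ k ih =>
      rw [show 2 * (k + 1) + 1 = 2 * k + 1 + 1 + 1 by ring, Finset.prod_range_succ, Finset.prod_range_succ, ih,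
        Finset.prod_range_succ (n := k + 1), Finset.prod_range_succ (n := 2 * k + 1 + 1),
        Finset.prod_range_succ (n := 2 * k + 1)]
      simp only [fac]
      rw [if_neg (by rw [Nat.not_even_iff_odd]; exact ⟨k + 1, by ring⟩), if_pos ⟨k + 2, by ring⟩,
        show (2 * k + 1 + 2 : ℕ) - 1 = 2 * k + 1 + 1 by omega, show (2 * k + 1 + 1 + 2 : ℕ) - 1 = 2 * k + 1 + 1 + 1 by omega,
        show (2 * k + 1 + 1 + 2 : ℕ) / 2 = k + 1 + 1 by omega]
      field_simp
  rw [Fin.prod_univ_eq_prod_range (fun t => fac y (t + 2)), he]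
  refine le_trans ?_ (prod_gg_le (2 * n + 1))
  have h1 : ∏ m ∈ Finset.range (n + 1), (1 + y ^ (m + 1)) ^ 4 ≤ ∏ m ∈ Finset.range (2 * n + 1), (1 + y ^ (m + 1)) ^ 4 :=
    Finset.prod_le_prod_of_subset_of_one_le (Finset.range_mono (by omega)) (fun m _ => by positivity)
      fun m _ _ => one_le_pow₀ (by linarith [(hp m).1])
  refine (div_le_div_of_nonneg_right h1 (Finset.prod_nonneg fun m _ => by linarith [(hp m).2])).trans ?_
  rw [← Finset.prod_div_distrib]
  refine Finset.prod_le_prod (fun m _ => div_nonneg (by positivity) (by linarith [(hp m).2])) fun m _ => ?_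
  have hle : y ^ (m + 1) ≤ (1 / 3) ^ (m + 1) := pow_le_pow_left₀ hy0 hy1 _
  have h3 : ((1 : ℚ) / 3) ^ (m + 1) < 1 := pow_lt_one₀ (by norm_num) (by norm_num) (by omega)
  exact div_le_div₀ (by positivity) (pow_le_pow_left₀ (by linarith [(hp m).1]) (by linarith) 4) (by linarith) (by linarith)

end Cfsg.Agent.Lib.Similar.SpCount
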