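import Mathlib
import Cfsg.Agent.Lib.Similar.SympClassCount

/-!
Bounds for counting orthogonal elementary divisors with signs.
-/

set_option autoImplicit false
set_option linter.unusedSectionVars false

namespace Cfsg.Agent.Lib.Similar.OCount

open Polynomial
open Cfsg.Agent.Lib.Similar.SpCount

variable {F : Type*} [Field F] [Fintype F] [DecidableEq F]

theorem sum_cv_real {x C : ℝ} (hx : 0 ≤ x) {g : ℕ → ℕ} (h : ∀ N, ∑ D ∈ Finset.range N, (g D : ℝ) * x ^ D ≤ C)
    (hC : 0 ≤ C) : ∀ N, ∑ D ∈ Finset.range N, (cv g D : ℝ) * x ^ D ≤ (1 + x) * C := by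
  intro N
  simp only [cv, Nat.cast_add, add_mul, Finset.sum_add_distrib, one_mul]
  refine add_le_add (h N) ?_
  rcases N with _ | N
  · simpa using mul_nonneg hx hC
  rw [Finset.sum_range_succ', show (sh g 0 : ℕ) = 0 from rfl, Nat.cast_zero, zero_mul, add_zero]
  refine le_trans (le_of_eq ?_) (mul_le_mul_of_nonneg_left (h N) hx)
  rw [Finset.mul_sum]
  exact Finset.sum_congr rfl fun D _ => by rw [show sh g (D + 1) = g D from rfl, pow_succ]; ring

theorem sum_geo_real {x : ℝ} (hx : 0 ≤ x) (q : ℕ) (hz : (q : ℝ) * x ^ 2 < 1) (N : ℕ) :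
    ∑ D ∈ Finset.range N, (geo q D : ℝ) * x ^ D ≤ 1 / (1 - (q : ℝ) * x ^ 2) := by
  rw [le_div_iff₀ (by linarith)]
  have hm : ∑ D ∈ Finset.range N, (geo q D : ℝ) * x ^ D ≤ ∑ D ∈ Finset.range (N + 2), (geo q D : ℝ) * x ^ D :=
    Finset.sum_le_sum_of_subset_of_nonneg (Finset.range_mono (by omega)) fun D _ _ => by positivity
  have he : ∑ D ∈ Finset.range (N + 2), (geo q D : ℝ) * x ^ D =
      1 + (q : ℝ) * x ^ 2 * ∑ D ∈ Finset.range N, (geo q D : ℝ) * x ^ D := by
    rw [Finset.sum_range_succ', Finset.sum_range_succ', Finset.mul_sum]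
    simp only [geo, Nat.zero_add, Nat.not_even_one, if_false, Nat.cast_zero, zero_mul, add_zero]
    simp only [Even.zero, if_true, Nat.zero_div, pow_zero, Nat.cast_one, mul_one]
    rw [add_comm]
    congr 1
    refine Finset.sum_congr rfl fun D _ => ?_
    simp only [Nat.even_add_one, not_not]
    split_ifs
    · rw [show (D + 1 + 1) / 2 = D / 2 + 1 by omega, pow_succ]
      push_cast
      ring
    · simp
  linarith

/-- Polynomials of even degree with constant term one. -/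
noncomputable def plain (n : ℕ) : Finset (F[X] × Bool × Bool) :=
  (Finset.range (2 * n + 1)).biUnion fun k => (srFin (2 * k) (1 : F)) ×ˢ {(false, false)}

/-- The data allowed at exponent `i`. -/
noncomputable def signed (n i : ℕ) : Finset (F[X] × Bool × Bool) :=
  if Odd i then (Finset.range (2 * n + 1)).biUnion dat else plain n

/-- The factor of the bound. -/
noncomputable def fac (s : ℝ) (i : ℕ) : ℝ := (if Odd i then (1 + s ^ i) ^ 4 else 1) / (1 - (s ^ 2) ^ (i - 1))

section Sums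

variable {s : ℝ} (hs0 : 0 ≤ s) (hs : s ^ 2 * (Fintype.card F : ℝ) = 1) (h2 : (2 : F) ≠ 0)
include hs0 hs h2

theorem sq_lt_one : s ^ 2 < 1 := by
  have hq : (2 : ℝ) ≤ (Fintype.card F : ℝ) := by exact_mod_cast Fintype.one_lt_card (α := F)
  nlinarith [sq_nonneg s]

theorem sum_plain_le (n : ℕ) {i : ℕ} (hi : 2 ≤ i) :
    ∑ x ∈ plain (F := F) n, s ^ (i * x.1.natDegree) ≤ 1 / (1 - (s ^ 2) ^ (i - 1)) := by
  have hz : (s ^ 2) ^ (i - 1) < 1 := pow_lt_one₀ (sq_nonneg s) (sq_lt_one hs0 hs h2) (by omega)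
  rw [plain, Finset.sum_biUnion (fun a _ b _ hab => Finset.disjoint_left.2 fun x ha hb => hab (by
      have e1 := (mem_srFin.1 (Finset.mem_product.1 ha).1).1.2.1
      have e2 := (mem_srFin.1 (Finset.mem_product.1 hb).1).1.2.1
      omega))]
  refine le_trans (Finset.sum_le_sum (g := fun k => ((s ^ 2) ^ (i - 1)) ^ k) fun k _ => ?_) ?_
  · rw [Finset.sum_congr rfl (g := fun _ => s ^ (i * (2 * k))) (fun x hx => by
      rw [(mem_srFin.1 (Finset.mem_product.1 hx).1).1.2.1]), Finset.sum_const, nsmul_eq_mul, Finset.card_product,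
      Finset.card_singleton, mul_one]
    have hc : ((srFin (2 * k) (1 : F)).card : ℝ) ≤ (Fintype.card F : ℝ) ^ k := by
      have := card_srFin_one (F := F) h2 (2 * k)
      rw [show 2 * k / 2 = k by omega] at this
      exact_mod_cast this
    refine (mul_le_mul_of_nonneg_right hc (pow_nonneg hs0 _)).trans (le_of_eq ?_)
    rw [show i * (2 * k) = 2 * k + 2 * ((i - 1) * k) by
      obtain ⟨r, rfl⟩ : ∃ r, i = r + 1 := ⟨i - 1, by omega⟩
      rw [Nat.add_sub_cancel]; ring, pow_add, pow_mul, ← mul_assoc, ← mul_pow, mul_comm _ (s ^ 2), hs, one_pow, one_mul,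
      pow_mul, pow_mul]
  · rw [le_div_iff₀ (by linarith), geom_sum_mul_neg]
    have := pow_nonneg (pow_nonneg (sq_nonneg s) (i - 1)) (2 * n + 1)
    linarith

theorem sum_signed_le (n : ℕ) {i : ℕ} (hi : 2 ≤ i) :
    ∑ x ∈ signed (F := F) n i, s ^ (i * x.1.natDegree) ≤ fac s i := by
  rw [signed, fac]
  split_ifs with hodd
  swap
  · exact sum_plain_le hs0 hs h2 n hi
  have hz : (s ^ 2) ^ (i - 1) < 1 := pow_lt_one₀ (sq_nonneg s) (sq_lt_one hs0 hs h2) (by omega)
  have hx0 : 0 ≤ s ^ i := pow_nonneg hs0 i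
  have hxx : (Fintype.card F : ℝ) * (s ^ i) ^ 2 = (s ^ 2) ^ (i - 1) := by
    rw [← pow_mul, mul_comm i 2, pow_mul]
    conv_lhs => rw [show i = (i - 1) + 1 by omega, pow_succ]
    linear_combination ((s ^ 2) ^ (i - 1)) * hs
  rw [Finset.sum_biUnion (fun a _ b _ hab => Finset.disjoint_left.2 fun x ha hb =>
      hab ((natDegree_of_mem_dat ha).symm.trans (natDegree_of_mem_dat hb)))]
  have hG : 0 ≤ 1 / (1 - (s ^ 2) ^ (i - 1)) := div_nonneg zero_le_one (by linarith)
  have hb := sum_cv_real hx0 (sum_cv_real hx0 (sum_cv_real hx0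
    (sum_cv_real hx0 (sum_geo_real hx0 (Fintype.card F) (by rw [hxx]; exact hz))
    (by rw [hxx]; exact hG)) (by rw [hxx]; positivity)) (by rw [hxx]; positivity)) (by rw [hxx]; positivity) (2 * n + 1)
  rw [hxx] at hb
  refine le_trans ?_ (hb.trans (le_of_eq (by ring)))
  refine Finset.sum_le_sum fun D _ => ?_
  rw [Finset.sum_congr rfl (g := fun _ => (s ^ i) ^ D) (fun x hx => by
    rw [natDegree_of_mem_dat hx, pow_mul]), Finset.sum_const, nsmul_eq_mul]
  exact mul_le_mul_of_nonneg_right (by exact_mod_cast card_dat_le h2 D) (by positivity)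

theorem dat_le (hq : 3 ≤ Fintype.card F) (hs1 : s ≤ 578 / 1000) :
    ∀ D, ((dat (F := F) D).card : ℝ) * s ^ D ≤ 28 / 9 := by
  intro D
  have hq' : (3 : ℝ) ≤ (Fintype.card F : ℝ) := by exact_mod_cast hq
  refine le_trans (mul_le_mul_of_nonneg_right (by exact_mod_cast card_dat_le h2 D :
    ((dat (F := F) D).card : ℝ) ≤ (cv (cv (sb (Fintype.card F))) D : ℕ)) (pow_nonneg hs0 D)) ?_
  have hy : s ^ 2 ≤ 1 / 3 := by nlinarith [sq_nonneg s]
  have e2 : (Fintype.card F : ℝ) * (s * s) = 1 := by rw [← hs]; ring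
  induction D using Nat.strong_induction_on with
  | _ D ih =>
    match D with
    | 0 => norm_num [sb, cv, sh, geo]
    | 1 =>
      norm_num [sb, cv, sh, geo]
      nlinarith
    | 2 =>
      norm_num [sb, cv, sh, geo, Nat.even_iff]
      nlinarith
    | 3 =>
      norm_num [sb, cv, sh, geo, Nat.even_iff]
      nlinarith
    | 4 =>
      norm_num [sb, cv, sh, geo, Nat.even_iff]
      nlinarith
    | D + 5 =>
      have hg : ∀ m, geo (Fintype.card F) (m + 2) = Fintype.card F * geo (Fintype.card F) m := by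
        intro m
        simp only [geo, Nat.even_add_one, not_not, show m + 2 = m + 1 + 1 from rfl]
        split_ifs
        · rw [show (m + 1 + 1) / 2 = m / 2 + 1 by omega, pow_succ, mul_comm]
        · rw [mul_zero]
      have e : cv (cv (sb (Fintype.card F))) (D + 5) = Fintype.card F * cv (cv (sb (Fintype.card F))) (D + 3) := by
        simp only [sb, cv, sh]
        have := hg D
        have := hg (D + 1)
        have := hg (D + 2)
        have := hg (D + 3)
        have := hg (D + 4)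
        rcases D with _ | D
        · simp only [sh] at *
          simp only [geo, Nat.even_iff] at *
          norm_num
          ring
        · simp only [sh] at *
          rw [hg (D + 4), hg (D + 3), hg (D + 2), hg (D + 1), hg D]
          ring
      have h := ih (D + 3) (by omega)
      refine le_trans (le_of_eq ?_) h
      rw [e, Nat.cast_mul, show D + 5 = D + 3 + 2 from rfl, pow_add]
      linear_combination ((cv (cv (sb (Fintype.card F))) (D + 3) : ℕ) : ℝ) * s ^ (D + 3) * hs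

end Sums

/-- The factor of the final bound. -/
noncomputable def gg (c x : ℝ) : ℝ := (1 + c * x) ^ 4 / (1 - x)

theorem one_le_gg {c x : ℝ} (hc : 0 ≤ c) (h0 : 0 ≤ x) (h1 : x < 1) : 1 ≤ gg c x := by
  rw [gg, le_div_iff₀ (by linarith), one_mul]
  have : 1 ≤ (1 + c * x) ^ 4 := one_le_pow₀ (by nlinarith)
  linarith

theorem prod_gg_le {c C : ℝ} (hc : 0 ≤ c) (hc1 : c ≤ 578 / 1000)
    (hbase : ∏ m ∈ Finset.range 6, gg c ((1 / 3) ^ (m + 1)) ≤ C * (1 - 3 * (1 / 3) ^ 6)) (hC : 0 ≤ C) (N : ℕ) :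
    ∏ m ∈ Finset.range N, gg c ((1 / 3) ^ (m + 1)) ≤ C := by
  have hx : ∀ m : ℕ, (0 : ℝ) ≤ (1 / 3) ^ (m + 1) ∧ ((1 : ℝ) / 3) ^ (m + 1) < 1 := fun m =>
    ⟨by positivity, pow_lt_one₀ (by norm_num) (by norm_num) (by omega)⟩
  have key : ∀ k, ∏ m ∈ Finset.range (6 + k), gg c ((1 / 3) ^ (m + 1)) ≤ C * (1 - 3 * (1 / 3) ^ (6 + k)) := by
    intro k
    induction k with
    | zero => exact hbase
    | succ k ih =>
      rw [← add_assoc, Finset.prod_range_succ]
      obtain ⟨h0, h1⟩ := hx (6 + k)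
      refine (mul_le_mul_of_nonneg_right ih (zero_le_one.trans (one_le_gg hc h0 h1))).trans ?_
      obtain ⟨x, hxd⟩ : ∃ x : ℝ, x = (1 / 3) ^ (6 + k + 1) := ⟨_, rfl⟩
      have hxx : ((1 : ℝ) / 3) ^ (6 + k) = 3 * x := by rw [hxd, pow_succ]; ring
      rw [hxx, ← hxd, mul_assoc]
      refine mul_le_mul_of_nonneg_left ?_ hC
      rw [gg, ← mul_div_assoc, div_le_iff₀ (by rw [hxd]; linarith)]
      have hx1 : x ≤ 1 / 2187 := by
        rw [hxd]
        exact (pow_le_pow_of_le_one (by norm_num) (by norm_num) (show 7 ≤ 6 + k + 1 by omega)).trans (by norm_num)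
      have hx0 : 0 ≤ x := hxd ▸ h0
      have h4 : (1 + c * x) ^ 4 ≤ (1 + x) ^ 4 := pow_le_pow_left₀ (by positivity) (by nlinarith) 4
      have h5 : 0 ≤ 1 - 3 * (3 * x) := by linarith
      refine (mul_le_mul_of_nonneg_left h4 h5).trans ?_
      nlinarith [mul_nonneg hx0 hx0, mul_nonneg (mul_nonneg hx0 hx0) hx0, mul_nonneg (mul_nonneg hx0 hx0) (mul_nonneg hx0 hx0),
        mul_nonneg (mul_nonneg (mul_nonneg hx0 hx0) (mul_nonneg hx0 hx0)) hx0]
  refine le_trans ?_ ((key N).trans ?_)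
  · exact Finset.prod_le_prod_of_subset_of_one_le (Finset.range_mono (by omega))
      (fun m _ => zero_le_one.trans (one_le_gg hc (hx m).1 (hx m).2)) fun m _ _ => one_le_gg hc (hx m).1 (hx m).2
  · have : (0 : ℝ) ≤ (1 / 3) ^ (6 + N) := by positivity
    nlinarith

theorem prods_le {s : ℝ} (hs0 : 0 ≤ s) (hs1 : s ≤ 578 / 1000) (hy : s ^ 2 ≤ 1 / 3) (k : ℕ) :
    ∏ t : Fin (2 * k + 1), fac s ((t : ℕ) + 2) ≤ 27 / 5 ∧
      ∏ t : Fin (2 * k + 1), 1 / (1 - (s ^ 2) ^ ((t : ℕ) + 2 - 1)) ≤ 9 / 5 := by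
  have hp : ∀ m : ℕ, 0 ≤ (s ^ 2) ^ (m + 1) ∧ (s ^ 2) ^ (m + 1) ≤ (1 / 3) ^ (m + 1) ∧ ((1 : ℝ) / 3) ^ (m + 1) < 1 := fun m =>
    ⟨by positivity, pow_le_pow_left₀ (by positivity) hy _, pow_lt_one₀ (by norm_num) (by norm_num) (by omega)⟩
  have hg : ∀ (c : ℝ), 0 ≤ c → ∀ m, 1 / (1 - (s ^ 2) ^ (m + 1)) * (1 + c * (1 / 3) ^ (m + 1)) ^ 4 ≤
      gg c ((1 / 3) ^ (m + 1)) := fun c hc m => by
    obtain ⟨a1, a2, a3⟩ := hp m
    rw [gg, div_mul_eq_mul_div, one_mul]
    exact div_le_div_of_nonneg_left (by positivity) (by linarith) (by linarith)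
  have he : ∀ k, ∏ t ∈ Finset.range (2 * k + 1), fac s (t + 2) =
      (∏ m ∈ Finset.range k, (1 + s ^ (2 * m + 3)) ^ 4) / ∏ m ∈ Finset.range (2 * k + 1), (1 - (s ^ 2) ^ (m + 1)) := by
    intro k
    induction k with
    | zero => simp [fac, Nat.odd_iff]
    | succ k ih =>
      rw [show 2 * (k + 1) + 1 = 2 * k + 1 + 1 + 1 by ring, Finset.prod_range_succ, Finset.prod_range_succ, ih,
        Finset.prod_range_succ (n := k), Finset.prod_range_succ (n := 2 * k + 1 + 1),
        Finset.prod_range_succ (n := 2 * k + 1)]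
      simp only [fac]
      rw [if_pos ⟨k + 1, by ring⟩, if_neg (by rw [Nat.not_odd_iff_even]; exact ⟨k + 2, by ring⟩),
        show (2 * k + 1 + 2 : ℕ) - 1 = 2 * k + 1 + 1 by omega, show (2 * k + 1 + 1 + 2 : ℕ) - 1 = 2 * k + 1 + 1 + 1 by omega]
      field_simp
  refine ⟨?_, ?_⟩
  · rw [Fin.prod_univ_eq_prod_range (fun t => fac s (t + 2)), he]
    refine le_trans ?_ (prod_gg_le (c := 578 / 1000) (by norm_num) le_rfl (by norm_num [Finset.prod_range_succ, gg])
      (by norm_num) (2 * k + 1))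
    have h1 : ∏ m ∈ Finset.range k, (1 + s ^ (2 * m + 3)) ^ 4 ≤
        ∏ m ∈ Finset.range (2 * k + 1), (1 + 578 / 1000 * (1 / 3 : ℝ) ^ (m + 1)) ^ 4 := by
      refine le_trans (Finset.prod_le_prod (fun m _ => by positivity) fun m _ => ?_)
        (Finset.prod_le_prod_of_subset_of_one_le (Finset.range_mono (by omega)) (fun m _ => by positivity)
          fun m _ _ => one_le_pow₀ (by have := (hp m).1; have : (0 : ℝ) ≤ (1 / 3) ^ (m + 1) := by positivity
                                       linarith))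
      refine pow_le_pow_left₀ (by positivity) ?_ 4
      rw [show 2 * m + 3 = 1 + 2 * (m + 1) by ring, pow_add, pow_one, pow_mul]
      have := mul_le_mul hs1 (hp m).2.1 (hp m).1 (by norm_num)
      linarith
    refine (div_le_div_of_nonneg_right h1 (Finset.prod_nonneg fun m _ => by linarith [(hp m).2.1, (hp m).2.2])).trans ?_
    rw [← Finset.prod_div_distrib]
    refine Finset.prod_le_prod (fun m _ => div_nonneg (by positivity) (by linarith [(hp m).2.1, (hp m).2.2])) fun m _ => ?_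
    have := hg (578 / 1000) (by norm_num) m
    rwa [div_mul_eq_mul_div, one_mul] at this
  · rw [Fin.prod_univ_eq_prod_range (fun t => 1 / (1 - (s ^ 2) ^ (t + 2 - 1)))]
    refine le_trans (Finset.prod_le_prod (fun m _ => ?_) fun m _ => ?_) (prod_gg_le (c := 0) le_rfl (by norm_num)
      (by norm_num [Finset.prod_range_succ, gg]) (by norm_num) (2 * k + 1))
    · rw [show m + 2 - 1 = m + 1 by omega]
      exact div_nonneg zero_le_one (by linarith [(hp m).2.1, (hp m).2.2])
    · rw [show m + 2 - 1 = m + 1 by omega]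
      simpa using hg 0 le_rfl m

end Cfsg.Agent.Lib.Similar.OCount
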