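import Mathlib
import Cfsg.Agent.Lib.Similar.SignedClasses

/-!
Symmetric forms compatible with a nilpotent Jordan matrix.
-/

set_option autoImplicit false
set_option linter.unusedSectionVars false

namespace Cfsg.Agent.Lib.Similar.Signed

open Matrix
open Cfsg.Agent.S2581 (nil toMat exists_toMat det_toMat_ne_zero_iff mul_nil_succ mul_nil_last)
open Cfsg.Agent.Lib.Similar.UnipU (Idx Comm ld sec supp diag_shift ld_toMat ld_sec comm_mul)

variable {F : Type*} [Field F] [Fintype F] {t : ℕ} {d : Fin t → ℕ}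

/-- The symmetric invertible compatible forms. -/
def GoodS (M : Matrix (Idx d) (Idx d) F) : Prop := Mᵀ = M ∧ M.det ≠ 0 ∧ SkewN M

theorem goodS_congr {M g : Matrix (Idx d) (Idx d) F} (hM : GoodS M) (hg : Comm g) (hdet : g.det ≠ 0) :
    GoodS (gᵀ * M * g) := by
  refine ⟨?_, ?_, skewN_congr hM.2.2 hg⟩
  · rw [transpose_mul, transpose_mul, transpose_transpose, hM.1, mul_assoc]
  · rw [det_mul, det_mul, det_transpose]
    exact mul_ne_zero (mul_ne_zero hdet hM.2.1) hdet

theorem lead_symm_sym {M : Matrix (Idx d) (Idx d) F} (hM : SkewN M) (hS : Mᵀ = M) (j : ℕ) :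
    (lead j M)ᵀ = (-1 : F) ^ (j - 1) • lead j M := by
  have h := lead_transpose hM j
  rw [hS] at h
  conv_rhs => rw [h, smul_smul, ← mul_pow, neg_one_mul, neg_neg, one_pow, one_smul]

theorem sym_congr_of_lead_eq {p : ℕ} [Fact p.Prime] [CharP F p] (hp : p ≠ 2) (hd : ∀ k, 1 ≤ d k)
    {M M₂ : Matrix (Idx d) (Idx d) F} (hM : GoodS M) (hM₂ : GoodS M₂) (h : ∀ j, lead j M = lead j M₂) :
    ∃ g, Comm g ∧ g.det ≠ 0 ∧ gᵀ * M * g = M₂ := by
  classical
  obtain ⟨hA, hdet, hN⟩ := hM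
  obtain ⟨hA₂, hdet₂, hN₂⟩ := hM₂
  have hu : IsUnit M.det := hdet.isUnit
  obtain ⟨r, hr⟩ : ∃ r, r = M⁻¹ * (M₂ - M) := ⟨_, rfl⟩
  have hMr : M * r = M₂ - M := by rw [hr, ← mul_assoc, mul_nonsing_inv _ hu, one_mul]
  have hcomm : Comm r := by
    have : M * (nil F d * r) = M * (r * nil F d) := by
      have e1 : M * nil F d = -((nil F d)ᵀ * M) := by rw [hN, neg_neg]
      have e2 : M₂ * nil F d = -((nil F d)ᵀ * M₂) := by rw [hN₂, neg_neg]
      rw [← mul_assoc, e1, neg_mul, mul_assoc, hMr, ← mul_assoc M, hMr, sub_mul, e1, e2, mul_sub]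
      abel
    have h2 := congrArg (M⁻¹ * ·) this
    simp only [← mul_assoc (M⁻¹) M, nonsing_inv_mul _ hu, one_mul] at h2
    exact h2
  have hrT : rᵀ * M = M₂ - M := by
    have e := congrArg Matrix.transpose hMr
    rw [transpose_mul, transpose_sub, hA, hA₂] at e
    exact e
  have hld : ∀ j, ld hd j r = 0 := by
    intro j
    have e : lead j (M * r) = 0 := by
      rw [hMr]
      ext k l
      show ent (M₂ - M) k.1 l.1 (j - 1) 0 = 0
      have e := congrFun (congrFun (h j) k) l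
      change ent M k.1 l.1 (j - 1) 0 = ent M₂ k.1 l.1 (j - 1) 0 at e
      rw [ent] at e ⊢
      rw [ent] at e
      split_ifs with hh
      · rw [dif_pos hh, dif_pos hh] at e
        rw [Matrix.sub_apply, e, sub_self]
      · rfl
    rw [lead_mul hd hN hcomm] at e
    have hju : IsUnit (lead j M).det := (lead_det hd hN hdet j).isUnit
    calc ld hd j r = (lead j M)⁻¹ * (lead j M * ld hd j r) := by rw [← mul_assoc, nonsing_inv_mul _ hju, one_mul]
      _ = 0 := by rw [e, mul_zero]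
  obtain ⟨n, hn⟩ := isNilpotent_of_ld_zero hd hcomm hld
  obtain ⟨e, he⟩ : ∃ e, n ≤ p ^ e := ⟨n, (Nat.lt_pow_self (Fact.out : p.Prime).one_lt).le⟩
  obtain ⟨c, hc⟩ : ∃ c, p ^ e + 1 = 2 * c :=
    even_iff_two_dvd.1 (((Fact.out : p.Prime).odd_of_ne_two hp).pow.add_odd odd_one)
  have hone : (1 + r) ^ (p ^ e) = 1 := by
    rcases isEmpty_or_nonempty (Idx d) with hemp | hne
    · exact Subsingleton.elim _ _
    · rw [add_pow_char_pow_of_commute p e (Commute.one_left r), one_pow, pow_eq_zero_of_le he hn, add_zero]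
  refine ⟨(1 + r) ^ c, ?_, ?_, ?_⟩
  · exact ((Commute.one_right (nil F d)).add_right (show Commute (nil F d) r from hcomm)).pow_right c
  · intro h0
    have h3 : ((1 + r) ^ c * (1 + r) ^ c).det = (1 + r).det := by
      rw [← pow_add, show c + c = p ^ e + 1 by omega, pow_succ, hone, one_mul]
    rw [det_mul, h0, zero_mul] at h3
    have h4 := congrArg det hone
    rw [det_pow, ← h3, det_one, zero_pow (pow_ne_zero e (Fact.out : p.Prime).ne_zero)] at h4
    exact zero_ne_one h4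
  · have hS : SemiconjBy M (1 + r) (1 + r)ᵀ := by
      show M * (1 + r) = (1 + r)ᵀ * M
      rw [transpose_add, transpose_one, add_mul, mul_add, one_mul, mul_one, hMr, hrT]
    rw [transpose_pow, ← (hS.pow_right c).eq, mul_assoc, ← pow_add, show c + c = p ^ e + 1 by omega,
      pow_succ, hone, one_mul, mul_add, mul_one, hMr]
    abel

/-- Compatible forms with congruent leading forms are congruent by the commutant. -/
theorem sym_congr_of_lead_congr {p : ℕ} [Fact p.Prime] [CharP F p] (hp : p ≠ 2) (hd : ∀ k, 1 ≤ d k)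
    {M M₂ : Matrix (Idx d) (Idx d) F} (hM : GoodS M) (hM₂ : GoodS M₂)
    (h : ∀ j, ∃ H : Matrix {k // d k = j} {k // d k = j} F, Hᵀ * lead j M * H = lead j M₂) :
    ∃ g, Comm g ∧ g.det ≠ 0 ∧ gᵀ * M * g = M₂ := by
  classical
  choose H hH using h
  have hc : Comm (sec (K := F) H) := comm_sec hd H
  have hdet : (sec (K := F) H).det ≠ 0 := det_ne_zero_of_ld hd hc fun j => by
    rw [ld_sec]
    intro e
    have := congrArg det (hH j)
    rw [det_mul, det_mul, det_transpose, e, zero_mul, zero_mul] at this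
    exact lead_det hd hM₂.2.2 hM₂.2.1 j this.symm
  obtain ⟨g, hg, hgd, hge⟩ := sym_congr_of_lead_eq hp hd (goodS_congr hM hc hdet) hM₂ fun j => by
    rw [lead_congr hd hM.2.2 hc, ld_sec, hH]
  exact ⟨sec H * g, comm_mul hc hg, by rw [det_mul]; exact mul_ne_zero hdet hgd, by
    rw [← hge, transpose_mul]; simp only [mul_assoc]⟩

theorem sq_of_two (h2 : (2 : F) ≠ 0) {a b : F} (ha : a ≠ 0) (hb : b ≠ 0) :
    IsSquare (a * b) ↔ (IsSquare a ↔ IsSquare b) := by
  by_cases hs : IsSquare a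
  · refine ⟨fun h => ⟨fun _ => ?_, fun _ => hs⟩, fun h => hs.mul (h.1 hs)⟩
    have := h.mul (IsSquare.inv hs)
    rwa [mul_comm a b, mul_assoc, mul_inv_cancel₀ ha, mul_one] at this
  · refine ⟨fun h => ⟨fun e => absurd e hs, fun e => absurd ?_ hs⟩, fun h => ?_⟩
    · have := h.mul (IsSquare.inv e)
      rwa [mul_assoc, mul_inv_cancel₀ hb, mul_one] at this
    · exact Cfsg.Agent.Lib.Geometry.isSquare_mul_iff_of_not_isSquare hs (fun e => hs (h.2 e))

open Cfsg.Agent.S2581 (Coord)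

/-- The square class of the determinant of a commuting matrix with one exceptional block size. -/
theorem sq_det_comm (hd : ∀ k, 1 ≤ d k) {A : Matrix (Idx d) (Idx d) F} (hA : Comm A) (hA0 : A.det ≠ 0) (j0 : ℕ)
    (hj0 : j0 = 0 ∨ Odd j0) (h : ∀ D, D ≠ j0 → IsSquare (ld hd D A).det) :
    IsSquare A.det ↔ IsSquare (ld hd j0 A).det := by
  classical
  obtain ⟨f, rfl⟩ := exists_toMat hd hA
  obtain ⟨M, hM⟩ : ∃ M, ∀ k, d k ≤ M := ⟨Finset.univ.sup d, fun k => Finset.le_sup (Finset.mem_univ k)⟩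
  let b : Idx d → ℕ := fun x => (x.2 : ℕ) * (M + 1) + (M - d x.1)
  have hb : ∀ x y, b x = b y → (x.2 : ℕ) = y.2 ∧ d x.1 = d y.1 := by
    intro x y e
    have h1 := congrArg (· % (M + 1)) e
    have h2 := hM x.1; have h3 := hM y.1
    simp only [b, Nat.mul_add_mod_self_right] at h1
    rw [Nat.mod_eq_of_lt (by omega), Nat.mod_eq_of_lt (by omega)] at h1
    refine ⟨Nat.eq_of_mul_eq_mul_right (show 0 < M + 1 by omega) ?_, by omega⟩
    simp only [b, h1] at e
    omega
  have htri : BlockTriangular (toMat f)ᵀ b := by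
    intro y x hxy
    rw [transpose_apply, toMat, of_apply, dif_neg]
    rintro ⟨h1, h2⟩
    rcases Nat.lt_or_ge (y.2 : ℕ) x.2 with hlt | hge
    · have := Nat.mul_le_mul_right (M + 1) hlt
      rw [Nat.succ_mul] at this
      simp only [b] at hxy
      omega
    · have he : (x.2 : ℕ) = y.2 := by omega
      simp only [b, he] at hxy
      omega
  have hblock : ∀ z : Idx d, ((toMat f)ᵀ.toSquareBlock b (b z)).det = (ld hd (d z.1) (toMat f)).det := by
    intro z
    let e : {k // d k = d z.1} ≃ {x // b x = b z} :=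
      { toFun := fun k => ⟨⟨k.1, ⟨z.2, by rw [k.2]; exact z.2.2⟩⟩, by simp [b, k.2]⟩
        invFun := fun x => ⟨x.1.1, (hb _ _ x.2).2⟩
        left_inv := fun k => rfl
        right_inv := fun x => Subtype.ext (by
          obtain ⟨⟨k, i⟩, hx⟩ := x
          exact congrArg (Sigma.mk k) (Fin.ext (hb _ _ hx).1.symm)) }
    rw [← det_submatrix_equiv_self e, ← det_transpose (ld hd (d z.1) (toMat f))]
    congr 1
    ext k l
    show toMat f ⟨l.1, ⟨z.2, _⟩⟩ ⟨k.1, ⟨z.2, _⟩⟩ = ld hd (d z.1) (toMat f) l k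
    rw [ld_toMat, toMat, of_apply, dif_pos ⟨le_rfl, by simp [k.2, l.2]⟩]
    simp
  have hne : ∀ a ∈ Finset.univ.image b, ((toMat f)ᵀ.toSquareBlock b a).det ≠ 0 := by
    rw [← Finset.prod_ne_zero_iff, ← htri.det, det_transpose]
    exact hA0
  rw [← det_transpose, htri.det]
  obtain ⟨S, hS⟩ : ∃ S, S = (Finset.univ.filter fun z : Idx d => d z.1 = j0).image b := ⟨_, rfl⟩
  have hsub : S ⊆ Finset.univ.image b := hS ▸ Finset.image_subset_image (Finset.filter_subset _ _)
  rw [← Finset.prod_sdiff hsub]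
  have hsq : IsSquare (∏ a ∈ Finset.univ.image b \ S, ((toMat f)ᵀ.toSquareBlock b a).det) := by
    refine Finset.isSquare_prod _ fun a ha => ?_
    obtain ⟨ha1, ha2⟩ := Finset.mem_sdiff.1 ha
    obtain ⟨z, -, rfl⟩ := Finset.mem_image.1 ha1
    rw [hblock]
    refine h _ fun e => ha2 ?_
    rw [hS]
    exact Finset.mem_image_of_mem b (Finset.mem_filter.2 ⟨Finset.mem_univ _, e⟩)
  have hconst : ∀ a ∈ S, ((toMat f)ᵀ.toSquareBlock b a).det = (ld hd j0 (toMat f)).det := by
    intro a ha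
    rw [hS] at ha
    obtain ⟨z, hz, rfl⟩ := Finset.mem_image.1 ha
    rw [hblock, (Finset.mem_filter.1 hz).2]
  rw [Finset.prod_congr rfl hconst, Finset.prod_const]
  have hu : ∀ {x y : F}, IsSquare x → x ≠ 0 → (IsSquare (x * y) ↔ IsSquare y) := fun {x y} hx hx0 =>
    ⟨fun e => by simpa [← mul_assoc, inv_mul_cancel₀ hx0] using (IsSquare.inv hx).mul e, fun e => hx.mul e⟩
  rw [hu hsq (Finset.prod_ne_zero_iff.2 fun a ha => hne a (Finset.mem_sdiff.1 ha).1)]
  by_cases hk : ∃ k, d k = j0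
  · obtain ⟨k, hk⟩ := hk
    have hodd : Odd j0 := hj0.resolve_left (by have := hd k; omega)
    have hcard : S.card = j0 := by
      have : S = (Finset.univ : Finset (Fin j0)).image fun i : Fin j0 => b ⟨k, ⟨i, hk.symm ▸ i.2⟩⟩ := by
        rw [hS]
        ext a
        simp only [Finset.mem_image, Finset.mem_filter, Finset.mem_univ, true_and]
        constructor
        · rintro ⟨z, hz, rfl⟩
          exact ⟨⟨z.2, hz ▸ z.2.2⟩, by simp [b, hz, hk]⟩
        · rintro ⟨i, rfl⟩
          exact ⟨_, hk, rfl⟩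
      rw [this, Finset.card_image_of_injective, Finset.card_fin]
      intro i i' e
      exact Fin.ext (hb _ _ e).1
    rw [hcard]
    obtain ⟨r, rfl⟩ := hodd
    have h0 : (ld hd (2 * r + 1) (toMat f)).det ≠ 0 := by
      intro e
      have hmem : b ⟨k, ⟨0, hd k⟩⟩ ∈ Finset.univ.image b := Finset.mem_image_of_mem b (Finset.mem_univ _)
      exact hne _ hmem (by rw [hblock, hk, e])
    rw [pow_succ, hu ⟨_, by rw [two_mul, pow_add]⟩ (pow_ne_zero _ h0)]
  · haveI : IsEmpty {k // d k = j0} := ⟨fun k => hk ⟨k.1, k.2⟩⟩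
    rw [det_isEmpty, one_pow]

end Cfsg.Agent.Lib.Similar.Signed
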