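import Mathlib
import Cfsg.Agent.Lib.Similar.SympChains
import Cfsg.Agent.Lib.Similar.SignedClasses

/-!
Similar symplectic matrices with equal signs are conjugate.
-/

set_option autoImplicit false
set_option linter.unusedSectionVars false

open scoped Classical

namespace Cfsg.Agent.Lib.Similar.SpClass

open Matrix
open Polynomial (aeval)
open Cfsg.Agent.Lib.Similar.Symp
open Cfsg.Agent.S2581 (nil)
open Cfsg.Agent.Lib.Similar.UnipU (Idx)
open Cfsg.Agent.Lib.Similar.Signed (Good SkewN lead)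

variable {l : Type*} [Fintype l] [DecidableEq l] {K : Type*} [Field K] [Fintype K]

local notation "M2" => Matrix (l ⊕ l) (l ⊕ l) K

/-- A form commuting with `a`. -/
structure Form (a X : M2) : Prop where
  symm : sadj X = X
  unit : IsUnit X
  comm : X * a = a * X

theorem Form.commute {a X : M2} (h : Form a X) (f : Polynomial K) : Commute (aeval a f) X :=
  (Algebra.commute_of_mem_adjoin_singleton_of_commute (Polynomial.aeval_mem_adjoin_singleton K a) h.comm).symm

/-- The part without self-inverse eigenvalues. -/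
theorem exists_free_piece {a X e3 : M2} (ha : sadj a * a = 1) (hX : Form a X) (h33 : e3 * e3 = e3)
    (hs3 : sadj e3 = e3) (he3 : ∃ p : Polynomial K, aeval a p = e3) {w : Polynomial K} (he3w : e3 = (a - sadj a) * aeval a w) :
    ∃ Y : M2, sadj Y * Y = X * e3 ∧ e3 * Y = Y ∧ Y * e3 = Y ∧ Y * a = a * Y := by
  classical
  have ha2 : a * sadj a = 1 := mul_eq_one_comm.1 ha
  have hXa := hX.comm
  have hXu := hX.unit
  have hXs := hX.symm
  have hgen : ∀ u ∈ ({a, sadj a, X} : Set M2), ∀ v ∈ ({a, sadj a, X} : Set M2), u * v = v * u := by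
    have hXai : X * sadj a = sadj a * X := by
      calc X * sadj a = sadj a * (a * X) * sadj a := by rw [← mul_assoc (sadj a), ha, one_mul]
        _ = sadj a * X := by rw [← hXa, mul_assoc, mul_assoc, ha2, mul_one]
    intro u hu v hv
    simp only [Set.mem_insert_iff, Set.mem_singleton_iff] at hu hv
    rcases hu with rfl | rfl | rfl <;> rcases hv with rfl | rfl | rfl <;>
      first | rfl | exact ha2.trans ha.symm | exact ha.trans ha2.symm | exact hXa | exact hXa.symm | exact hXai | exact hXai.symm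
  let _ : CommRing (Algebra.adjoin K ({a, sadj a, X} : Set M2)) := Algebra.adjoinCommRingOfComm K hgen
  have hclosed : ∀ Y ∈ Algebra.adjoin K ({a, sadj a, X} : Set M2), sadj Y ∈ Algebra.adjoin K ({a, sadj a, X} : Set M2) := by
    intro Y hY
    induction hY using Algebra.adjoin_induction with
    | mem z hz =>
      simp only [Set.mem_insert_iff, Set.mem_singleton_iff] at hz
      rcases hz with rfl | rfl | rfl
      · exact Algebra.subset_adjoin (by simp)
      · rw [sadj_sadj]; exact Algebra.subset_adjoin (by simp)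
      · rw [hXs]; exact Algebra.subset_adjoin (by simp)
    | algebraMap c => rw [sadj_algebraMap]; exact Subalgebra.algebraMap_mem _ c
    | add x y _ _ hx hy => rw [sadj_add]; exact add_mem hx hy
    | mul x y _ _ hx hy => rw [sadj_mul]; exact mul_mem hy hx
  have haS : a ∈ Algebra.adjoin K ({a, sadj a, X} : Set M2) := Algebra.subset_adjoin (by simp)
  have hpS : ∀ f : Polynomial K, aeval a f ∈ Algebra.adjoin K ({a, sadj a, X} : Set M2) := fun f =>
    Algebra.adjoin_mono (by simp) (Polynomial.aeval_mem_adjoin_singleton K a)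
  let τ : Algebra.adjoin K ({a, sadj a, X} : Set M2) →+* Algebra.adjoin K ({a, sadj a, X} : Set M2) :=
    { toFun := fun Y => ⟨sadj Y.1, hclosed _ Y.2⟩
      map_one' := Subtype.ext sadj_one
      map_mul' := fun u v => by
        rw [mul_comm (⟨sadj u.1, _⟩ : Algebra.adjoin K ({a, sadj a, X} : Set M2))]
        exact Subtype.ext (sadj_mul _ _)
      map_zero' := Subtype.ext (by show sadj (0 : M2) = 0; simp [sadj])
      map_add' := fun u v => Subtype.ext (sadj_add _ _) }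
  let t : Algebra.adjoin K ({a, sadj a, X} : Set M2) := ⟨e3, he3.choose_spec ▸ hpS _⟩
  have ht : τ t = t := Subtype.ext hs3
  let I : Ideal (Algebra.adjoin K ({a, sadj a, X} : Set M2)) := Ideal.span {1 - t}
  have hI : I ≤ I.comap τ := by
    rw [Ideal.span_le]
    rintro _ rfl
    rw [SetLike.mem_coe, Ideal.mem_comap, map_sub, map_one, ht]
    exact Ideal.subset_span rfl
  let xS : Algebra.adjoin K ({a, sadj a, X} : Set M2) := ⟨X, Algebra.subset_adjoin (by simp)⟩
  have hxu : IsUnit xS := by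
    have hinj : Function.Injective fun Y => xS * Y := fun Y Z h =>
      Subtype.ext (hXu.mul_left_cancel (congrArg Subtype.val h))
    obtain ⟨Y, hY⟩ := Finite.injective_iff_surjective.1 hinj 1
    exact IsUnit.of_mul_eq_one _ hY
  have : Finite ((Algebra.adjoin K ({a, sadj a, X} : Set M2)) ⧸ I) := Finite.of_surjective _ Ideal.Quotient.mk_surjective
  obtain ⟨y, hy⟩ := InvolNorm.exists_mul_tau (Ideal.quotientMap I τ hI)
    (fun z => by
      obtain ⟨z, rfl⟩ := Ideal.Quotient.mk_surjective z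
      rw [Ideal.quotientMap_mk, Ideal.quotientMap_mk]
      exact congrArg _ (Subtype.ext (sadj_sadj _)))
    ⟨Ideal.Quotient.mk I ⟨a, haS⟩, by
      rw [Ideal.quotientMap_mk, ← map_sub]
      refine IsUnit.of_mul_eq_one (Ideal.Quotient.mk I ⟨aeval a w, hpS _⟩) ?_
      rw [← map_mul, ← map_one (Ideal.Quotient.mk I), Ideal.Quotient.eq, Ideal.mem_span_singleton]
      refine ⟨-1, Subtype.ext ?_⟩
      show (a - sadj a) * aeval a w - 1 = (1 - e3) * -1
      rw [← he3w, mul_neg_one, neg_sub]⟩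
    (Ideal.Quotient.mk I xS) (hxu.map _) (by rw [Ideal.quotientMap_mk]; exact congrArg _ (Subtype.ext hXs))
  obtain ⟨y, rfl⟩ := Ideal.Quotient.mk_surjective y
  rw [Ideal.quotientMap_mk, ← map_mul, Ideal.Quotient.eq, Ideal.mem_span_singleton] at hy
  obtain ⟨k, hk⟩ := hy
  have htt : t * t = t := Subtype.ext h33
  obtain ⟨Y3, hY3⟩ : ∃ Y3, Y3 = (y * t : Algebra.adjoin K ({a, sadj a, X} : Set M2)) := ⟨_, rfl⟩
  have y31 : sadj Y3.1 * Y3.1 = X * e3 := congrArg Subtype.val (show τ Y3 * Y3 = xS * t by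
    rw [hY3, map_mul, ht]
    linear_combination t * hk + (y * τ y - k) * htt)
  have y32 : e3 * Y3.1 = Y3.1 := congrArg Subtype.val (show t * Y3 = Y3 by rw [hY3, mul_comm y t, ← mul_assoc, htt])
  have y33 : Y3.1 * e3 = Y3.1 := congrArg Subtype.val (show Y3 * t = Y3 by rw [hY3, mul_assoc, htt])
  have y3a : Y3.1 * a = a * Y3.1 := congrArg Subtype.val (mul_comm Y3 ⟨a, haS⟩)
  exact ⟨Y3.1, y31, y32, y33, y3a⟩

theorem Chain.commute {a : M2} {ε : K} (C : Chain a ε) {X : M2} (hX : Form a X) :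
    C.e * X = X * C.e ∧ C.N * X = X * C.N := by
  obtain ⟨⟨p, hp⟩, ⟨q, hq⟩⟩ := And.intro C.e_poly C.N_poly
  exact ⟨hp ▸ (hX.commute p).eq, hq ▸ (hX.commute q).eq⟩

theorem good {a : M2} {ε : K} (C : Chain a ε) {X : M2} (hX : Form a X) : Good (C.Pᵀ * (J l K * X) * C.P) := by
  obtain ⟨he, hN⟩ := C.commute hX
  have hA : (J l K * X)ᵀ = -(J l K * X) := by
    conv_rhs => rw [← hX.symm, J_mul_sadj]
    rw [transpose_mul, J_transpose, mul_neg]
  refine ⟨?_, ?_, ?_⟩
  · rw [transpose_mul, transpose_mul, transpose_transpose, hA, Matrix.neg_mul, Matrix.mul_neg, Matrix.mul_assoc C.Pᵀ]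
  · obtain ⟨V, hV⟩ := hX.unit
    intro h0
    have e : (C.Pᵀ * (J l K * X) * C.P) * (C.Q * (((V⁻¹ : GL (l ⊕ l) K) : M2) * -J l K) * C.Qᵀ) = 1 := by
      calc (C.Pᵀ * (J l K * X) * C.P) * (C.Q * (((V⁻¹ : GL (l ⊕ l) K) : M2) * -J l K) * C.Qᵀ)
          = C.Pᵀ * (J l K * (X * (C.P * C.Q)) * ((V⁻¹ : GL (l ⊕ l) K) : M2) * -J l K) * C.Qᵀ := by
            simp only [Matrix.mul_assoc]
        _ = C.Pᵀ * (C.eᵀ * J l K * -J l K) * C.Qᵀ := by
            rw [C.PQ, ← he, mul_assoc (J l K) (C.e * X), mul_assoc C.e, ← hV, Units.mul_inv, mul_one,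
              ← J_mul_sadj, C.self]
        _ = (C.Q * C.e * C.P)ᵀ := by
            rw [mul_assoc C.eᵀ, mul_neg, J_squared, neg_neg, mul_one, transpose_mul, transpose_mul]
            simp only [Matrix.mul_assoc]
        _ = 1 := by
            rw [← C.PQ, ← Matrix.mul_assoc C.Q, C.QP, Matrix.one_mul, C.QP, transpose_one]
    have := congrArg det e
    rw [det_mul, h0, zero_mul, det_one] at this
    exact zero_ne_one this
  · rw [SkewN]
    calc (nil K C.d)ᵀ * (C.Pᵀ * (J l K * X) * C.P) = (C.P * nil K C.d)ᵀ * (J l K * X) * C.P := by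
          rw [transpose_mul]; simp only [Matrix.mul_assoc]
      _ = C.Pᵀ * (C.Nᵀ * J l K * X) * C.P := by
          rw [← C.shift, transpose_mul]; simp only [Matrix.mul_assoc]
      _ = -(C.Pᵀ * (J l K * X) * (C.N * C.P)) := by
          rw [← J_mul_sadj, C.N_skew, mul_neg, neg_mul, mul_assoc (J l K) C.N, hN]
          simp only [Matrix.mul_neg, Matrix.neg_mul, Matrix.mul_assoc]
      _ = -(C.Pᵀ * (J l K * X) * C.P * nil K C.d) := by rw [C.shift, ← Matrix.mul_assoc]

theorem even_count {a : M2} (ha : sadj a * a = 1) {ε : K} (hε : ε * ε = 1) (h2 : (2 : K) ≠ 0) {j : ℕ} (hj : Odd j) :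
    Even ((matInv a).count (Polynomial.X - Polynomial.C ε, j)) := by
  classical
  obtain ⟨C⟩ := nonempty_chain ha hε h2
  have hG := good C (X := 1) ⟨sadj_one, isUnit_one, by rw [one_mul, mul_one]⟩
  have hA := Signed.lead_symm C.hd hG.2.2 hG.1 j
  rw [hj.neg_one_pow, neg_one_smul] at hA
  obtain ⟨r, b, hb⟩ := Signed.exists_std_basis h2 hA (Signed.lead_det C.hd hG.2.2 hG.2.1 j)
  have hc := Module.finrank_eq_card_basis b
  rw [Module.finrank_fintype_fun_eq_card] at hc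
  rw [show matInv a = (nonempty_decomp (toEnd a)).some.inv from rfl, count_inv, ← C.count, hc]
  simp

/-- Transporting forms on the chains of one eigenvalue. -/
theorem exists_chain_piece {p : ℕ} [Fact p.Prime] [CharP K p] (hp : p ≠ 2) {a : M2} {ε : K} (C : Chain a ε)
    {X X' : M2} (hX : Form a X) (hX' : Form a X')
    (hs : ∀ j, 1 ≤ j → Even j → (∃ k, C.d k = j) →
      (IsSquare (lead j (C.Pᵀ * (J l K * X) * C.P)).det ↔ IsSquare (lead j (C.Pᵀ * (J l K * X') * C.P)).det)) :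
    ∃ Z : M2, C.e * Z = Z ∧ Z * C.e = Z ∧ Z * a = a * Z ∧ sadj Z * X * Z = X' * C.e := by
  classical
  have h2 : (2 : K) ≠ 0 := Signed.two_ne_zero_of_char hp
  have hM := good C hX
  have hM' := good C hX'
  obtain ⟨g, hg, -, hge⟩ := Signed.congr_of_lead_congr hp C.hd hM hM' fun j => by
    rcases isEmpty_or_nonempty {k // C.d k = j} with hE | ⟨⟨k, hk⟩⟩
    · exact ⟨1, Subsingleton.elim _ _⟩
    have h1 := Signed.lead_symm C.hd hM.2.2 hM.1 j
    have h1' := Signed.lead_symm C.hd hM'.2.2 hM'.1 j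
    rcases Nat.even_or_odd j with hj | hj
    · rw [hj.neg_one_pow, one_smul] at h1 h1'
      exact Signed.sym_congr h2 h1 h1' (Signed.lead_det C.hd hM.2.2 hM.2.1 j)
        (Signed.lead_det C.hd hM'.2.2 hM'.2.1 j) (hs j (hk ▸ C.hd k) hj ⟨k, hk⟩)
    · rw [hj.neg_one_pow, neg_one_smul] at h1 h1'
      obtain ⟨H, _, -, -, hH⟩ := Signed.alt_congr h2 h1' (Signed.lead_det C.hd hM'.2.2 hM'.2.1 j) h1
        (Signed.lead_det C.hd hM.2.2 hM.2.1 j) rfl
      exact ⟨H, hH⟩
  obtain ⟨Z, hZ⟩ : ∃ Z, Z = C.P * g * C.Q := ⟨_, rfl⟩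
  have hZ1 : C.e * Z = Z := by
    rw [hZ, ← C.PQ]
    simp only [Matrix.mul_assoc]
    rw [← Matrix.mul_assoc C.Q C.P, C.QP, Matrix.one_mul]
  have hZ2 : Z * C.e = Z := by
    rw [hZ, ← C.PQ]
    simp only [Matrix.mul_assoc]
    rw [← Matrix.mul_assoc C.Q C.P, C.QP, Matrix.one_mul]
  have hQN : nil K C.d * C.Q = C.Q * C.N := by
    obtain ⟨⟨u, hu⟩, ⟨v, hv⟩⟩ := And.intro C.e_poly C.N_poly
    have hc : Commute C.e C.N := hu ▸ hv ▸ (Commute.all u v).map _
    calc nil K C.d * C.Q = C.Q * (C.N * C.e) := by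
          rw [← C.PQ, ← Matrix.mul_assoc C.N, C.shift, ← Matrix.mul_assoc C.Q, ← Matrix.mul_assoc C.Q, C.QP,
            Matrix.one_mul]
      _ = C.Q * C.N := by
          rw [← hc.eq, ← Matrix.mul_assoc, ← C.PQ, ← Matrix.mul_assoc C.Q C.P, C.QP, Matrix.one_mul]
  refine ⟨Z, hZ1, hZ2, C.comm Z hZ1 hZ2 ?_, ?_⟩
  · rw [hZ, Matrix.mul_assoc _ C.Q, ← hQN, ← Matrix.mul_assoc, Matrix.mul_assoc C.P,
      show g * nil K C.d = nil K C.d * g from hg.symm, ← Matrix.mul_assoc C.P, ← C.shift]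
    simp only [Matrix.mul_assoc]
  · refine J_cancel ?_
    calc J l K * (sadj Z * X * Z) = Zᵀ * (J l K * X) * Z := by
          rw [← mul_assoc, ← mul_assoc, J_mul_sadj, mul_assoc Zᵀ]
      _ = C.Qᵀ * (gᵀ * (C.Pᵀ * (J l K * X) * C.P) * g) * C.Q := by
          rw [hZ, transpose_mul, transpose_mul]; simp only [Matrix.mul_assoc]
      _ = (C.P * C.Q)ᵀ * J l K * (X' * (C.P * C.Q)) := by
          rw [hge, transpose_mul]; simp only [Matrix.mul_assoc]
      _ = J l K * (X' * C.e) := by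
          rw [C.PQ, ← J_mul_sadj, C.self, mul_assoc, ← mul_assoc C.e, (C.commute hX').1, mul_assoc X', C.idem]

/-- The eigenvalue belonging to a sign. -/
def eps (K : Type*) [Field K] (s : Bool) : K := if s then 1 else -1

theorem eps_mul (s : Bool) : eps K s * eps K s = 1 := by cases s <;> simp [eps]

/-- Signs separating the forms that commute with `a`. -/
theorem exists_signs {p : ℕ} [Fact p.Prime] [CharP K p] (hp : p ≠ 2) {a : M2} (ha : sadj a * a = 1) :
    ∃ σ : M2 → Bool → ℕ → Bool, ∀ X X', Form a X → Form a X' →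
      (∀ s j, 1 ≤ j → Even j → (Polynomial.X - Polynomial.C (eps K s), j) ∈ matInv a → σ X s j = σ X' s j) →
      ∃ Z, IsUnit Z ∧ Z * a = a * Z ∧ sadj Z * X * Z = X' := by
  classical
  have h2 : (2 : K) ≠ 0 := Signed.two_ne_zero_of_char hp
  have hC : ∀ s, Nonempty (Chain a (eps K s)) := fun s => nonempty_chain ha (eps_mul s) h2
  let C := fun s => (hC s).some
  refine ⟨fun X s j => decide (IsSquare (lead j ((C s).Pᵀ * (J l K * X) * (C s).P)).det), fun X X' hX hX' hs => ?_⟩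
  have hpiece : ∀ s, ∃ Z : M2, (C s).e * Z = Z ∧ Z * (C s).e = Z ∧ Z * a = a * Z ∧ sadj Z * X * Z = X' * (C s).e :=
    fun s => exists_chain_piece hp (C s) hX hX' fun j hj1 hje ⟨k, hk⟩ => by
      have hmem : (Polynomial.X - Polynomial.C (eps K s), j) ∈ matInv a := by
        rw [← Multiset.count_pos, show matInv a = (nonempty_decomp (toEnd a)).some.inv from rfl, count_inv, ← (C s).count]
        exact Fintype.card_pos_iff.2 ⟨⟨k, hk⟩⟩
      exact decide_eq_decide.1 (hs s j hj1 hje hmem)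
  obtain ⟨Z1, a11, a12, a13, a14⟩ := hpiece true
  obtain ⟨Z2, a21, a22, a23, a24⟩ := hpiece false
  obtain ⟨e1, he1⟩ : ∃ e, e = (C true).e := ⟨_, rfl⟩
  obtain ⟨e2, he2⟩ : ∃ e, e = (C false).e := ⟨_, rfl⟩
  obtain ⟨p1, hp1⟩ := (C true).e_poly
  obtain ⟨p2, hp2⟩ := (C false).e_poly
  obtain ⟨i1, k1⟩ := (C true).kill
  obtain ⟨i2, k2⟩ := (C false).kill
  obtain ⟨w1, m1⟩ := (C true).minus
  obtain ⟨w2, m2⟩ := (C false).minus
  have b1 := (C true).idem
  have b2 := (C false).idem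
  have c1 := (C true).self
  have c2 := (C false).self
  rw [← he1] at a11 a12 a14 hp1 k1 m1 b1 c1
  rw [← he2] at a21 a22 a24 hp2 k2 m2 b2 c2
  simp only [eps, if_true, Bool.false_eq_true, if_false, one_smul, neg_smul, sub_neg_eq_add] at k1 k2 m1 m2
  have hfa : ∀ f g : Polynomial K, Commute (aeval a f) (aeval a g) := fun f g => (Commute.all f g).map _
  have h21 : e2 * e1 = e1 * e2 := by rw [← hp1, ← hp2, (hfa p2 p1).eq]
  have h12 : e1 * e2 = 0 := by
    have hu : IsUnit ((1 : K) - (-1)) := IsUnit.mk0 _ (by rw [sub_neg_eq_add, one_add_one_eq_two]; exact h2)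
    obtain ⟨u, v, huv⟩ := (Polynomial.isCoprime_X_sub_C_of_isUnit_sub hu).pow (m := i1) (n := i2)
    have e := congrArg (fun f => aeval a f * (e1 * e2)) huv
    simp only [map_add, map_mul, map_pow, map_sub, map_one, map_neg, sub_neg_eq_add, Polynomial.aeval_X,
      add_mul, one_mul] at e
    rw [← h21] at e
    conv at e => lhs; arg 1; rw [h21, mul_assoc, ← mul_assoc _ e1, k1, zero_mul, mul_zero]
    rw [zero_add, mul_assoc, ← mul_assoc _ e2, k2, zero_mul, mul_zero] at e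
    rw [← h21, ← e]
  have h21' : e2 * e1 = 0 := by rw [h21, h12]
  obtain ⟨e3, he3⟩ : ∃ e3, e3 = 1 - e1 - e2 := ⟨_, rfl⟩
  have h33 : e3 * e3 = e3 := by
    rw [he3]; simp only [mul_sub, sub_mul, mul_one, one_mul, b1, b2, h12, h21']; abel
  have hs3 : sadj e3 = e3 := by rw [he3, sadj_sub, sadj_sub, sadj_one, c1, c2]
  have hp3 : ∃ f, aeval a f = e3 := ⟨1 - p1 - p2, by rw [map_sub, map_sub, map_one, hp1, hp2, he3]⟩
  have hw : e3 = (a - sadj a) * aeval a (Polynomial.X * (w2 * w1)) := by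
    have e : e3 = (1 - e2) * (1 - e1) := by
      rw [he3]; simp only [mul_sub, sub_mul, mul_one, one_mul, h21']; abel
    rw [e, m1, m2, map_mul, map_mul, Polynomial.aeval_X, ← mul_assoc (a - sadj a), sub_mul a (sadj a) a, ha]
    have hc : Commute (aeval a w2) (a - 1) := by
      have := hfa w2 (Polynomial.X - 1)
      rwa [map_sub, Polynomial.aeval_X, map_one] at this
    rw [mul_assoc, ← mul_assoc (aeval a w2), hc.eq]
    simp only [← mul_assoc]
    congr 2
    rw [add_mul, one_mul, mul_sub, mul_one]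
    abel
  obtain ⟨Y, y1, y2, y3, y4⟩ := exists_free_piece ha hX h33 hs3 hp3 hw
  obtain ⟨Y', y1', y2', y3', y4'⟩ := exists_free_piece ha hX' h33 hs3 hp3 hw
  obtain ⟨f3, hf3⟩ := hp3
  have hYf : sadj Y * e3 = sadj Y := by
    have := congrArg sadj y2
    rwa [sadj_mul, hs3] at this
  have hYf' : e3 * sadj Y = sadj Y := by
    have := congrArg sadj y3
    rwa [sadj_mul, hs3] at this
  obtain ⟨U, hU⟩ : ∃ U, U = Y + (1 - e3) := ⟨_, rfl⟩
  have hUU : sadj U * U = X * e3 + (1 - e3) := by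
    rw [hU, sadj_add, sadj_sub, sadj_one, hs3]
    simp only [add_mul, mul_add, mul_sub, sub_mul, mul_one, one_mul, y1, hYf, y2, h33]
    abel
  have hUu : IsUnit U := by
    obtain ⟨V, hV⟩ := hX.unit
    have hX3 : e3 * X = X * e3 := hf3 ▸ (hX.commute f3).eq
    have hV3 : ((V⁻¹ : GL (l ⊕ l) K) : M2) * e3 = e3 * ((V⁻¹ : GL (l ⊕ l) K) : M2) :=
      (Commute.units_inv_left (hV ▸ hX3.symm : Commute (V : M2) e3)).eq
    have : (sadj U * U) * (((V⁻¹ : GL (l ⊕ l) K) : M2) * e3 + (1 - e3)) = 1 := by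
      rw [hUU, hV3]
      simp only [add_mul, mul_add, mul_sub, sub_mul, mul_one, one_mul]
      rw [← hV3]
      have e1 : X * e3 * (((V⁻¹ : GL (l ⊕ l) K) : M2) * e3) = e3 := by
        rw [hV3, mul_assoc, ← mul_assoc e3, h33, ← hV3, ← mul_assoc, ← hV, Units.mul_inv, one_mul]
      have e2 : e3 * (((V⁻¹ : GL (l ⊕ l) K) : M2) * e3) = ((V⁻¹ : GL (l ⊕ l) K) : M2) * e3 := by
        rw [hV3, ← mul_assoc, h33]
      rw [e1, e2, mul_assoc X e3 e3, h33]
      abel
    have h := IsUnit.of_mul_eq_one _ this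
    rw [Matrix.isUnit_iff_isUnit_det, det_mul] at h
    rw [Matrix.isUnit_iff_isUnit_det]
    exact isUnit_of_mul_isUnit_right h
  obtain ⟨W, hW⟩ := hUu
  obtain ⟨Z3, hZ3⟩ : ∃ Z3, Z3 = ((W⁻¹ : GL (l ⊕ l) K) : M2) * Y' := ⟨_, rfl⟩
  have hWe : Commute ((W⁻¹ : GL (l ⊕ l) K) : M2) e3 := Commute.units_inv_left (by
    rw [hW, hU]
    show (Y + (1 - e3)) * e3 = e3 * (Y + (1 - e3))
    rw [add_mul, mul_add, sub_mul, mul_sub, one_mul, mul_one, y2, y3, h33])
  have hWa : Commute ((W⁻¹ : GL (l ⊕ l) K) : M2) a := Commute.units_inv_left (by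
    rw [hW, hU]
    have hc : e3 * a = a * e3 := by
      rw [← hf3]
      have := hfa f3 Polynomial.X
      rw [Polynomial.aeval_X] at this
      exact this.eq
    show (Y + (1 - e3)) * a = a * (Y + (1 - e3))
    rw [add_mul, mul_add, sub_mul, mul_sub, one_mul, mul_one, y4, hc])
  have a31 : e3 * Z3 = Z3 := by rw [hZ3, ← mul_assoc, ← hWe.eq, mul_assoc, y2']
  have a32 : Z3 * e3 = Z3 := by rw [hZ3, mul_assoc, y3']
  have a33 : Z3 * a = a * Z3 := by rw [hZ3, mul_assoc, y4', ← mul_assoc, hWa.eq, mul_assoc]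
  have a34 : sadj Z3 * X * Z3 = X' * e3 := by
    have e : X * Z3 = (X * e3 + (1 - e3)) * Z3 := by
      rw [add_mul, sub_mul, one_mul, mul_assoc, a31, sub_self, add_zero]
    have eU : U * Z3 = Y' := by rw [hZ3, ← hW, ← mul_assoc, Units.mul_inv, one_mul]
    rw [mul_assoc, e, ← hUU, mul_assoc (sadj U), eU, ← mul_assoc, ← sadj_mul, eU, y1']
  have h31 : e3 * e1 = 0 ∧ e1 * e3 = 0 ∧ e3 * e2 = 0 ∧ e2 * e3 = 0 := by
    rw [he3]
    refine ⟨?_, ?_, ?_, ?_⟩ <;> simp only [mul_sub, sub_mul, mul_one, one_mul, b1, b2, h12, h21'] <;> abel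
  have hcr : ∀ (e e' A B : M2), sadj e = e → (∃ f : Polynomial K, aeval a f = e) → e * e' = 0 → e * A = A → e' * B = B →
      sadj A * X * B = 0 := by
    intro e e' A B hs ⟨f, hf⟩ h0 hA hB
    have hX' : e * X = X * e := hf ▸ (hX.commute f).eq
    rw [← hA, ← hB, sadj_mul, hs, mul_assoc (sadj A), hX']
    simp only [← mul_assoc]
    rw [mul_assoc (sadj A * X) e, h0, mul_zero, zero_mul]
  obtain ⟨Z, hZ⟩ : ∃ Z, Z = Z1 + Z2 + Z3 := ⟨_, rfl⟩
  have hZZ : sadj Z * X * Z = X' := by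
    rw [hZ, sadj_add, sadj_add]
    simp only [add_mul, mul_add, a14, a24, a34, hcr _ _ _ _ c1 ⟨p1, hp1⟩ h12 a11 a21,
      hcr _ _ _ _ c1 ⟨p1, hp1⟩ h31.2.1 a11 a31, hcr _ _ _ _ c2 ⟨p2, hp2⟩ h21' a21 a11,
      hcr _ _ _ _ c2 ⟨p2, hp2⟩ h31.2.2.2 a21 a31, hcr _ _ _ _ hs3 ⟨f3, hf3⟩ h31.1 a31 a11,
      hcr _ _ _ _ hs3 ⟨f3, hf3⟩ h31.2.2.1 a31 a21, add_zero, zero_add]
    rw [← mul_add, ← mul_add, he3, show e1 + e2 + (1 - e1 - e2) = 1 by abel, mul_one]
  refine ⟨Z, ?_, by rw [hZ, add_mul, add_mul, mul_add, mul_add, a13, a23, a33], hZZ⟩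
  have hu := hX'.unit
  rw [Matrix.isUnit_iff_isUnit_det] at hu ⊢
  rw [← hZZ, det_mul] at hu
  exact isUnit_of_mul_isUnit_right hu

/-- The form of a similitude between symplectic matrices. -/
theorem form_of_conj {a b G : M2} (ha : sadj a * a = 1) (hb : sadj b * b = 1) (hG : IsUnit G) (hGab : G * a = b * G) :
    Form a (sadj G * G) := by
  refine ⟨by rw [sadj_mul, sadj_sadj], ?_, ?_⟩
  · have hGs : IsUnit (sadj G) := by
      obtain ⟨g, rfl⟩ := hG
      exact IsUnit.of_mul_eq_one _ (by rw [← sadj_mul, Units.inv_mul, sadj_one] : sadj (g : M2) * sadj ((g⁻¹ : GL (l ⊕ l) K) : M2) = 1)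
    exact hGs.mul hG
  · have h1 : sadj a * sadj G = sadj G * sadj b := by rw [← sadj_mul, ← sadj_mul, hGab]
    have h3 : sadj G * b = a * sadj G := by
      calc sadj G * b = (a * sadj a) * sadj G * b := by rw [mul_eq_one_comm.1 ha, one_mul]
        _ = a * (sadj a * sadj G) * b := by rw [mul_assoc a]
        _ = a * (sadj G * (sadj b * b)) := by rw [h1]; simp only [mul_assoc]
        _ = a * sadj G := by rw [hb, mul_one]
    rw [mul_assoc, hGab, ← mul_assoc, h3, mul_assoc]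

/-- Two forms congruent in the centralizer give conjugate elements. -/
theorem conj_of_congr {a b c Ga Gb Z : M2} (hGa : IsUnit Ga) (hZ : IsUnit Z) (h1 : Ga * c = a * Ga)
    (h2 : Gb * c = b * Gb) (hc : Z * c = c * Z) (h : sadj Z * (sadj Ga * Ga) * Z = sadj Gb * Gb) :
    ∃ g ∈ symplecticGroup l K, g * a = b * g := by
  obtain ⟨A, rfl⟩ := hGa
  obtain ⟨W, rfl⟩ := hZ
  obtain ⟨V, hV⟩ : ∃ V, V = A * W := ⟨_, rfl⟩
  have hVc : (V : M2) * c = a * (V : M2) := by
    rw [hV, Units.val_mul, mul_assoc, hc, ← mul_assoc, h1, mul_assoc]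
  have hVV : sadj (V : M2) * (V : M2) = sadj Gb * Gb := by
    rw [← h, hV, Units.val_mul, sadj_mul]; simp only [mul_assoc]
  refine ⟨Gb * ((V⁻¹ : GL (l ⊕ l) K) : M2), mem_iff.2 ?_, ?_⟩
  · rw [sadj_mul, mul_assoc, ← mul_assoc (sadj Gb), ← hVV]
    simp only [mul_assoc, Units.mul_inv, mul_one]
    rw [← sadj_mul, Units.mul_inv, sadj_one]
  · have : ((V⁻¹ : GL (l ⊕ l) K) : M2) * a = c * ((V⁻¹ : GL (l ⊕ l) K) : M2) := by
      rw [Units.inv_mul_eq_iff_eq_mul, ← mul_assoc, Units.eq_mul_inv_iff_mul_eq, hVc]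
    rw [mul_assoc, this, ← mul_assoc, h2, mul_assoc]

end Cfsg.Agent.Lib.Similar.SpClass
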