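import Mathlib
import Cfsg.Agent.Lib.Similar.OrthChains
import Cfsg.Agent.Lib.Similar.SignedSym
import Cfsg.Agent.Lib.Similar.SympPieces

/-!
Similar orthogonal matrices with equal signs are conjugate.
-/

set_option autoImplicit false
set_option linter.unusedSectionVars false

open scoped Classical

namespace Cfsg.Agent.Lib.Similar.OClass

open Matrix
open Polynomial (aeval)
open Cfsg.Agent.S2581 (nil)
open Cfsg.Agent.Lib.Similar.UnipU (Idx)
open Cfsg.Agent.Lib.Similar.Signed (GoodS SkewN lead)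
open Cfsg.Agent.Lib.Similar.SpClass (eps eps_mul)

variable {l : Type*} [Fintype l] [DecidableEq l] {K : Type*} [Field K] [Fintype K]

local notation "M2" => Matrix (l ⊕ l) (l ⊕ l) K

/-- A form commuting with `a`. -/
structure Form (B a X : M2) : Prop where
  symm : adj B X = X
  unit : IsUnit X
  comm : X * a = a * X

theorem Form.commute {B a X : M2} (h : Form B a X) (f : Polynomial K) : Commute (aeval a f) X :=
  (Algebra.commute_of_mem_adjoin_singleton_of_commute (Polynomial.aeval_mem_adjoin_singleton K a) h.comm).symm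

/-- The part without self-inverse eigenvalues. -/
theorem exists_free_piece {B : M2} (hB : OClass.Sym B) {a X e3 : M2} (ha : adj B a * a = 1) (hX : Form B a X) (h33 : e3 * e3 = e3)
    (hs3 : adj B e3 = e3) (he3 : ∃ p : Polynomial K, aeval a p = e3) {w : Polynomial K} (he3w : e3 = (a - adj B a) * aeval a w) :
    ∃ Y : M2, adj B Y * Y = X * e3 ∧ e3 * Y = Y ∧ Y * e3 = Y ∧ Y * a = a * Y := by
  classical
  have ha2 : a * adj B a = 1 := mul_eq_one_comm.1 ha
  have hXa := hX.comm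
  have hXu := hX.unit
  have hXs := hX.symm
  have hgen : ∀ u ∈ ({a, adj B a, X} : Set M2), ∀ v ∈ ({a, adj B a, X} : Set M2), u * v = v * u := by
    have hXai : X * adj B a = adj B a * X := by
      calc X * adj B a = adj B a * (a * X) * adj B a := by rw [← mul_assoc (adj B a), ha, one_mul]
        _ = adj B a * X := by rw [← hXa, mul_assoc, mul_assoc, ha2, mul_one]
    intro u hu v hv
    simp only [Set.mem_insert_iff, Set.mem_singleton_iff] at hu hv
    rcases hu with rfl | rfl | rfl <;> rcases hv with rfl | rfl | rfl <;>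
      first | rfl | exact ha2.trans ha.symm | exact ha.trans ha2.symm | exact hXa | exact hXa.symm | exact hXai | exact hXai.symm
  let _ : CommRing (Algebra.adjoin K ({a, adj B a, X} : Set M2)) := Algebra.adjoinCommRingOfComm K hgen
  have hclosed : ∀ Y ∈ Algebra.adjoin K ({a, adj B a, X} : Set M2), adj B Y ∈ Algebra.adjoin K ({a, adj B a, X} : Set M2) := by
    intro Y hY
    induction hY using Algebra.adjoin_induction with
    | mem z hz =>
      simp only [Set.mem_insert_iff, Set.mem_singleton_iff] at hz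
      rcases hz with rfl | rfl | rfl
      · exact Algebra.subset_adjoin (by simp)
      · rw [(adj_adj hB)]; exact Algebra.subset_adjoin (by simp)
      · rw [hXs]; exact Algebra.subset_adjoin (by simp)
    | algebraMap c => rw [(adj_algebraMap hB)]; exact Subalgebra.algebraMap_mem _ c
    | add x y _ _ hx hy => rw [adj_add]; exact add_mem hx hy
    | mul x y _ _ hx hy => rw [(adj_mul hB)]; exact mul_mem hy hx
  have haS : a ∈ Algebra.adjoin K ({a, adj B a, X} : Set M2) := Algebra.subset_adjoin (by simp)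
  have hpS : ∀ f : Polynomial K, aeval a f ∈ Algebra.adjoin K ({a, adj B a, X} : Set M2) := fun f =>
    Algebra.adjoin_mono (by simp) (Polynomial.aeval_mem_adjoin_singleton K a)
  let τ : Algebra.adjoin K ({a, adj B a, X} : Set M2) →+* Algebra.adjoin K ({a, adj B a, X} : Set M2) :=
    { toFun := fun Y => ⟨adj B Y.1, hclosed _ Y.2⟩
      map_one' := Subtype.ext (adj_one hB)
      map_mul' := fun u v => by
        rw [mul_comm (⟨adj B u.1, _⟩ : Algebra.adjoin K ({a, adj B a, X} : Set M2))]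
        exact Subtype.ext ((adj_mul hB) _ _)
      map_zero' := Subtype.ext (by show adj B (0 : M2) = 0; exact adj_zero)
      map_add' := fun u v => Subtype.ext (adj_add _ _) }
  let t : Algebra.adjoin K ({a, adj B a, X} : Set M2) := ⟨e3, he3.choose_spec ▸ hpS _⟩
  have ht : τ t = t := Subtype.ext hs3
  let I : Ideal (Algebra.adjoin K ({a, adj B a, X} : Set M2)) := Ideal.span {1 - t}
  have hI : I ≤ I.comap τ := by
    rw [Ideal.span_le]
    rintro _ rfl
    rw [SetLike.mem_coe, Ideal.mem_comap, map_sub, map_one, ht]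
    exact Ideal.subset_span rfl
  let xS : Algebra.adjoin K ({a, adj B a, X} : Set M2) := ⟨X, Algebra.subset_adjoin (by simp)⟩
  have hxu : IsUnit xS := by
    have hinj : Function.Injective fun Y => xS * Y := fun Y Z h =>
      Subtype.ext (hXu.mul_left_cancel (congrArg Subtype.val h))
    obtain ⟨Y, hY⟩ := Finite.injective_iff_surjective.1 hinj 1
    exact IsUnit.of_mul_eq_one _ hY
  have : Finite ((Algebra.adjoin K ({a, adj B a, X} : Set M2)) ⧸ I) := Finite.of_surjective _ Ideal.Quotient.mk_surjective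
  obtain ⟨y, hy⟩ := InvolNorm.exists_mul_tau (Ideal.quotientMap I τ hI)
    (fun z => by
      obtain ⟨z, rfl⟩ := Ideal.Quotient.mk_surjective z
      rw [Ideal.quotientMap_mk, Ideal.quotientMap_mk]
      exact congrArg _ (Subtype.ext ((adj_adj hB) _)))
    ⟨Ideal.Quotient.mk I ⟨a, haS⟩, by
      rw [Ideal.quotientMap_mk, ← map_sub]
      refine IsUnit.of_mul_eq_one (Ideal.Quotient.mk I ⟨aeval a w, hpS _⟩) ?_
      rw [← map_mul, ← map_one (Ideal.Quotient.mk I), Ideal.Quotient.eq, Ideal.mem_span_singleton]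
      refine ⟨-1, Subtype.ext ?_⟩
      show (a - adj B a) * aeval a w - 1 = (1 - e3) * -1
      rw [← he3w, mul_neg_one, neg_sub]⟩
    (Ideal.Quotient.mk I xS) (hxu.map _) (by rw [Ideal.quotientMap_mk]; exact congrArg _ (Subtype.ext hXs))
  obtain ⟨y, rfl⟩ := Ideal.Quotient.mk_surjective y
  rw [Ideal.quotientMap_mk, ← map_mul, Ideal.Quotient.eq, Ideal.mem_span_singleton] at hy
  obtain ⟨k, hk⟩ := hy
  have htt : t * t = t := Subtype.ext h33
  obtain ⟨Y3, hY3⟩ : ∃ Y3, Y3 = (y * t : Algebra.adjoin K ({a, adj B a, X} : Set M2)) := ⟨_, rfl⟩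
  have y31 : adj B Y3.1 * Y3.1 = X * e3 := congrArg Subtype.val (show τ Y3 * Y3 = xS * t by
    rw [hY3, map_mul, ht]
    linear_combination t * hk + (y * τ y - k) * htt)
  have y32 : e3 * Y3.1 = Y3.1 := congrArg Subtype.val (show t * Y3 = Y3 by rw [hY3, mul_comm y t, ← mul_assoc, htt])
  have y33 : Y3.1 * e3 = Y3.1 := congrArg Subtype.val (show Y3 * t = Y3 by rw [hY3, mul_assoc, htt])
  have y3a : Y3.1 * a = a * Y3.1 := congrArg Subtype.val (mul_comm Y3 ⟨a, haS⟩)
  exact ⟨Y3.1, y31, y32, y33, y3a⟩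

theorem Chain.commute {B : M2} (hB : OClass.Sym B) {a : M2} {ε : K} (C : Chain B a ε) {X : M2} (hX : Form B a X) :
    C.e * X = X * C.e ∧ C.N * X = X * C.N := by
  obtain ⟨⟨p, hp⟩, ⟨q, hq⟩⟩ := And.intro C.e_poly C.N_poly
  exact ⟨hp ▸ (hX.commute p).eq, hq ▸ (hX.commute q).eq⟩

theorem form_one {B : M2} (hB : OClass.Sym B) (a : M2) : Form B a 1 := ⟨adj_one hB, isUnit_one, by rw [one_mul, mul_one]⟩

theorem good {B : M2} (hB : OClass.Sym B) {a : M2} {ε : K} (C : Chain B a ε) {X : M2} (hX : Form B a X) :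
    GoodS (C.Pᵀ * (B * X) * C.P) := by
  obtain ⟨he, hN⟩ := C.commute hB hX
  have hA : (B * X)ᵀ = B * X := by
    conv_rhs => rw [← hX.symm, mul_adj hB]
    rw [transpose_mul, hB.symm]
  refine ⟨?_, ?_, ?_⟩
  · rw [transpose_mul, transpose_mul, transpose_transpose, hA, Matrix.mul_assoc C.Pᵀ]
  · obtain ⟨V, hV⟩ := hX.unit
    intro h0
    have e : (C.Pᵀ * (B * X) * C.P) * (C.Q * (((V⁻¹ : GL (l ⊕ l) K) : M2) * B⁻¹) * C.Qᵀ) = 1 := by
      calc (C.Pᵀ * (B * X) * C.P) * (C.Q * (((V⁻¹ : GL (l ⊕ l) K) : M2) * B⁻¹) * C.Qᵀ)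
          = C.Pᵀ * (B * (X * (C.P * C.Q)) * ((V⁻¹ : GL (l ⊕ l) K) : M2) * B⁻¹) * C.Qᵀ := by
            simp only [Matrix.mul_assoc]
        _ = C.Pᵀ * (C.eᵀ * B * B⁻¹) * C.Qᵀ := by
            rw [C.PQ, ← he, mul_assoc B (C.e * X), mul_assoc C.e, ← hV, Units.mul_inv, mul_one,
              ← mul_adj hB, C.self]
        _ = (C.Q * C.e * C.P)ᵀ := by
            rw [mul_assoc C.eᵀ, mul_nonsing_inv _ hB.det, mul_one, transpose_mul, transpose_mul]
            simp only [Matrix.mul_assoc]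
        _ = 1 := by
            rw [← C.PQ, ← Matrix.mul_assoc C.Q, C.QP, Matrix.one_mul, C.QP, transpose_one]
    have := congrArg det e
    rw [det_mul, h0, zero_mul, det_one] at this
    exact zero_ne_one this
  · rw [SkewN]
    calc (nil K C.d)ᵀ * (C.Pᵀ * (B * X) * C.P) = (C.P * nil K C.d)ᵀ * (B * X) * C.P := by
          rw [transpose_mul]; simp only [Matrix.mul_assoc]
      _ = C.Pᵀ * (C.Nᵀ * B * X) * C.P := by
          rw [← C.shift, transpose_mul]; simp only [Matrix.mul_assoc]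
      _ = -(C.Pᵀ * (B * X) * (C.N * C.P)) := by
          rw [← mul_adj hB, C.N_skew, mul_neg, neg_mul, mul_assoc B C.N, hN]
          simp only [Matrix.mul_neg, Matrix.neg_mul, Matrix.mul_assoc]
      _ = -(C.Pᵀ * (B * X) * C.P * nil K C.d) := by rw [C.shift, ← Matrix.mul_assoc]

theorem even_count {B : M2} (hB : OClass.Sym B) {a : M2} (ha : adj B a * a = 1) {ε : K} (hε : ε * ε = 1) (h2 : (2 : K) ≠ 0)
    {j : ℕ} (hj : Even j) (hj1 : 1 ≤ j) :
    Even ((matInv a).count (Polynomial.X - Polynomial.C ε, j)) := by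
  obtain ⟨C⟩ := nonempty_chain hB ha hε h2
  have hG := good hB C (form_one hB a)
  have hA := Signed.lead_symm_sym hG.2.2 hG.1 j
  rw [(Nat.Even.sub_odd hj1 hj odd_one).neg_one_pow, neg_one_smul] at hA
  obtain ⟨r, b, hb⟩ := Signed.exists_std_basis h2 hA (Signed.lead_det C.hd hG.2.2 hG.2.1 j)
  have hc := Module.finrank_eq_card_basis b
  rw [Module.finrank_fintype_fun_eq_card] at hc
  rw [show matInv a = (nonempty_decomp (toEnd a)).some.inv from rfl, count_inv, ← C.count, hc]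
  simp

/-- The compressed matrix of a form. -/
def comp {B a : M2} {ε : K} (C : Chain B a ε) (X : M2) : Matrix (Idx C.d) (Idx C.d) K := C.Q * X * C.P

theorem det_comp {B a : M2} (hB : OClass.Sym B) {ε : K} (C : Chain B a ε) {X : M2} (hX : Form B a X) :
    (C.Pᵀ * (B * X) * C.P).det = (C.Pᵀ * (B * 1) * C.P).det * (comp C X).det ∧
      (X * C.e + (1 - C.e)).det = (comp C X).det := by
  have he := (C.commute hB hX).1
  have heP : C.e * C.P = C.P := by rw [← C.PQ, Matrix.mul_assoc, C.QP, Matrix.mul_one]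
  refine ⟨?_, ?_⟩
  · rw [← det_mul]
    congr 1
    calc C.Pᵀ * (B * X) * C.P = C.Pᵀ * (B * (X * (C.e * C.P))) := by rw [heP]; simp only [Matrix.mul_assoc]
      _ = C.Pᵀ * (B * (C.e * (X * C.P))) := by rw [← Matrix.mul_assoc X, ← he, Matrix.mul_assoc C.e]
      _ = C.Pᵀ * (B * 1) * C.P * comp C X := by
          rw [comp, mul_one, ← C.PQ]; simp only [Matrix.mul_assoc]
  · have e : X * C.e + (1 - C.e) = 1 + C.P * ((comp C X - 1) * C.Q) := by
      rw [Matrix.sub_mul, Matrix.one_mul, Matrix.mul_sub, C.PQ, comp]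
      have : C.P * (C.Q * X * C.P * C.Q) = X * C.e := by
        calc C.P * (C.Q * X * C.P * C.Q) = (C.P * C.Q) * X * (C.P * C.Q) := by simp only [Matrix.mul_assoc]
          _ = X * C.e := by rw [C.PQ, he, mul_assoc, C.idem]
      rw [this]
      abel
    rw [e, det_one_add_mul_comm, Matrix.mul_assoc, C.QP, Matrix.mul_one, add_sub_cancel]

/-- The square classes on one chain. -/
theorem comp_square {p : ℕ} [Fact p.Prime] [CharP K p] (hp : p ≠ 2) {B : M2} (hB : OClass.Sym B) {a : M2} {ε : K}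
    (C : Chain B a ε) {X X' : M2} (hX : Form B a X) (hX' : Form B a X') {j₀ : ℕ} (hj₀ : j₀ = 0 ∨ Odd j₀)
    (h : ∀ j, 1 ≤ j → Odd j → (∃ k, C.d k = j) → j ≠ j₀ →
      (IsSquare (lead j (C.Pᵀ * (B * X) * C.P)).det ↔ IsSquare (lead j (C.Pᵀ * (B * X') * C.P)).det)) :
    (IsSquare ((comp C X).det * (comp C X').det) ↔
      (IsSquare (lead j₀ (C.Pᵀ * (B * X) * C.P)).det ↔ IsSquare (lead j₀ (C.Pᵀ * (B * X') * C.P)).det)) := by
  have h2 : (2 : K) ≠ 0 := Signed.two_ne_zero_of_char hp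
  obtain ⟨M, hMd⟩ : ∃ M, M = C.Pᵀ * (B * X) * C.P := ⟨_, rfl⟩
  obtain ⟨M', hMd'⟩ : ∃ M, M = C.Pᵀ * (B * X') * C.P := ⟨_, rfl⟩
  have hM : GoodS M := hMd ▸ good hB C hX
  have hM' : GoodS M' := hMd' ▸ good hB C hX'
  rw [← hMd, ← hMd']
  obtain ⟨A, hA⟩ : ∃ A, A = M⁻¹ * M' := ⟨_, rfl⟩
  have hu : IsUnit M.det := hM.2.1.isUnit
  have hMA : M * A = M' := by rw [hA, ← mul_assoc, mul_nonsing_inv _ hu, one_mul]
  have hAc : UnipU.Comm A := by
    show nil K C.d * A = A * nil K C.d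
    have e : M * (nil K C.d * A) = M * (A * nil K C.d) := by
      have e1 : M * nil K C.d = -((nil K C.d)ᵀ * M) := by rw [hM.2.2, neg_neg]
      have e2 : M' * nil K C.d = -((nil K C.d)ᵀ * M') := by rw [hM'.2.2, neg_neg]
      rw [← mul_assoc, e1, neg_mul, mul_assoc, hMA, ← mul_assoc M, hMA, e2]
    have h2' := congrArg (M⁻¹ * ·) e
    simp only [← mul_assoc (M⁻¹) M, nonsing_inv_mul _ hu, one_mul] at h2'
    exact h2'
  have hA0 : A.det ≠ 0 := fun e => hM'.2.1 (by rw [← hMA, det_mul, e, mul_zero])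
  have hlead : ∀ j, (lead j M').det = (lead j M).det * (UnipU.ld C.hd j A).det := fun j => by
    rw [← hMA, Signed.lead_mul C.hd hM.2.2 hAc, det_mul]
  have hl0 := fun j => Signed.lead_det C.hd hM.2.2 hM.2.1 j
  have hl0' := fun j => Signed.lead_det C.hd hM'.2.2 hM'.2.1 j
  have hiff : ∀ j, IsSquare (UnipU.ld C.hd j A).det ↔ (IsSquare (lead j M).det ↔ IsSquare (lead j M').det) := by
    intro j
    rw [← Signed.sq_of_two h2 (hl0 j) (hl0' j), hlead, ← mul_assoc]
    exact ⟨fun e => (IsSquare.mul_self _).mul e, fun e => by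
      simpa [← mul_assoc, hl0 j] using ((IsSquare.mul_self (lead j M).det).inv).mul e⟩
  have hsq := Signed.sq_det_comm C.hd hAc hA0 j₀ hj₀ fun D hD => by
    by_cases hk : ∃ k, C.d k = D
    · obtain ⟨k, hk⟩ := hk
      have hD1 : 1 ≤ D := hk ▸ C.hd k
      rcases Nat.even_or_odd D with hev | hod
      · have key : ∀ N : Matrix (Idx C.d) (Idx C.d) K, GoodS N → IsSquare (lead D N).det := by
          intro N hN
          have h1 := Signed.lead_symm_sym hN.2.2 hN.1 D
          rw [(Nat.Even.sub_odd hD1 hev odd_one).neg_one_pow, neg_one_smul] at h1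
          have hd := Signed.lead_det C.hd hN.2.2 hN.2.1 D
          obtain ⟨r, b, -⟩ := Signed.exists_std_basis h2 h1 hd
          have hc := Module.finrank_eq_card_basis b
          rw [Module.finrank_fintype_fun_eq_card, Fintype.card_sum, Fintype.card_fin] at hc
          obtain ⟨H, Q, hHQ, -, hH⟩ := Signed.alt_congr h2 h1 hd
            (show (Matrix.J (Fin r) K)ᵀ = -Matrix.J (Fin r) K from Matrix.J_transpose _ _)
            (Matrix.isUnit_det_J (Fin r) K).ne_zero (by rw [hc, Fintype.card_sum, Fintype.card_fin])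
          rw [← hH]
          let e : {k // C.d k = D} ≃ Fin r ⊕ Fin r := Fintype.equivOfCardEq (by rw [hc, Fintype.card_sum, Fintype.card_fin])
          have hdec : Hᵀ * Matrix.J (Fin r) K * H =
              (H.submatrix id e.symm)ᵀ.submatrix e id * (Matrix.J (Fin r) K * (H.submatrix id e.symm).submatrix id e) := by
            rw [Matrix.transpose_submatrix, Matrix.submatrix_submatrix, Matrix.submatrix_submatrix]
            simp [Matrix.mul_assoc]
          have hJ : IsSquare (Matrix.J (Fin r) K).det := by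
            rw [show Matrix.J (Fin r) K = fromBlocks 1 (-1) 0 1 * fromBlocks 1 0 1 1 * fromBlocks 1 (-1) 0 1 by
              simp [Matrix.J, fromBlocks_multiply], det_mul, det_mul, det_fromBlocks_zero₂₁, det_fromBlocks_zero₁₂]
            simp
          obtain ⟨u, hu'⟩ := hJ
          refine ⟨u * (H.submatrix id e.symm).det, ?_⟩
          have e2 : ((Hᵀ * Matrix.J (Fin r) K * H).submatrix e.symm e.symm) =
              (H.submatrix id e.symm)ᵀ * Matrix.J (Fin r) K * (H.submatrix id e.symm) := by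
            rw [Matrix.transpose_submatrix]
            ext x y
            simp [Matrix.mul_apply]
          rw [← det_submatrix_equiv_self e.symm, e2, det_mul, det_mul, det_transpose, hu']
          ring
        exact (hiff D).2 ⟨fun _ => key M' hM', fun _ => key M hM⟩
      · exact (hiff D).2 (hMd ▸ hMd' ▸ h D hD1 hod ⟨k, hk⟩ hD)
    · haveI : IsEmpty {k // C.d k = D} := ⟨fun k => hk ⟨k.1, k.2⟩⟩
      rw [det_isEmpty]
      exact IsSquare.one
  rw [← hiff, ← hsq]
  have hd := (det_comp hB C hX).1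
  have hd' := (det_comp hB C hX').1
  rw [← hMd] at hd
  rw [← hMd'] at hd'
  rw [← hMA, det_mul, hd] at hd'
  obtain ⟨m1, hm1⟩ : ∃ m, m = (C.Pᵀ * (B * 1) * C.P).det := ⟨_, rfl⟩
  have hm0 : m1 ≠ 0 := hm1 ▸ (good hB C (form_one hB a)).2.1
  rw [← hm1] at hd'
  have hx : (comp C X').det = (comp C X).det * A.det := by
    refine mul_left_cancel₀ hm0 ?_
    rw [← hd', mul_assoc]
  rw [hx, ← mul_assoc]
  have hX0 : (comp C X).det ≠ 0 := fun e => hM.2.1 (by rw [hd, e, mul_zero])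
  exact ⟨fun e => by simpa [← mul_assoc, hX0] using ((IsSquare.mul_self (comp C X).det).inv).mul e,
    fun e => (IsSquare.mul_self _).mul e⟩

theorem exists_e3 {p : ℕ} [Fact p.Prime] [CharP K p] (hp : p ≠ 2) {B : M2} (hB : OClass.Sym B) {a : M2}
    (C : (s : Bool) → Chain B a (eps K s)) (ha : adj B a * a = 1) :
    ∃ (e3 : M2) (w : Polynomial K), (C true).e * (C false).e = 0 ∧ (C false).e * (C true).e = 0 ∧
      e3 = 1 - (C true).e - (C false).e ∧ e3 * e3 = e3 ∧ adj B e3 = e3 ∧ (∃ f : Polynomial K, aeval a f = e3) ∧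
      e3 = (a - adj B a) * aeval a w := by
  have h2 : (2 : K) ≠ 0 := Signed.two_ne_zero_of_char hp
  obtain ⟨e1, he1⟩ : ∃ e, e = (C true).e := ⟨_, rfl⟩
  obtain ⟨e2, he2⟩ : ∃ e, e = (C false).e := ⟨_, rfl⟩
  obtain ⟨p1, hp1⟩ := (C true).e_poly
  obtain ⟨p2, hp2⟩ := (C false).e_poly
  obtain ⟨i1, k1⟩ := (C true).kill
  obtain ⟨i2, k2⟩ := (C false).kill
  obtain ⟨w1, m1⟩ := (C true).minus
  obtain ⟨w2, m2⟩ := (C false).minus
  have b1 := (C true).idem
  have b2 := (C false).idem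
  have c1 := (C true).self
  have c2 := (C false).self
  rw [← he1] at hp1 k1 m1 b1 c1
  rw [← he2] at hp2 k2 m2 b2 c2
  simp only [eps, if_true, Bool.false_eq_true, if_false, one_smul, neg_smul, sub_neg_eq_add] at k1 k2 m1 m2
  have hfa : ∀ f g : Polynomial K, Commute (aeval a f) (aeval a g) := fun f g => (Commute.all f g).map _
  have h21 : e2 * e1 = e1 * e2 := by rw [← hp1, ← hp2, (hfa p2 p1).eq]
  have h12 : e1 * e2 = 0 := by
    have hu : IsUnit ((1 : K) - (-1)) := IsUnit.mk0 _ (by rw [sub_neg_eq_add, one_add_one_eq_two]; exact h2)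
    obtain ⟨u, v, huv⟩ := (Polynomial.isCoprime_X_sub_C_of_isUnit_sub hu).pow (m := i1) (n := i2)
    have e := congrArg (fun f => aeval a f * (e1 * e2)) huv
    simp only [map_add, map_mul, map_pow, map_sub, map_one, map_neg, sub_neg_eq_add, Polynomial.aeval_X,
      add_mul, one_mul] at e
    rw [← h21] at e
    conv at e => lhs; arg 1; rw [h21, mul_assoc, ← mul_assoc _ e1, k1, zero_mul, mul_zero]
    rw [zero_add, mul_assoc, ← mul_assoc _ e2, k2, zero_mul, mul_zero] at e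
    rw [← h21, ← e]
  have h21' : e2 * e1 = 0 := by rw [h21, h12]
  obtain ⟨e3, he3⟩ : ∃ e3, e3 = 1 - e1 - e2 := ⟨_, rfl⟩
  have h33 : e3 * e3 = e3 := by
    rw [he3]; simp only [mul_sub, sub_mul, mul_one, one_mul, b1, b2, h12, h21']; abel
  have hs3 : adj B e3 = e3 := by rw [he3, adj_sub, adj_sub, (adj_one hB), c1, c2]
  have hp3 : ∃ f, aeval a f = e3 := ⟨1 - p1 - p2, by rw [map_sub, map_sub, map_one, hp1, hp2, he3]⟩
  have hw : e3 = (a - adj B a) * aeval a (Polynomial.X * (w2 * w1)) := by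
    have e : e3 = (1 - e2) * (1 - e1) := by
      rw [he3]; simp only [mul_sub, sub_mul, mul_one, one_mul, h21']; abel
    rw [e, m1, m2, map_mul, map_mul, Polynomial.aeval_X, ← mul_assoc (a - adj B a), sub_mul a (adj B a) a, ha]
    have hc : Commute (aeval a w2) (a - 1) := by
      have := hfa w2 (Polynomial.X - 1)
      rwa [map_sub, Polynomial.aeval_X, map_one] at this
    rw [mul_assoc, ← mul_assoc (aeval a w2), hc.eq]
    simp only [← mul_assoc]
    congr 2
    rw [add_mul, one_mul, mul_sub, mul_one]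
    abel
  refine ⟨e3, _, ?_, ?_, ?_, h33, hs3, hp3, hw⟩
  · rw [← he1, ← he2]; exact h12
  · rw [← he1, ← he2]; exact h21'
  · rw [← he1, ← he2]; exact he3

/-- The last sign follows from the others. -/
theorem lead_iff_of_det {p : ℕ} [Fact p.Prime] [CharP K p] (hp : p ≠ 2) {B : M2} (hB : OClass.Sym B) {a : M2}
    (ha : adj B a * a = 1) (C : (s : Bool) → Chain B a (eps K s)) {X X' : M2} (hX : Form B a X) (hX' : Form B a X')
    (hXd : IsSquare X.det) (hXd' : IsSquare X'.det) {s₀ : Bool} {j₀ : ℕ} (hj : Odd j₀)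
    (h : ∀ s j, 1 ≤ j → Odd j → (∃ k, (C s).d k = j) → ¬ (s = s₀ ∧ j = j₀) →
      (IsSquare (lead j ((C s).Pᵀ * (B * X) * (C s).P)).det ↔ IsSquare (lead j ((C s).Pᵀ * (B * X') * (C s).P)).det)) :
    IsSquare (lead j₀ ((C s₀).Pᵀ * (B * X) * (C s₀).P)).det ↔ IsSquare (lead j₀ ((C s₀).Pᵀ * (B * X') * (C s₀).P)).det := by
  obtain ⟨e1, he1⟩ : ∃ e, e = (C true).e := ⟨_, rfl⟩
  obtain ⟨e2, he2⟩ : ∃ e, e = (C false).e := ⟨_, rfl⟩
  obtain ⟨e3, w, h12, h21, he3, h33, hs3, hp3, hw⟩ := exists_e3 hp hB C ha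
  rw [← he1, ← he2] at h12 h21 he3
  have b1 := (C true).idem
  have b2 := (C false).idem
  rw [← he1] at b1
  rw [← he2] at b2
  have key : ∀ Y : M2, Form B a Y → Y.det = (comp (C true) Y).det * (comp (C false) Y).det * (Y * e3 + (1 - e3)).det ∧
      IsSquare (Y * e3 + (1 - e3)).det := by
    intro Y hY
    refine ⟨?_, ?_⟩
    · rw [← (det_comp hB (C true) hY).2, ← (det_comp hB (C false) hY).2, ← he1, ← he2, ← det_mul, ← det_mul]
      congr 1
      have c1 : e1 * Y = Y * e1 := he1 ▸ ((C true).commute hB hY).1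
      have c2 : e2 * Y = Y * e2 := he2 ▸ ((C false).commute hB hY).1
      have m1 : (Y * e1 + (1 - e1)) * (Y * e2 + (1 - e2)) = Y * (e1 + e2) + (1 - (e1 + e2)) := by
        simp only [add_mul, mul_add, mul_sub, sub_mul, mul_one, one_mul]
        rw [mul_assoc Y e1 (Y * e2), ← mul_assoc e1 Y e2, c1, mul_assoc Y e1 e2, h12]
        simp only [mul_zero]
        abel
      rw [m1, show e1 + e2 = 1 - e3 by rw [he3]; abel]
      obtain ⟨f, hf⟩ := hp3
      have c3 : e3 * Y = Y * e3 := hf ▸ (hY.commute f).eq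
      have hc3 : ∀ W : M2, e3 * (Y * W) = Y * (e3 * W) := fun W => by rw [← mul_assoc, c3, mul_assoc]
      simp only [sub_sub_cancel, add_mul, mul_add, mul_sub, sub_mul, mul_one, one_mul, mul_assoc, hc3, c3, h33]
      abel
    · obtain ⟨U, y1, y2, y3, -⟩ := exists_free_piece hB ha hY h33 hs3 hp3 hw
      refine ⟨(U + (1 - e3)).det, ?_⟩
      rw [show (U + (1 - e3)).det * (U + (1 - e3)).det = (adj B (U + (1 - e3))).det * (U + (1 - e3)).det by
        rw [det_adj hB], ← det_mul]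
      congr 1
      have hUf : adj B U * e3 = adj B U := by
        have := congrArg (adj B) y2
        rwa [adj_mul hB, hs3] at this
      rw [adj_add, adj_sub, adj_one hB, hs3]
      simp only [add_mul, mul_add, mul_sub, sub_mul, mul_one, one_mul, y1, hUf, y2, h33]
      abel
  obtain ⟨kX, kX3⟩ := key X hX
  obtain ⟨kX', kX3'⟩ := key X' hX'
  have hq : ∀ s, (s ≠ s₀ → IsSquare ((comp (C s) X).det * (comp (C s) X').det)) := fun s hs => by
    refine (comp_square hp hB (C s) hX hX' (Or.inl rfl) fun j h1 h2 h3 _ => h s j h1 h2 h3 fun e => hs e.1).2 ?_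
    haveI : IsEmpty {k // (C s).d k = 0} := ⟨fun k => by have := (C s).hd k.1; have := k.2; omega⟩
    rw [det_isEmpty, det_isEmpty]
  refine (comp_square hp hB (C s₀) hX hX' (Or.inr hj) fun j h1 h2 h3 h4 => h s₀ j h1 h2 h3 fun e => h4 e.2).1 ?_
  have htot := hXd.mul hXd'
  rw [kX, kX'] at htot
  have hne : ∀ Y : M2, Form B a Y → ∀ s, (comp (C s) Y).det ≠ 0 := fun Y hY s e =>
    (good hB (C s) hY).2.1 (by rw [(det_comp hB (C s) hY).1, e, mul_zero])
  have h3ne : ∀ Y : M2, Form B a Y → (Y * e3 + (1 - e3)).det ≠ 0 := fun Y hY e => by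
    have := (key Y hY).1
    rw [e, mul_zero] at this
    exact ((Matrix.isUnit_iff_isUnit_det Y).1 hY.unit).ne_zero this
  have hdiv : ∀ x y : K, IsSquare (x * y) → IsSquare y → y ≠ 0 → IsSquare x := fun x y hxy hy hy0 => by
    simpa [mul_assoc, hy0] using hxy.mul hy.inv
  have hsq0 := kX3.mul kX3'
  have h12' : IsSquare ((comp (C true) X).det * (comp (C true) X').det * ((comp (C false) X).det * (comp (C false) X').det)) := by
    refine hdiv _ _ ?_ hsq0 (mul_ne_zero (h3ne X hX) (h3ne X' hX'))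
    refine (congrArg IsSquare ?_).mp htot
    ring
  cases s₀
  · exact hdiv _ _ (by rwa [mul_comm] at h12') (hq true (by simp)) (mul_ne_zero (hne X hX true) (hne X' hX' true))
  · exact hdiv _ _ h12' (hq false (by simp)) (mul_ne_zero (hne X hX false) (hne X' hX' false))

/-- Transporting forms on the chains of one eigenvalue. -/
theorem exists_chain_piece {p : ℕ} [Fact p.Prime] [CharP K p] (hp : p ≠ 2) {B : M2} (hB : OClass.Sym B) {a : M2} {ε : K} (C : Chain B a ε)
    {X X' : M2} (hX : Form B a X) (hX' : Form B a X')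
    (hs : ∀ j, 1 ≤ j → Odd j → (∃ k, C.d k = j) →
      (IsSquare (lead j (C.Pᵀ * (B * X) * C.P)).det ↔ IsSquare (lead j (C.Pᵀ * (B * X') * C.P)).det)) :
    ∃ Z : M2, C.e * Z = Z ∧ Z * C.e = Z ∧ Z * a = a * Z ∧ adj B Z * X * Z = X' * C.e := by
  classical
  have h2 : (2 : K) ≠ 0 := Signed.two_ne_zero_of_char hp
  have hM := good hB C hX
  have hM' := good hB C hX'
  obtain ⟨g, hg, -, hge⟩ := Signed.sym_congr_of_lead_congr hp C.hd hM hM' fun j => by
    rcases isEmpty_or_nonempty {k // C.d k = j} with hE | ⟨⟨k, hk⟩⟩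
    · exact ⟨1, Subsingleton.elim _ _⟩
    have h1 := Signed.lead_symm_sym hM.2.2 hM.1 j
    have h1' := Signed.lead_symm_sym hM'.2.2 hM'.1 j
    have hj1 : 1 ≤ j := hk ▸ C.hd k
    rcases Nat.even_or_odd j with hj | hj
    · rw [(Nat.Even.sub_odd hj1 hj odd_one).neg_one_pow, neg_one_smul] at h1 h1'
      obtain ⟨H, _, -, -, hH⟩ := Signed.alt_congr h2 h1' (Signed.lead_det C.hd hM'.2.2 hM'.2.1 j) h1
        (Signed.lead_det C.hd hM.2.2 hM.2.1 j) rfl
      exact ⟨H, hH⟩
    · rw [(Nat.Odd.sub_odd hj odd_one).neg_one_pow, one_smul] at h1 h1'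
      exact Signed.sym_congr h2 h1 h1' (Signed.lead_det C.hd hM.2.2 hM.2.1 j)
        (Signed.lead_det C.hd hM'.2.2 hM'.2.1 j) (hs j hj1 hj ⟨k, hk⟩)
  obtain ⟨Z, hZ⟩ : ∃ Z, Z = C.P * g * C.Q := ⟨_, rfl⟩
  have hZ1 : C.e * Z = Z := by
    rw [hZ, ← C.PQ]
    simp only [Matrix.mul_assoc]
    rw [← Matrix.mul_assoc C.Q C.P, C.QP, Matrix.one_mul]
  have hZ2 : Z * C.e = Z := by
    rw [hZ, ← C.PQ]
    simp only [Matrix.mul_assoc]
    rw [← Matrix.mul_assoc C.Q C.P, C.QP, Matrix.one_mul]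
  have hQN : nil K C.d * C.Q = C.Q * C.N := by
    obtain ⟨⟨u, hu⟩, ⟨v, hv⟩⟩ := And.intro C.e_poly C.N_poly
    have hc : Commute C.e C.N := hu ▸ hv ▸ (Commute.all u v).map _
    calc nil K C.d * C.Q = C.Q * (C.N * C.e) := by
          rw [← C.PQ, ← Matrix.mul_assoc C.N, C.shift, ← Matrix.mul_assoc C.Q, ← Matrix.mul_assoc C.Q, C.QP,
            Matrix.one_mul]
      _ = C.Q * C.N := by
          rw [← hc.eq, ← Matrix.mul_assoc, ← C.PQ, ← Matrix.mul_assoc C.Q C.P, C.QP, Matrix.one_mul]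
  refine ⟨Z, hZ1, hZ2, C.comm Z hZ1 hZ2 ?_, ?_⟩
  · rw [hZ, Matrix.mul_assoc _ C.Q, ← hQN, ← Matrix.mul_assoc, Matrix.mul_assoc C.P,
      show g * nil K C.d = nil K C.d * g from hg.symm, ← Matrix.mul_assoc C.P, ← C.shift]
    simp only [Matrix.mul_assoc]
  · refine cancel hB ?_
    calc B * (adj B Z * X * Z) = Zᵀ * (B * X) * Z := by
          rw [← mul_assoc, ← mul_assoc, mul_adj hB, mul_assoc Zᵀ]
      _ = C.Qᵀ * (gᵀ * (C.Pᵀ * (B * X) * C.P) * g) * C.Q := by
          rw [hZ, transpose_mul, transpose_mul]; simp only [Matrix.mul_assoc]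
      _ = (C.P * C.Q)ᵀ * B * (X' * (C.P * C.Q)) := by
          rw [hge, transpose_mul]; simp only [Matrix.mul_assoc]
      _ = B * (X' * C.e) := by
          rw [C.PQ, ← mul_adj hB, C.self, mul_assoc, ← mul_assoc C.e, (C.commute hB hX').1, mul_assoc X', C.idem]

theorem exists_signs {p : ℕ} [Fact p.Prime] [CharP K p] (hp : p ≠ 2) {B : M2} (hB : OClass.Sym B) {a : M2} (ha : adj B a * a = 1) :
    ∃ σ : M2 → Bool → ℕ → Bool, ∀ X X', Form B a X → Form B a X' → IsSquare X.det → IsSquare X'.det → ∀ (s₀ : Bool) (j₀ : ℕ),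
      (∀ s j, 1 ≤ j → Odd j → (Polynomial.X - Polynomial.C (eps K s), j) ∈ matInv a → ¬ (s = s₀ ∧ j = j₀) → σ X s j = σ X' s j) →
      ∃ Z, IsUnit Z ∧ Z * a = a * Z ∧ adj B Z * X * Z = X' := by
  classical
  have h2 : (2 : K) ≠ 0 := Signed.two_ne_zero_of_char hp
  have hC : ∀ s, Nonempty (Chain B a (eps K s)) := fun s => nonempty_chain hB ha (eps_mul s) h2
  let C := fun s => (hC s).some
  refine ⟨fun X s j => decide (IsSquare (lead j ((C s).Pᵀ * (B * X) * (C s).P)).det),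
    fun X X' hX hX' hXd hXd' s₀ j₀ hs => ?_⟩
  have hall : ∀ s j, 1 ≤ j → Odd j → (∃ k, (C s).d k = j) →
      (IsSquare (lead j ((C s).Pᵀ * (B * X) * (C s).P)).det ↔ IsSquare (lead j ((C s).Pᵀ * (B * X') * (C s).P)).det) := by
    intro s j hj1 hjo hk
    have hagree : ∀ s j, 1 ≤ j → Odd j → (∃ k, (C s).d k = j) → ¬ (s = s₀ ∧ j = j₀) →
        (IsSquare (lead j ((C s).Pᵀ * (B * X) * (C s).P)).det ↔ IsSquare (lead j ((C s).Pᵀ * (B * X') * (C s).P)).det) := by
      intro s j hj1 hjo ⟨k, hk⟩ hne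
      have hmem : (Polynomial.X - Polynomial.C (eps K s), j) ∈ matInv a := by
        rw [← Multiset.count_pos, show matInv a = (nonempty_decomp (toEnd a)).some.inv from rfl, count_inv, ← (C s).count]
        exact Fintype.card_pos_iff.2 ⟨⟨k, hk⟩⟩
      exact decide_eq_decide.1 (hs s j hj1 hjo hmem hne)
    by_cases he : s = s₀ ∧ j = j₀
    swap
    · exact hagree s j hj1 hjo hk he
    obtain ⟨rfl, rfl⟩ := he
    exact lead_iff_of_det hp hB ha C hX hX' hXd hXd' hjo fun s' j' h1 h2' h3 h4 => hagree s' j' h1 h2' h3 h4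
  have hpiece : ∀ s, ∃ Z : M2, (C s).e * Z = Z ∧ Z * (C s).e = Z ∧ Z * a = a * Z ∧ adj B Z * X * Z = X' * (C s).e :=
    fun s => exists_chain_piece hp hB (C s) hX hX' fun j hj1 hjo hk => hall s j hj1 hjo hk
  obtain ⟨Z1, a11, a12, a13, a14⟩ := hpiece true
  obtain ⟨Z2, a21, a22, a23, a24⟩ := hpiece false
  obtain ⟨e1, he1⟩ : ∃ e, e = (C true).e := ⟨_, rfl⟩
  obtain ⟨e2, he2⟩ : ∃ e, e = (C false).e := ⟨_, rfl⟩
  obtain ⟨p1, hp1⟩ := (C true).e_poly
  obtain ⟨p2, hp2⟩ := (C false).e_poly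
  obtain ⟨i1, k1⟩ := (C true).kill
  obtain ⟨i2, k2⟩ := (C false).kill
  obtain ⟨w1, m1⟩ := (C true).minus
  obtain ⟨w2, m2⟩ := (C false).minus
  have b1 := (C true).idem
  have b2 := (C false).idem
  have c1 := (C true).self
  have c2 := (C false).self
  rw [← he1] at a11 a12 a14 hp1 k1 m1 b1 c1
  rw [← he2] at a21 a22 a24 hp2 k2 m2 b2 c2
  simp only [eps, if_true, Bool.false_eq_true, if_false, one_smul, neg_smul, sub_neg_eq_add] at k1 k2 m1 m2
  have hfa : ∀ f g : Polynomial K, Commute (aeval a f) (aeval a g) := fun f g => (Commute.all f g).map _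
  have h21 : e2 * e1 = e1 * e2 := by rw [← hp1, ← hp2, (hfa p2 p1).eq]
  have h12 : e1 * e2 = 0 := by
    have hu : IsUnit ((1 : K) - (-1)) := IsUnit.mk0 _ (by rw [sub_neg_eq_add, one_add_one_eq_two]; exact h2)
    obtain ⟨u, v, huv⟩ := (Polynomial.isCoprime_X_sub_C_of_isUnit_sub hu).pow (m := i1) (n := i2)
    have e := congrArg (fun f => aeval a f * (e1 * e2)) huv
    simp only [map_add, map_mul, map_pow, map_sub, map_one, map_neg, sub_neg_eq_add, Polynomial.aeval_X,
      add_mul, one_mul] at e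
    rw [← h21] at e
    conv at e => lhs; arg 1; rw [h21, mul_assoc, ← mul_assoc _ e1, k1, zero_mul, mul_zero]
    rw [zero_add, mul_assoc, ← mul_assoc _ e2, k2, zero_mul, mul_zero] at e
    rw [← h21, ← e]
  have h21' : e2 * e1 = 0 := by rw [h21, h12]
  obtain ⟨e3, he3⟩ : ∃ e3, e3 = 1 - e1 - e2 := ⟨_, rfl⟩
  have h33 : e3 * e3 = e3 := by
    rw [he3]; simp only [mul_sub, sub_mul, mul_one, one_mul, b1, b2, h12, h21']; abel
  have hs3 : adj B e3 = e3 := by rw [he3, adj_sub, adj_sub, (adj_one hB), c1, c2]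
  have hp3 : ∃ f, aeval a f = e3 := ⟨1 - p1 - p2, by rw [map_sub, map_sub, map_one, hp1, hp2, he3]⟩
  have hw : e3 = (a - adj B a) * aeval a (Polynomial.X * (w2 * w1)) := by
    have e : e3 = (1 - e2) * (1 - e1) := by
      rw [he3]; simp only [mul_sub, sub_mul, mul_one, one_mul, h21']; abel
    rw [e, m1, m2, map_mul, map_mul, Polynomial.aeval_X, ← mul_assoc (a - adj B a), sub_mul a (adj B a) a, ha]
    have hc : Commute (aeval a w2) (a - 1) := by
      have := hfa w2 (Polynomial.X - 1)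
      rwa [map_sub, Polynomial.aeval_X, map_one] at this
    rw [mul_assoc, ← mul_assoc (aeval a w2), hc.eq]
    simp only [← mul_assoc]
    congr 2
    rw [add_mul, one_mul, mul_sub, mul_one]
    abel
  obtain ⟨Y, y1, y2, y3, y4⟩ := exists_free_piece hB ha hX h33 hs3 hp3 hw
  obtain ⟨Y', y1', y2', y3', y4'⟩ := exists_free_piece hB ha hX' h33 hs3 hp3 hw
  obtain ⟨f3, hf3⟩ := hp3
  have hYf : adj B Y * e3 = adj B Y := by
    have := congrArg (adj B) y2
    rwa [(adj_mul hB), hs3] at this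
  have hYf' : e3 * adj B Y = adj B Y := by
    have := congrArg (adj B) y3
    rwa [(adj_mul hB), hs3] at this
  obtain ⟨U, hU⟩ : ∃ U, U = Y + (1 - e3) := ⟨_, rfl⟩
  have hUU : adj B U * U = X * e3 + (1 - e3) := by
    rw [hU, adj_add, adj_sub, (adj_one hB), hs3]
    simp only [add_mul, mul_add, mul_sub, sub_mul, mul_one, one_mul, y1, hYf, y2, h33]
    abel
  have hUu : IsUnit U := by
    obtain ⟨V, hV⟩ := hX.unit
    have hX3 : e3 * X = X * e3 := hf3 ▸ (hX.commute f3).eq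
    have hV3 : ((V⁻¹ : GL (l ⊕ l) K) : M2) * e3 = e3 * ((V⁻¹ : GL (l ⊕ l) K) : M2) :=
      (Commute.units_inv_left (hV ▸ hX3.symm : Commute (V : M2) e3)).eq
    have : (adj B U * U) * (((V⁻¹ : GL (l ⊕ l) K) : M2) * e3 + (1 - e3)) = 1 := by
      rw [hUU, hV3]
      simp only [add_mul, mul_add, mul_sub, sub_mul, mul_one, one_mul]
      rw [← hV3]
      have e1 : X * e3 * (((V⁻¹ : GL (l ⊕ l) K) : M2) * e3) = e3 := by
        rw [hV3, mul_assoc, ← mul_assoc e3, h33, ← hV3, ← mul_assoc, ← hV, Units.mul_inv, one_mul]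
      have e2 : e3 * (((V⁻¹ : GL (l ⊕ l) K) : M2) * e3) = ((V⁻¹ : GL (l ⊕ l) K) : M2) * e3 := by
        rw [hV3, ← mul_assoc, h33]
      rw [e1, e2, mul_assoc X e3 e3, h33]
      abel
    have h := IsUnit.of_mul_eq_one _ this
    rw [Matrix.isUnit_iff_isUnit_det, det_mul] at h
    rw [Matrix.isUnit_iff_isUnit_det]
    exact isUnit_of_mul_isUnit_right h
  obtain ⟨W, hW⟩ := hUu
  obtain ⟨Z3, hZ3⟩ : ∃ Z3, Z3 = ((W⁻¹ : GL (l ⊕ l) K) : M2) * Y' := ⟨_, rfl⟩
  have hWe : Commute ((W⁻¹ : GL (l ⊕ l) K) : M2) e3 := Commute.units_inv_left (by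
    rw [hW, hU]
    show (Y + (1 - e3)) * e3 = e3 * (Y + (1 - e3))
    rw [add_mul, mul_add, sub_mul, mul_sub, one_mul, mul_one, y2, y3, h33])
  have hWa : Commute ((W⁻¹ : GL (l ⊕ l) K) : M2) a := Commute.units_inv_left (by
    rw [hW, hU]
    have hc : e3 * a = a * e3 := by
      rw [← hf3]
      have := hfa f3 Polynomial.X
      rw [Polynomial.aeval_X] at this
      exact this.eq
    show (Y + (1 - e3)) * a = a * (Y + (1 - e3))
    rw [add_mul, mul_add, sub_mul, mul_sub, one_mul, mul_one, y4, hc])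
  have a31 : e3 * Z3 = Z3 := by rw [hZ3, ← mul_assoc, ← hWe.eq, mul_assoc, y2']
  have a32 : Z3 * e3 = Z3 := by rw [hZ3, mul_assoc, y3']
  have a33 : Z3 * a = a * Z3 := by rw [hZ3, mul_assoc, y4', ← mul_assoc, hWa.eq, mul_assoc]
  have a34 : adj B Z3 * X * Z3 = X' * e3 := by
    have e : X * Z3 = (X * e3 + (1 - e3)) * Z3 := by
      rw [add_mul, sub_mul, one_mul, mul_assoc, a31, sub_self, add_zero]
    have eU : U * Z3 = Y' := by rw [hZ3, ← hW, ← mul_assoc, Units.mul_inv, one_mul]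
    rw [mul_assoc, e, ← hUU, mul_assoc (adj B U), eU, ← mul_assoc, ← (adj_mul hB), eU, y1']
  have h31 : e3 * e1 = 0 ∧ e1 * e3 = 0 ∧ e3 * e2 = 0 ∧ e2 * e3 = 0 := by
    rw [he3]
    refine ⟨?_, ?_, ?_, ?_⟩ <;> simp only [mul_sub, sub_mul, mul_one, one_mul, b1, b2, h12, h21'] <;> abel
  have hcr : ∀ (e e' A W : M2), adj B e = e → (∃ f : Polynomial K, aeval a f = e) → e * e' = 0 → e * A = A → e' * W = W →
      adj B A * X * W = 0 := by
    intro e e' A W hs ⟨f, hf⟩ h0 hA hW'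
    have hX' : e * X = X * e := hf ▸ (hX.commute f).eq
    rw [← hA, ← hW', (adj_mul hB), hs, mul_assoc (adj B A), hX']
    simp only [← mul_assoc]
    rw [mul_assoc (adj B A * X) e, h0, mul_zero, zero_mul]
  obtain ⟨Z, hZ⟩ : ∃ Z, Z = Z1 + Z2 + Z3 := ⟨_, rfl⟩
  have hZZ : adj B Z * X * Z = X' := by
    rw [hZ, adj_add, adj_add]
    simp only [add_mul, mul_add, a14, a24, a34, hcr _ _ _ _ c1 ⟨p1, hp1⟩ h12 a11 a21,
      hcr _ _ _ _ c1 ⟨p1, hp1⟩ h31.2.1 a11 a31, hcr _ _ _ _ c2 ⟨p2, hp2⟩ h21' a21 a11,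
      hcr _ _ _ _ c2 ⟨p2, hp2⟩ h31.2.2.2 a21 a31, hcr _ _ _ _ hs3 ⟨f3, hf3⟩ h31.1 a31 a11,
      hcr _ _ _ _ hs3 ⟨f3, hf3⟩ h31.2.2.1 a31 a21, add_zero, zero_add]
    rw [← mul_add, ← mul_add, he3, show e1 + e2 + (1 - e1 - e2) = 1 by abel, mul_one]
  refine ⟨Z, ?_, by rw [hZ, add_mul, add_mul, mul_add, mul_add, a13, a23, a33], hZZ⟩
  have hu := hX'.unit
  rw [Matrix.isUnit_iff_isUnit_det] at hu ⊢
  rw [← hZZ, det_mul] at hu
  exact isUnit_of_mul_isUnit_right hu

/-- The form of a similitude between symplectic matrices. -/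
theorem form_of_conj {B : M2} (hB : OClass.Sym B) {a b G : M2} (ha : adj B a * a = 1) (hb : adj B b * b = 1) (hG : IsUnit G) (hGab : G * a = b * G) :
    Form B a (adj B G * G) := by
  refine ⟨by rw [(adj_mul hB), (adj_adj hB)], ?_, ?_⟩
  · have hGs : IsUnit (adj B G) := by
      obtain ⟨g, rfl⟩ := hG
      exact IsUnit.of_mul_eq_one _ (by rw [← (adj_mul hB), Units.inv_mul, (adj_one hB)] : adj B (g : M2) * adj B ((g⁻¹ : GL (l ⊕ l) K) : M2) = 1)
    exact hGs.mul hG
  · have h1 : adj B a * adj B G = adj B G * adj B b := by rw [← (adj_mul hB), ← (adj_mul hB), hGab]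
    have h3 : adj B G * b = a * adj B G := by
      calc adj B G * b = (a * adj B a) * adj B G * b := by rw [mul_eq_one_comm.1 ha, one_mul]
        _ = a * (adj B a * adj B G) * b := by rw [mul_assoc a]
        _ = a * (adj B G * (adj B b * b)) := by rw [h1]; simp only [mul_assoc]
        _ = a * adj B G := by rw [hb, mul_one]
    rw [mul_assoc, hGab, ← mul_assoc, h3, mul_assoc]

/-- Two forms congruent in the centralizer give conjugate elements. -/
theorem conj_of_congr {B : M2} (hB : OClass.Sym B) {a b c Ga Gb Z : M2} (hGa : IsUnit Ga) (hGb : IsUnit Gb) (hZ : IsUnit Z) (h1 : Ga * c = a * Ga)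
    (h2 : Gb * c = b * Gb) (hc : Z * c = c * Z) (h : adj B Z * (adj B Ga * Ga) * Z = adj B Gb * Gb) :
    ∃ g : GL (l ⊕ l) K, (g : M2)ᵀ * B * (g : M2) = B ∧ (g : M2) * a = b * (g : M2) := by
  obtain ⟨A, rfl⟩ := hGa
  obtain ⟨W, rfl⟩ := hZ
  obtain ⟨V, hV⟩ : ∃ V, V = A * W := ⟨_, rfl⟩
  have hVc : (V : M2) * c = a * (V : M2) := by
    rw [hV, Units.val_mul, mul_assoc, hc, ← mul_assoc, h1, mul_assoc]
  have hVV : adj B (V : M2) * (V : M2) = adj B Gb * Gb := by
    rw [← h, hV, Units.val_mul, (adj_mul hB)]; simp only [mul_assoc]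
  obtain ⟨u, hu⟩ : IsUnit (Gb * ((V⁻¹ : GL (l ⊕ l) K) : M2)) := hGb.mul (Units.isUnit _)
  refine ⟨u, ?_, ?_⟩ <;> rw [hu]
  rw [mem_iff hB]
  · rw [(adj_mul hB), mul_assoc, ← mul_assoc (adj B Gb), ← hVV]
    simp only [mul_assoc, Units.mul_inv, mul_one]
    rw [← (adj_mul hB), Units.mul_inv, (adj_one hB)]
  · have : ((V⁻¹ : GL (l ⊕ l) K) : M2) * a = c * ((V⁻¹ : GL (l ⊕ l) K) : M2) := by
      rw [Units.inv_mul_eq_iff_eq_mul, ← mul_assoc, Units.eq_mul_inv_iff_mul_eq, hVc]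
    rw [mul_assoc, this, ← mul_assoc, h2, mul_assoc]

end Cfsg.Agent.Lib.Similar.OClass
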