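import Mathlib
import Cfsg.Agent.Lib.Similar.SympPieces
import Cfsg.Agent.Lib.Similar.SympClassCount
import Cfsg.Agent.Lib.Similar.Transpose

/-!
The elementary divisors of symplectic matrices.
-/

set_option autoImplicit false
set_option linter.unusedSectionVars false

open scoped Classical

namespace Cfsg.Agent.Lib.Similar.SpClass

open Polynomial
open Cfsg.Agent.Lib.Similar.Symp
open Cfsg.Agent.Lib.Similar.SpCount (IsSR srFin mem_srFin starP_lin)
open Cfsg.Agent.Lib.FamCount (piece)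

variable {l : Type*} [Fintype l] [DecidableEq l] {K : Type*} [Field K] [Fintype K]

local notation "M2" => Matrix (l ⊕ l) (l ⊕ l) K

theorem kerDim_starP {a : M2} (ha : sadj a * a = 1) {f : K[X]} (h0 : f.coeff 0 ≠ 0) :
    kerDim (toEnd a) f = kerDim (toEnd a) (starP (RingHom.id K) f) := by
  obtain ⟨d, hd⟩ : ∃ d, d = f.natDegree := ⟨_, rfl⟩
  have hu : IsUnit a.det := by
    refine IsUnit.of_mul_eq_one_right (sadj a).det ?_
    rw [← Matrix.det_mul, ha, Matrix.det_one]
  have hJ : IsUnit (Matrix.J l K).det := Matrix.isUnit_det_J l K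
  have hpow : ∀ i ≤ d, sadj a ^ i * a ^ d = a ^ (d - i) := by
    intro i hi
    have hc : Commute (sadj a) a := ha.trans (mul_eq_one_comm.1 ha).symm
    conv_lhs => rw [show d = i + (d - i) by omega, pow_add, ← mul_assoc, ← hc.mul_pow, ha, one_pow, one_mul]
  have e1 : aeval (sadj a) f * a ^ d = aeval a f.reverse := by
    have hr : f.reverse.natDegree < d + 1 := Nat.lt_succ_of_le (hd ▸ reverse_natDegree_le f)
    rw [aeval_eq_sum_range' (show f.natDegree < d + 1 by omega), aeval_eq_sum_range' hr, Finset.sum_mul,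
      ← Finset.sum_range_reflect (fun i => f.reverse.coeff i • a ^ i) (d + 1)]
    refine Finset.sum_congr rfl fun i hi => ?_
    rw [Finset.mem_range] at hi
    rw [smul_mul_assoc, hpow i (by omega), coeff_reverse, show d + 1 - 1 - i = d - i by omega,
      revAt_le (by omega), show f.natDegree - (d - i) = i by omega]
  rw [kerDim_toEnd, kerDim_toEnd]
  congr 1
  calc (aeval a f).rank = (sadj (aeval a f)).rank := by
        rw [sadj, ← Matrix.neg_mul, Matrix.rank_mul_eq_left_of_isUnit_det _ _ hJ, ← Matrix.neg_mul,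
          Matrix.rank_mul_eq_right_of_isUnit_det _ _ (by rw [Matrix.det_neg]; exact (isUnit_one.neg.pow _).mul hJ),
          Matrix.rank_transpose]
    _ = (aeval (sadj a) f * a ^ d).rank := by
        rw [sadj_aeval, Matrix.rank_mul_eq_left_of_isUnit_det _ _ (by rw [Matrix.det_pow]; exact hu.pow d)]
    _ = (aeval a (starP (RingHom.id K) f)).rank := by
        rw [e1, starP, RingHom.id_apply, Polynomial.map_id, map_mul, aeval_C, Matrix.rank_mul_eq_right_of_isUnit_det]
        exact ((IsUnit.mk0 _ (inv_ne_zero h0)).map (algebraMap K M2)).map Matrix.detMonoidHom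

/-- The elementary divisors of a symplectic matrix are stable under the reciprocal. -/
theorem starM_matInv (x : GL (l ⊕ l) K) (ha : sadj (x : M2) * (x : M2) = 1) :
    starM (RingHom.id K) (matInv (x : M2)) = matInv (x : M2) := by
  obtain ⟨h1, h2⟩ := matInv_spec x
  obtain ⟨D, hD⟩ : ∃ D, D = (nonempty_decomp (toEnd (x : M2))).some := ⟨_, rfl⟩
  obtain ⟨m, hm⟩ : ∃ m, m = starM (RingHom.id K) (matInv (x : M2)) := ⟨_, rfl⟩
  obtain ⟨w, hw⟩ := exists_gl_matInv (n := l ⊕ l) m (fun z hz => by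
    obtain ⟨u, hu, rfl⟩ := Multiset.mem_map.1 (hm ▸ hz)
    obtain ⟨k1, k2, k3, k4⟩ := h1 u hu
    refine ⟨monic_starP k3, irreducible_starP (fun _ => rfl) k2 k1 k3, ?_, k4⟩
    rw [coeff_zero_starP k1]
    exact inv_ne_zero k3)
    (by
      rw [hm, starM, Multiset.map_map, ← h2]
      refine congrArg _ (Multiset.map_congr rfl fun u hu => ?_)
      simp only [Function.comp_apply, natDegree_starP (h1 u hu).2.2.1])
  rw [← hm, ← hw]
  obtain ⟨D', hD'⟩ : ∃ D, D = (nonempty_decomp (toEnd (w : M2))).some := ⟨_, rfl⟩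
  have hwD : matInv (w : M2) = D'.inv := matInv_eq _ _
  have hxD : matInv (x : M2) = D.inv := matInv_eq _ _
  have hinv : ∀ i, (D.p i).coeff 0 ≠ 0 := fun i => (h1 (D.p i, D.e i) (by
    rw [hxD]; exact Multiset.mem_map.2 ⟨i, Finset.mem_univ i, rfl⟩)).2.2.1
  have hinv' : ∀ i, (D'.p i).coeff 0 ≠ 0 := fun i => ((matInv_spec w).1 (D'.p i, D'.e i) (by
    rw [hwD]; exact Multiset.mem_map.2 ⟨i, Finset.mem_univ i, rfl⟩)).2.2.1
  rw [hwD, hxD]
  refine inv_eq_of_kerDim_eq _ _ fun q hq hmq k => ?_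
  by_cases hq0 : q.coeff 0 = 0
  · rw [kerDim_pow D' hq hmq, kerDim_pow D hq hmq]
    congr 1
    rw [Finset.sum_eq_zero, Finset.sum_eq_zero]
    · exact fun i _ => if_neg fun hh => hinv i (by rw [hh]; exact hq0)
    · exact fun i _ => if_neg fun hh => hinv' i (by rw [hh]; exact hq0)
  obtain ⟨r, hr⟩ : ∃ r, r = starP (RingHom.id K) q := ⟨_, rfl⟩
  have hqr : starP (RingHom.id K) (q ^ k) = r ^ k := by
    rw [hr]
    induction k with
    | zero => simp [starP_one]
    | succ k ih => rw [pow_succ, starP_mul, ih, pow_succ]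
  rw [kerDim_starP ha (f := q ^ k) (by rw [coeff_zero_eq_eval_zero, eval_pow, ← coeff_zero_eq_eval_zero]; exact pow_ne_zero _ hq0),
    hqr, hr, kerDim_pow D (irreducible_starP (fun _ => rfl) hq hmq hq0) (monic_starP hq0), kerDim_pow D' hq hmq,
    natDegree_starP hq0]
  congr 1
  have e := congrArg (fun M : Multiset (K[X] × ℕ) => (M.map fun z => if z.1 = q then min z.2 k else 0).sum)
    ((hwD.symm.trans hw).trans hm)
  rw [hxD] at e
  simp only [starM, Decomp.inv, Multiset.map_map, Function.comp_def] at e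
  refine Eq.trans e (Finset.sum_congr rfl fun i _ => ?_)
  have : starP (RingHom.id K) (D.p i) = q ↔ D.p i = starP (RingHom.id K) q :=
    ⟨fun hh => by rw [← hh, starP_starP (fun _ => rfl) (D.monic i) (hinv i)],
      fun hh => by rw [hh, starP_starP (fun _ => rfl) hmq hq0]⟩
  simp only [this]

theorem monic_prod {s : Multiset K[X]} (h : ∀ f ∈ s, f.Monic) : s.prod.Monic := by
  simpa using monic_multiset_prod_of_monic s id h

theorem piece_eq {m : Multiset (K[X] × ℕ)} (hm : ∀ y ∈ m, y.1.Monic ∧ Irreducible y.1 ∧ y.1.coeff 0 ≠ 0 ∧ 1 ≤ y.2)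
    (i : ℕ) : (piece i m).Monic ∧ (piece i m).coeff 0 ≠ 0 ∧
      UniqueFactorizationMonoid.normalizedFactors (piece i m) = (m.filter fun y => y.2 = i).map Prod.fst := by
  have h : ∀ f ∈ (m.filter fun y => y.2 = i).map Prod.fst, f.Monic ∧ Irreducible f ∧ f.coeff 0 ≠ 0 := by
    intro f hf
    obtain ⟨y, hy, rfl⟩ := Multiset.mem_map.1 hf
    obtain ⟨a, b, c, -⟩ := hm y (Multiset.mem_filter.1 hy).1
    exact ⟨a, b, c⟩
  refine ⟨monic_prod fun f hf => (h f hf).1, ?_, Cfsg.Agent.Lib.FamCount.factors_prod fun f hf => ⟨(h f hf).1, (h f hf).2.1⟩⟩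
  rw [piece, coeff_zero_multiset_prod, ne_eq, Multiset.prod_eq_zero_iff, Multiset.mem_map]
  rintro ⟨f, hf, h0⟩
  exact (h f hf).2.2 h0

theorem eq_of_pieces {m m' : Multiset (K[X] × ℕ)}
    (hm : ∀ y ∈ m, y.1.Monic ∧ Irreducible y.1 ∧ y.1.coeff 0 ≠ 0 ∧ 1 ≤ y.2)
    (hm' : ∀ y ∈ m', y.1.Monic ∧ Irreducible y.1 ∧ y.1.coeff 0 ≠ 0 ∧ 1 ≤ y.2)
    (h : ∀ i, piece i m = piece i m') : m = m' := by
  have hf : ∀ i, (m.filter fun y => y.2 = i) = m'.filter fun y => y.2 = i := by
    intro i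
    have e := congrArg UniqueFactorizationMonoid.normalizedFactors (h i)
    rw [(piece_eq hm i).2.2, (piece_eq hm' i).2.2] at e
    have e' := congrArg (Multiset.map fun f => (f, i)) e
    have key : ∀ s : Multiset (K[X] × ℕ), ((s.filter fun y => y.2 = i).map Prod.fst).map (fun f => (f, i)) =
        s.filter fun y => y.2 = i := by
      intro s
      rw [Multiset.map_map]
      conv_rhs => rw [← Multiset.map_id (s.filter fun y => y.2 = i)]
      exact Multiset.map_congr rfl fun y hy => Prod.ext rfl (Multiset.mem_filter.1 hy).2.symm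
    rwa [key, key] at e'
  ext y
  rw [← Multiset.count_filter_of_pos (s := m) (p := fun z => z.2 = y.2) rfl, hf,
    Multiset.count_filter_of_pos (s := m') (p := fun z => z.2 = y.2) rfl]

theorem isSR_piece {m : Multiset (K[X] × ℕ)} (hm : ∀ y ∈ m, y.1.Monic ∧ Irreducible y.1 ∧ y.1.coeff 0 ≠ 0 ∧ 1 ≤ y.2)
    (hs : starM (RingHom.id K) m = m) (i : ℕ) : IsSR (piece i m).natDegree (piece i m) := by
  refine ⟨(piece_eq hm i).1, rfl, (piece_eq hm i).2.1, ?_⟩
  rw [piece, starP_multiset_prod, Multiset.map_map]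
  conv_rhs => rw [← hs, starM, Multiset.filter_map, Multiset.map_map]
  rfl

theorem eq_lin_of_root {f : K[X]} (hm : f.Monic) (hi : Irreducible f) {ε : K} (h : f.IsRoot ε) : f = X - C ε :=
  (eq_of_monic_of_associated (monic_X_sub_C ε) hm ((irreducible_X_sub_C ε).associated_of_dvd hi (dvd_iff_isRoot.2 h))).symm

theorem mem_of_root {m : Multiset (K[X] × ℕ)} (hm : ∀ y ∈ m, y.1.Monic ∧ Irreducible y.1 ∧ y.1.coeff 0 ≠ 0 ∧ 1 ≤ y.2)
    {i : ℕ} {ε : K} : (piece i m).IsRoot ε ↔ (X - C ε, i) ∈ m := by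
  constructor
  · intro h
    rw [piece, IsRoot, eval_multiset_prod, Multiset.prod_eq_zero_iff, Multiset.map_map, Multiset.mem_map] at h
    obtain ⟨y, hy, h0⟩ := h
    obtain ⟨hy1, rfl⟩ := Multiset.mem_filter.1 hy
    obtain ⟨a, b, -, -⟩ := hm y hy1
    rwa [← eq_lin_of_root a b (show y.1.IsRoot ε from h0)]
  · intro h
    rw [piece, IsRoot, eval_multiset_prod, Multiset.prod_eq_zero_iff, Multiset.map_map, Multiset.mem_map]
    exact ⟨_, Multiset.mem_filter.2 ⟨h, rfl⟩, by simp⟩

/-- At an odd exponent the piece is palindromic of even degree. -/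
theorem piece_odd {m : Multiset (K[X] × ℕ)} (h2 : (2 : K) ≠ 0)
    (hm : ∀ y ∈ m, y.1.Monic ∧ Irreducible y.1 ∧ y.1.coeff 0 ≠ 0 ∧ 1 ≤ y.2)
    (hs : starM (RingHom.id K) m = m) {i : ℕ} (hev : ∀ ε : K, ε * ε = 1 → Even (m.count (X - C ε, i))) :
    (piece i m).coeff 0 = 1 ∧ Even (piece i m).natDegree := by
  obtain ⟨s, hsd⟩ : ∃ s, s = (m.filter fun y => y.2 = i).map Prod.fst := ⟨_, rfl⟩
  obtain ⟨P, hP⟩ : ∃ P : K[X], P = X - C 1 := ⟨_, rfl⟩
  obtain ⟨Q, hQ⟩ : ∃ Q : K[X], Q = X - C (-1) := ⟨_, rfl⟩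
  have hmem : ∀ f ∈ s, f.Monic ∧ Irreducible f ∧ f.coeff 0 ≠ 0 := by
    intro f hf
    obtain ⟨y, hy, rfl⟩ := Multiset.mem_map.1 (hsd ▸ hf)
    obtain ⟨a, b, c, -⟩ := hm y (Multiset.mem_filter.1 hy).1
    exact ⟨a, b, c⟩
  have hcount : ∀ ε : K, s.count (X - C ε) = m.count (X - C ε, i) := by
    intro ε
    rw [hsd, Multiset.count_map, Multiset.filter_filter, Multiset.count_eq_card_filter_eq]
    congr 1
    refine Multiset.filter_congr fun y _ => ?_
    rw [Prod.ext_iff]
    exact and_congr Iff.rfl eq_comm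
  obtain ⟨a, ha⟩ : Even (s.count P) := by rw [hP, hcount]; exact hev 1 (one_mul 1)
  obtain ⟨b, hb⟩ : Even (s.count Q) := by rw [hQ, hcount]; exact hev (-1) (by ring)
  have hPQ : Q ≠ P := by
    intro e
    have := congrArg (fun f => f.coeff 0) e
    simp [hP, hQ] at this
    exact h2 (by linear_combination this)
  obtain ⟨rest, hrest⟩ : ∃ r, r = (s.filter fun x => ¬ x = P).filter fun x => ¬ x = Q := ⟨_, rfl⟩
  have hsplit : s = Multiset.replicate (a + a) P + (Multiset.replicate (b + b) Q + rest) := by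
    conv_lhs => rw [← Multiset.filter_add_not (fun x => x = P) s, Multiset.filter_eq', ha]
    congr 1
    conv_lhs => rw [← Multiset.filter_add_not (fun x => x = Q) (s.filter fun x => ¬ x = P), Multiset.filter_eq']
    rw [Multiset.count_filter_of_pos (p := fun x => ¬ x = P) (a := Q) hPQ, hb, hrest]
  obtain ⟨h, hh⟩ : ∃ h, h = rest.prod := ⟨_, rfl⟩
  have hrm : ∀ f ∈ rest, f ∈ s ∧ f ≠ P ∧ f ≠ Q := fun f hf => by
    rw [hrest, Multiset.mem_filter, Multiset.mem_filter] at hf
    exact ⟨hf.1.1, hf.1.2, hf.2⟩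
  have hhm : h.Monic := hh ▸ monic_prod fun f hf => (hmem f (hrm f hf).1).1
  have hh0 : h.coeff 0 ≠ 0 := by
    rw [hh, coeff_zero_multiset_prod, ne_eq, Multiset.prod_eq_zero_iff, Multiset.mem_map]
    rintro ⟨f, hf, h0⟩
    exact (hmem f (hrm f hf).1).2.2 h0
  have hhe : ∀ ε : K, (ε = 1 ∨ ε = -1) → h.eval ε ≠ 0 := by
    intro ε hε h0
    rw [hh, eval_multiset_prod, Multiset.prod_eq_zero_iff, Multiset.mem_map] at h0
    obtain ⟨f, hf, hf0⟩ := h0
    have e := eq_lin_of_root (hmem f (hrm f hf).1).1 (hmem f (hrm f hf).1).2.1 (show f.IsRoot ε from hf0)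
    rcases hε with rfl | rfl
    · exact (hrm f hf).2.1 (e.trans hP.symm)
    · exact (hrm f hf).2.2 (e.trans hQ.symm)
  have hf : piece i m = P ^ (a + a) * (Q ^ (b + b) * h) := by
    rw [piece, ← hsd, hsplit, Multiset.prod_add, Multiset.prod_add, Multiset.prod_replicate, Multiset.prod_replicate, hh]
  have hstar : starP (RingHom.id K) h = h := by
    have e := (isSR_piece hm hs i).2.2.2
    have hp : ∀ (f : K[X]) (k : ℕ), starP (RingHom.id K) (f ^ k) = starP (RingHom.id K) f ^ k := by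
      intro f k
      induction k with
      | zero => simp [starP_one]
      | succ k ih => rw [pow_succ, starP_mul, ih, pow_succ]
    rw [hf, starP_mul, starP_mul, hp, hp, hP, hQ, starP_lin (one_mul 1), starP_lin (by ring)] at e
    exact mul_left_cancel₀ (pow_ne_zero _ (monic_X_sub_C _).ne_zero)
      (mul_left_cancel₀ (pow_ne_zero _ (monic_X_sub_C _).ne_zero) e)
  have key : ∀ ε : K, ε * ε = 1 → h.coeff 0 * h.eval ε * ε ^ h.natDegree = h.eval ε := by
    intro ε hε
    let _ : Invertible ε := ⟨ε, hε, hε⟩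
    have e := eval₂_reverse_mul_pow (RingHom.id K) ε h
    rw [show (⅟ε : K) = ε from rfl, eval₂_id, eval₂_id] at e
    have hr : h.reverse.eval ε = h.coeff 0 * h.eval ε := by
      have e0 := congrArg (eval ε) hstar
      rw [starP, eval_mul, eval_C, RingHom.id_apply, Polynomial.map_id] at e0
      rw [← e0, mul_inv_cancel_left₀ hh0]
    rw [hr] at e
    exact e
  have k1 := key 1 (one_mul 1)
  rw [one_pow, mul_one] at k1
  have hc : h.coeff 0 = 1 := mul_right_cancel₀ (hhe 1 (Or.inl rfl)) (k1.trans (one_mul _).symm)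
  have k2 := key (-1) (by ring)
  rw [hc, one_mul] at k2
  have hd : Even h.natDegree := by
    by_contra hodd
    rw [Nat.not_even_iff_odd] at hodd
    rw [hodd.neg_one_pow] at k2
    exact mul_ne_zero h2 (hhe (-1) (Or.inr rfl)) (by linear_combination -k2)
  constructor
  · rw [hf, mul_coeff_zero, mul_coeff_zero, hc, coeff_zero_eq_eval_zero, coeff_zero_eq_eval_zero, hP, hQ]
    simp [← two_mul, pow_mul]
  · rw [hf, (((hP ▸ monic_X_sub_C _ : P.Monic).pow _)).natDegree_mul (((hQ ▸ monic_X_sub_C _ : Q.Monic).pow _).mul hhm),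
      ((hQ ▸ monic_X_sub_C _ : Q.Monic).pow _).natDegree_mul hhm, natDegree_pow, natDegree_pow, hP, hQ, natDegree_X_sub_C,
      natDegree_X_sub_C, mul_one, mul_one]
    exact Even.add ⟨a, rfl⟩ (Even.add ⟨b, rfl⟩ hd)

theorem sum_by_exp {m : Multiset (K[X] × ℕ)} (hm : ∀ y ∈ m, y.1.Monic) (N : ℕ) (hN : ∀ y ∈ m, y.2 < N) :
    ∑ i ∈ Finset.range N, i * (piece i m).natDegree = (m.map fun y => y.2 * y.1.natDegree).sum := by
  induction m using Multiset.induction with
  | empty => simp [piece]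
  | cons y m ih =>
    rw [Multiset.map_cons, Multiset.sum_cons, ← ih (fun z hz => hm z (Multiset.mem_cons_of_mem hz))
      fun z hz => hN z (Multiset.mem_cons_of_mem hz)]
    have : ∀ i, i * (piece i (y ::ₘ m)).natDegree =
        (if y.2 = i then y.2 * y.1.natDegree else 0) + i * (piece i m).natDegree := by
      intro i
      have hmon : (piece i m).Monic := monic_prod fun f hf => by
        obtain ⟨z, hz, rfl⟩ := Multiset.mem_map.1 hf
        exact hm z (Multiset.mem_cons_of_mem (Multiset.mem_filter.1 hz).1)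
      by_cases h : y.2 = i
      · rw [if_pos h, piece, Multiset.filter_cons_of_pos (s := m) (p := fun z : K[X] × ℕ => z.2 = i) h, Multiset.map_cons, Multiset.prod_cons]
        show i * (y.1 * piece i m).natDegree = _
        rw [(hm y (Multiset.mem_cons_self _ _)).natDegree_mul hmon, h, mul_add]
      · rw [if_neg h, zero_add, piece, Multiset.filter_cons_of_neg (s := m) (p := fun z : K[X] × ℕ => z.2 = i) h]
        rfl
    rw [Finset.sum_congr rfl fun i _ => this i, Finset.sum_add_distrib, Finset.sum_ite_eq, if_pos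
      (Finset.mem_range.2 (hN y (Multiset.mem_cons_self _ _)))]

end Cfsg.Agent.Lib.Similar.SpClass
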