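import Mathlib
import Cfsg.Agent.Lib.Similar.OrthPieces
import Cfsg.Agent.Lib.Similar.SympClassInv

/-!
The elementary divisors of orthogonal matrices.
-/

set_option autoImplicit false
set_option linter.unusedSectionVars false

open scoped Classical

namespace Cfsg.Agent.Lib.Similar.OClass

open Polynomial

variable {l : Type*} [Fintype l] [DecidableEq l] {K : Type*} [Field K] [Fintype K]

local notation "M2" => Matrix (l ⊕ l) (l ⊕ l) K

theorem kerDim_starP {B : M2} (hB : OClass.Sym B) {a : M2} (ha : adj B a * a = 1) {f : K[X]} (h0 : f.coeff 0 ≠ 0) :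
    kerDim (toEnd a) f = kerDim (toEnd a) (starP (RingHom.id K) f) := by
  obtain ⟨d, hd⟩ : ∃ d, d = f.natDegree := ⟨_, rfl⟩
  have hu : IsUnit a.det := by
    refine IsUnit.of_mul_eq_one_right (adj B a).det ?_
    rw [← Matrix.det_mul, ha, Matrix.det_one]
  have hpow : ∀ i ≤ d, adj B a ^ i * a ^ d = a ^ (d - i) := by
    intro i hi
    have hc : Commute (adj B a) a := ha.trans (mul_eq_one_comm.1 ha).symm
    conv_lhs => rw [show d = i + (d - i) by omega, pow_add, ← mul_assoc, ← hc.mul_pow, ha, one_pow, one_mul]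
  have e1 : aeval (adj B a) f * a ^ d = aeval a f.reverse := by
    have hr : f.reverse.natDegree < d + 1 := Nat.lt_succ_of_le (hd ▸ reverse_natDegree_le f)
    rw [aeval_eq_sum_range' (show f.natDegree < d + 1 by omega), aeval_eq_sum_range' hr, Finset.sum_mul,
      ← Finset.sum_range_reflect (fun i => f.reverse.coeff i • a ^ i) (d + 1)]
    refine Finset.sum_congr rfl fun i hi => ?_
    rw [Finset.mem_range] at hi
    rw [smul_mul_assoc, hpow i (by omega), coeff_reverse, show d + 1 - 1 - i = d - i by omega,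
      revAt_le (by omega), show f.natDegree - (d - i) = i by omega]
  rw [kerDim_toEnd, kerDim_toEnd]
  congr 1
  calc (aeval a f).rank = (adj B (aeval a f)).rank := by
        rw [adj, Matrix.rank_mul_eq_left_of_isUnit_det _ _ hB.det,
          Matrix.rank_mul_eq_right_of_isUnit_det _ _ (Matrix.isUnit_nonsing_inv_det B hB.det), Matrix.rank_transpose]
    _ = (aeval (adj B a) f * a ^ d).rank := by
        rw [(adj_aeval hB), Matrix.rank_mul_eq_left_of_isUnit_det _ _ (by rw [Matrix.det_pow]; exact hu.pow d)]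
    _ = (aeval a (starP (RingHom.id K) f)).rank := by
        rw [e1, starP, RingHom.id_apply, Polynomial.map_id, map_mul, aeval_C, Matrix.rank_mul_eq_right_of_isUnit_det]
        exact ((IsUnit.mk0 _ (inv_ne_zero h0)).map (algebraMap K M2)).map Matrix.detMonoidHom

/-- The elementary divisors of a symplectic matrix are stable under the reciprocal. -/
theorem starM_matInv {B : M2} (hB : OClass.Sym B) (x : GL (l ⊕ l) K) (ha : adj B (x : M2) * (x : M2) = 1) :
    starM (RingHom.id K) (matInv (x : M2)) = matInv (x : M2) := by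
  obtain ⟨h1, h2⟩ := matInv_spec x
  obtain ⟨D, hD⟩ : ∃ D, D = (nonempty_decomp (toEnd (x : M2))).some := ⟨_, rfl⟩
  obtain ⟨m, hm⟩ : ∃ m, m = starM (RingHom.id K) (matInv (x : M2)) := ⟨_, rfl⟩
  obtain ⟨w, hw⟩ := exists_gl_matInv (n := l ⊕ l) m (fun z hz => by
    obtain ⟨u, hu, rfl⟩ := Multiset.mem_map.1 (hm ▸ hz)
    obtain ⟨k1, k2, k3, k4⟩ := h1 u hu
    refine ⟨monic_starP k3, irreducible_starP (fun _ => rfl) k2 k1 k3, ?_, k4⟩
    rw [coeff_zero_starP k1]
    exact inv_ne_zero k3)
    (by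
      rw [hm, starM, Multiset.map_map, ← h2]
      refine congrArg _ (Multiset.map_congr rfl fun u hu => ?_)
      simp only [Function.comp_apply, natDegree_starP (h1 u hu).2.2.1])
  rw [← hm, ← hw]
  obtain ⟨D', hD'⟩ : ∃ D, D = (nonempty_decomp (toEnd (w : M2))).some := ⟨_, rfl⟩
  have hwD : matInv (w : M2) = D'.inv := matInv_eq _ _
  have hxD : matInv (x : M2) = D.inv := matInv_eq _ _
  have hinv : ∀ i, (D.p i).coeff 0 ≠ 0 := fun i => (h1 (D.p i, D.e i) (by
    rw [hxD]; exact Multiset.mem_map.2 ⟨i, Finset.mem_univ i, rfl⟩)).2.2.1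
  have hinv' : ∀ i, (D'.p i).coeff 0 ≠ 0 := fun i => ((matInv_spec w).1 (D'.p i, D'.e i) (by
    rw [hwD]; exact Multiset.mem_map.2 ⟨i, Finset.mem_univ i, rfl⟩)).2.2.1
  rw [hwD, hxD]
  refine inv_eq_of_kerDim_eq _ _ fun q hq hmq k => ?_
  by_cases hq0 : q.coeff 0 = 0
  · rw [kerDim_pow D' hq hmq, kerDim_pow D hq hmq]
    congr 1
    rw [Finset.sum_eq_zero, Finset.sum_eq_zero]
    · exact fun i _ => if_neg fun hh => hinv i (by rw [hh]; exact hq0)
    · exact fun i _ => if_neg fun hh => hinv' i (by rw [hh]; exact hq0)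
  obtain ⟨r, hr⟩ : ∃ r, r = starP (RingHom.id K) q := ⟨_, rfl⟩
  have hqr : starP (RingHom.id K) (q ^ k) = r ^ k := by
    rw [hr]
    induction k with
    | zero => simp [starP_one]
    | succ k ih => rw [pow_succ, starP_mul, ih, pow_succ]
  rw [kerDim_starP hB ha (f := q ^ k) (by rw [coeff_zero_eq_eval_zero, eval_pow, ← coeff_zero_eq_eval_zero]; exact pow_ne_zero _ hq0),
    hqr, hr, kerDim_pow D (irreducible_starP (fun _ => rfl) hq hmq hq0) (monic_starP hq0), kerDim_pow D' hq hmq,
    natDegree_starP hq0]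
  congr 1
  have e := congrArg (fun M : Multiset (K[X] × ℕ) => (M.map fun z => if z.1 = q then min z.2 k else 0).sum)
    ((hwD.symm.trans hw).trans hm)
  rw [hxD] at e
  simp only [starM, Decomp.inv, Multiset.map_map, Function.comp_def] at e
  refine Eq.trans e (Finset.sum_congr rfl fun i _ => ?_)
  have : starP (RingHom.id K) (D.p i) = q ↔ D.p i = starP (RingHom.id K) q :=
    ⟨fun hh => by rw [← hh, starP_starP (fun _ => rfl) (D.monic i) (hinv i)],
      fun hh => by rw [hh, starP_starP (fun _ => rfl) hmq hq0]⟩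
  simp only [this]

end Cfsg.Agent.Lib.Similar.OClass
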