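import Mathlib
import Cfsg.Agent.Lib.Similar.OrthClassInv
import Cfsg.Agent.Lib.Similar.OrthClassCount

/-!
An upper bound for the number of classes of an orthogonal group.
-/

set_option autoImplicit false
set_option linter.unusedSectionVars false

open scoped Classical

namespace Cfsg.Agent.Lib.Similar.OClass

open Cfsg.Agent.Lib.Similar.SpCount (dat srFin mem_srFin mem_dat natDegree_of_mem_dat card_srFin_one)
open Cfsg.Agent.Lib.Similar.OCount (plain signed)
open Cfsg.Agent.Lib.Similar.SpClass (eps mem_of_root isSR_piece piece_odd eq_of_pieces sum_by_exp)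
open Cfsg.Agent.Lib.FamCount (piece)
open scoped Polynomial
open Polynomial (X C)

/-- The orthogonal group of a symmetric matrix. -/
def OB {ι : Type*} [Fintype ι] [DecidableEq ι] {F : Type*} [Field F] (B : Matrix ι ι F) :
    Subgroup (Matrix.GeneralLinearGroup ι F) where
  carrier := {g | (g : Matrix ι ι F).transpose * B * (g : Matrix ι ι F) = B}
  one_mem' := by simp
  mul_mem' := by
    intro a b ha hb
    simp only [Set.mem_ofPred_eq] at ha hb ⊢
    rw [Units.val_mul, Matrix.transpose_mul]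
    calc (b : Matrix ι ι F).transpose * (a : Matrix ι ι F).transpose * B * ((a : Matrix ι ι F) * (b : Matrix ι ι F))
        = (b : Matrix ι ι F).transpose * ((a : Matrix ι ι F).transpose * B * (a : Matrix ι ι F)) * (b : Matrix ι ι F) := by
          simp only [mul_assoc]
      _ = B := by rw [ha, hb]
  inv_mem' := by
    intro a ha
    simp only [Set.mem_ofPred_eq] at ha ⊢
    conv_lhs => rw [← ha]
    simp only [mul_assoc]
    rw [← mul_assoc (((a⁻¹ : Matrix.GeneralLinearGroup ι F) : Matrix ι ι F).transpose), ← Matrix.transpose_mul,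
      Units.mul_inv, Matrix.transpose_one, one_mul, mul_one]

theorem card_classes_le {F : Type*} [Field F] [Fintype F] (hodd : Odd (Fintype.card F)) {k : ℕ}
    {B : Matrix (Fin (k + 1) ⊕ Fin (k + 1)) (Fin (k + 1) ⊕ Fin (k + 1)) F} (hB : OClass.Sym B) :
    2 * Nat.card (ConjClasses (OB B)) ≤ 19 * Fintype.card F ^ (k + 1) := by
  classical
  obtain ⟨p, hchar⟩ := CharP.exists F
  haveI := hchar
  obtain ⟨e, hp, hcard⟩ := FiniteField.card F p
  haveI : Fact p.Prime := ⟨hp⟩
  have hp2 : p ≠ 2 := by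
    rintro rfl
    rw [hcard, Nat.odd_pow_iff e.ne_zero] at hodd
    exact absurd hodd (by decide)
  have h2 : (2 : F) ≠ 0 := Signed.two_ne_zero_of_char hp2
  have hq3 : 3 ≤ Fintype.card F := by
    have := Fintype.one_lt_card (α := F)
    obtain ⟨r, hr⟩ := hodd
    omega
  obtain ⟨n, hn⟩ : ∃ n, n = k + 1 := ⟨_, rfl⟩
  let G := OB B
  let gl : G → Matrix.GeneralLinearGroup (Fin (k + 1) ⊕ Fin (k + 1)) F := fun x => x.1
  let mat : G → Matrix (Fin (k + 1) ⊕ Fin (k + 1)) (Fin (k + 1) ⊕ Fin (k + 1)) F := fun x => ↑x.1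
  have hgl : ∀ x : G, adj B (mat x) * mat x = 1 := fun x => (mem_iff hB).1 x.2
  let inv : G → Multiset (F[X] × ℕ) := fun x => matInv (mat x)
  let ref : Multiset (F[X] × ℕ) → G := Function.invFun inv
  have href : ∀ x, inv (ref (inv x)) = inv x := fun x => Function.invFun_eq ⟨x, rfl⟩
  have hconj : ∀ x : G, ∃ T : Matrix (Fin (k + 1) ⊕ Fin (k + 1)) (Fin (k + 1) ⊕ Fin (k + 1)) F, IsUnit T ∧
      T * mat (ref (inv x)) = mat x * T := by
    intro x
    have h : ConjClasses.mk (gl (ref (inv x))) = ConjClasses.mk (gl x) := classInv_injective (by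
      rw [classInv_mk, classInv_mk]; exact href x)
    obtain ⟨c, hc⟩ := isConj_iff.1 (ConjClasses.mk_eq_mk_iff_isConj.1 h)
    rw [mul_inv_eq_iff_eq_mul] at hc
    exact ⟨c, c.isUnit, congrArg Units.val hc⟩
  choose T hTu hT using hconj
  choose sg hsg using fun x : G => exists_signs hp2 hB (hgl x)
  let slot : Multiset (F[X] × ℕ) → Bool × ℕ := fun m =>
    if h : ∃ z : Bool × ℕ, Odd z.2 ∧ (X - C (eps F z.1), z.2) ∈ m then h.choose else (true, 0)
  let has : Multiset (F[X] × ℕ) → Prop := fun m => ∃ z : Bool × ℕ, Odd z.2 ∧ (X - C (eps F z.1), z.2) ∈ m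
  have hslot : ∀ m, has m → Odd (slot m).2 ∧ (X - C (eps F (slot m).1), (slot m).2) ∈ m := by
    intro m h
    simp only [slot, dif_pos (show ∃ z : Bool × ℕ, Odd z.2 ∧ (X - C (eps F z.1), z.2) ∈ m from h)]
    exact h.choose_spec
  let bit : G → Bool → ℕ → Bool := fun x s i =>
    if Odd i ∧ (X - C (eps F s), i) ∈ inv x ∧ (s, i) ≠ slot (inv x) then sg (ref (inv x)) (adj B (T x) * T x) s i else false
  let flip : G → Bool → ℕ → Bool := fun x s i => if (s, i) = slot (inv x) then true else bit x s i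
  have hspec : ∀ x : G, (∀ y ∈ inv x, y.1.Monic ∧ Irreducible y.1 ∧ y.1.coeff 0 ≠ 0 ∧ 1 ≤ y.2) ∧
      ((inv x).map fun y => y.2 * y.1.natDegree).sum = 2 * n := fun x => by
    have h := matInv_spec (gl x)
    rw [Fintype.card_sum, Fintype.card_fin, ← two_mul] at h
    exact ⟨h.1, h.2.trans (by rw [hn])⟩
  have hexp : ∀ x : G, ∀ y ∈ inv x, y.2 < 2 * n + 1 := fun x y hy => by
    have h := Multiset.le_sum_of_mem (Multiset.mem_map.2 ⟨y, hy, rfl⟩ : y.2 * y.1.natDegree ∈ (inv x).map fun y => y.2 * y.1.natDegree)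
    rw [(hspec x).2] at h
    have := Nat.le_mul_of_pos_right y.2 ((hspec x).1 y hy).2.1.natDegree_pos
    omega
  have hkey : ∀ x y : G, inv x = inv y →
      (∀ s i, 1 ≤ i → i ≤ 2 * n → (s, i) ≠ slot (inv x) → bit x s i = bit y s i) → IsConj x y := by
    intro x y hxy hb
    have hfx := form_of_conj hB (hgl (ref (inv x))) (hgl x) (hTu x) (hT x)
    have hfy := form_of_conj hB (hgl (ref (inv x))) (hgl y) (hTu y) (by rw [hxy]; exact hT y)
    have hsq : ∀ z : G, IsSquare (adj B (T z) * T z).det := fun z =>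
      ⟨(T z).det, by rw [Matrix.det_mul, det_adj hB]⟩
    obtain ⟨Z, hZu, hZc, hZ⟩ := hsg (ref (inv x)) _ _ hfx hfy (hsq x) (hsq y) (slot (inv x)).1 (slot (inv x)).2
      fun s j hj1 hjo hmem hne => by
        have hm : (X - C (eps F s), j) ∈ inv x := by rw [← href x]; exact hmem
        have hne' : (s, j) ≠ slot (inv x) := fun e => hne ⟨congrArg Prod.fst e, congrArg Prod.snd e⟩
        have := hb s j hj1 (by have := hexp x _ hm; simp only at this; omega) hne'
        simp only [bit] at this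
        rw [if_pos ⟨hjo, hm, hne'⟩, if_pos ⟨hjo, hxy ▸ hm, hxy ▸ hne'⟩, ← hxy] at this
        exact this
    obtain ⟨g, hg, hge⟩ := conj_of_congr hB (hTu x) (hTu y) hZu (hT x) (by rw [hxy]; exact hT y) hZc hZ
    refine isConj_iff.2 ⟨⟨g, hg⟩, ?_⟩
    rw [mul_inv_eq_iff_eq_mul]
    exact Subtype.ext (Units.ext hge)
  have hstar : ∀ x : G, starM (RingHom.id F) (inv x) = inv x := fun x => starM_matInv hB (gl x) (hgl x)
  have heven : ∀ (x : G) i, 1 ≤ i → (Even i ∨ ¬ has (inv x)) →
      (piece i (inv x)).coeff 0 = 1 ∧ Even (piece i (inv x)).natDegree := by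
    intro x i hi h
    refine piece_odd h2 (hspec x).1 (hstar x) fun ε hε => ?_
    rcases Nat.even_or_odd i with he | ho
    · exact even_count hB (hgl x) hε h2 he hi
    · have hno := h.resolve_left (Nat.not_even_iff_odd.2 ho)
      have : (X - C ε, i) ∉ inv x := by
        intro hm
        rcases mul_self_eq_one_iff.1 hε with rfl | rfl
        · exact hno ⟨(true, i), ho, by simpa [eps] using hm⟩
        · exact hno ⟨(false, i), ho, by simpa [eps] using hm⟩
      rw [Multiset.count_eq_zero_of_notMem this]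
      exact Even.zero
  have hsum : ∀ x : G, (piece 1 (inv x)).natDegree +
      ∑ t : Fin (2 * k + 1), ((t : ℕ) + 2) * (piece ((t : ℕ) + 2) (inv x)).natDegree = 2 * n := by
    intro x
    have h := (sum_by_exp (fun y hy => ((hspec x).1 y hy).1) _ (hexp x)).trans (hspec x).2
    rw [show 2 * n + 1 = 2 * k + 1 + 1 + 1 by omega, Finset.sum_range_succ', Finset.sum_range_succ', zero_mul, add_zero,
      zero_add, one_mul, add_comm] at h
    rw [Fin.sum_univ_eq_sum_range fun t => (t + 2) * (piece (t + 2) (inv x)).natDegree]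
    exact h
  let w : (Fin (2 * k + 1) → F[X] × Bool × Bool) → ℕ := fun r => ∑ t : Fin (2 * k + 1), ((t : ℕ) + 2) * (r t).1.natDegree
  let one (x : G) (β : Bool → ℕ → Bool) (i : ℕ) : F[X] × Bool × Bool := (piece i (inv x), β true i, β false i)
  let key (x : G) (β : Bool → ℕ → Bool) : Σ _ : Fin (2 * k + 1) → F[X] × Bool × Bool, F[X] × Bool × Bool :=
    ⟨fun t => one x β ((t : ℕ) + 2), one x β 1⟩
  let R1 := (Fintype.piFinset fun t : Fin (2 * k + 1) => signed (F := F) n ((t : ℕ) + 2)).filter fun r => w r ≤ 2 * n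
  let S1 : Finset (Σ _ : Fin (2 * k + 1) → F[X] × Bool × Bool, F[X] × Bool × Bool) := R1.sigma fun r => dat (2 * n - w r)
  let R0 := (Fintype.piFinset fun _ : Fin (2 * k + 1) => plain (F := F) n).filter fun r => w r ≤ 2 * n
  let S0 : Finset (Σ _ : Fin (2 * k + 1) → F[X] × Bool × Bool, F[X] × Bool × Bool) :=
    R0.sigma fun r => srFin (2 * n - w r) (1 : F) ×ˢ {(false, false)}
  have hwx : ∀ (x : G) β, w (key x β).1 + (piece 1 (inv x)).natDegree = 2 * n := fun x β => by
    rw [← hsum x, add_comm]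
  have hdeg : ∀ (x : G) (t : Fin (2 * k + 1)), (piece ((t : ℕ) + 2) (inv x)).natDegree ≤ 2 * n := by
    intro x t
    have h1 : ((t : ℕ) + 2) * (piece ((t : ℕ) + 2) (inv x)).natDegree ≤ _ :=
      Finset.single_le_sum (f := fun t : Fin (2 * k + 1) => ((t : ℕ) + 2) * (piece ((t : ℕ) + 2) (inv x)).natDegree)
        (fun _ _ => Nat.zero_le _) (Finset.mem_univ t)
    have h3 := Nat.le_mul_of_pos_left (piece ((t : ℕ) + 2) (inv x)).natDegree (show 0 < (t : ℕ) + 2 by omega)
    have := hsum x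
    omega
  have hmem1 : ∀ (x : G) (β : Bool → ℕ → Bool), (∀ s i, β s i = true → Odd i ∧ (X - C (eps F s), i) ∈ inv x) →
      key x β ∈ S1 := by
    intro x β hβ
    have hw := hwx x β
    refine Finset.mem_sigma.2 ⟨Finset.mem_filter.2 ⟨Fintype.mem_piFinset.2 fun t => ?_, by omega⟩, ?_⟩
    · show one x β ((t : ℕ) + 2) ∈ signed n ((t : ℕ) + 2)
      obtain ⟨i, hi⟩ : ∃ i, i = (t : ℕ) + 2 := ⟨_, rfl⟩
      have hd := hdeg x t
      rw [← hi] at hd ⊢
      rw [signed]
      split_ifs with hio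
      · refine Finset.mem_biUnion.2 ⟨_, Finset.mem_range.2 (Nat.lt_succ_of_le hd),
          mem_dat h2 (isSR_piece (hspec x).1 (hstar x) i) ?_ ?_⟩ <;>
          intro hb <;> simpa [eps] using (mem_of_root (hspec x).1).2 (hβ _ _ hb).2
      · obtain ⟨hc, ⟨r, hr⟩⟩ := heven x i (by omega) (Or.inl (Nat.not_odd_iff_even.1 hio))
        refine Finset.mem_biUnion.2 ⟨r, Finset.mem_range.2 (by omega), Finset.mem_product.2 ⟨?_, ?_⟩⟩
        · exact mem_srFin.2 ⟨by rw [show 2 * r = (piece i (inv x)).natDegree by omega]; exact isSR_piece (hspec x).1 (hstar x) i, hc⟩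
        · have hf : ∀ s, β s i = false := fun s => Bool.eq_false_iff.2 fun hb => hio (hβ _ _ hb).1
          simp [one, hf]
    · show one x β 1 ∈ dat (2 * n - w (key x β).1)
      rw [show 2 * n - w (key x β).1 = (piece 1 (inv x)).natDegree by omega]
      refine mem_dat h2 (isSR_piece (hspec x).1 (hstar x) 1) ?_ ?_ <;>
        intro hb <;> simpa [eps] using (mem_of_root (hspec x).1).2 (hβ _ _ hb).2
  have hmem0 : ∀ x : G, ¬ has (inv x) → key x (bit x) ∈ S0 := by
    intro x hno
    have hw := hwx x (bit x)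
    have hf : ∀ s i, bit x s i = false := fun s i => by
      simp only [bit]
      exact if_neg fun h => hno ⟨(s, i), h.1, h.2.1⟩
    refine Finset.mem_sigma.2 ⟨Finset.mem_filter.2 ⟨Fintype.mem_piFinset.2 fun t => ?_, by omega⟩, ?_⟩
    · show one x (bit x) ((t : ℕ) + 2) ∈ plain n
      obtain ⟨hc, ⟨r, hr⟩⟩ := heven x ((t : ℕ) + 2) (by omega) (Or.inr hno)
      refine Finset.mem_biUnion.2 ⟨r, Finset.mem_range.2 (by have := hdeg x t; omega), Finset.mem_product.2 ⟨?_, ?_⟩⟩
      · exact mem_srFin.2 ⟨by rw [show 2 * r = (piece ((t : ℕ) + 2) (inv x)).natDegree by omega]; exact isSR_piece (hspec x).1 (hstar x) _, hc⟩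
      · simp [one, hf]
    · show one x (bit x) 1 ∈ srFin (2 * n - w (key x (bit x)).1) (1 : F) ×ˢ {(false, false)}
      rw [show 2 * n - w (key x (bit x)).1 = (piece 1 (inv x)).natDegree by omega]
      refine Finset.mem_product.2 ⟨mem_srFin.2 ⟨isSR_piece (hspec x).1 (hstar x) 1, (heven x 1 le_rfl (Or.inr hno)).1⟩, ?_⟩
      simp [one, hf]
  have hbit : ∀ x : G, ∀ s i, bit x s i = true → Odd i ∧ (X - C (eps F s), i) ∈ inv x := fun x s i h => by
    simp only [bit] at h
    split_ifs at h with hc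
    exact ⟨hc.1, hc.2.1⟩
  have hflip : ∀ x : G, has (inv x) → ∀ s i, flip x s i = true → Odd i ∧ (X - C (eps F s), i) ∈ inv x := fun x hx s i h => by
    simp only [flip] at h
    split_ifs at h with hc
    · have := hslot _ hx
      rw [← hc] at this
      exact this
    · exact hbit x s i h
  have hrec : ∀ (x y : G) β γ, key x β = key y γ →
      inv x = inv y ∧ ∀ s i, 1 ≤ i → i ≤ 2 * n → β s i = γ s i := by
    intro x y β γ h
    obtain ⟨h1, h3⟩ := Sigma.mk.inj_iff.1 h
    have h3' := eq_of_heq h3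
    have hrow : ∀ i, 1 ≤ i → i ≤ 2 * n → one x β i = one y γ i := by
      intro i hi1 hi2
      rcases Nat.lt_or_ge i 2 with hi | hi
      · rw [show i = 1 by omega]; exact h3'
      · have e := congrFun h1 ⟨i - 2, by omega⟩
        simp only [show i - 2 + 2 = i by omega] at e
        exact e
    simp only [one, Prod.mk.injEq] at hrow
    refine ⟨eq_of_pieces (hspec _).1 (hspec _).1 fun i => ?_, fun s i hi1 hi2 => ?_⟩
    · have hz : ∀ z : G, i = 0 ∨ 2 * n < i → piece i (inv z) = 1 := by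
        intro z hi
        rw [piece, Multiset.filter_eq_nil.2 fun a ha hai => ?_, Multiset.map_zero, Multiset.prod_zero]
        have := ((hspec z).1 a ha).2.2.2
        have := hexp z a ha
        omega
      rcases Nat.lt_or_ge (2 * n) i with hi | hi
      · rw [hz _ (Or.inr hi), hz _ (Or.inr hi)]
      rcases Nat.eq_zero_or_pos i with h0 | h0
      · rw [hz _ (Or.inl h0), hz _ (Or.inl h0)]
      · exact (hrow i h0 hi).1
    · cases s <;> [exact (hrow i hi1 hi2).2.2; exact (hrow i hi1 hi2).2.1]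
  let rep : ConjClasses G → G := Function.surjInv ConjClasses.mk_surjective
  let Φ : ConjClasses G × Bool → S1 ⊕ S0 := fun c =>
    if c.2 then (if h : has (inv (rep c.1)) then Sum.inl ⟨_, hmem1 _ _ (hflip (rep c.1) h)⟩ else Sum.inr ⟨_, hmem0 (rep c.1) h⟩)
    else Sum.inl ⟨_, hmem1 _ _ (hbit (rep c.1))⟩
  have hslot1 : ∀ x : G, has (inv x) → 1 ≤ (slot (inv x)).2 ∧ (slot (inv x)).2 ≤ 2 * n := fun x h => by
    have h1 := hslot _ h
    have := hexp x _ h1.2
    obtain ⟨r, hr⟩ := h1.1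
    simp only at this
    omega
  have hclash : ∀ x y : G, has (inv x) → key x (flip x) ≠ key y (bit y) := by
    intro x y hx h
    obtain ⟨hm, hb⟩ := hrec _ _ _ _ h
    have := hb (slot (inv x)).1 (slot (inv x)).2 (hslot1 x hx).1 (hslot1 x hx).2
    simp only [flip, bit] at this
    rw [if_pos trivial, if_neg fun h' => h'.2.2 (hm ▸ rfl)] at this
    exact Bool.noConfusion this
  have hconjeq : ∀ c d : ConjClasses G, IsConj (rep c) (rep d) → c = d := fun c d h => by
    rwa [← ConjClasses.mk_eq_mk_iff_isConj, Function.surjInv_eq ConjClasses.mk_surjective,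
      Function.surjInv_eq ConjClasses.mk_surjective] at h
  have hinj : Function.Injective Φ := by
    rintro ⟨c, u⟩ ⟨d, v⟩ h
    have hbb : ∀ β γ : G → Bool → ℕ → Bool, key (rep c) (β (rep c)) = key (rep d) (γ (rep d)) →
        (∀ z s i, (s, i) ≠ slot (inv z) → β z s i = bit z s i) → (∀ z s i, (s, i) ≠ slot (inv z) → γ z s i = bit z s i) →
        c = d := by
      intro β γ hk hβ hγ
      obtain ⟨hm, hb⟩ := hrec _ _ _ _ hk
      refine hconjeq c d (hkey _ _ hm fun s i hi1 hi2 hne => ?_)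
      rw [← hβ _ s i hne, ← hγ _ s i (hm ▸ hne)]
      exact hb s i hi1 hi2
    have hf : ∀ (z : G) s i, (s, i) ≠ slot (inv z) → flip z s i = bit z s i := fun z s i hne => if_neg hne
    cases u <;> cases v <;> simp only [Φ, Bool.false_eq_true, if_false, if_true] at h
    · exact Prod.ext (hbb bit bit (Subtype.ext_iff.1 (Sum.inl_injective h)) (fun _ _ _ _ => rfl) (fun _ _ _ _ => rfl)) rfl
    · split_ifs at h with hd
      exact absurd (Subtype.ext_iff.1 (Sum.inl_injective h)).symm (hclash _ _ hd)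
    · split_ifs at h with hc
      exact absurd (Subtype.ext_iff.1 (Sum.inl_injective h)) (hclash _ _ hc)
    · split_ifs at h with hc hd
      · exact Prod.ext (hbb flip flip (Subtype.ext_iff.1 (Sum.inl_injective h)) hf hf) rfl
      · exact Prod.ext (hbb bit bit (Subtype.ext_iff.1 (Sum.inr_injective h)) (fun _ _ _ _ => rfl) (fun _ _ _ _ => rfl)) rfl
  have hle : 2 * Nat.card (ConjClasses G) ≤ S1.card + S0.card := by
    have := Nat.card_le_card_of_injective _ hinj
    rw [Nat.card_prod, Nat.card_sum, Nat.card_eq_finsetCard, Nat.card_eq_finsetCard,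
      show Nat.card Bool = 2 by simp] at this
    omega
  -- the numerical estimate
  obtain ⟨q, hq⟩ : ∃ q, q = Fintype.card F := ⟨_, rfl⟩
  obtain ⟨s, hsd⟩ : ∃ s : ℝ, s = Real.sqrt ((q : ℝ))⁻¹ := ⟨_, rfl⟩
  have hq0 : (0 : ℝ) < q := by rw [Nat.cast_pos]; omega
  have hq3' : (3 : ℝ) ≤ q := by exact_mod_cast hq ▸ hq3
  have hs0 : 0 ≤ s := hsd ▸ Real.sqrt_nonneg _
  have hsq : s ^ 2 * (Fintype.card F : ℝ) = 1 := by
    rw [hsd, Real.sq_sqrt (inv_nonneg.2 hq0.le), ← hq, inv_mul_cancel₀ hq0.ne']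
  have hy : s ^ 2 ≤ 1 / 3 := by
    rw [hsd, Real.sq_sqrt (inv_nonneg.2 hq0.le), one_div]
    exact inv_anti₀ (by norm_num) hq3'
  have hs1 : s ≤ 578 / 1000 := by nlinarith
  have hs1' : s ≤ 1 := by linarith
  have hconv : ∀ (cd c : ℝ) (r : Fin (2 * k + 1) → F[X] × Bool × Bool), w r ≤ 2 * n →
      cd * s ^ (2 * n - w r) ≤ c → cd ≤ c * (q : ℝ) ^ n * ∏ t : Fin (2 * k + 1), s ^ (((t : ℕ) + 2) * (r t).1.natDegree) := by
    intro cd c r hr hc
    rw [Finset.prod_pow_eq_pow_sum]
    have hsn : s ^ (2 * n) * (q : ℝ) ^ n = 1 := by rw [pow_mul, ← mul_pow, hq, hsq, one_pow]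
    calc cd = cd * (s ^ (2 * n) * (q : ℝ) ^ n) := by rw [hsn, mul_one]
      _ = cd * s ^ (2 * n - w r) * ((q : ℝ) ^ n * s ^ w r) := by
          conv_lhs => rw [show 2 * n = (2 * n - w r) + w r by omega, pow_add]
          ring
      _ ≤ c * ((q : ℝ) ^ n * s ^ w r) := mul_le_mul_of_nonneg_right hc (by positivity)
      _ = _ := by ring
  obtain ⟨hp1, hp0⟩ := OCount.prods_le hs0 hs1 hy k
  have hb1 : (S1.card : ℝ) ≤ 28 / 9 * (q : ℝ) ^ n * (27 / 5) := by
    rw [Finset.card_sigma, Nat.cast_sum]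
    calc ∑ r ∈ R1, ((dat (F := F) (2 * n - w r)).card : ℝ)
        ≤ ∑ r ∈ R1, 28 / 9 * (q : ℝ) ^ n * ∏ t : Fin (2 * k + 1), s ^ (((t : ℕ) + 2) * (r t).1.natDegree) :=
          Finset.sum_le_sum fun r hr => hconv _ _ r (Finset.mem_filter.1 hr).2 (OCount.dat_le hs0 hsq h2 hq3 hs1 _)
      _ ≤ ∑ r ∈ Fintype.piFinset (fun t : Fin (2 * k + 1) => signed (F := F) n ((t : ℕ) + 2)),
            28 / 9 * (q : ℝ) ^ n * ∏ t : Fin (2 * k + 1), s ^ (((t : ℕ) + 2) * (r t).1.natDegree) :=
          Finset.sum_le_sum_of_subset_of_nonneg (Finset.filter_subset _ _) fun r _ _ => by positivity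
      _ = 28 / 9 * (q : ℝ) ^ n * ∏ t : Fin (2 * k + 1), ∑ x ∈ signed (F := F) n ((t : ℕ) + 2), s ^ (((t : ℕ) + 2) * x.1.natDegree) := by
          rw [← Finset.mul_sum, Finset.prod_univ_sum]
      _ ≤ _ := by
          refine mul_le_mul_of_nonneg_left ?_ (by positivity)
          exact le_trans (Finset.prod_le_prod (fun t _ => Finset.sum_nonneg fun x _ => by positivity) fun t _ =>
            OCount.sum_signed_le hs0 hsq h2 n (by omega)) hp1
  have hb0 : (S0.card : ℝ) ≤ 1 * (q : ℝ) ^ n * (9 / 5) := by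
    rw [Finset.card_sigma, Nat.cast_sum]
    calc ∑ r ∈ R0, ((srFin (2 * n - w r) (1 : F) ×ˢ ({(false, false)} : Finset (Bool × Bool))).card : ℝ)
        ≤ ∑ r ∈ R0, 1 * (q : ℝ) ^ n * ∏ t : Fin (2 * k + 1), s ^ (((t : ℕ) + 2) * (r t).1.natDegree) := by
          refine Finset.sum_le_sum fun r hr => hconv _ _ r (Finset.mem_filter.1 hr).2 ?_
          rw [Finset.card_product, Finset.card_singleton, mul_one]
          have h := card_srFin_one (F := F) h2 (2 * n - w r)
          refine le_trans (mul_le_mul (by exact_mod_cast h : ((srFin (2 * n - w r) (1 : F)).card : ℝ) ≤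
            (Fintype.card F : ℝ) ^ ((2 * n - w r) / 2))
            (pow_le_pow_of_le_one hs0 hs1' (Nat.mul_div_le (2 * n - w r) 2)) (pow_nonneg hs0 _) (by positivity)) (le_of_eq ?_)
          rw [pow_mul, ← mul_pow, mul_comm, hsq, one_pow]
      _ ≤ ∑ r ∈ Fintype.piFinset (fun _ : Fin (2 * k + 1) => plain (F := F) n),
            1 * (q : ℝ) ^ n * ∏ t : Fin (2 * k + 1), s ^ (((t : ℕ) + 2) * (r t).1.natDegree) :=
          Finset.sum_le_sum_of_subset_of_nonneg (Finset.filter_subset _ _) fun r _ _ => by positivity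
      _ = 1 * (q : ℝ) ^ n * ∏ t : Fin (2 * k + 1), ∑ x ∈ plain (F := F) n, s ^ (((t : ℕ) + 2) * x.1.natDegree) := by
          rw [← Finset.mul_sum, Finset.prod_univ_sum]
      _ ≤ _ := by
          refine mul_le_mul_of_nonneg_left ?_ (by positivity)
          exact le_trans (Finset.prod_le_prod (fun t _ => Finset.sum_nonneg fun x _ => by positivity) fun t _ =>
            OCount.sum_plain_le hs0 hsq h2 n (by omega)) hp0
  have hfin : (2 : ℝ) * (Nat.card (ConjClasses G) : ℝ) ≤ 19 * (Fintype.card F : ℝ) ^ n := by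
    have h : ((2 * Nat.card (ConjClasses G) : ℕ) : ℝ) ≤ ((S1.card + S0.card : ℕ) : ℝ) := by exact_mod_cast hle
    push_cast at h
    rw [← hq]
    have : (0 : ℝ) ≤ (q : ℝ) ^ n := by positivity
    linarith
  subst hn
  exact_mod_cast hfin

end Cfsg.Agent.Lib.Similar.OClass
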