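import Mathlib
import Cfsg.Agent.Lib.Similar.SympConj

/-!
Many conjugacy classes of symplectic matrices.
-/

set_option autoImplicit false

namespace Cfsg.Agent.Lib.Similar.SpClass

open Matrix Polynomial
open Cfsg.Agent.Lib.Similar.Symp

variable {F : Type*} [Field F]

theorem J_eq (n : ℕ) : J (Fin n) F = fromBlocks (0 : Matrix (Fin n) (Fin n) F) (-1) 1 0 := rfl

theorem exists_sym_factor {n : ℕ} {f : F[X]} (hm : f.Monic) (hd : f.natDegree = n) :
    ∃ P C : Matrix (Fin n) (Fin n) F, Pᵀ = P ∧ P.det ≠ 0 ∧ (P * C)ᵀ = P * C ∧ C.charpoly = f := by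
  classical
  subst hd
  obtain ⟨pb, hpb⟩ : ∃ pb, pb = AdjoinRoot.powerBasis' hm := ⟨_, rfl⟩
  have hdim : pb.dim = f.natDegree := by rw [hpb]; rfl
  obtain ⟨b, hb⟩ : ∃ b : Module.Basis (Fin f.natDegree) F (AdjoinRoot f), ∀ i, b i = pb.gen ^ (i : ℕ) :=
    ⟨pb.basis.reindex (finCongr hdim), fun i => by simp [PowerBasis.coe_basis]⟩
  obtain ⟨C, hC⟩ : ∃ C, C = Algebra.leftMulMatrix b pb.gen := ⟨_, rfl⟩
  obtain ⟨τ, hτ⟩ : ∃ τ : AdjoinRoot f →ₗ[F] F, ∀ i, τ (b i) = if (i : ℕ) + 1 = f.natDegree then 1 else 0 :=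
    ⟨b.constr F fun i => if (i : ℕ) + 1 = f.natDegree then 1 else 0, fun i => b.constr_basis F _ i⟩
  obtain ⟨P, hP⟩ : ∃ P : Matrix (Fin f.natDegree) (Fin f.natDegree) F, ∀ i j, P i j = τ (b i * b j) :=
    ⟨Matrix.of fun i j => τ (b i * b j), fun i j => rfl⟩
  have hPC : ∀ i k, (P * C) i k = τ (b i * (pb.gen * b k)) := by
    intro i k
    conv_rhs => rw [← b.sum_repr (pb.gen * b k), Finset.mul_sum, map_sum]
    rw [mul_apply]
    refine Finset.sum_congr rfl fun j _ => ?_
    rw [mul_smul_comm, map_smul, smul_eq_mul, hP, hC, Algebra.leftMulMatrix_eq_repr_mul, mul_comm]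
  refine ⟨P, C, ?_, ?_, ?_, ?_⟩
  · ext i j; rw [transpose_apply, hP, hP, mul_comm]
  · intro h0
    obtain ⟨v, hv, hv0⟩ := Matrix.exists_mulVec_eq_zero_iff.2 h0
    obtain ⟨r, hr, hmax⟩ := Finset.exists_max_image (Finset.univ.filter fun j => v j ≠ 0) (fun j : Fin f.natDegree => (j : ℕ)) (by
      obtain ⟨j, hj⟩ := Function.ne_iff.1 hv
      exact ⟨j, by simpa using hj⟩)
    have hr0 := (Finset.mem_filter.1 hr).2
    obtain ⟨i, hi⟩ : ∃ i : Fin f.natDegree, (i : ℕ) = f.natDegree - 1 - r := ⟨⟨f.natDegree - 1 - r, by omega⟩, rfl⟩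
    have e := congrFun hv0 i
    rw [mulVec, dotProduct, Finset.sum_eq_single r, hP] at e
    · have : b i * b r = b ⟨f.natDegree - 1, by omega⟩ := by
        rw [hb, hb, hb, ← pow_add]; congr 1; simp only; omega
      rw [this, hτ, if_pos (by simp only; omega), one_mul] at e
      exact hr0 e
    · intro j _ hj
      by_cases hvj : v j = 0
      · rw [hvj, mul_zero]
      have hle : (j : ℕ) ≤ r := hmax j (by simp [hvj])
      have hne : (j : ℕ) ≠ r := fun e => hj (Fin.ext e)
      have : b i * b j = b ⟨(i : ℕ) + j, by omega⟩ := by rw [hb, hb, hb, ← pow_add]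
      rw [hP, this, hτ, if_neg (by simp only; omega), zero_mul]
    · simp
  · ext i k
    rw [transpose_apply, hPC, hPC]
    congr 1
    ring
  · haveI := pb.finite
    have h : (Algebra.leftMulMatrix pb.basis pb.gen).charpoly = minpoly F pb.gen := charpoly_leftMulMatrix pb
    rw [Algebra.leftMulMatrix_apply, LinearMap.charpoly_toMatrix] at h
    rw [hC, Algebra.leftMulMatrix_apply, LinearMap.charpoly_toMatrix, h, hpb, AdjoinRoot.powerBasis'_gen,
      AdjoinRoot.minpoly_root hm.ne_zero, hm.leadingCoeff, inv_one, C_1, mul_one]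

theorem card_classes_ge [Fintype F] (h2 : (2 : F) ≠ 0) (n : ℕ) :
    Fintype.card F ^ n ≤ Nat.card (ConjClasses (Matrix.symplecticGroup (Fin n) F)) := by
  classical
  let poly : (Fin n → F) → F[X] := fun c => X ^ n + ∑ i : Fin n, Polynomial.C (c i) * X ^ (i : ℕ)
  have hpoly : ∀ c, (poly c).Monic ∧ (poly c).natDegree = n ∧ ∀ i : Fin n, (poly c).coeff i = c i := by
    intro c
    refine ⟨monic_X_pow_add (degree_sum_fin_lt _), ?_, fun i => ?_⟩
    · rw [natDegree_add_eq_left_of_degree_lt (by rw [degree_X_pow]; exact degree_sum_fin_lt _), natDegree_X_pow]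
    · simp only [poly, coeff_add, coeff_X_pow, finsetSum_coeff, coeff_C_mul]
      rw [if_neg (by omega), zero_add, Finset.sum_eq_single i]
      · simp
      · intro b _ hb
        rw [if_neg (fun h => hb (Fin.ext h.symm)), mul_zero]
      · simp
  have hex : ∀ c, ∃ g : Matrix.symplecticGroup (Fin n) F,
      ((g : Matrix (Fin n ⊕ Fin n) (Fin n ⊕ Fin n) F) + sadj (g : Matrix (Fin n ⊕ Fin n) (Fin n ⊕ Fin n) F)).charpoly = poly c * poly c := by
    intro c
    obtain ⟨P, C, hP, hdet, hPC, hC⟩ := exists_sym_factor (hpoly c).1 (hpoly c).2.1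
    obtain ⟨Pi, hPi1, hPi2⟩ : ∃ Pi, P * Pi = 1 ∧ Pi * P = 1 :=
      ⟨P⁻¹, mul_nonsing_inv _ hdet.isUnit, nonsing_inv_mul _ hdet.isUnit⟩
    have hPiT : Piᵀ = Pi := by
      have h := congrArg transpose hPi1
      rw [transpose_mul, transpose_one, hP] at h
      calc Piᵀ = Piᵀ * (P * Pi) := by rw [hPi1, mul_one]
        _ = Pi := by rw [← mul_assoc, h, one_mul]
    have hCT : Cᵀ * P = P * C := by rw [← hPC, transpose_mul, hP]
    let g : Matrix (Fin n ⊕ Fin n) (Fin n ⊕ Fin n) F := fromBlocks 0 P (-Pi) C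
    have hsadj : sadj g = fromBlocks Cᵀ (-P) Pi 0 := by
      rw [sadj, J_eq]
      simp only [g, fromBlocks_transpose, fromBlocks_multiply, fromBlocks_neg, transpose_zero, transpose_neg, hP, hPiT]
      congr 1 <;> simp
    have hg : g ∈ Matrix.symplecticGroup (Fin n) F := by
      rw [mem_iff, hsadj]
      simp only [g, fromBlocks_multiply, ← fromBlocks_one]
      congr 1 <;> simp [hPi1, hPi2, hCT]
    refine ⟨⟨g, hg⟩, ?_⟩
    show (g + sadj g).charpoly = _
    rw [hsadj]
    simp only [g, fromBlocks_add, zero_add, add_zero, add_neg_cancel, neg_add_cancel]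
    rw [charpoly_fromBlocks_zero₁₂, charpoly_transpose, hC]
  choose g hg using hex
  have hinj : Function.Injective fun c => ConjClasses.mk (g c) := by
    intro c c' h
    obtain ⟨x, hx⟩ := isConj_iff.1 (ConjClasses.mk_eq_mk_iff_isConj.1 h)
    obtain ⟨u, hu⟩ : ∃ u, u = (x : Matrix (Fin n ⊕ Fin n) (Fin n ⊕ Fin n) F) := ⟨_, rfl⟩
    obtain ⟨v, hv⟩ : ∃ v, v = ((x⁻¹ : Matrix.symplecticGroup (Fin n) F) : Matrix (Fin n ⊕ Fin n) (Fin n ⊕ Fin n) F) := ⟨_, rfl⟩
    have hvu : v * u = 1 := by rw [hu, hv, ← Submonoid.coe_mul, inv_mul_cancel, Submonoid.coe_one]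
    have hsu : sadj u = v := by
      have h1 : sadj u * u = 1 := mem_iff.1 (hu ▸ x.2)
      calc sadj u = sadj u * (u * v) := by rw [mul_eq_one_comm.1 hvu, mul_one]
        _ = v := by rw [← mul_assoc, h1, one_mul]
    have e : (g c' : Matrix (Fin n ⊕ Fin n) (Fin n ⊕ Fin n) F) = u * g c * v := by
      rw [hu, hv, ← hx]; rfl
    have e2 := hg c'
    rw [e, sadj_mul, sadj_mul, hsu, show sadj v = u by rw [← hsu, sadj_sadj],
      ← mul_assoc u (sadj _), ← add_mul, ← mul_add, Matrix.charpoly_mul_comm, ← mul_assoc, hvu, one_mul, hg c] at e2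
    have e3 : poly c = poly c' := by
      rcases mul_self_eq_mul_self_iff.1 e2 with h | h
      · exact h
      · have := congrArg leadingCoeff h
        rw [leadingCoeff_neg, (hpoly c).1.leadingCoeff, (hpoly c').1.leadingCoeff] at this
        exact absurd (by linear_combination this) h2
    funext i
    rw [← (hpoly c).2.2 i, e3, (hpoly c').2.2 i]
  have := Nat.card_le_card_of_injective _ hinj
  rwa [Nat.card_fun, Nat.card_eq_fintype_card, Nat.card_eq_fintype_card, Fintype.card_fin] at this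

end Cfsg.Agent.Lib.Similar.SpClass
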