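import Mathlib
import Cfsg.Agent.Lib.Similar.OrthClassUpper
import Cfsg.Agent.Lib.Similar.SympClassLower

/-!
Many conjugacy classes in an orthogonal group.
-/

set_option autoImplicit false
set_option linter.unusedSectionVars false

open scoped Classical

namespace Cfsg.Agent.Lib.Similar.OClass

open Matrix
open scoped Polynomial
open Polynomial (X C)

variable {F : Type*} [Field F] [Fintype F]

theorem det_class (h2 : (2 : F) ≠ 0) {m : ℕ} {P K : Matrix (Fin m) (Fin m) F} :
    (fromBlocks P (P * K) (P * K) P).det = P.det * P.det * ((2⁻¹ : F) ^ m * 2⁻¹ ^ m) *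
      ((-1) ^ m * ((2 : F) • K).charpoly.eval 2 * ((2 : F) • K).charpoly.eval (-2)) := by
  have e : fromBlocks P (P * K) (P * K) P = fromBlocks P 0 0 P * fromBlocks 1 K K 1 := by
    rw [fromBlocks_multiply]; simp
  rw [e, det_mul, det_fromBlocks_zero₂₁, det_fromBlocks_one₁₁, Matrix.eval_charpoly, Matrix.eval_charpoly]
  have h1 : 1 - K * K = (1 - K) * (1 + K) := by rw [sub_mul, one_mul, mul_add, mul_one]; abel
  have a1 : (1 - K).det = (2⁻¹ : F) ^ m * (Matrix.scalar (Fin m) (2 : F) - (2 : F) • K).det := by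
    have : (1 : Matrix (Fin m) (Fin m) F) - K = (2⁻¹ : F) • (Matrix.scalar (Fin m) (2 : F) - (2 : F) • K) := by
      rw [scalar_apply, ← smul_one_eq_diagonal, ← smul_sub, smul_smul, inv_mul_cancel₀ h2, one_smul]
    rw [this, det_smul, Fintype.card_fin]
  have a2 : (1 + K).det = (2⁻¹ : F) ^ m * ((-1) ^ m * (Matrix.scalar (Fin m) (-2 : F) - (2 : F) • K).det) := by
    have : (1 : Matrix (Fin m) (Fin m) F) + K = (2⁻¹ : F) • ((-1 : F) • (Matrix.scalar (Fin m) (-2 : F) - (2 : F) • K)) := by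
      rw [scalar_apply, ← smul_one_eq_diagonal, neg_one_smul, neg_sub, neg_smul, sub_neg_eq_add, ← smul_add, smul_smul,
        inv_mul_cancel₀ h2, one_smul, add_comm]
    rw [this, det_smul, det_smul, Fintype.card_fin]
  rw [h1, det_mul, a1, a2]
  ring

/-- A block isometry with prescribed trace polynomial. -/
theorem exists_block (h2 : (2 : F) ≠ 0) {m : ℕ} {f : F[X]} (hm : f.Monic) (hd : f.natDegree = m)
    (hp : f.eval 2 ≠ 0) (hn : f.eval (-2) ≠ 0) :
    ∃ (B g h : Matrix (Fin m ⊕ Fin m) (Fin m ⊕ Fin m) F) (u : F), u ≠ 0 ∧ Bᵀ = B ∧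
      B.det = u * u * ((-1) ^ m * f.eval 2 * f.eval (-2)) ∧ gᵀ * B * g = B ∧ g * h = 1 ∧
      (g + h).charpoly = f * f := by
  obtain ⟨P, C, hP, hdet, hPC, hC⟩ := SpClass.exists_sym_factor hm hd
  obtain ⟨K, hK⟩ : ∃ K, K = (2⁻¹ : F) • C := ⟨_, rfl⟩
  have hCK : (2 : F) • K = C := by rw [hK, smul_smul, mul_inv_cancel₀ h2, one_smul]
  have hPK : (P * K)ᵀ = P * K := by rw [hK, Matrix.mul_smul, transpose_smul, hPC]
  have hKP : Kᵀ * P = P * K := by
    rw [← hPK, transpose_mul, hP]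
  refine ⟨fromBlocks P (P * K) (P * K) P, fromBlocks 0 (-1) 1 C, fromBlocks C 1 (-1) 0,
    P.det * (2⁻¹ : F) ^ m, mul_ne_zero hdet (pow_ne_zero _ (inv_ne_zero h2)), ?_, ?_, ?_, ?_, ?_⟩
  · rw [fromBlocks_transpose, hP, hPK]
  · rw [det_class h2, hCK, hC]; ring
  · have h1 : Cᵀ * P = (2 : F) • (P * K) := by
      rw [← hCK, transpose_smul, Matrix.smul_mul, hKP]
    have h4 : P * C = (2 : F) • (P * K) := by rw [← hCK, Matrix.mul_smul]
    rw [fromBlocks_transpose, fromBlocks_multiply, fromBlocks_multiply]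
    simp only [transpose_zero, transpose_one, transpose_neg, Matrix.zero_mul, Matrix.one_mul, zero_add,
      Matrix.neg_mul, Matrix.mul_zero, Matrix.mul_one, Matrix.mul_neg]
    congr 1
    · rw [h4]; module
    · rw [h1]; module
    · have : Cᵀ * P * C = Cᵀ * (P * C) := mul_assoc _ _ _
      have e1 : Cᵀ * (P * K) = P * K * C := by
        rw [← mul_assoc, h1, ← hCK, Matrix.mul_smul, Matrix.smul_mul]
      have e2 : P * K * C = Cᵀ * (P * K) := e1.symm
      rw [add_mul, neg_mul, e2, this]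
      have e3 : Cᵀ * (P * C) = (2 : F) • (Cᵀ * (P * K)) := by rw [h4, Matrix.mul_smul]
      rw [neg_add, neg_neg, e3]
      module
  · rw [fromBlocks_multiply, ← fromBlocks_one]; simp
  · rw [fromBlocks_add]
    simp [hC]

/-- An isometry of a form with prescribed discriminant class, moved into a given form. -/
theorem exists_transfer {n : ℕ} (h2 : (2 : F) ≠ 0) {B : Matrix (Fin n ⊕ Fin n) (Fin n ⊕ Fin n) F} (hB : OClass.Sym B)
    {κ : Type*} [Fintype κ] [DecidableEq κ] (hκ : Fintype.card κ = n + n) {B0 g h : Matrix κ κ F}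
    (hs : B0ᵀ = B0) (h0 : B0.det ≠ 0) (hsq : IsSquare B0.det ↔ IsSquare B.det) (hg : gᵀ * B0 * g = B0) (hgh : g * h = 1) :
    ∃ x : OB B, ((x : Matrix.GeneralLinearGroup (Fin n ⊕ Fin n) F) : Matrix (Fin n ⊕ Fin n) (Fin n ⊕ Fin n) F).charpoly = g.charpoly ∧
      (((x : Matrix.GeneralLinearGroup (Fin n ⊕ Fin n) F) : Matrix (Fin n ⊕ Fin n) (Fin n ⊕ Fin n) F) +
        (((x⁻¹ : OB B) : Matrix.GeneralLinearGroup (Fin n ⊕ Fin n) F) : Matrix (Fin n ⊕ Fin n) (Fin n ⊕ Fin n) F)).charpoly =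
        (g + h).charpoly := by
  let e : κ ≃ Fin n ⊕ Fin n := Fintype.equivOfCardEq (by simp [hκ])
  let r := Matrix.reindexAlgEquiv F F e
  have hrT : ∀ A : Matrix κ κ F, (r A)ᵀ = r Aᵀ := fun A => by simp [r, Matrix.transpose_submatrix]
  have hrd : (r B0).det = B0.det := Matrix.det_reindexAlgEquiv F F e B0
  obtain ⟨H, hH⟩ := Signed.sym_congr (G := B) (G' := r B0) h2 hB.symm (by rw [hrT, hs]) hB.det.ne_zero
    (by rw [hrd]; exact h0) (by rw [hrd]; exact hsq.symm)
  have hHu : IsUnit H.det := by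
    refine IsUnit.mk0 _ fun e0 => h0 ?_
    rw [← hrd, ← hH, det_mul, e0, mul_zero]
  obtain ⟨Hi, hH1, hH2⟩ : ∃ Hi, H * Hi = 1 ∧ Hi * H = 1 := ⟨H⁻¹, mul_nonsing_inv _ hHu, nonsing_inv_mul _ hHu⟩
  have hhg : h * g = 1 := mul_eq_one_comm.1 hgh
  have hr1 : r g * r h = 1 := by rw [← map_mul, hgh, map_one]
  have hr2 : r h * r g = 1 := by rw [← map_mul, hhg, map_one]
  let u : Matrix.GeneralLinearGroup (Fin n ⊕ Fin n) F :=
    ⟨H * r g * Hi, H * r h * Hi, by
      rw [show H * r g * Hi * (H * r h * Hi) = H * r g * (Hi * H) * r h * Hi by simp only [mul_assoc], hH2, mul_one,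
        mul_assoc H, hr1, mul_one, hH1], by
      rw [show H * r h * Hi * (H * r g * Hi) = H * r h * (Hi * H) * r g * Hi by simp only [mul_assoc], hH2, mul_one,
        mul_assoc H, hr2, mul_one, hH1]⟩
  have hu : u ∈ OB B := by
    show (H * r g * Hi)ᵀ * B * (H * r g * Hi) = B
    have hgr : (r g)ᵀ * r B0 * r g = r B0 := by rw [hrT, ← map_mul, ← map_mul, hg]
    calc (H * r g * Hi)ᵀ * B * (H * r g * Hi) = Hiᵀ * ((r g)ᵀ * (Hᵀ * B * H) * r g) * Hi := by
          rw [transpose_mul, transpose_mul]; simp only [mul_assoc]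
      _ = Hiᵀ * (Hᵀ * B * H) * Hi := by rw [hH, hgr]
      _ = (H * Hi)ᵀ * B * (H * Hi) := by rw [transpose_mul]; simp only [mul_assoc]
      _ = B := by rw [hH1, transpose_one, one_mul, mul_one]
  refine ⟨⟨u, hu⟩, ?_, ?_⟩
  · show (H * r g * Hi).charpoly = _
    rw [Matrix.charpoly_mul_comm, ← mul_assoc, hH2, one_mul]
    exact Matrix.charpoly_reindex e g
  · show (H * r g * Hi + H * r h * Hi).charpoly = _
    rw [← add_mul, ← mul_add, ← map_add, Matrix.charpoly_mul_comm, ← mul_assoc, hH2, one_mul]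
    exact Matrix.charpoly_reindex e (g + h)

/-- Monic polynomials with prescribed values at `2` and `-2`. -/
noncomputable def interp (m : ℕ) (c : (Fin m → F) × F × F) : F[X] :=
  (X ^ 2 - C 4) * (X ^ m + ∑ i : Fin m, C (c.1 i) * X ^ (i : ℕ)) + C ((c.2.1 - c.2.2) * (4 : F)⁻¹) * X +
    C ((c.2.1 + c.2.2) * (2 : F)⁻¹)

theorem interp_spec (h2 : (2 : F) ≠ 0) (m : ℕ) (c : (Fin m → F) × F × F) :
    (interp m c).Monic ∧ (interp m c).natDegree = m + 2 ∧ (interp m c).eval 2 = c.2.1 ∧ (interp m c).eval (-2) = c.2.2 := by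
  have h4 : (4 : F) ≠ 0 := by
    rw [show (4 : F) = 2 * 2 by norm_num]; exact mul_ne_zero h2 h2
  have hg : (X ^ m + ∑ i : Fin m, C (c.1 i) * X ^ (i : ℕ) : F[X]).Monic ∧
      (X ^ m + ∑ i : Fin m, C (c.1 i) * X ^ (i : ℕ) : F[X]).natDegree = m := by
    refine ⟨Polynomial.monic_X_pow_add (Polynomial.degree_sum_fin_lt _), ?_⟩
    rw [Polynomial.natDegree_add_eq_left_of_degree_lt (by rw [Polynomial.degree_X_pow]; exact Polynomial.degree_sum_fin_lt _),
      Polynomial.natDegree_X_pow]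
  have hq : (X ^ 2 - C 4 : F[X]).Monic := Polynomial.monic_X_pow_sub_C _ two_ne_zero
  have hdq : ((X ^ 2 - C 4) * (X ^ m + ∑ i : Fin m, C (c.1 i) * X ^ (i : ℕ)) : F[X]).natDegree = m + 2 := by
    rw [hq.natDegree_mul hg.1, hg.2, Polynomial.natDegree_X_pow_sub_C, add_comm]
  have hlin : (C ((c.2.1 - c.2.2) * (4 : F)⁻¹) * X + C ((c.2.1 + c.2.2) * (2 : F)⁻¹)).natDegree <
      ((X ^ 2 - C 4) * (X ^ m + ∑ i : Fin m, C (c.1 i) * X ^ (i : ℕ)) : F[X]).natDegree := by
    rw [hdq]
    exact lt_of_le_of_lt Polynomial.natDegree_linear_le (by omega)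
  refine ⟨?_, ?_, ?_, ?_⟩
  · rw [interp, add_assoc]
    exact (hq.mul hg.1).add_of_left (Polynomial.degree_lt_degree hlin)
  · rw [interp, add_assoc, Polynomial.natDegree_add_eq_left_of_natDegree_lt hlin, hdq]
  · simp only [interp, Polynomial.eval_add, Polynomial.eval_mul, Polynomial.eval_sub, Polynomial.eval_pow,
      Polynomial.eval_X, Polynomial.eval_C]
    field_simp
    ring
  · simp only [interp, Polynomial.eval_add, Polynomial.eval_mul, Polynomial.eval_sub, Polynomial.eval_pow,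
      Polynomial.eval_X, Polynomial.eval_C]
    field_simp
    ring

theorem interp_injective (h2 : (2 : F) ≠ 0) (m : ℕ) : Function.Injective (interp (F := F) m) := by
  intro c c' h
  obtain ⟨-, -, a1, a2⟩ := interp_spec h2 m c
  obtain ⟨-, -, b1, b2⟩ := interp_spec h2 m c'
  have e1 : c.2.1 = c'.2.1 := by rw [← a1, ← b1, h]
  have e2 : c.2.2 = c'.2.2 := by rw [← a2, ← b2, h]
  simp only [interp, e1, e2, add_left_inj] at h
  have h' := mul_left_cancel₀ (Polynomial.monic_X_pow_sub_C (4 : F) two_ne_zero).ne_zero h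
  refine Prod.ext (funext fun i => ?_) (Prod.ext e1 e2)
  have := congrArg (fun p => Polynomial.coeff p (i : ℕ)) h'
  simpa [Polynomial.coeff_X_pow, Polynomial.coeff_C_mul, Fin.val_inj, (i.2).ne, Finset.sum_ite_eq] using this

theorem card_square_pairs (h2 : (2 : F) ≠ 0) {d : F} (hd : d ≠ 0) :
    (Fintype.card F - 1) * (Fintype.card F - 1) ≤
      2 * Nat.card {z : F × F // z.1 ≠ 0 ∧ z.2 ≠ 0 ∧ IsSquare (z.1 * z.2 * d)} := by
  let Ψ : Fˣ × Fˣ → {z : F × F // z.1 ≠ 0 ∧ z.2 ≠ 0 ∧ IsSquare (z.1 * z.2 * d)} := fun z =>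
    ⟨((z.1 : F), (z.2 : F) * z.2 * ((z.1 : F) * d)⁻¹), z.1.ne_zero, by simp [hd], ⟨z.2, by
      have := z.1.ne_zero
      field_simp⟩⟩
  have h := Finset.card_le_mul_card_image (f := Ψ) (Finset.univ : Finset (Fˣ × Fˣ)) 2 fun b _ => by
    rcases (Finset.univ.filter fun z => Ψ z = b).eq_empty_or_nonempty with he | ⟨a, ha⟩
    · simp [he]
    refine le_trans (Finset.card_le_card (t := {a, (a.1, -a.2)}) fun z hz => ?_) Finset.card_le_two
    have e := congrArg Subtype.val ((Finset.mem_filter.1 hz).2.trans (Finset.mem_filter.1 ha).2.symm)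
    simp only [Ψ, Prod.mk.injEq] at e
    have e1 : z.1 = a.1 := Units.ext e.1
    have e2 := e.2
    rw [e1] at e2
    have e3 := mul_right_cancel₀ (inv_ne_zero (mul_ne_zero a.1.ne_zero hd)) e2
    rcases mul_self_eq_mul_self_iff.1 e3 with h | h
    · exact Finset.mem_insert.2 (Or.inl (Prod.ext e1 (Units.ext h)))
    · exact Finset.mem_insert.2 (Or.inr (Finset.mem_singleton.2 (Prod.ext e1 (Units.ext (by rw [h, Units.val_neg])))))
  rw [Finset.card_univ, Fintype.card_prod, Fintype.card_units] at h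
  refine h.trans (Nat.mul_le_mul_left 2 ?_)
  rw [Nat.card_eq_fintype_card]
  exact Finset.card_le_univ _

theorem card_classes_ge (hodd : Odd (Fintype.card F)) {n : ℕ} (hn : 2 ≤ n)
    {B : Matrix (Fin n ⊕ Fin n) (Fin n ⊕ Fin n) F} (hB : OClass.Sym B) :
    Fintype.card F ^ n ≤ 2 * Nat.card (ConjClasses (OB B)) := by
  have h2 : (2 : F) ≠ 0 := Ring.two_ne_zero (by
    intro hc
    haveI := (ringChar.eq_iff).mp hc
    have := FiniteField.even_card_iff_char_two.1 hc
    obtain ⟨r, hr⟩ := hodd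
    omega)
  have h22 : (2 : F) ≠ -2 := by
    intro e
    have h4 : (2 : F) * 2 = 0 := by linear_combination e
    exact h2 (mul_self_eq_zero.1 h4)
  obtain ⟨d, hd⟩ : ∃ d : F, d = (-1) ^ n * B.det := ⟨_, rfl⟩
  have hd0 : d ≠ 0 := hd ▸ mul_ne_zero (pow_ne_zero _ (by simp)) hB.det.ne_zero
  let J1 := (Fin (n - 2) → F) × {z : F × F // z.1 ≠ 0 ∧ z.2 ≠ 0 ∧ IsSquare (z.1 * z.2 * d)}
  let H := {h : F[X] // h.Monic ∧ h.natDegree = n - 1 ∧ h.eval 2 ≠ 0 ∧ h.eval (-2) ≠ 0}
  haveI : Finite H := Finite.of_injective (fun h : H => fun i : Fin n => h.1.coeff i) fun g h e => Subtype.ext (by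
    refine Polynomial.ext fun i => ?_
    by_cases hi : i < n
    · exact congrFun e ⟨i, hi⟩
    · rw [Polynomial.coeff_eq_zero_of_natDegree_lt (by rw [g.2.2.1]; omega),
        Polynomial.coeff_eq_zero_of_natDegree_lt (by rw [h.2.2.1]; omega)])
  let E : Fin 3 → (Fin 2 → F) := fun i => ![![1, 1], ![-1, -1], ![1, -1]] i
  have hE : ∀ i j, E i j * E i j = 1 := by
    intro i j; fin_cases i <;> fin_cases j <;> simp [E]
  have hmain : ∀ c : J1, ∃ x : OB B,
      (((x : Matrix.GeneralLinearGroup (Fin n ⊕ Fin n) F) : Matrix (Fin n ⊕ Fin n) (Fin n ⊕ Fin n) F) +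
        (((x⁻¹ : OB B) : Matrix.GeneralLinearGroup (Fin n ⊕ Fin n) F) : Matrix (Fin n ⊕ Fin n) (Fin n ⊕ Fin n) F)).charpoly =
        interp (n - 2) (c.1, c.2.1) * interp (n - 2) (c.1, c.2.1) := by
    intro c
    obtain ⟨hm, hdeg, e1, e2⟩ := interp_spec h2 (n - 2) (c.1, c.2.1)
    obtain ⟨z1, z2, z3⟩ := c.2.2
    rw [show n - 2 + 2 = n by omega] at hdeg
    obtain ⟨B0, g, h, u, hu, hs, hdet, hg, hgh, hch⟩ := exists_block h2 hm hdeg (e1 ▸ z1) (e2 ▸ z2)
    rw [e1, e2] at hdet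
    have hv : (-1 : F) ^ n * c.2.1.1 * c.2.1.2 ≠ 0 := by simp [z1, z2]
    obtain ⟨x, -, hx⟩ := exists_transfer h2 hB (κ := Fin n ⊕ Fin n) (by simp) hs
      (by rw [hdet]; exact mul_ne_zero (mul_ne_zero hu hu) hv) (by
        have h0 : B0.det ≠ 0 := by rw [hdet]; exact mul_ne_zero (mul_ne_zero hu hu) hv
        rw [← Signed.sq_of_two h2 h0 hB.det.ne_zero, hdet]
        obtain ⟨v, hv'⟩ := z3
        refine ⟨u * v, ?_⟩
        linear_combination (u * u) * hv' - (u * u * c.2.1.1 * c.2.1.2) * hd) hg hgh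
    exact ⟨x, hx.trans hch⟩
  have hext : ∀ c : H × Fin 3, ∃ x : OB B,
      (((x : Matrix.GeneralLinearGroup (Fin n ⊕ Fin n) F) : Matrix (Fin n ⊕ Fin n) (Fin n ⊕ Fin n) F) +
        (((x⁻¹ : OB B) : Matrix.GeneralLinearGroup (Fin n ⊕ Fin n) F) : Matrix (Fin n ⊕ Fin n) (Fin n ⊕ Fin n) F)).charpoly =
        c.1.1 * c.1.1 * ((X - C (E c.2 0 + E c.2 0)) * (X - C (E c.2 1 + E c.2 1))) := by
    rintro ⟨⟨f, hm, hdeg, e1, e2⟩, i⟩
    obtain ⟨B0, g, h, u, hu, hs, hdet, hg, hgh, hch⟩ := exists_block h2 hm hdeg e1 e2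
    have h0 : B0.det ≠ 0 := by
      rw [hdet]; exact mul_ne_zero (mul_ne_zero hu hu) (mul_ne_zero (mul_ne_zero (pow_ne_zero _ (by simp)) e1) e2)
    obtain ⟨x, -, hx⟩ := exists_transfer h2 hB (κ := (Fin (n - 1) ⊕ Fin (n - 1)) ⊕ Fin 2) (by simp; omega)
      (B0 := fromBlocks B0 0 0 (diagonal ![1, B0.det * B.det])) (g := fromBlocks g 0 0 (diagonal (E i)))
      (h := fromBlocks h 0 0 (diagonal (E i)))
      (by rw [fromBlocks_transpose, hs, diagonal_transpose, transpose_zero, transpose_zero])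
      (by rw [det_fromBlocks_zero₂₁, det_diagonal]; simp [Fin.prod_univ_two, h0, hB.det.ne_zero])
      (by
        rw [det_fromBlocks_zero₂₁, det_diagonal]
        simp only [Fin.prod_univ_two, Matrix.cons_val_zero, Matrix.cons_val_one, one_mul]
        rw [← Signed.sq_of_two h2 (mul_ne_zero h0 (mul_ne_zero h0 hB.det.ne_zero)) hB.det.ne_zero]
        exact ⟨B0.det * B.det, by ring⟩)
      (by
        rw [fromBlocks_transpose, fromBlocks_multiply, fromBlocks_multiply]
        simp only [transpose_zero, Matrix.zero_mul, Matrix.mul_zero, add_zero, zero_add, hg, diagonal_transpose,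
          diagonal_mul_diagonal]
        congr 1
        exact congrArg diagonal (funext fun j => by rw [mul_comm (E i j), mul_assoc, hE, mul_one]))
      (by
        rw [fromBlocks_multiply, ← fromBlocks_one]
        simp only [Matrix.zero_mul, Matrix.mul_zero, add_zero, zero_add, hgh, diagonal_mul_diagonal, hE]
        rw [diagonal_one])
    refine ⟨x, hx.trans ?_⟩
    rw [fromBlocks_add, add_zero, add_zero, Matrix.charpoly_fromBlocks_zero₁₂, hch, diagonal_add, charpoly_diagonal,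
      Fin.prod_univ_two]
  choose gm hgm using hmain
  choose ge hge using hext
  let tr : OB B → F[X] := fun x => (((x : Matrix.GeneralLinearGroup (Fin n ⊕ Fin n) F) : Matrix (Fin n ⊕ Fin n) (Fin n ⊕ Fin n) F) +
        (((x⁻¹ : OB B) : Matrix.GeneralLinearGroup (Fin n ⊕ Fin n) F) : Matrix (Fin n ⊕ Fin n) (Fin n ⊕ Fin n) F)).charpoly
  have htr : ∀ x y, IsConj x y → tr x = tr y := by
    intro x y hxy
    obtain ⟨c, rfl⟩ := isConj_iff.1 hxy
    simp only [tr]
    rw [show (c * x * c⁻¹)⁻¹ = c * x⁻¹ * c⁻¹ by group]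
    simp only [Subgroup.coe_mul, Units.val_mul, Subgroup.coe_inv]
    rw [← add_mul, ← mul_add, Matrix.charpoly_mul_comm, ← mul_assoc, Units.inv_mul, one_mul]
  let Φ : J1 ⊕ (H × Fin 3) → ConjClasses (OB B) := Sum.elim (fun c => ConjClasses.mk (gm c)) fun c => ConjClasses.mk (ge c)
  have hroot : ∀ (h : H) (i : Fin 3), ((h.1 * h.1 * ((X - C (E i 0 + E i 0)) * (X - C (E i 1 + E i 1)))).IsRoot 2 ↔ i ≠ 1) ∧
      ((h.1 * h.1 * ((X - C (E i 0 + E i 0)) * (X - C (E i 1 + E i 1)))).IsRoot (-2) ↔ i ≠ 0) := by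
    intro h i
    obtain ⟨-, -, e1, e2⟩ := h.2
    have t1 : (1 : F) + 1 = 2 := one_add_one_eq_two
    have t2 : (-1 : F) + -1 = -2 := by rw [← t1]; ring
    simp only [Polynomial.IsRoot, Polynomial.eval_mul, Polynomial.eval_sub, Polynomial.eval_X, Polynomial.eval_C,
      mul_eq_zero, e1, e2, false_or, or_false, sub_eq_zero]
    fin_cases i <;> simp [E, t1, t2, h22, Ne.symm h22]
  have hinj : Function.Injective Φ := by
    have key : ∀ x y : OB B, ConjClasses.mk x = ConjClasses.mk y → tr x = tr y := fun x y h =>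
      htr x y (ConjClasses.mk_eq_mk_iff_isConj.1 h)
    have hpos : ∀ (h : H × Fin 3) (c : J1), tr (gm c) ≠ tr (ge h) := by
      intro h c e
      simp only [tr, hgm, hge] at e
      obtain ⟨-, -, a1, a2⟩ := interp_spec h2 (n - 2) (c.1, c.2.1)
      obtain ⟨z1, z2, -⟩ := c.2.2
      rcases em (h.2 = 1) with hi | hi
      · have := (hroot h.1 h.2).2.2 (by rw [hi]; decide)
        rw [← e, Polynomial.IsRoot, Polynomial.eval_mul, a2] at this
        exact z2 (mul_self_eq_zero.1 this)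
      · have := (hroot h.1 h.2).1.2 hi
        rw [← e, Polynomial.IsRoot, Polynomial.eval_mul, a1] at this
        exact z1 (mul_self_eq_zero.1 this)
    rintro (c | c) (c' | c') h <;> have e := key _ _ h
    · simp only [tr, hgm] at e
      have hm := (interp_spec h2 (n - 2) (c.1, c.2.1)).1
      have hm' := (interp_spec h2 (n - 2) (c'.1, c'.2.1)).1
      rcases mul_self_eq_mul_self_iff.1 e with e' | e'
      · obtain ⟨a, b⟩ := Prod.mk.injEq _ _ _ _ ▸ interp_injective h2 (n - 2) e'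
        exact congrArg Sum.inl (Prod.ext a (Subtype.ext b))
      · have := congrArg Polynomial.leadingCoeff e'
        rw [Polynomial.leadingCoeff_neg, hm.leadingCoeff, hm'.leadingCoeff] at this
        exact absurd (by linear_combination this) h2
    · exact absurd e (hpos c' c)
    · exact absurd e.symm (hpos c c')
    · simp only [tr, hge] at e
      have hi : c.2 = c'.2 := by
        have r1 := (hroot c.1 c.2).1
        have r2 := (hroot c.1 c.2).2
        rw [e] at r1 r2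
        have q1 := r1.symm.trans (hroot c'.1 c'.2).1
        have q2 := r2.symm.trans (hroot c'.1 c'.2).2
        revert q1 q2
        generalize c.2 = i
        generalize c'.2 = j
        revert i j
        decide
      rw [hi] at e
      have e' := mul_right_cancel₀ (mul_ne_zero (Polynomial.monic_X_sub_C _).ne_zero (Polynomial.monic_X_sub_C _).ne_zero) e
      rcases mul_self_eq_mul_self_iff.1 e' with e'' | e''
      · exact congrArg Sum.inr (Prod.ext (Subtype.ext e'') hi)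
      · have := congrArg Polynomial.leadingCoeff e''
        rw [Polynomial.leadingCoeff_neg, c.1.2.1.leadingCoeff, c'.1.2.1.leadingCoeff] at this
        exact absurd (by linear_combination this) h2
  have hle := Nat.card_le_card_of_injective Φ hinj
  rw [Nat.card_sum, Nat.card_prod (α := H), Nat.card_prod (α := Fin (n - 2) → F), Nat.card_fun, Nat.card_fin,
    Nat.card_eq_fintype_card (α := F), Nat.card_fin] at hle
  have hp := card_square_pairs h2 hd0
  obtain ⟨q, hq⟩ : ∃ q, q = Fintype.card F := ⟨_, rfl⟩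
  rw [← hq] at hle hp ⊢
  have hq3 : 3 ≤ q := by
    have := Fintype.one_lt_card (α := F)
    obtain ⟨r, hr⟩ := hodd
    omega
  obtain ⟨S, hS⟩ : ∃ S, S = Nat.card {z : F × F // z.1 ≠ 0 ∧ z.2 ≠ 0 ∧ IsSquare (z.1 * z.2 * d)} := ⟨_, rfl⟩
  obtain ⟨N, hN⟩ : ∃ N, N = Nat.card H := ⟨_, rfl⟩
  rw [← hS] at hp hle
  rw [← hN] at hle
  rcases Nat.lt_or_ge n 3 with h3 | h3
  · obtain rfl : n = 2 := by omega
    have hN2 : q - 2 ≤ N := by
      have hsub : ({a : F | a ≠ 2 ∧ a ≠ -2} : Finset F).card ≤ N := by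
        rw [hN, ← Nat.card_eq_finsetCard]
        refine Nat.card_le_card_of_injective (fun a => ⟨X - C a.1, Polynomial.monic_X_sub_C _, by simp,
          by simpa [sub_eq_zero] using fun e : (2 : F) = a.1 => (Finset.mem_filter.1 a.2).2.1 e.symm,
          by simpa [sub_eq_zero] using fun e : (-2 : F) = a.1 => (Finset.mem_filter.1 a.2).2.2 e.symm⟩) fun a b e => ?_
        have := congrArg (fun h : H => h.1.coeff 0) e
        simpa using Subtype.ext (by simpa using this)
      refine le_trans ?_ hsub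
      have : ({a : F | a ≠ 2 ∧ a ≠ -2} : Finset F) = Finset.univ \ {2, -2} := by
        ext a; simp
      rw [this, Finset.card_sdiff_of_subset (Finset.subset_univ _), Finset.card_univ, ← hq]
      have := Finset.card_le_two (a := (2 : F)) (b := -2)
      omega
    simp only [Nat.sub_self, pow_zero, one_mul] at hle
    obtain ⟨r, rfl⟩ : ∃ r, q = r + 3 := ⟨q - 3, by omega⟩
    rw [show r + 3 - 1 = r + 2 by omega] at hp
    rw [show r + 3 - 2 = r + 1 by omega] at hN2
    nlinarith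
  · have hN3 : q ^ (n - 3) * ((q - 1) * (q - 1)) ≤ N := by
      have hinjH := Nat.card_le_card_of_injective
        (fun c : (Fin (n - 3) → F) × {a : F // a ≠ 0} × {a : F // a ≠ 0} =>
          (⟨interp (n - 3) (c.1, c.2.1.1, c.2.2.1), (interp_spec h2 _ _).1, by rw [(interp_spec h2 _ _).2.1]; omega,
            by rw [(interp_spec h2 _ _).2.2.1]; exact c.2.1.2, by rw [(interp_spec h2 _ _).2.2.2]; exact c.2.2.2⟩ : H))
        (fun a b e => by
          have h := interp_injective h2 (n - 3) (congrArg Subtype.val e)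
          simp only [Prod.mk.injEq] at h
          exact Prod.ext h.1 (Prod.ext (Subtype.ext h.2.1) (Subtype.ext h.2.2)))
      rw [Nat.card_prod, Nat.card_prod, Nat.card_fun, Nat.card_fin, Nat.card_eq_fintype_card (α := F),
        Nat.card_eq_fintype_card, Fintype.card_subtype_compl, Fintype.card_subtype_eq, ← hq, ← hN] at hinjH
      exact hinjH
    rw [show n - 2 = n - 3 + 1 by omega, pow_succ] at hle
    conv_lhs => rw [show n = n - 3 + 3 by omega, pow_add]
    obtain ⟨r, rfl⟩ : ∃ r, q = r + 3 := ⟨q - 3, by omega⟩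
    rw [show r + 3 - 1 = r + 2 by omega] at hp hN3
    have k1 := Nat.mul_le_mul_left ((r + 3) ^ (n - 3) * (r + 3)) hp
    have k2 := Nat.mul_le_mul_left ((r + 3) ^ (n - 3))
      (show (r + 3) ^ 3 ≤ (r + 3) * ((r + 2) * (r + 2)) + 6 * ((r + 2) * (r + 2)) by nlinarith)
    nlinarith

end Cfsg.Agent.Lib.Similar.OClass
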