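import Mathlib
import Cfsg.Agent.S2590
import Cfsg.Agent.Lib.Similar.CentSpinor
import Cfsg.Agent.Lib.Classical.AutPOmega.EvenGroups
import Cfsg.Agent.Lib.Classical.AutPOmega.Parity

/-!
Fusion of semisimple similitude classes of odd prime order in even dimensional orthogonal groups.
-/

set_option autoImplicit false

namespace Cfsg.Agent.Lib.Similar.OrthFusion

open QuadraticMap (polarBilin)
open Cfsg.Agent.Lib.Classical.AutPOmega
open Cfsg.Agent.Lib.Geometry (sqClass sqClass_eq_one_iff sqClass_eq_neg_one_iff exists_quad_class_vectors quad_polar_map quad_polar_comm quad_polar_self)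
open scoped Matrix

attribute [-simp] QuadraticMap.polarBilin_apply_apply

variable {F : Type*} [Field F] [Fintype F] {ι : Type} [Fintype ι] [DecidableEq ι] {R : QuadraticForm F (ι → F)}

theorem gram_bilin (u v : ι → F) : polarBilin R u v = u ⬝ᵥ gram R *ᵥ v := by
  rw [gram]
  exact ((LinearMap.congr_fun (LinearMap.congr_fun (Matrix.toBilin'_toMatrix' (polarBilin R)) u) v).symm).trans
    (Matrix.toBilin'_apply' _ u v)

/-- An isometry of odd order has no fixed vector, or fixes vectors of both square classes. -/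
theorem fix_or (hR : (polarBilin R).Nondegenerate) (h2 : (2 : F) ≠ 0) {M : ℕ} (hι : Fintype.card ι = 2 * M)
    {r : ℕ} (hr : Odd r) (hrF : (r : F) ≠ 0) (A : Cfsg.isometryGroup F ⇑R) (hAr : A ^ r = 1) :
    (∀ v, ((A : GL ι F) : Matrix ι ι F) *ᵥ v = v → v = 0) ∨
      ∃ v w, ((A : GL ι F) : Matrix ι ι F) *ᵥ v = v ∧ ((A : GL ι F) : Matrix ι ι F) *ᵥ w = w ∧
        R v = 1 ∧ ¬ IsSquare (R w) ∧ R w ≠ 0 := by
  classical
  refine or_iff_not_imp_left.2 fun hfix => ?_
  push Not at hfix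
  obtain ⟨u0, hu0, hu00⟩ := hfix
  obtain ⟨a, ha⟩ : ∃ a, a = ((A : GL ι F) : Matrix ι ι F) := ⟨_, rfl⟩
  rw [← ha] at hu0 ⊢
  have hiso : ∀ v, R (a *ᵥ v) = R v := fun v => ha ▸ A.2 v v
  have hB : ∀ x y, polarBilin R (a *ᵥ x) (a *ᵥ y) = polarBilin R x y :=
    fun x y => quad_polar_map R (T := Matrix.toLin' a) hiso x y
  have har : a ^ r = 1 := by rw [ha, ← Units.val_pow_eq_pow_val, ← SubmonoidClass.coe_pow, hAr]; rfl
  obtain ⟨U, hU⟩ : ∃ U : Submodule F (ι → F), ∀ v, v ∈ U ↔ a *ᵥ v = v :=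
    ⟨LinearMap.ker (Matrix.toLin' a - LinearMap.id), fun v => by simp [sub_eq_zero]⟩
  obtain ⟨W, hW⟩ : ∃ W : Matrix ι ι F, W = gram R * a - aᵀ * gram R := ⟨_, rfl⟩
  have hWb : ∀ x y, x ⬝ᵥ W *ᵥ y = polarBilin R x (a *ᵥ y) - polarBilin R (a *ᵥ x) y := fun x y => by
    rw [hW, Matrix.sub_mulVec, dotProduct_sub, ← Matrix.mulVec_mulVec, ← Matrix.mulVec_mulVec, gram_bilin, gram_bilin]
    congr 1
    rw [Matrix.dotProduct_mulVec, Matrix.vecMul_transpose]
  obtain ⟨m, k, b, hcard, hrad, hk0⟩ := CentSpinor.alt_basis (W := W) fun v => by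
    rw [hWb, quad_polar_comm, sub_self]
  have hker : ∀ v, W *ᵥ v = 0 → a *ᵥ v = v := by
    intro v hv
    have h : a *ᵥ a *ᵥ v = v := by
      refine sub_eq_zero.1 (hR.1 _ fun y => ?_)
      have ey : ∀ y, polarBilin R (a *ᵥ a *ᵥ v) (a *ᵥ y) = polarBilin R v (a *ᵥ y) := fun y => by
        have e := hWb y v
        rw [hv, dotProduct_zero] at e
        rw [hB, quad_polar_comm, sub_eq_zero.1 e.symm, quad_polar_comm]
      obtain ⟨y, rfl⟩ : ∃ z, a *ᵥ z = y := ⟨(a ^ (r - 1)) *ᵥ y, by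
        rw [Matrix.mulVec_mulVec, ← pow_succ', show r - 1 + 1 = r by have := hr.pos; omega, har, Matrix.one_mulVec]⟩
      rw [map_sub, LinearMap.sub_apply, ey, sub_self]
    obtain ⟨j, hj⟩ := hr
    have e : ∀ i : ℕ, (a ^ (2 * i)) *ᵥ v = v := fun i => by
      induction i with
      | zero => simp
      | succ i ih => rw [mul_add, mul_one, pow_add, ← Matrix.mulVec_mulVec, pow_two, ← Matrix.mulVec_mulVec, h, ih]
    conv_rhs => rw [← Matrix.one_mulVec v, ← har, hj, pow_succ', ← Matrix.mulVec_mulVec, e]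
  have hWu : W *ᵥ u0 = 0 := by
    funext i
    have h := hWb (Pi.single i 1) u0
    rw [single_one_dotProduct, hu0] at h
    conv_rhs at h => rw [← hB (Pi.single i 1) u0, hu0, sub_self]
    exact h
  have hk2 : 2 ≤ k := by
    rcases Nat.eq_zero_or_pos k with rfl | hk
    · exfalso
      obtain ⟨-, hd, -⟩ := hk0 rfl
      exact hu00 (Matrix.mulVec_injective_of_isUnit ((Matrix.isUnit_iff_isUnit_det W).2 (isUnit_iff_ne_zero.2 hd))
        (hWu.trans (Matrix.mulVec_zero W).symm))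
    · omega
  have hUk : 2 ≤ Module.finrank F U := by
    have hli : LinearIndependent F (fun j : Fin k => (⟨b (.inr j), (hU _).2 (hker _ (hrad j))⟩ : U)) :=
      LinearIndependent.of_comp U.subtype (b.linearIndependent.comp _ Sum.inr_injective)
    have := hli.fintype_card_le_finrank
    rw [Fintype.card_fin] at this
    omega
  obtain ⟨Q, hQ⟩ : ∃ Q : QuadraticForm F U, ∀ x, Q x = R x := ⟨R.comp U.subtype, fun x => rfl⟩
  have hQB : ∀ x y, polarBilin Q x y = polarBilin R (x : ι → F) y := fun x y => by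
    simp [QuadraticMap.polarBilin_apply_apply, QuadraticMap.polar, hQ]
  have hnd : ∀ x : U, (∀ y : U, polarBilin Q x y = 0) → x = 0 := by
    intro x hx
    refine Subtype.ext (hR.1 _ fun y => ?_)
    have hav : ∀ j : ℕ, polarBilin R (x : ι → F) ((a ^ j) *ᵥ y) = polarBilin R (x : ι → F) y := by
      intro j
      induction j with
      | zero => simp
      | succ j ih =>
        rw [pow_succ', ← Matrix.mulVec_mulVec, ← ih]
        nth_rewrite 1 [← (hU _).1 x.2]
        rw [hB]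
    obtain ⟨z, hz⟩ : ∃ z, z = ∑ j ∈ Finset.range r, (a ^ j) *ᵥ y := ⟨_, rfl⟩
    have hzU : z ∈ U := by
      rw [hU, hz, Matrix.mulVec_sum]
      simp only [Matrix.mulVec_mulVec, ← pow_succ']
      have e1 := Finset.sum_range_succ' (fun j => (a ^ j) *ᵥ y) r
      rw [Finset.sum_range_succ (fun j => (a ^ j) *ᵥ y) r, har, pow_zero] at e1
      exact (add_right_cancel e1).symm
    have h := hx ⟨z, hzU⟩
    rw [hQB] at h
    change polarBilin R (x : ι → F) z = 0 at h
    rw [hz, map_sum, Finset.sum_congr rfl (fun j _ => hav j), Finset.sum_const, Finset.card_range, nsmul_eq_mul] at h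
    exact (mul_eq_zero.1 h).resolve_left hrF
  have hQn : (polarBilin Q).Nondegenerate := ⟨hnd, fun y hy => hnd y fun x => by rw [quad_polar_comm]; exact hy x⟩
  obtain ⟨v, w, hv, hw, hw0⟩ := exists_quad_class_vectors Q hQn h2 hUk
  exact ⟨v, w, (hU _).1 v.2, (hU _).1 w.2, by rw [← hQ, hv], by rw [← hQ]; exact hw, by rw [← hQ]; exact hw0⟩

/-- A reflection in a fixed vector commutes. -/
theorem refl_comm (A : Cfsg.isometryGroup F ⇑R) {v : ι → F} (hv : ((A : GL ι F) : Matrix ι ι F) *ᵥ v = v) :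
    reflI R v * A = A * reflI R v := by
  refine Subtype.ext (Units.ext (Matrix.ext_of_mulVec_single fun i => ?_))
  rw [Subgroup.coe_mul, Subgroup.coe_mul, Units.val_mul, Units.val_mul, ← Matrix.mulVec_mulVec, ← Matrix.mulVec_mulVec,
    reflI_mulVec, reflI_mulVec, Matrix.mulVec_sub, Matrix.mulVec_smul, hv]
  congr 3
  have h := quad_polar_map R (T := Matrix.toLin' ((A : GL ι F) : Matrix ι ι F)) (fun z => A.2 z z) v (Pi.single i 1)
  rw [Matrix.toLin'_apply, Matrix.toLin'_apply, hv] at h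
  exact h

/-- Without fixed vectors, a commuting similitude has `det = μ ^ M`. -/
theorem delta_of_fpf (hM : Model0 R) (h2 : (2 : F) ≠ 0) {M : ℕ} (hι : Fintype.card ι = 2 * M)
    {r : ℕ} (hr : Odd r) (A : Cfsg.isometryGroup F ⇑R) (hAr : A ^ r = 1)
    (hfix : ∀ v, ((A : GL ι F) : Matrix ι ι F) *ᵥ v = v → v = 0)
    (c : Cfsg.Geo.quadSimilarityGroup (F := F) ⇑R) (hc : c * isoG R A = isoG R A * c) : deltaS hM M c = 1 := by
  obtain ⟨a, ha⟩ : ∃ a, a = ((A : GL ι F) : Matrix ι ι F) := ⟨_, rfl⟩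
  obtain ⟨C, hC⟩ : ∃ C, C = ((c.1 : GL ι F) : Matrix ι ι F) := ⟨_, rfl⟩
  have hCa : C * a = a * C := by
    rw [hC, ha]
    exact congrArg (fun x : Cfsg.Geo.quadSimilarityGroup (F := F) ⇑R => ((x.1 : GL ι F) : Matrix ι ι F)) hc
  rw [← ha] at hfix
  obtain ⟨μ, hμ⟩ : ∃ μ, μ = multS hM c := ⟨_, rfl⟩
  have hBc : ∀ x y, polarBilin R (C *ᵥ x) (C *ᵥ y) = (μ : F) * polarBilin R x y := fun x y => by
    rw [hC, hμ]; exact sim_polar (multS_spec hM c) x y
  have hiso : ∀ v, R (a *ᵥ v) = R v := fun v => ha ▸ A.2 v v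
  obtain ⟨W, hW⟩ : ∃ W : Matrix ι ι F, W = gram R * a - aᵀ * gram R := ⟨_, rfl⟩
  have hWb : ∀ x y, x ⬝ᵥ W *ᵥ y = polarBilin R x (a *ᵥ y) - polarBilin R (a *ᵥ x) y := fun x y => by
    rw [hW, Matrix.sub_mulVec, dotProduct_sub, ← Matrix.mulVec_mulVec, ← Matrix.mulVec_mulVec, gram_bilin, gram_bilin]
    congr 1
    rw [Matrix.dotProduct_mulVec, Matrix.vecMul_transpose]
  obtain ⟨m, k, b, hcard, hrad, hk0⟩ := CentSpinor.alt_basis (W := W) fun v => by
    rw [hWb, quad_polar_comm, sub_self]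
  have har : a ^ r = 1 := by rw [ha, ← Units.val_pow_eq_pow_val, ← SubmonoidClass.coe_pow, hAr]; rfl
  have hk : k = 0 := by
    by_contra hk
    refine b.ne_zero (.inr ⟨0, Nat.pos_of_ne_zero hk⟩) (hfix _ ?_)
    obtain ⟨v, hv⟩ : ∃ v, v = b (.inr ⟨0, Nat.pos_of_ne_zero hk⟩) := ⟨_, rfl⟩
    have hWv : W *ᵥ v = 0 := hv ▸ hrad _
    rw [← hv]
    have hB : ∀ x y, polarBilin R (a *ᵥ x) (a *ᵥ y) = polarBilin R x y :=
      fun x y => quad_polar_map R (T := Matrix.toLin' a) hiso x y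
    have h : a *ᵥ a *ᵥ v = v := by
      refine sub_eq_zero.1 (hM.nondeg.1 _ fun y => ?_)
      have ey : ∀ y, polarBilin R (a *ᵥ a *ᵥ v) (a *ᵥ y) = polarBilin R v (a *ᵥ y) := fun y => by
        have e := hWb y v
        rw [hWv, dotProduct_zero] at e
        rw [hB, quad_polar_comm, sub_eq_zero.1 e.symm, quad_polar_comm]
      obtain ⟨y, rfl⟩ : ∃ z, a *ᵥ z = y := ⟨(a ^ (r - 1)) *ᵥ y, by
        rw [Matrix.mulVec_mulVec, ← pow_succ', show r - 1 + 1 = r by have := hr.pos; omega, har, Matrix.one_mulVec]⟩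
      rw [map_sub, LinearMap.sub_apply, ey, sub_self]
    obtain ⟨j, hj⟩ := hr
    have e : ∀ i : ℕ, (a ^ (2 * i)) *ᵥ v = v := fun i => by
      induction i with
      | zero => simp
      | succ i ih => rw [mul_add, mul_one, pow_add, ← Matrix.mulVec_mulVec, pow_two, ← Matrix.mulVec_mulVec, h, ih]
    conv_rhs => rw [← Matrix.one_mulVec v, ← har, hj, pow_succ', ← Matrix.mulVec_mulVec, e]
  obtain ⟨-, -, hdet⟩ := hk0 hk
  have hWC : Cᵀ * W * C = (μ : F) • W := by
    refine Matrix.ext_of_mulVec_single fun i => funext fun j => ?_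
    have e : ∀ N : Matrix ι ι F, (N *ᵥ Pi.single i 1) j = Pi.single j 1 ⬝ᵥ N *ᵥ Pi.single i 1 := fun N =>
      (single_one_dotProduct _ _).symm
    rw [e, e, ← Matrix.mulVec_mulVec, ← Matrix.mulVec_mulVec, Matrix.dotProduct_mulVec _ Cᵀ, Matrix.vecMul_transpose, hWb,
      Matrix.smul_mulVec, dotProduct_smul, hWb, smul_eq_mul, Matrix.mulVec_mulVec _ a C, Matrix.mulVec_mulVec _ a C, ← hCa,
      ← Matrix.mulVec_mulVec, ← Matrix.mulVec_mulVec, hBc, hBc]
    ring
  have hd := hdet C μ μ.ne_zero hWC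
  rw [deltaS_apply, mul_inv_eq_one]
  refine Units.ext ?_
  show ((c.1 : GL ι F) : Matrix ι ι F).det = _
  rw [← hC, hd, Units.val_pow_eq_pow_val, hμ, show m = M by omega]

/-- An element of the centraliser of determinant one and spinor norm `-1`. -/
theorem exists_spin (hM : Model0 R) (h2 : (2 : F) ≠ 0) {M : ℕ} (hι : Fintype.card ι = 2 * M)
    {r : ℕ} (hr : r.Prime) (hr2 : r ≠ 2) (hrF : (r : F) ≠ 0) (A : Cfsg.isometryGroup F ⇑R) (hAr : A ^ r = 1) :
    ∃ z : Cfsg.isometryGroup F ⇑R, z * A = A * z ∧ ((z : GL ι F) : Matrix ι ι F).det = 1 ∧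
      spinH hM.nondeg h2 z = -1 := by
  classical
  rcases fix_or hM.nondeg h2 hι (hr.odd_of_ne_two hr2) hrF A hAr with hfix | ⟨v, w, hv, hw, hRv, hRw, hRw0⟩
  rotate_left
  · have hv0 : R v ≠ 0 := by rw [hRv]; exact one_ne_zero
    refine ⟨reflI R v * reflI R w, ?_, ?_, ?_⟩
    · rw [mul_assoc, refl_comm A hw, ← mul_assoc, refl_comm A hv, mul_assoc]
    · rw [Subgroup.coe_mul, Units.val_mul, Matrix.det_mul, reflI_matrix, reflI_matrix, Geometry.det_reflectionMatrix R hv0,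
        Geometry.det_reflectionMatrix R hRw0, neg_mul_neg, one_mul]
    · rw [map_mul, spinH_reflection hM.nondeg h2 hv0 (reflI_matrix v), spinH_reflection hM.nondeg h2 hRw0 (reflI_matrix w),
        hRv, sqClass_eq_one_iff.mpr IsSquare.one, sqClass_eq_neg_one_iff.mpr hRw, one_mul]
  obtain ⟨a, ha⟩ : ∃ a : Module.End F (ι → F), a = Matrix.toLinAlgEquiv' ((A : GL ι F) : Matrix ι ι F) := ⟨_, rfl⟩
  have hav : ∀ v, a v = ((A : GL ι F) : Matrix ι ι F) *ᵥ v := fun v => by rw [ha, Matrix.toLinAlgEquiv'_apply]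
  have hne : Nonempty ι := by
    obtain ⟨v, hv⟩ := hM.exists_one
    by_contra h
    rw [not_nonempty_iff] at h
    rw [Subsingleton.elim v 0, map_zero] at hv
    exact zero_ne_one hv
  obtain ⟨c, d, hcd, hac, hcomm, hinj, hsq⟩ := CentSpinor.exists_normal (polarBilin R) (fun u v => quad_polar_comm R u v)
    hM.nondeg.1 h2 hr hr2 hrF (A := a)
    (fun u v => quad_polar_map R (T := a) (fun z => by rw [hav]; exact A.2 z z) u v)
    (by rw [ha, ← map_pow, ← Units.val_pow_eq_pow_val, ← SubmonoidClass.coe_pow, hAr]; simp)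
    (fun v hv => hfix v (by rw [← hav]; exact hv))
  obtain ⟨C, hC⟩ : ∃ C, C = Matrix.toLinAlgEquiv'.symm c := ⟨_, rfl⟩
  obtain ⟨D, hD⟩ : ∃ D, D = Matrix.toLinAlgEquiv'.symm d := ⟨_, rfl⟩
  have hcv : ∀ v, C *ᵥ v = c v := fun v => by rw [hC, ← Matrix.toLinAlgEquiv'_apply, AlgEquiv.apply_symm_apply]
  have hdv : ∀ v, D *ᵥ v = d v := fun v => by rw [hD, ← Matrix.toLinAlgEquiv'_apply, AlgEquiv.apply_symm_apply]
  have hCD : C * D = D * C := by rw [hC, hD, ← map_mul, ← map_mul, hcomm]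
  have hdetC : C.det = LinearMap.det c := by rw [hC]; exact LinearMap.det_toMatrix' c
  have hC0 : C.det ≠ 0 := fun h => hsq (by rw [← hdetC, h]; exact IsSquare.zero)
  obtain ⟨G, hG⟩ : ∃ G, G = gram R := ⟨_, rfl⟩
  have hG0 : G.det ≠ 0 := hG ▸ gram_det_ne_zero hM.nondeg
  have hGB : ∀ u v, polarBilin R u v = u ⬝ᵥ G *ᵥ v := fun u v => by rw [hG, gram_bilin]
  have hCG : Cᵀ * G = G * D := by
    refine Matrix.ext_of_mulVec_single fun i => funext fun j => ?_
    rw [← single_one_dotProduct j ((Cᵀ * G) *ᵥ Pi.single i 1), ← single_one_dotProduct j ((G * D) *ᵥ Pi.single i 1),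
      ← Matrix.mulVec_mulVec, ← Matrix.mulVec_mulVec, Matrix.dotProduct_mulVec _ Cᵀ, Matrix.vecMul_transpose,
      ← hGB, ← hGB, hcv, hdv, hcd]
  have hDC : D.det = C.det := by
    have := congrArg Matrix.det hCG
    rw [Matrix.det_mul, Matrix.det_mul, Matrix.det_transpose, mul_comm] at this
    exact (mul_left_cancel₀ hG0 this).symm
  obtain ⟨Du, hDu⟩ : ∃ Du : GL ι F, (Du : Matrix ι ι F) = D :=
    ⟨Matrix.GeneralLinearGroup.mkOfDetNeZero D (hDC ▸ hC0), rfl⟩
  obtain ⟨Cu, hCu⟩ : ∃ Cu : GL ι F, (Cu : Matrix ι ι F) = C :=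
    ⟨Matrix.GeneralLinearGroup.mkOfDetNeZero C hC0, rfl⟩
  have hZiso : ∀ v, R (((Cu * Du⁻¹ : GL ι F) : Matrix ι ι F) *ᵥ v) = R v := by
    intro v
    obtain ⟨v, rfl⟩ : ∃ u, D *ᵥ u = v := ⟨((Du⁻¹ : GL ι F) : Matrix ι ι F) *ᵥ v, by
      rw [Matrix.mulVec_mulVec, ← hDu, Units.mul_inv, Matrix.one_mulVec]⟩
    rw [Units.val_mul, ← Matrix.mulVec_mulVec, Matrix.mulVec_mulVec _ _ D, ← hDu, Units.inv_mul, Matrix.one_mulVec, hCu, hDu]
    refine mul_left_cancel₀ h2 ?_
    rw [← quad_polar_self, ← quad_polar_self, hcv, hdv, hcd, ← hcd (d v) v, ← Module.End.mul_apply, ← hcomm,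
      Module.End.mul_apply, quad_polar_comm]
  obtain ⟨z, hz⟩ : ∃ z : Cfsg.isometryGroup F ⇑R, (z : GL ι F) = Cu * Du⁻¹ := ⟨⟨_, fun v _ => hZiso v⟩, rfl⟩
  have hAC : ((A : GL ι F) : Matrix ι ι F) * C = C * ((A : GL ι F) : Matrix ι ι F) := by
    refine Matrix.toLinAlgEquiv'.injective ?_
    rw [map_mul, map_mul, ← ha, hC, AlgEquiv.apply_symm_apply, hac]
  have hAD : ((A : GL ι F) : Matrix ι ι F) * D = D * ((A : GL ι F) : Matrix ι ι F) := by
    refine Matrix.toLinAlgEquiv'.injective ?_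
    rw [map_mul, map_mul, ← ha, hD, AlgEquiv.apply_symm_apply]
    refine LinearMap.ext fun v => ?_
    rw [Module.End.mul_apply, Module.End.mul_apply]
    refine sub_eq_zero.1 (hM.nondeg.1 _ fun u => ?_)
    have hA : ∀ x y, polarBilin R (a x) (a y) = polarBilin R x y :=
      fun x y => quad_polar_map R (T := a) (fun z => by rw [hav]; exact A.2 z z) x y
    obtain ⟨u, rfl⟩ : ∃ x, a x = u := ⟨Matrix.toLinAlgEquiv' (((A⁻¹ : Cfsg.isometryGroup F ⇑R) : GL ι F) : Matrix ι ι F) u, by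
      rw [ha, ← Module.End.mul_apply, ← map_mul, ← Units.val_mul, ← Subgroup.coe_mul, mul_inv_cancel]
      simp⟩
    rw [map_sub, LinearMap.sub_apply, hA, quad_polar_comm R (d (a v)), ← hcd, quad_polar_comm R (d v), ← hcd,
      sub_eq_zero, ← Module.End.mul_apply c a, ← hac, Module.End.mul_apply, hA]
  refine ⟨z, Subtype.ext ?_, ?_, ?_⟩
  · rw [Subgroup.coe_mul, Subgroup.coe_mul, hz]
    have h1 : Commute (A : GL ι F) Cu := Units.ext (by rw [Units.val_mul, Units.val_mul, hCu, hAC])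
    have h2 : Commute (A : GL ι F) Du := Units.ext (by rw [Units.val_mul, Units.val_mul, hDu, hAD])
    exact (h1.mul_right h2.inv_right).eq.symm
  · rw [hz, Units.val_mul, Matrix.det_mul, hCu, ← Matrix.GeneralLinearGroup.val_det_apply Du⁻¹, map_inv, Units.val_inv_eq_inv_val,
      Matrix.GeneralLinearGroup.val_det_apply, hDu, hDC, mul_inv_cancel₀ hC0]
  · have hone : (1 - ((z : GL ι F) : Matrix ι ι F)) = (D - C) * ((Du⁻¹ : GL ι F) : Matrix ι ι F) := by
      rw [hz, Units.val_mul, hCu, sub_mul, ← hDu, Units.mul_inv]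
    have hDi : ((Du⁻¹ : GL ι F) : Matrix ι ι F).det = C.det⁻¹ := by
      rw [← Matrix.GeneralLinearGroup.val_det_apply, map_inv, Units.val_inv_eq_inv_val,
        Matrix.GeneralLinearGroup.val_det_apply, hDu, hDC]
    have hGt : Gᵀ = G := by
      refine Matrix.ext fun i j => ?_
      rw [Matrix.transpose_apply, hG, gram_apply, gram_apply, quad_polar_comm]
    obtain ⟨m, k, b, hcard, hrad, hk0⟩ := CentSpinor.alt_basis (W := G * (D - C)) fun v => by
      rw [mul_sub, ← hCG, Matrix.sub_mulVec, dotProduct_sub, ← Matrix.mulVec_mulVec, ← Matrix.mulVec_mulVec,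
        Matrix.dotProduct_mulVec v Cᵀ, Matrix.vecMul_transpose, ← hGB, ← hGB, quad_polar_comm, sub_self]
    have hk : k = 0 := by
      by_contra hk
      refine b.ne_zero (.inr ⟨0, Nat.pos_of_ne_zero hk⟩) (hinj ?_)
      have h := hrad ⟨0, Nat.pos_of_ne_zero hk⟩
      rw [← Matrix.mulVec_mulVec, Matrix.sub_mulVec, hcv, hdv] at h
      rw [map_zero, LinearMap.sub_apply]
      by_contra h0
      exact h0 (Matrix.mulVec_injective_of_isUnit ((Matrix.isUnit_iff_isUnit_det G).2 (isUnit_iff_ne_zero.2 hG0))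
        (h.trans (Matrix.mulVec_zero G).symm))
    obtain ⟨⟨x, hx⟩, hx0, -⟩ := hk0 hk
    rw [Matrix.det_mul] at hx hx0
    have hne0 : (1 - ((z : GL ι F) : Matrix ι ι F)).det ≠ 0 := by
      rw [hone, Matrix.det_mul, hDi]
      exact mul_ne_zero (right_ne_zero_of_mul hx0) (inv_ne_zero hC0)
    rw [spinH_of_det_one_sub hM.nondeg h2 z hne0, hone, Matrix.det_mul, hDi, ← hG, sqClass_eq_neg_one_iff]
    rintro ⟨y, hy⟩
    refine hsq ?_
    rw [← hdetC]
    have hy' : C.det * (y * y) = x * x := by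
      rw [← hy, ← hx]; field_simp
    have hy0 : y ≠ 0 := fun h => by rw [h, mul_zero, mul_zero] at hy'; exact hx0 (by rw [hx]; exact hy'.symm)
    exact ⟨x / y, by field_simp; linear_combination hy'⟩

/-- The fusion statement for a model. -/
theorem fusion (hM : Model0 R) (h2 : (2 : F) ≠ 0) {M : ℕ} (hι : Fintype.card ι = 2 * M) {p : ℕ} [Fact p.Prime] [CharP F p]
    (x : MulAut (Cfsg.POmega F ⇑R)) (hx : x ∈ Cfsg.pgoAut F ⇑R) {r : ℕ} (hr : r.Prime) (hro : Odd r) (hrp : r ≠ p)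
    (hxr : orderOf x = r) :
    (∀ y, (Cfsg.IsConjUnder (Cfsg.Inn (Cfsg.POmega F ⇑R)) x y ↔ Cfsg.IsConjUnder (dia1 hM h2 hι) x y) ∧
      (Cfsg.IsConjUnder (Cfsg.psoAut F ⇑R) x y ↔ Cfsg.IsConjUnder (dia1 hM h2 hι) x y)) ∧
    (∀ y, Cfsg.IsConjUnder (Cfsg.poAut F ⇑R) x y ↔ Cfsg.IsConjUnder (Cfsg.pgoAut F ⇑R) x y) := by
  classical
  have hn : 2 ≤ Fintype.card ι := by
    obtain ⟨v, hv⟩ := hM.exists_one
    have : Nonempty ι := by
      by_contra h
      rw [not_nonempty_iff] at h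
      rw [Subsingleton.elim v 0, map_zero] at hv
      exact zero_ne_one hv
    have := Fintype.card_pos (α := ι)
    omega
  have hr2 : r ≠ 2 := fun h => by subst h; exact (by decide : ¬ Odd 2) hro
  have hrF : (r : F) ≠ 0 := fun h =>
    hrp ((Nat.prime_dvd_prime_iff_eq (Fact.out : p.Prime) hr).1 ((CharP.cast_eq_zero_iff F p r).1 h)).symm
  -- an isometry of the same order inducing `x`
  obtain ⟨A, hA, hAx⟩ : ∃ A : Cfsg.isometryGroup F ⇑R, A ^ r = 1 ∧ x = dia R (isoG R A) := by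
    rw [pgoAut_eq] at hx
    obtain ⟨g0, rfl⟩ := hx
    have hgr : dia R (g0 ^ r) = 1 := by rw [map_pow, ← hxr, pow_orderOf_eq_one]
    obtain ⟨u, hu⟩ := (dia_eq_one_iff hM _).1 hgr
    have hu' : g0 ^ r = scG R u := Subtype.ext hu
    obtain ⟨j, hj⟩ := hro
    have hmu : multS hM g0 = u * (multS hM g0 ^ j)⁻¹ * (u * (multS hM g0 ^ j)⁻¹) := by
      have e : multS hM g0 ^ r = u * u := by rw [← map_pow, hu', multS_scG]
      rw [mul_mul_mul_comm, ← e, ← mul_inv, ← pow_add, eq_mul_inv_iff_mul_eq, ← pow_succ', hj]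
      congr 1
      omega
    obtain ⟨k, hk⟩ := exists_iso_of_multS hM hmu
    obtain ⟨w, hw⟩ : ∃ w, w = u * (multS hM g0 ^ j)⁻¹ := ⟨_, rfl⟩
    rw [← hw] at hk
    have hx' : dia R g0 = dia R (isoG R k) := by
      rw [hk, map_mul, (dia_eq_one_iff hM (scG R w)).2 ⟨w, rfl⟩, one_mul]
    have hkr : dia R (isoG R (k ^ r)) = 1 := by rw [map_pow, map_pow, ← hx', ← hxr, pow_orderOf_eq_one]
    obtain ⟨t, ht⟩ := (dia_eq_one_iff hM _).1 hkr
    obtain ⟨v, hv⟩ := hM.exists_one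
    have htt : (t : F) * t = 1 := by
      have e := (k ^ r).2 v v
      change R (((k ^ r : Cfsg.isometryGroup F ⇑R) : GL ι F) *ᵥ v) = R v at e
      have e2 : (((k ^ r : Cfsg.isometryGroup F ⇑R) : GL ι F) : Matrix ι ι F) = Matrix.scalar ι (t : F) := congrArg Units.val ht
      rw [e2, show Matrix.scalar ι (t : F) *ᵥ v = (t : F) • v by
        simp [Matrix.scalar_apply, ← Matrix.smul_one_eq_diagonal, Matrix.smul_mulVec], Geometry.quad_smul, hv, mul_one] at e
      exact e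
    rcases mul_self_eq_one_iff.1 htt with h1 | h1
    · refine ⟨k, Subtype.ext ?_, hx'⟩
      rw [Units.val_eq_one.1 h1] at ht
      exact ht.trans (map_one _)
    · refine ⟨negOne R * k, Subtype.ext ?_, ?_⟩
      · have hneg : ∀ g : Cfsg.isometryGroup F ⇑R, negOne R * g = g * negOne R := fun g =>
          Subtype.ext (Units.ext (by
            show Matrix.scalar ι ((-1 : Fˣ) : F) * ((g : GL ι F) : Matrix ι ι F) = ((g : GL ι F) : Matrix ι ι F) * Matrix.scalar ι ((-1 : Fˣ) : F)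
            exact (Matrix.scalar_commute _ (fun x => Commute.all _ x) _).eq))
        rw [(show Commute (negOne R) k from hneg k).mul_pow, Subgroup.coe_mul]
        have e2 : (((k ^ r : Cfsg.isometryGroup F ⇑R) : GL ι F)) = Matrix.GeneralLinearGroup.scalar ι (-1 : Fˣ) := by
          rw [← show t = -1 from Units.ext h1]; exact ht
        rw [e2, SubmonoidClass.coe_pow, show ((negOne R : Cfsg.isometryGroup F ⇑R) : GL ι F) = Matrix.GeneralLinearGroup.scalar ι (-1) from rfl,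
          ← map_pow, ← map_mul, ← pow_succ, hj, show 2 * j + 1 + 1 = 2 * (j + 1) by ring, pow_mul, neg_one_sq, one_pow, map_one]
        rfl
      · rw [hx', map_mul, map_mul, show dia R (isoG R (negOne R)) = 1 from
          (dia_eq_one_iff hM _).2 ⟨-1, rfl⟩, one_mul]
  subst hAx
  have hinj : Function.Injective (isoG R) := fun g h e =>
    Subtype.ext (congrArg (fun s : Cfsg.Geo.quadSimilarityGroup (F := F) ⇑R => s.1) e)
  -- conjugation by a similarity is conjugation by an isometry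
  have key : ∀ g : Cfsg.Geo.quadSimilarityGroup (F := F) ⇑R, ∃ k : Cfsg.isometryGroup F ⇑R,
      g * isoG R A * g⁻¹ = isoG R (k * A * k⁻¹) := by
    intro g
    obtain ⟨B, hB⟩ := exists_iso_of_multS hM (g := g * isoG R A * g⁻¹) (u := 1) (by
      rw [map_mul, map_mul, map_inv, multS_isoG, mul_one, mul_inv_cancel, mul_one])
    rw [map_one, one_mul] at hB
    have e : g * isoG R A = isoG R B * g := by rw [← hB, inv_mul_cancel_right]
    have hc : IsConj A B := Cfsg.Agent.S2590.isConj_isometryGroup R hM.nondeg A B hro hrF hA (G := (g.1 : Matrix ι ι F))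
      g.1.isUnit (congrArg (fun s : Cfsg.Geo.quadSimilarityGroup (F := F) ⇑R => ((s.1 : GL ι F) : Matrix ι ι F)) e)
    obtain ⟨k, hk⟩ := isConj_iff.1 hc
    exact ⟨k, by rw [hB, hk]⟩
  -- adjust by the centraliser
  have key1 : ∀ g : Cfsg.Geo.quadSimilarityGroup (F := F) ⇑R, deltaS hM M g = 1 →
      ∃ k : Cfsg.isometryGroup F ⇑R, dia R (isoG R k) ∈ Cfsg.Inn (Cfsg.POmega F ⇑R) ∧
        g * isoG R A * g⁻¹ = isoG R (k * A * k⁻¹) := by
    intro g hg
    obtain ⟨k, hk⟩ := key g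
    have hmul : ∀ k z : Cfsg.isometryGroup F ⇑R, z * A = A * z → k * z * A * (k * z)⁻¹ = k * A * k⁻¹ := fun k z h => by
      rw [mul_assoc k z A, h, mul_inv_rev, mul_assoc k, mul_assoc A z, mul_inv_cancel_left, ← mul_assoc]
    obtain ⟨k1, hk1, hk1d⟩ : ∃ k1 : Cfsg.isometryGroup F ⇑R, k1 * A * k1⁻¹ = k * A * k⁻¹ ∧
        ((k1 : GL ι F) : Matrix ι ι F).det = 1 := by
      rcases fix_or hM.nondeg h2 hι hro hrF A hA with hfix | ⟨v, w, hv, -, hRv, -, -⟩
      · refine ⟨k, rfl, ?_⟩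
        obtain ⟨c, hc⟩ : ∃ c, c = (isoG R k)⁻¹ * g := ⟨_, rfl⟩
        have hcA : c * isoG R A = isoG R A * c := by
          rw [map_mul, map_mul, map_inv, mul_inv_eq_iff_eq_mul] at hk
          rw [hc, mul_assoc, hk]
          simp only [mul_assoc, inv_mul_cancel_left]
        have := delta_of_fpf hM h2 hι hro A hA hfix c hcA
        rw [hc, map_mul, map_inv, hg, mul_one, inv_eq_one, deltaS_isoG] at this
        exact congrArg Units.val this
      · have hv0 : R v ≠ 0 := by rw [hRv]; exact one_ne_zero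
        have hd : ∀ g : Cfsg.isometryGroup F ⇑R, ((g : GL ι F) : Matrix ι ι F).det = 1 ∨ ((g : GL ι F) : Matrix ι ι F).det = -1 := fun g => by
          rcases deltaS_sq hM hι (isoG R g) with h | h <;> rw [deltaS_isoG] at h
          · exact .inl (congrArg Units.val h)
          · exact .inr ((congrArg Units.val h).trans (by rw [Units.val_neg, Units.val_one]))
        rcases hd k with h | h
        · exact ⟨k, rfl, h⟩
        · refine ⟨k * reflI R v, hmul _ _ (refl_comm A hv), ?_⟩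
          rw [Subgroup.coe_mul, Units.val_mul, Matrix.det_mul, h, reflI_matrix, Geometry.det_reflectionMatrix R hv0, neg_mul_neg, one_mul]
    rw [← hk1] at hk
    rcases Int.units_eq_one_or (spinH hM.nondeg h2 k1) with h | h
    · exact ⟨k1, dia_mem_inn_of_det hM h2 hι hn hk1d (.inl h), hk⟩
    · obtain ⟨z, hzA, hzd, hzs⟩ := exists_spin hM h2 hι hr hr2 hrF A hA
      refine ⟨k1 * z, dia_mem_inn_of_det hM h2 hι hn ?_ (.inl ?_), by rw [hmul _ _ hzA]; exact hk⟩
      · rw [Subgroup.coe_mul, Units.val_mul, Matrix.det_mul, hk1d, hzd, mul_one]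
      · rw [map_mul, h, hzs]; decide
  have hpso : psoImage R ≤ dia1 hM h2 hι := by
    rintro _ ⟨g, hg, rfl⟩
    exact ⟨isoG R g, (sgnS_eq_one _ _ _ _).2 ((deltaS_isoG hM M g).trans hg), rfl⟩
  have mono : ∀ {H H' : Subgroup (MulAut (Cfsg.POmega F ⇑R))} {x y}, H ≤ H' → Cfsg.IsConjUnder H x y → Cfsg.IsConjUnder H' x y :=
    fun h ⟨a, ha, e⟩ => ⟨a, h ha, e⟩
  refine ⟨fun y => ?_, fun y => ⟨mono ?_, ?_⟩⟩
  · have hback : Cfsg.IsConjUnder (dia1 hM h2 hι) (dia R (isoG R A)) y →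
        Cfsg.IsConjUnder (Cfsg.Inn (Cfsg.POmega F ⇑R)) (dia R (isoG R A)) y := by
      rintro ⟨_, ⟨g, hg, rfl⟩, rfl⟩
      obtain ⟨k, hk, e⟩ := key1 g ((sgnS_eq_one _ _ _ _).1 hg)
      refine ⟨_, hk, ?_⟩
      rw [← map_inv, ← map_mul, ← map_mul, e]
      simp only [map_mul, map_inv]
    refine ⟨⟨mono (inn_le_psoImage.trans hpso), hback⟩, ⟨?_, fun h => mono ?_ (hback h)⟩⟩
    · rw [psoAut_eq]; exact mono hpso
    · rw [psoAut_eq]; exact inn_le_psoImage
  · rw [pgoAut_eq]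
    refine (Subgroup.closure_le _).2 ?_
    rintro β ⟨g, hg, hind⟩
    exact ⟨⟨g, ⟨1, fun v => by rw [Units.val_one, one_mul]; exact hg v v⟩⟩,
      (eq_semAut (pair_of_sim ⟨1, fun v => by rw [Units.val_one, one_mul]; exact hg v v⟩) hind).symm⟩
  · rw [pgoAut_eq]
    rintro ⟨_, ⟨g, rfl⟩, rfl⟩
    obtain ⟨k, e⟩ := key g
    refine ⟨dia R (isoG R k), Subgroup.subset_closure ⟨k.1, k.2, isInduced_semAut _ _ _⟩, ?_⟩
    rw [← map_inv, ← map_mul, ← map_mul, e]
    simp only [map_mul, map_inv]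

end Cfsg.Agent.Lib.Similar.OrthFusion
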