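import Mathlib

/-!
Classes of elements of prime order in a central quotient, by counting fixed classes.
-/

set_option autoImplicit false

namespace Cfsg.Agent.Lib.Similar.Proj

variable {G : Type*} [Group G]

/-- The classes whose `r`-th power is the given element. -/
abbrev Pw (r : ℕ) (c : G) : Type _ := {C : ConjClasses G // ∃ g : G, ConjClasses.mk g = C ∧ g ^ r = c}

theorem pow_eq_of_conj {r : ℕ} {g g' c : G} (hc : c ∈ Subgroup.center G) (h : IsConj g g') (hg : g ^ r = c) : g' ^ r = c := by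
  obtain ⟨x, rfl⟩ := isConj_iff.1 h
  rw [conj_pow, hg, (Subgroup.mem_center_iff.1 hc x), mul_inv_cancel_right]

theorem eq_of_conj_center {g z : G} (hz : z ∈ Subgroup.center G) (h : IsConj z g) : g = z := by
  obtain ⟨x, rfl⟩ := isConj_iff.1 h
  rw [Subgroup.mem_center_iff.1 hz x, mul_inv_cancel_right]

/-- Non-central classes with central `r`-th power. -/
abbrev Cand (G : Type*) [Group G] (r : ℕ) : Type _ :=
  {C : ConjClasses G // ∃ g : G, ConjClasses.mk g = C ∧ g ^ r ∈ Subgroup.center G ∧ g ∉ Subgroup.center G}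

/-- Multiplication by the centre on classes. -/
def cmul (z : Subgroup.center G) : ConjClasses G → ConjClasses G :=
  Quotient.lift (fun s => ConjClasses.mk ((z : G) * s)) fun a b h => by
    obtain ⟨g, rfl⟩ := isConj_iff.1 h
    refine ConjClasses.mk_eq_mk_iff_isConj.2 (isConj_iff.2 ⟨g, ?_⟩)
    rw [← mul_assoc g, Subgroup.mem_center_iff.1 z.2 g]
    simp only [mul_assoc]

theorem cmul_mk (z : Subgroup.center G) (s : G) : cmul z (ConjClasses.mk s) = ConjClasses.mk ((z : G) * s) := rfl

theorem cand_cmul {r : ℕ} (z : Subgroup.center G) (C : Cand G r) :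
    ∃ g : G, ConjClasses.mk g = cmul z C.1 ∧ g ^ r ∈ Subgroup.center G ∧ g ∉ Subgroup.center G := by
  obtain ⟨g, hg, h1, h2⟩ := C.2
  refine ⟨z * g, by rw [← hg, cmul_mk], ?_, fun h => h2 ?_⟩
  · rw [(show Commute (z : G) g from (Subgroup.mem_center_iff.1 z.2 g).symm).mul_pow]
    exact mul_mem (pow_mem z.2 r) h1
  · exact (Subgroup.mul_mem_cancel_left _ z.2).1 h

instance instCandAction {r : ℕ} : MulAction (Subgroup.center G) (Cand G r) where
  smul z C := ⟨cmul z C.1, cand_cmul z C⟩
  one_smul C := by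
    refine Subtype.ext ?_
    obtain ⟨s, hs⟩ := ConjClasses.mk_surjective C.1
    show cmul 1 C.1 = C.1
    rw [← hs, cmul_mk, OneMemClass.coe_one, one_mul]
  mul_smul a b C := by
    refine Subtype.ext ?_
    obtain ⟨s, hs⟩ := ConjClasses.mk_surjective C.1
    show cmul (a * b) C.1 = cmul a (cmul b C.1)
    rw [← hs, cmul_mk, cmul_mk, cmul_mk, Subgroup.coe_mul, mul_assoc]

theorem smul_val {r : ℕ} (z : Subgroup.center G) (C : Cand G r) : (z • C).1 = cmul z C.1 := rfl

theorem card_orbits {r : ℕ} (hr : r.Prime) :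
    Nat.card (MulAction.orbitRel.Quotient (Subgroup.center G) (Cand G r)) =
      Nat.card {C : ConjClasses (G ⧸ Subgroup.center G) // ∃ g : G ⧸ Subgroup.center G, ConjClasses.mk g = C ∧ orderOf g = r} := by
  have : Fact r.Prime := ⟨hr⟩
  let Q := G ⧸ Subgroup.center G
  let T := {C : ConjClasses Q // ∃ g : Q, ConjClasses.mk g = C ∧ orderOf g = r}
  let π : Cand G r → T := fun C => ⟨C.1.map (QuotientGroup.mk' (Subgroup.center G)), by
    obtain ⟨g, hg, h1, h2⟩ := C.2
    refine ⟨QuotientGroup.mk g, by rw [← hg]; rfl, orderOf_eq_prime ?_ fun h => h2 ((QuotientGroup.eq_one_iff g).1 h)⟩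
    rw [← QuotientGroup.mk_pow, QuotientGroup.eq_one_iff]
    exact h1⟩
  have key : ∀ C D : Cand G r, π C = π D ↔ ∃ z : Subgroup.center G, z • D = C := by
    intro C D
    obtain ⟨a, ha⟩ := ConjClasses.mk_surjective C.1
    obtain ⟨b, hb⟩ := ConjClasses.mk_surjective D.1
    constructor
    · intro h
      have h' : ConjClasses.mk (QuotientGroup.mk a : Q) = ConjClasses.mk (QuotientGroup.mk b : Q) := by
        have := congrArg Subtype.val h
        simp only [π, ← ha, ← hb] at this
        exact this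
      obtain ⟨g', hg⟩ := isConj_iff.1 (ConjClasses.mk_eq_mk_iff_isConj.1 h')
      obtain ⟨g, rfl⟩ := QuotientGroup.mk_surjective g'
      rw [← QuotientGroup.mk_inv, ← QuotientGroup.mk_mul, ← QuotientGroup.mk_mul, QuotientGroup.eq] at hg
      refine ⟨⟨_, hg⟩⁻¹, Subtype.ext ?_⟩
      rw [smul_val, ← ha, ← hb, cmul_mk, ConjClasses.mk_eq_mk_iff_isConj, isConj_iff]
      refine ⟨g⁻¹, ?_⟩
      show g⁻¹ * (((g * a * g⁻¹)⁻¹ * b)⁻¹ * b) * g⁻¹⁻¹ = a
      rw [← Subgroup.mem_center_iff.1 (inv_mem hg) b]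
      group
    · rintro ⟨z, rfl⟩
      refine Subtype.ext ?_
      show (z • D).1.map _ = D.1.map _
      rw [smul_val, ← hb, cmul_mk]
      refine congrArg ConjClasses.mk ?_
      show QuotientGroup.mk ((z : G) * b) = QuotientGroup.mk b
      rw [QuotientGroup.mk_mul, (QuotientGroup.eq_one_iff _).2 z.2, one_mul]
  refine Nat.card_eq_of_bijective (Quotient.lift π fun C D h => ?_) ⟨fun x y h => ?_, fun c => ?_⟩
  · obtain ⟨z, hz⟩ := h
    exact (key C D).2 ⟨z, hz⟩
  · induction x using Quotient.inductionOn with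
    | h C =>
    induction y using Quotient.inductionOn with
    | h D => exact Quotient.sound ((key C D).1 h)
  · obtain ⟨C, y, hy, ho⟩ := c
    obtain ⟨s, rfl⟩ := QuotientGroup.mk_surjective y
    have h1 : s ^ r ∈ Subgroup.center G := by
      rw [← QuotientGroup.eq_one_iff, QuotientGroup.mk_pow, ← ho, pow_orderOf_eq_one]
    have h2 : s ∉ Subgroup.center G := fun h => by
      rw [(QuotientGroup.eq_one_iff s).2 h, orderOf_one] at ho
      exact hr.one_lt.ne ho
    exact ⟨Quotient.mk _ ⟨ConjClasses.mk s, s, rfl, h1, h2⟩, Subtype.ext hy⟩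

theorem card_proj_classes [Finite G] {r Ct δ : ℕ} (hr : r.Prime) (hδ : δ ≤ 1)
    (hker : Nat.card {z : Subgroup.center G // z ^ r = 1} = r)
    (hN : ∀ c : Subgroup.center G, (∃ x : Subgroup.center G, x ^ r = c) → Nat.card (Pw r (c : G)) = Ct)
    (hN' : ∀ c : Subgroup.center G, (¬ ∃ x : Subgroup.center G, x ^ r = c) → Nat.card (Pw r (c : G)) = δ)
    (hF : ∀ c z : Subgroup.center G, z ^ r = 1 → z ≠ 1 →
      Nat.card {C : Pw r (c : G) // cmul z C.1 = C.1} = δ) :
    Nat.card {C : ConjClasses (G ⧸ Subgroup.center G) // ∃ g : G ⧸ Subgroup.center G, ConjClasses.mk g = C ∧ orderOf g = r} =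
      (Ct - r - δ) / r + r * δ := by
  classical
  rw [← card_orbits hr]
  obtain ⟨W, hW⟩ : ∃ W, W = Nat.card (Subgroup.center G) := ⟨_, rfl⟩
  let _ : Fintype (Subgroup.center G) := Fintype.ofFinite _
  obtain ⟨R, hR⟩ : ∃ R, R = (Finset.univ.filter fun c : Subgroup.center G => ∃ x : Subgroup.center G, x ^ r = c).card :=
    ⟨_, rfl⟩
  have hRr : R * r = W := by
    have hcomm : ∀ a b : Subgroup.center G, a * b = b * a := fun a b => Subtype.ext (Subgroup.mem_center_iff.1 b.2 a)
    let φ : Subgroup.center G →* Subgroup.center G := MonoidHom.mk' (fun z => z ^ r) fun a b => (Commute.mul_pow (hcomm a b) r)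
    have h := Subgroup.card_eq_card_quotient_mul_card_subgroup φ.ker
    have hk : Nat.card φ.ker = r :=
      Eq.trans (Nat.card_congr (Equiv.subtypeEquivRight fun z => by rw [MonoidHom.mem_ker]; rfl)) hker
    rw [Nat.card_congr (QuotientGroup.quotientKerEquivRange _).toEquiv, hk, ← hW] at h
    rw [h, hR]
    congr 1
    rw [← Fintype.card_subtype, ← Nat.card_eq_fintype_card]
    exact Nat.card_congr (Equiv.subtypeEquivRight fun c => by simp [φ, MonoidHom.mem_range])
  -- all classes with central power, split by the power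
  let U := {C : ConjClasses G // ∃ g : G, ConjClasses.mk g = C ∧ g ^ r ∈ Subgroup.center G}
  let eU : (Σ c : Subgroup.center G, Pw r (c : G)) ≃ U :=
    Equiv.ofBijective (fun x => ⟨x.2.1, by obtain ⟨g, h1, h2⟩ := x.2.2; exact ⟨g, h1, by rw [h2]; exact x.1.2⟩⟩) (by
      constructor
      · rintro ⟨c, C, g, hg, hgc⟩ ⟨c', C', g', hg', hgc'⟩ h
        replace h : C = C' := congrArg Subtype.val h
        obtain rfl : c = c' := Subtype.ext ((pow_eq_of_conj c.2 (ConjClasses.mk_eq_mk_iff_isConj.1 (hg.trans (h.trans hg'.symm))) hgc).symm.trans hgc')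
        subst h
        rfl
      · rintro ⟨C, g, hg, hgc⟩
        exact ⟨⟨⟨g ^ r, hgc⟩, C, g, hg, rfl⟩, rfl⟩)
  let eA : Cand G r ⊕ Subgroup.center G ≃ U :=
    Equiv.ofBijective (Sum.elim (fun C => ⟨C.1, by obtain ⟨g, h1, h2, -⟩ := C.2; exact ⟨g, h1, h2⟩⟩)
      (fun z => ⟨ConjClasses.mk (z : G), z, rfl, pow_mem z.2 r⟩)) (by
      have hcz : ∀ (C : Cand G r) (z : Subgroup.center G), C.1 ≠ ConjClasses.mk (z : G) := by
        intro C z h
        obtain ⟨g, hg, -, hne⟩ := C.2
        exact hne (eq_of_conj_center z.2 (ConjClasses.mk_eq_mk_iff_isConj.1 (hg.trans h)).symm ▸ z.2)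
      constructor
      · rintro (C | z) (D | w) h <;> replace h := congrArg Subtype.val h <;> simp only [Sum.elim_inl, Sum.elim_inr] at h
        · exact congrArg _ (Subtype.ext h)
        · exact absurd h (hcz C w)
        · exact absurd h.symm (hcz D z)
        · exact congrArg _ (Subtype.ext (eq_of_conj_center z.2 (ConjClasses.mk_eq_mk_iff_isConj.1 h)).symm)
      · rintro ⟨C, g, hg, hgc⟩
        by_cases h : g ∈ Subgroup.center G
        · exact ⟨Sum.inr ⟨g, h⟩, Subtype.ext hg⟩
        · exact ⟨Sum.inl ⟨C, g, hg, hgc, h⟩, rfl⟩)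
  have hsum : Nat.card (Cand G r) + W = R * Ct + (W - R) * δ := by
    rw [hW, ← Nat.card_sum, Nat.card_congr eA, ← Nat.card_congr eU, Nat.card_sigma,
      ← Finset.sum_filter_add_sum_filter_not Finset.univ (fun c : Subgroup.center G => ∃ x : Subgroup.center G, x ^ r = c),
      Finset.sum_congr rfl (fun c hc => hN c (Finset.mem_filter.1 hc).2), Finset.sum_congr rfl (fun c hc => hN' c (Finset.mem_filter.1 hc).2),
      Finset.sum_const, Finset.sum_const, smul_eq_mul, smul_eq_mul, ← hR, Nat.card_eq_fintype_card]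
    congr 2
    have := Finset.card_filter_add_card_filter_not (s := (Finset.univ : Finset (Subgroup.center G))) (fun c => ∃ x : Subgroup.center G, x ^ r = c)
    rw [Finset.card_univ, ← hR] at this
    omega
  have hfix : ∀ z : Subgroup.center G, z ≠ 1 → Nat.card (MulAction.fixedBy (Cand G r) z) = if z ^ r = 1 then W * δ else 0 := by
    intro z hz
    by_cases hzr : z ^ r = 1
    · rw [if_pos hzr, hW, Nat.card_eq_fintype_card (α := Subgroup.center G)]
      rw [← Finset.card_univ, ← smul_eq_mul, ← Finset.sum_const, ← Finset.sum_congr rfl (fun c _ => hF c z hzr hz), ← Nat.card_sigma]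
      refine Nat.card_congr (Equiv.symm (Equiv.ofBijective (fun x => (⟨⟨x.2.1.1, ?_⟩, ?_⟩ : MulAction.fixedBy (Cand G r) z)) ⟨?_, ?_⟩))
      · obtain ⟨g, h1, h2⟩ := x.2.1.2
        refine ⟨g, h1, by rw [h2]; exact x.1.2, fun hg => hz ?_⟩
        have := x.2.2
        rw [← h1, cmul_mk, ConjClasses.mk_eq_mk_iff_isConj] at this
        have e := eq_of_conj_center (mul_mem z.2 hg) this
        exact Subtype.ext (mul_eq_right.1 e.symm)
      · exact Subtype.ext x.2.2
      · rintro ⟨c, ⟨C, g, hg, hgc⟩, hC⟩ ⟨c', ⟨C', g', hg', hgc'⟩, hC'⟩ h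
        replace h : C = C' := congrArg (fun x => (Subtype.val x).1) h
        obtain rfl : c = c' := Subtype.ext ((pow_eq_of_conj c.2 (ConjClasses.mk_eq_mk_iff_isConj.1 (hg.trans (h.trans hg'.symm))) hgc).symm.trans hgc')
        subst h
        rfl
      · rintro ⟨⟨C, g, hg, hgc, hne⟩, hC⟩
        exact ⟨⟨⟨g ^ r, hgc⟩, ⟨C, g, hg, rfl⟩, congrArg Subtype.val hC⟩, rfl⟩
    · rw [if_neg hzr, Nat.card_eq_zero]
      left
      refine ⟨fun ⟨C, hC⟩ => hzr ?_⟩
      obtain ⟨g, hg, hgc, -⟩ := C.2
      have h : cmul z C.1 = C.1 := congrArg Subtype.val hC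
      rw [← hg, cmul_mk, ConjClasses.mk_eq_mk_iff_isConj] at h
      have e := pow_eq_of_conj hgc h.symm rfl
      rw [(show Commute (z : G) g from (Subgroup.mem_center_iff.1 z.2 g).symm).mul_pow] at e
      exact Subtype.ext (mul_eq_right.1 e)
  let _ : Fintype (Cand G r) := Fintype.ofFinite _
  let _ : ∀ z : Subgroup.center G, Fintype (MulAction.fixedBy (Cand G r) z) := fun z => Fintype.ofFinite _
  let _ : Fintype (MulAction.orbitRel.Quotient (Subgroup.center G) (Cand G r)) := Fintype.ofFinite _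
  have h := MulAction.sum_card_fixedBy_eq_card_orbits_mul_card_group (Subgroup.center G) (Cand G r)
  simp only [← Nat.card_eq_fintype_card] at h
  rw [← hW] at h
  obtain ⟨O, hO⟩ : ∃ O, O = Nat.card (MulAction.orbitRel.Quotient (Subgroup.center G) (Cand G r)) := ⟨_, rfl⟩
  rw [show Nat.card (Quotient (MulAction.orbitRel (Subgroup.center G) (Cand G r))) = O from hO.symm,
    ← Finset.add_sum_erase _ _ (Finset.mem_univ (1 : Subgroup.center G)),
    Finset.sum_congr rfl (fun z hz => hfix z (Finset.ne_of_mem_erase hz))] at h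
  have h1 : Nat.card (MulAction.fixedBy (Cand G r) (1 : Subgroup.center G)) = Nat.card (Cand G r) :=
    Nat.card_congr (Equiv.subtypeUnivEquiv fun C => one_smul _ C)
  have h2 : ((Finset.univ.erase (1 : Subgroup.center G)).filter fun z => z ^ r = 1).card = r - 1 := by
    rw [Finset.filter_erase, Finset.card_erase_of_mem (by simp), ← Fintype.card_subtype, ← Nat.card_eq_fintype_card, hker]
  rw [h1, ← Finset.sum_filter, Finset.sum_const, h2, smul_eq_mul] at h
  rw [← hO]
  have hWpos : 0 < W := hW ▸ Nat.card_pos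
  have hr2 := hr.two_le
  have hCt : r ≤ Ct := by
    rw [← hN 1 ⟨1, one_pow r⟩]
    refine hker.symm.le.trans ?_
    refine Nat.card_le_card_of_injective (fun z => (⟨ConjClasses.mk ((z : Subgroup.center G) : G), _, rfl,
      congrArg Subtype.val z.2⟩ : Pw r ((1 : Subgroup.center G) : G))) fun a b hab => ?_
    exact Subtype.ext (Subtype.ext (eq_of_conj_center (a : Subgroup.center G).2
      (ConjClasses.mk_eq_mk_iff_isConj.1 (congrArg Subtype.val hab))).symm)
  -- the arithmetic
  obtain ⟨k, hk⟩ : ∃ k, r = k + 1 := ⟨r - 1, by omega⟩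
  have hle : R ≤ W := hRr ▸ Nat.le_mul_of_pos_right _ (by omega)
  obtain ⟨w, hw⟩ : ∃ w, W = R + w := ⟨W - R, by omega⟩
  rw [hw, Nat.add_sub_cancel_left] at hsum
  have hRpos : 0 < R := Nat.pos_of_ne_zero fun h => by rw [h, zero_mul] at hRr; omega
  have hwk : w = k * R := by
    rw [hw, hk, mul_add, mul_one, mul_comm] at hRr
    omega
  have key : O * (k + 1) + (k + 1) + δ = Ct + (k + 1) * (k + 1) * δ := by
    refine Nat.eq_of_mul_eq_mul_left hRpos ?_
    have h' : Nat.card (Cand G r) + (r - 1) * ((R + k * R) * δ) = O * (R + k * R) := by rw [← hwk, ← hw]; exact h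
    rw [show r - 1 = k by omega] at h'
    rw [hwk] at hsum
    nlinarith
  rw [hk] at hCt ⊢
  rcases Nat.le_one_iff_eq_zero_or_eq_one.1 hδ with rfl | rfl
  · have hO' : O * (k + 1) = Ct - (k + 1) := by omega
    rw [Nat.sub_zero, mul_zero, add_zero, ← hO', Nat.mul_div_cancel _ (by omega)]
  · obtain ⟨t, ht⟩ : ∃ t, O = (k + 1) + t := by
      refine ⟨O - (k + 1), ?_⟩
      by_contra hh
      have h3 : O ≤ k := by omega
      have := Nat.mul_le_mul_right (k + 1) h3
      nlinarith
    subst ht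
    have hO' : t * (k + 1) = Ct - (k + 1) - 1 := by
      rw [Nat.sub_sub]
      symm
      apply Nat.sub_eq_of_eq_add
      nlinarith
    rw [← hO', Nat.mul_div_cancel _ (by omega)]
    ring

end Cfsg.Agent.Lib.Similar.Proj
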