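import Mathlib
import Cfsg.Agent.Lib.Similar.FamBound

/-!
Scalar multiples of invertible matrices: elementary divisors, and families fixed by a scalar.
-/

set_option autoImplicit false

namespace Cfsg.Agent.Lib.Similar

open Polynomial Module

variable {F : Type*} [Field F]

theorem scaleRoots_cancel (p : F[X]) {c : F} (hc : c ≠ 0) : (p.scaleRoots c).scaleRoots c⁻¹ = p := by
  rw [← scaleRoots_mul, mul_inv_cancel₀ hc, scaleRoots_one]

theorem scaleRoots_cancel' (p : F[X]) {c : F} (hc : c ≠ 0) : (p.scaleRoots c⁻¹).scaleRoots c = p := by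
  rw [← scaleRoots_mul, inv_mul_cancel₀ hc, scaleRoots_one]

theorem irreducible_scaleRoots {p : F[X]} (hp : Irreducible p) {c : F} (hc : c ≠ 0) : Irreducible (p.scaleRoots c) := by
  refine irreducible_iff.2 ⟨fun h => hp.not_isUnit ?_, fun a b h => ?_⟩
  · rw [isUnit_iff_degree_eq_zero] at h ⊢
    rwa [degree_scaleRoots] at h
  · have h2 : p = a.scaleRoots c⁻¹ * b.scaleRoots c⁻¹ := by
      rw [← mul_scaleRoots_of_noZeroDivisors, ← h, scaleRoots_cancel p hc]
    rcases hp.isUnit_or_isUnit h2 with hu | hu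
    · left; rw [isUnit_iff_degree_eq_zero] at hu ⊢; rwa [degree_scaleRoots] at hu
    · right; rw [isUnit_iff_degree_eq_zero] at hu ⊢; rwa [degree_scaleRoots] at hu

theorem coeff_zero_scaleRoots (p : F[X]) (c : F) : (p.scaleRoots c).coeff 0 = p.coeff 0 * c ^ p.natDegree := by
  rw [coeff_scaleRoots, Nat.sub_zero]

theorem kerDim_smul {V : Type*} [AddCommGroup V] [Module F V] (T : Module.End F V) {c : F} (hc : c ≠ 0) (f : F[X]) :
    kerDim (c • T) (f.scaleRoots c) = kerDim T f := by
  have h := scaleRoots_eval₂_mul_of_commute (p := f) (algebraMap F (Module.End F V)) T c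
    (Algebra.commutes c T) (fun s t => Algebra.commutes s (algebraMap F (Module.End F V) t))
  have h2 : aeval (c • T) (f.scaleRoots c) = (c ^ f.natDegree) • aeval T f := by
    rw [Algebra.smul_def c T, Algebra.smul_def, map_pow]
    exact h
  rw [kerDim, kerDim, h2, LinearMap.ker_smul _ _ (pow_ne_zero _ hc)]

variable {n : Type*} [Fintype n] [DecidableEq n]

/-- Elementary divisors of a scalar multiple. -/
theorem matInv_smul (x y : GL n F) {c : F} (hc : c ≠ 0) (h : (y : Matrix n n F) = c • (x : Matrix n n F)) :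
    matInv (y : Matrix n n F) = (matInv (x : Matrix n n F)).map fun z => (z.1.scaleRoots c, z.2) := by
  classical
  obtain ⟨h1, h2⟩ := matInv_spec x
  obtain ⟨D⟩ := nonempty_decomp (toEnd (x : Matrix n n F))
  obtain ⟨m, hm⟩ : ∃ m, m = (matInv (x : Matrix n n F)).map fun z => (z.1.scaleRoots c, z.2) := ⟨_, rfl⟩
  obtain ⟨w, hw⟩ := exists_gl_matInv (n := n) m (fun z hz => by
    obtain ⟨u, hu, rfl⟩ := Multiset.mem_map.1 (hm ▸ hz)
    obtain ⟨k1, k2, k3, k4⟩ := h1 u hu
    refine ⟨(monic_scaleRoots_iff c).2 k1, irreducible_scaleRoots k2 hc, ?_, k4⟩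
    rw [coeff_zero_scaleRoots]
    exact mul_ne_zero k3 (pow_ne_zero _ hc))
    (by
      rw [hm, Multiset.map_map, ← h2]
      refine congrArg _ (Multiset.map_congr rfl fun u _ => ?_)
      simp only [Function.comp_apply, natDegree_scaleRoots])
  rw [← hm, ← hw]
  obtain ⟨D'⟩ := nonempty_decomp (toEnd (w : Matrix n n F))
  rw [matInv_eq _ D'] at hw
  rw [matInv_eq _ D] at hm
  refine inv_eq_of_kerDim_eq _ _ fun q hq hmq k => ?_
  have hy : toEnd (y : Matrix n n F) = c • toEnd (x : Matrix n n F) := by rw [toEnd, h, map_smul]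
  obtain ⟨r, hr⟩ : ∃ r, r = q.scaleRoots c⁻¹ := ⟨_, rfl⟩
  have hqr : q ^ k = (r ^ k).scaleRoots c := by
    rw [pow_scaleRoots_of_isReduced, hr, scaleRoots_cancel' q hc]
  have hrm : r.Monic := hr ▸ (monic_scaleRoots_iff _).2 hmq
  have hri : Irreducible r := hr ▸ irreducible_scaleRoots hq (inv_ne_zero hc)
  conv_lhs => rw [hy, hqr, kerDim_smul _ hc, kerDim_pow D hri hrm]
  rw [kerDim_pow D' hq hmq, hr, natDegree_scaleRoots]
  congr 1
  have e := congrArg (fun M : Multiset (F[X] × ℕ) => (M.map fun z => if z.1 = q then min z.2 k else 0).sum) (hw.trans hm)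
  simp only [Decomp.inv, Multiset.map_map, Function.comp_def] at e
  refine Eq.trans ?_ e.symm
  refine Finset.sum_congr rfl fun i _ => ?_
  have : D.p i = q.scaleRoots c⁻¹ ↔ (D.p i).scaleRoots c = q :=
    ⟨fun hh => by rw [hh, scaleRoots_cancel' q hc], fun hh => by rw [← hh, scaleRoots_cancel _ hc]⟩
  simp only [this]

end Cfsg.Agent.Lib.Similar

namespace Cfsg.Agent.Lib.FamCount

open Polynomial Cfsg.Agent.Lib.Similar

variable {F : Type*} [Field F] [Fintype F] [DecidableEq F]

/-- The families fixed by multiplication with a scalar of order `r`. -/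
noncomputable def fixedFam (n : ℕ) (v c : F) : Finset (Multiset (F[X] × ℕ)) :=
  (fam F 1 n).filter fun m => dt m = v ∧ (m.map fun z => (z.1.scaleRoots c, z.2)) = m

/-- A polynomial in `X ^ r`, written in `X`. -/
noncomputable def shrink (r : ℕ) (g : F[X]) : F[X] :=
  ∑ j ∈ Finset.range (g.natDegree / r + 1), C (g.coeff (j * r)) * X ^ j

theorem coeff_shrink {r : ℕ} (hr : 0 < r) (g : F[X]) (j : ℕ) : (shrink r g).coeff j = g.coeff (j * r) := by
  rw [shrink, finsetSum_coeff]
  simp only [coeff_C_mul, coeff_X_pow, mul_ite, mul_one, mul_zero]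
  rw [Finset.sum_ite_eq]
  split_ifs with h
  · rfl
  · rw [Finset.mem_range, not_lt] at h
    rw [coeff_eq_zero_of_natDegree_lt]
    exact lt_of_lt_of_le (Nat.lt_mul_div_succ _ hr) (by rw [mul_comm j]; exact Nat.mul_le_mul_left _ h)

theorem expand_shrink {g : F[X]} (h0 : g.coeff 0 ≠ 0) {c : F} {r : ℕ} (hr : r = orderOf c) (hrpos : 0 < r)
    (h : g.scaleRoots c = g) : r ∣ g.natDegree ∧ Polynomial.expand F r (shrink r g) = g := by
  have hc : ∀ i, g.coeff i ≠ 0 → r ∣ g.natDegree - i := fun i hi => by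
    rw [hr]
    refine orderOf_dvd_of_pow_eq_one ?_
    have := congrArg (fun p => coeff p i) h
    simp only [coeff_scaleRoots] at this
    exact mul_left_cancel₀ hi (this.trans (mul_one _).symm)
  have hd : r ∣ g.natDegree := by simpa using hc 0 h0
  refine ⟨hd, Polynomial.ext fun i => ?_⟩
  rw [coeff_expand hrpos]
  split_ifs with hi
  · rw [coeff_shrink hrpos, Nat.div_mul_cancel hi]
  · by_contra hne
    have hle := le_natDegree_of_ne_zero (Ne.symm hne)
    refine hi ?_
    have := Nat.dvd_sub hd (hc i (Ne.symm hne))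
    rwa [Nat.sub_sub_self hle] at this

omit [Fintype F] [DecidableEq F] in
theorem dt_sum {ι : Type*} (K : Finset ι) (f : ι → Multiset (F[X] × ℕ)) : dt (∑ k ∈ K, f k) = ∏ k ∈ K, dt (f k) := by
  classical
  induction K using Finset.induction with
  | empty => simp [dt]
  | insert a s ha ih => rw [Finset.sum_insert ha, Finset.prod_insert ha, dt_add, ih]

omit [Fintype F] [DecidableEq F] in
theorem wt_sum {ι : Type*} (K : Finset ι) (f : ι → Multiset (F[X] × ℕ)) :
    ((∑ k ∈ K, f k).map fun y => y.2 * y.1.natDegree).sum = ∑ k ∈ K, ((f k).map fun y => y.2 * y.1.natDegree).sum := by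
  classical
  induction K using Finset.induction with
  | empty => simp
  | insert a s ha ih => rw [Finset.sum_insert ha, Finset.sum_insert ha, Multiset.map_add, Multiset.sum_add, ih]

omit [Fintype F] [DecidableEq F] in
theorem filter_sum {ι : Type*} (K : Finset ι) (f : ι → Multiset (F[X] × ℕ)) (P : F[X] × ℕ → Prop) [DecidablePred P] :
    (∑ k ∈ K, f k).filter P = ∑ k ∈ K, (f k).filter P := by
  classical
  induction K using Finset.induction with
  | empty => simp
  | insert a s ha ih => rw [Finset.sum_insert ha, Finset.sum_insert ha, Multiset.filter_add, ih]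

/-- Families fixed by a scalar of order `r` are counted by families of degree `n / r`. -/
theorem sum_fixed_le {n : ℕ} (v : F) {c : F} {r : ℕ} (hr : r = orderOf c) (hrpos : 0 < r) :
    ∑ m ∈ fixedFam n v c, gw (Fintype.card F) m ≤ Sv 1 (n / r) v := by
  classical
  obtain ⟨φ, hφ⟩ : ∃ φ : Multiset (F[X] × ℕ) → Multiset (F[X] × ℕ), ∀ m, φ m =
      (m.map Prod.snd).toFinset.sum (fun k => powFam k (shrink r (piece k m))) :=
    ⟨fun m => (m.map Prod.snd).toFinset.sum (fun k => powFam k (shrink r (piece k m))), fun m => rfl⟩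
  have key : ∀ m ∈ fixedFam n v c, ∀ k, (shrink r (piece k m)).Monic ∧ (shrink r (piece k m)).coeff 0 = (piece k m).coeff 0 ∧
      (piece k m).coeff 0 ≠ 0 ∧ Polynomial.expand F r (shrink r (piece k m)) = piece k m ∧
      (piece k m).natDegree = (shrink r (piece k m)).natDegree * r := by
    intro m hm k
    obtain ⟨hm, -, hfix⟩ := Finset.mem_filter.1 hm
    have hs : ∀ f ∈ (m.filter fun y => y.2 = k).map Prod.fst, f.Monic ∧ f.coeff 0 ≠ 0 := by
      intro f hf
      obtain ⟨y, hy, rfl⟩ := Multiset.mem_map.1 hf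
      obtain ⟨h1, -, h3, -⟩ := (mem_fam.1 hm).1 y (Multiset.mem_filter.1 hy).1
      exact ⟨h1, h3⟩
    have hmon : (piece k m).Monic := by simpa [piece] using monic_multiset_prod_of_monic _ id fun f hf => (hs f hf).1
    have h0 : (piece k m).coeff 0 ≠ 0 := by
      rw [piece, coeff_zero_multiset_prod]
      refine Multiset.prod_ne_zero fun h => ?_
      obtain ⟨f, hf, hf0⟩ := Multiset.mem_map.1 h
      exact (hs f hf).2 hf0
    have hsc : (piece k m).scaleRoots c = piece k m := by
      have hpre : ((m.filter fun y => y.2 = k).map Prod.fst).map (fun f => f.scaleRoots c) = (m.filter fun y => y.2 = k).map Prod.fst := by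
        conv_rhs => rw [← hfix, Multiset.filter_map, Multiset.map_map]
        rw [Multiset.map_map]
        rfl
      conv_rhs => rw [piece, ← hpre]
      rw [piece]
      generalize (m.filter fun y => y.2 = k).map Prod.fst = s
      induction s using Multiset.induction with
      | empty => simp
      | cons a s ih => simp [mul_scaleRoots_of_noZeroDivisors, ih]
    obtain ⟨hd, he⟩ := expand_shrink h0 hr hrpos hsc
    refine ⟨(monic_expand_iff hrpos).1 (he.symm ▸ hmon), by rw [coeff_shrink hrpos, zero_mul], h0, he, ?_⟩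
    conv_lhs => rw [← he, natDegree_expand]
  have hks : ∀ m ∈ fixedFam n v c, ∀ k ∈ (m.map Prod.snd).toFinset, 1 ≤ k := by
    intro m hm k hk
    obtain ⟨y, hy, rfl⟩ := Multiset.mem_map.1 (Multiset.mem_toFinset.1 hk)
    exact ((mem_fam.1 (Finset.mem_filter.1 hm).1).1 y hy).2.2.2.1
  have hmemk : ∀ m ∈ fixedFam n v c, ∀ y ∈ φ m, ∃ k ∈ (m.map Prod.snd).toFinset, y ∈ powFam k (shrink r (piece k m)) := by
    intro m hm y hy
    rw [hφ, Multiset.mem_sum] at hy
    exact hy
  have hrec : ∀ m ∈ fixedFam n v c, ∀ k, piece k (φ m) = shrink r (piece k m) := by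
    intro m hm k
    have e : (φ m).filter (fun y => y.2 = k) = powFam k (shrink r (piece k m)) := by
      rw [hφ, filter_sum]
      rw [Finset.sum_eq_single k]
      · exact Multiset.filter_eq_self.2 fun y hy => by obtain ⟨f, -, rfl⟩ := Multiset.mem_map.1 hy; rfl
      · intro b _ hb
        exact Multiset.filter_eq_nil.2 fun y hy => by obtain ⟨f, -, rfl⟩ := Multiset.mem_map.1 hy; exact hb
      · intro hk
        have h1 : piece k m = 1 := by
          rw [piece, Multiset.filter_eq_nil.2 fun y hy hy2 => hk (Multiset.mem_toFinset.2 (Multiset.mem_map.2 ⟨y, hy, hy2⟩))]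
          simp
        obtain ⟨k1, -, -, k4, k5⟩ := key m hm k
        rw [h1, natDegree_one] at k5
        rw [k1.natDegree_eq_zero.1 (by
          rcases Nat.mul_eq_zero.1 k5.symm with h | h
          · rw [h1]; exact h
          · omega), powFam, UniqueFactorizationMonoid.normalizedFactors_one]
        rfl
    rw [piece, e, powFam, Multiset.map_map]
    show (Multiset.map (fun f => f) _).prod = _
    rw [Multiset.map_id', prod_factors (key m hm k).1]
  have hw : ∀ m ∈ fam F 1 n, (∑ k ∈ (m.map Prod.snd).toFinset, k * (piece k m).natDegree) = n ∧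
      (∏ k ∈ (m.map Prod.snd).toFinset, (piece k m).coeff 0 ^ k) = dt m := by
    intro m hm
    obtain ⟨K, hK⟩ : ∃ K, K = (m.map Prod.snd).toFinset := ⟨_, rfl⟩
    have hdec : m = ∑ k ∈ K, m.filter (fun y => y.2 = k) := by
      ext y
      simp only [Multiset.count_sum', Multiset.count_filter, Finset.sum_ite_eq]
      by_cases hy : y ∈ m
      · rw [if_pos (hK ▸ Multiset.mem_toFinset.2 (Multiset.mem_map_of_mem _ hy))]
      · rw [Multiset.count_eq_zero.2 hy]; simp
    have hs : ∀ k, ∀ f ∈ (m.filter fun y => y.2 = k).map Prod.fst, f.Monic := by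
      intro k f hf
      obtain ⟨y, hy, rfl⟩ := Multiset.mem_map.1 hf
      exact ((mem_fam.1 hm).1 y (Multiset.mem_filter.1 hy).1).1
    rw [← hK]
    constructor
    · conv_rhs => rw [← (mem_fam.1 hm).2, hdec, wt_sum]
      refine Finset.sum_congr rfl fun k _ => ?_
      rw [piece, natDegree_multiset_prod_of_monic _ (hs k), ← Multiset.sum_map_mul_left, Multiset.map_map]
      exact congrArg _ (Multiset.map_congr rfl fun y hy => by simp [(Multiset.mem_filter.1 hy).2])
    · conv_rhs => rw [hdec, dt_sum]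
      refine Finset.prod_congr rfl fun k _ => ?_
      rw [piece, coeff_zero_multiset_prod, Multiset.map_map, ← Multiset.prod_map_pow, dt]
      exact congrArg _ (Multiset.map_congr rfl fun y hy => by simp [(Multiset.mem_filter.1 hy).2])
  have hφmem : ∀ m ∈ fixedFam n v c, φ m ∈ (fam F 1 (n / r)).filter (fun m => dt m = v) ∧
      gw (Fintype.card F) m ≤ gw (Fintype.card F) (φ m) := by
    intro m hm
    obtain ⟨hm1, hv, -⟩ := Finset.mem_filter.1 hm
    obtain ⟨w1, w2⟩ := hw m hm1
    refine ⟨Finset.mem_filter.2 ⟨mem_fam.2 ⟨fun y hy => ?_, ?_⟩, ?_⟩, ?_⟩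
    · obtain ⟨k, hk, hyk⟩ := hmemk m hm y hy
      obtain ⟨f, hf, rfl⟩ := Multiset.mem_map.1 hyk
      obtain ⟨k1, k2, k3, -⟩ := key m hm k
      obtain ⟨f1, f2, f3⟩ := mem_factors (k2.symm ▸ k3) hf
      exact ⟨f1, f2, f3, hks m hm k hk, hks m hm k hk⟩
    · symm
      rw [hφ, wt_sum]
      refine Nat.div_eq_of_eq_mul_left hrpos ?_
      rw [Finset.sum_mul]
      conv_lhs => rw [← w1]
      refine Finset.sum_congr rfl fun k _ => ?_
      obtain ⟨k1, k2, k3, -, k5⟩ := key m hm k
      rw [weight_powFam k k1 (k2.symm ▸ k3), k5, mul_assoc]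
    · rw [hφ, dt_sum, ← hv, ← w2]
      refine Finset.prod_congr rfl fun k _ => ?_
      obtain ⟨k1, k2, -⟩ := key m hm k
      rw [dt_powFam k k1, k2]
    · refine Nat.le_of_dvd (gw_pos Fintype.one_lt_card _) (dvd_gw gw_dvd.1 fun y hy => ?_)
      obtain ⟨k, hk, hyk⟩ := hmemk m hm y hy
      obtain ⟨f, -, rfl⟩ := Multiset.mem_map.1 hyk
      obtain ⟨z, hz, rfl⟩ := Multiset.mem_map.1 (Multiset.mem_toFinset.1 hk)
      exact gw_dvd.2 z hz
  refine le_trans (Finset.sum_le_sum fun m hm => (hφmem m hm).2) ?_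
  have hinj : Set.InjOn φ ↑(fixedFam n v c) := by
    intro a ha b hb hab
    have hp : ∀ k, piece k a = piece k b := fun k => by
      rw [← (key a ha k).2.2.2.1, ← (key b hb k).2.2.2.1, ← hrec a ha k, ← hrec b hb k, hab]
    have hf : ∀ m ∈ fixedFam n v c, ∀ k, UniqueFactorizationMonoid.normalizedFactors (piece k m) =
        (m.filter fun y => y.2 = k).map Prod.fst := by
      intro m hm k
      refine factors_prod fun f hf => ?_
      obtain ⟨y, hy, rfl⟩ := Multiset.mem_map.1 hf
      obtain ⟨h1, h2, -⟩ := (mem_fam.1 (Finset.mem_filter.1 hm).1).1 y (Multiset.mem_filter.1 hy).1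
      exact ⟨h1, h2⟩
    ext ⟨f, k⟩
    have e : ∀ m : Multiset (F[X] × ℕ), m.count (f, k) = ((m.filter fun y => y.2 = k).map Prod.fst).count f := by
      intro m
      induction m using Multiset.induction with
      | empty => simp
      | cons y m ih =>
        obtain ⟨g, l⟩ := y
        by_cases hl : l = k
        · subst hl
          rw [Multiset.filter_cons_of_pos _ (by rfl), Multiset.map_cons, Multiset.count_cons, Multiset.count_cons, ih]
          simp [Prod.ext_iff]
        · rw [Multiset.filter_cons_of_neg _ (by simpa using hl), Multiset.count_cons, ih]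
          simp [Prod.ext_iff, Ne.symm hl]
    rw [e a, e b, ← hf a ha k, ← hf b hb k, hp k]
  rw [← Finset.sum_image (f := gw (Fintype.card F)) hinj]
  exact Finset.sum_le_sum_of_subset (Finset.image_subset_iff.2 fun m hm => (hφmem m hm).1)

end Cfsg.Agent.Lib.FamCount
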