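import Mathlib
import Cfsg.Agent.Lib.Similar.ProjAction
import Cfsg.Agent.Lib.Similar.Scale

/-!
Classes of prime order in `G / Z(G)` for a matrix group `G` whose classes are given by elementary divisors.
-/

set_option autoImplicit false

namespace Cfsg.Agent.Lib.Similar.Proj

open Polynomial

variable {K : Type*} [Field K] [Fintype K] [DecidableEq K] {n r : ℕ}

theorem scale_X_sub_C (a c : K) : (X - C a).scaleRoots c = X - C (a * c) := by
  ext i
  rw [coeff_scaleRoots, natDegree_X_sub_C]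
  simp only [coeff_sub, coeff_X, coeff_C]
  rcases i with _ | _ | i <;> simp

theorem scale_X_pow_sub_C (a c : K) (hr : 0 < r) : (X ^ r - C a).scaleRoots c = X ^ r - C (a * c ^ r) := by
  ext i
  rw [coeff_scaleRoots, natDegree_X_pow_sub_C]
  simp only [coeff_sub, coeff_X_pow, coeff_C]
  by_cases h1 : i = r
  · simp [h1, hr.ne']
  · by_cases h0 : i = 0
    · simp [h0, hr.ne]
    · simp [h0, h1]

/-- Families attached to a constant. -/
abbrev RootFam (K : Type*) [Field K] (n r : ℕ) (a : K) : Type _ :=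
  {m : Multiset (K[X] × ℕ) // (∀ y ∈ m, y.2 = 1 ∧ y.1.Monic ∧ Irreducible y.1 ∧ y.1 ∣ X ^ r - C a) ∧
    (m.map fun y => y.2 * y.1.natDegree).sum = n}

/-- The scaling of families. -/
noncomputable def scaleM (c : K) (m : Multiset (K[X] × ℕ)) : Multiset (K[X] × ℕ) := m.map fun z => (z.1.scaleRoots c, z.2)

theorem card_split (hr : r.Prime) {ζ : K} (hζ : IsPrimitiveRoot ζ r) {x : K} (hx : x ≠ 0) :
    Nat.card (RootFam K n r (x ^ r)) = Nat.choose (n + r - 1) (r - 1) ∧
      ∀ c : K, c ^ r = 1 → c ≠ 1 →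
        Nat.card {m : RootFam K n r (x ^ r) // scaleM c m.1 = m.1} = if r ∣ n then 1 else 0 := by
  classical
  have : Fact r.Prime := ⟨hr⟩
  obtain ⟨f, hf⟩ : ∃ f : ZMod r → K[X] × ℕ, ∀ i, f i = (X - C (ζ ^ i.val * x), 1) := ⟨_, fun _ => rfl⟩
  have hfi : Function.Injective f := by
    intro i j h
    rw [hf, hf] at h
    have h1 := mul_right_cancel₀ hx (C_injective (sub_right_injective (congrArg Prod.fst h)))
    exact ZMod.val_injective r (hζ.pow_inj (ZMod.val_lt i) (ZMod.val_lt j) h1)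
  have hprod := X_pow_sub_C_eq_prod hζ hr.pos (α := x) (a := x ^ r) rfl
  have hdvd : ∀ i, (f i).1 ∣ X ^ r - C (x ^ r) := by
    intro i
    rw [hf, dvd_iff_isRoot, IsRoot, eval_sub, eval_pow, eval_X, eval_C, mul_pow, ← pow_mul, mul_comm i.val, pow_mul, hζ.pow_eq_one,
      one_pow, one_mul, sub_self]
  have hmem : ∀ s : Sym (ZMod r) n, (∀ y ∈ (s : Multiset (ZMod r)).map f, y.2 = 1 ∧ y.1.Monic ∧ Irreducible y.1 ∧ y.1 ∣ X ^ r - C (x ^ r)) ∧
      (((s : Multiset (ZMod r)).map f).map fun y => y.2 * y.1.natDegree).sum = n := by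
    intro s
    refine ⟨fun y hy => ?_, ?_⟩
    · obtain ⟨i, -, rfl⟩ := Multiset.mem_map.1 hy
      refine ⟨by rw [hf], by rw [hf]; exact monic_X_sub_C _, by rw [hf]; exact irreducible_X_sub_C _, hdvd i⟩
    · simp only [Multiset.map_map, Function.comp_def, hf, natDegree_X_sub_C, one_mul, Multiset.map_const', Multiset.sum_replicate, smul_eq_mul, mul_one]
      exact s.2
  let Φ : Sym (ZMod r) n → RootFam K n r (x ^ r) := fun s => ⟨_, hmem s⟩
  have hΦ : Function.Bijective Φ := by
    constructor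
    · intro s t h
      exact Sym.ext (Multiset.map_injective hfi (congrArg Subtype.val h))
    · rintro ⟨m, h1, h2⟩
      have hex : ∀ y ∈ m, ∃ i, f i = y := by
        intro y hy
        obtain ⟨e1, e2, e3, e4⟩ := h1 y hy
        rw [hprod] at e4
        obtain ⟨j, hj, hd⟩ := e3.prime.exists_mem_finset_dvd e4
        refine ⟨(j : ZMod r), ?_⟩
        rw [hf, ZMod.val_natCast_of_lt (Finset.mem_range.1 hj)]
        exact Prod.ext (eq_of_monic_of_associated e2 (monic_X_sub_C _) (e3.associated_of_dvd (irreducible_X_sub_C _) hd)).symm e1.symm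
      obtain ⟨g, hg⟩ : ∃ g : K[X] × ℕ → ZMod r, g = Function.invFun f := ⟨_, rfl⟩
      have hfg : (m.map g).map f = m := by
        rw [Multiset.map_map]
        conv_rhs => rw [← Multiset.map_id m]
        exact Multiset.map_congr rfl fun y hy => hg ▸ Function.invFun_eq (hex y hy)
      refine ⟨⟨m.map g, ?_⟩, Subtype.ext hfg⟩
      rw [← h2, ← hfg]
      simp only [Multiset.map_map, Function.comp_def, hf, natDegree_X_sub_C, one_mul, Multiset.map_const', Multiset.sum_replicate, smul_eq_mul, mul_one,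
        Multiset.card_map]
  refine ⟨?_, fun c hc hc1 => ?_⟩
  · rw [← Nat.card_eq_of_bijective Φ hΦ, Nat.card_eq_fintype_card, Sym.card_sym_eq_choose, ZMod.card]
    have := hr.two_le
    rw [show r + n - 1 = n + (r - 1) by omega, show n + r - 1 = n + (r - 1) by omega, Nat.choose_symm_add]
  · have : NeZero r := ⟨hr.ne_zero⟩
    obtain ⟨j, hj, rfl⟩ := hζ.eq_pow_of_pow_eq_one hc
    have hj0 : (j : ZMod r) ≠ 0 := by
      rw [Ne, ZMod.natCast_eq_zero_iff]
      intro h
      exact hc1 (by rw [(hζ.pow_eq_one_iff_dvd j).2 h])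
    have hsc : ∀ i, ((f i).1.scaleRoots (ζ ^ j), (f i).2) = f (i + j) := by
      intro i
      rw [hf, hf, scale_X_sub_C, mul_right_comm, ← pow_add]
      congr 4
      rw [pow_eq_pow_mod (i.val + j) hζ.pow_eq_one, ← ZMod.val_natCast, Nat.cast_add, ZMod.natCast_zmod_val]
    have hiff : ∀ s : Sym (ZMod r) n, scaleM (ζ ^ j) (Φ s).1 = (Φ s).1 ↔ (s : Multiset (ZMod r)).map (· + (j : ZMod r)) = s := by
      intro s
      show scaleM (ζ ^ j) ((s : Multiset (ZMod r)).map f) = (s : Multiset (ZMod r)).map f ↔ _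
      rw [scaleM, Multiset.map_map, ← (Multiset.map_injective hfi).eq_iff, Multiset.map_map]
      constructor <;> intro h <;> convert h using 1 <;> exact Multiset.map_congr rfl fun i _ => by simp only [Function.comp_apply, hsc]
    rw [Nat.card_congr (Equiv.subtypeEquiv (Equiv.ofBijective Φ hΦ) (q := fun m => scaleM (ζ ^ j) m.1 = m.1)
      (fun s => (hiff s).symm)).symm]
    have hconst : ∀ s : Sym (ZMod r) n, (s : Multiset (ZMod r)).map (· + (j : ZMod r)) = s →
        ∀ i, (s : Multiset (ZMod r)).count i = (s : Multiset (ZMod r)).count 0 := by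
      intro s hs
      have hstep : ∀ (k : ℕ), (s : Multiset (ZMod r)).count (k • (j : ZMod r)) = (s : Multiset (ZMod r)).count 0 := by
        intro k
        induction k with
        | zero => rw [zero_nsmul]
        | succ k ih =>
          conv_lhs => rw [← hs, succ_nsmul]
          rw [Multiset.count_map_eq_count' _ _ (add_left_injective _), ih]
      intro i
      have : i = (i * (j : ZMod r)⁻¹).val • (j : ZMod r) := by
        rw [nsmul_eq_mul, ZMod.natCast_zmod_val, inv_mul_cancel_right₀ hj0]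
      rw [this]
      exact hstep _
    have htot : ∀ s : Sym (ZMod r) n, (∀ i, (s : Multiset (ZMod r)).count i = (s : Multiset (ZMod r)).count 0) →
        n = r * (s : Multiset (ZMod r)).count 0 := by
      intro s h
      have e := Multiset.sum_count_eq_card (s := Finset.univ) (m := (s : Multiset (ZMod r))) fun a _ => Finset.mem_univ a
      rw [Finset.sum_congr rfl fun i _ => h i, Finset.sum_const, Finset.card_univ, ZMod.card, smul_eq_mul] at e
      exact s.2.symm.trans e.symm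
    split_ifs with hd
    · obtain ⟨k, hk⟩ := hd
      rw [Nat.card_eq_one_iff_unique]
      refine ⟨⟨fun a b => Subtype.ext (Sym.ext (Multiset.ext.2 fun i => ?_))⟩, ⟨⟨⟨k • (Finset.univ : Finset (ZMod r)).val, ?_⟩, ?_⟩⟩⟩
      · rw [hconst a.1 a.2 i, hconst b.1 b.2 i]
        exact Nat.eq_of_mul_eq_mul_left hr.pos ((htot a.1 (hconst a.1 a.2)).symm.trans (htot b.1 (hconst b.1 b.2)))
      · rw [Multiset.card_nsmul, ← Finset.card_def, Finset.card_univ, ZMod.card, hk, mul_comm]
      · show Multiset.map (· + (j : ZMod r)) (k • (Finset.univ : Finset (ZMod r)).val) = k • (Finset.univ : Finset (ZMod r)).val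
        rw [Multiset.map_nsmul]
        congr 1
        exact congrArg Finset.val (Finset.map_univ_equiv (Equiv.addRight (j : ZMod r)))
    · rw [Nat.card_eq_zero]
      left
      exact ⟨fun a => hd ⟨_, htot a.1 (hconst a.1 a.2)⟩⟩

theorem card_irred (hr : 0 < r) {a : K} (hi : Irreducible (X ^ r - C a)) :
    Nat.card (RootFam K n r a) = (if r ∣ n then 1 else 0) ∧
      ∀ c : K, c ^ r = 1 → Nat.card {m : RootFam K n r a // scaleM c m.1 = m.1} = if r ∣ n then 1 else 0 := by
  classical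
  have hm : (X ^ r - C a : K[X]).Monic := monic_X_pow_sub_C a hr.ne'
  have hform : ∀ m : RootFam K n r a, ∃ k, m.1 = Multiset.replicate k (X ^ r - C a, 1) ∧ k * r = n := by
    rintro ⟨m, h1, h2⟩
    have e : m = Multiset.replicate m.card (X ^ r - C a, 1) := Multiset.eq_replicate_card.2 fun y hy => by
      obtain ⟨e1, e2, e3, e4⟩ := h1 y hy
      exact Prod.ext (eq_of_monic_of_associated e2 hm (e3.associated_of_dvd hi e4)) e1
    refine ⟨m.card, e, ?_⟩
    rw [e, Multiset.map_replicate, Multiset.sum_replicate, natDegree_X_pow_sub_C, one_mul, smul_eq_mul] at h2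
    exact h2
  have hfix : ∀ c : K, c ^ r = 1 → ∀ m : RootFam K n r a, scaleM c m.1 = m.1 := by
    intro c hc m
    obtain ⟨k, hk, -⟩ := hform m
    rw [hk, scaleM, Multiset.map_replicate, scale_X_pow_sub_C _ _ hr, hc, mul_one]
  have h1 : Nat.card (RootFam K n r a) = if r ∣ n then 1 else 0 := by
    split_ifs with hd
    · obtain ⟨k, hk⟩ := hd
      rw [Nat.card_eq_one_iff_unique]
      refine ⟨⟨fun x y => ?_⟩, ⟨⟨Multiset.replicate k (X ^ r - C a, 1), fun y hy => ?_, ?_⟩⟩⟩
      · obtain ⟨i, hi1, hi2⟩ := hform x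
        obtain ⟨j, hj1, hj2⟩ := hform y
        refine Subtype.ext ?_
        rw [hi1, hj1, Nat.eq_of_mul_eq_mul_right hr (hi2.trans hj2.symm)]
      · rw [Multiset.eq_of_mem_replicate hy]
        exact ⟨rfl, hm, hi, dvd_rfl⟩
      · rw [Multiset.map_replicate, Multiset.sum_replicate, natDegree_X_pow_sub_C, one_mul, smul_eq_mul, hk, mul_comm]
    · rw [Nat.card_eq_zero]
      left
      refine ⟨fun m => ?_⟩
      obtain ⟨k, -, hk⟩ := hform m
      exact hd ⟨k, by rw [← hk, mul_comm]⟩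
  refine ⟨h1, fun c hc => ?_⟩
  rw [Nat.card_congr (Equiv.subtypeUnivEquiv (hfix c hc)), h1]

variable {G : Type*} [Group G] [Finite G]

theorem card_matrix_proj_classes (hn : 1 ≤ n) (hr : r.Prime) (ι : G →* GL (Fin n) K) (hinj : Function.Injective ι)
    (hconj : ∀ a b, IsConj (ι a) (ι b) → IsConj a b) (W : Subgroup Kˣ)
    (hcen : ∀ g, g ∈ Subgroup.center G ↔ ∃ w ∈ W, (ι g : Matrix (Fin n) (Fin n) K) = Matrix.scalar (Fin n) (w : K))
    (hscal : ∀ w ∈ W, ∃ g, (ι g : Matrix (Fin n) (Fin n) K) = Matrix.scalar (Fin n) (w : K))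
    (hroot : ∀ x : Kˣ, x ^ r ∈ W → x ∈ W) (hμ : Nat.card (powMonoidHom r : Kˣ →* Kˣ).ker = r)
    (hreal : ∀ w ∈ W, ∀ m : RootFam K n r ((w : Kˣ) : K), ∃ g, matInv (ι g : Matrix (Fin n) (Fin n) K) = m.1) :
    Nat.card {C : ConjClasses (G ⧸ Subgroup.center G) // ∃ g : G ⧸ Subgroup.center G, ConjClasses.mk g = C ∧ orderOf g = r} =
      (Nat.choose (n + r - 1) (r - 1) - r - (if r ∣ n then 1 else 0)) / r + r * (if r ∣ n then 1 else 0) := by
  classical
  have : Fact r.Prime := ⟨hr⟩
  have hr0 : (r : K) ≠ 0 := by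
    intro h
    have : CharP K r := by
      obtain ⟨p, hp⟩ := CharP.exists K
      have hpp : p.Prime := CharP.char_is_prime K p
      obtain rfl : p = r := (Nat.prime_dvd_prime_iff_eq hpp hr).1 ((CharP.cast_eq_zero_iff K p r).1 h)
      exact hp
    have hs : Subsingleton (powMonoidHom r : Kˣ →* Kˣ).ker := ⟨fun a b => by
      have key : ∀ z : (powMonoidHom r : Kˣ →* Kˣ).ker, ((z : Kˣ) : K) = 1 := fun z => by
        refine frobenius_inj K r ?_
        rw [frobenius_def, frobenius_def, one_pow, ← Units.val_pow_eq_pow_val]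
        exact congrArg Units.val (MonoidHom.mem_ker.1 z.2)
      exact Subtype.ext (Units.ext ((key a).trans (key b).symm))⟩
    rw [Nat.card_of_subsingleton (⟨1, one_mem _⟩ : (powMonoidHom r : Kˣ →* Kˣ).ker)] at hμ
    exact hr.one_lt.ne hμ
  obtain ⟨ζ0, hζ0⟩ : ∃ z : (powMonoidHom r : Kˣ →* Kˣ).ker, z ≠ 1 := by
    have : Nontrivial (powMonoidHom r : Kˣ →* Kˣ).ker := Finite.one_lt_card_iff_nontrivial.1 (by rw [hμ]; exact hr.one_lt)
    exact exists_ne 1
  obtain ⟨ζ, hζd⟩ : ∃ ζ : K, ζ = ((ζ0 : Kˣ) : K) := ⟨_, rfl⟩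
  have hζ : IsPrimitiveRoot ζ r := by
    have h : orderOf ζ = r := by
      refine orderOf_eq_prime ?_ ?_
      · rw [hζd, ← Units.val_pow_eq_pow_val]
        exact congrArg Units.val (MonoidHom.mem_ker.1 ζ0.2)
      · rw [hζd]; exact fun e => hζ0 (Subtype.ext (Units.ext e))
    exact h ▸ IsPrimitiveRoot.orderOf ζ
  have : Nonempty (Fin n) := ⟨⟨0, hn⟩⟩
  have hval : ∀ z : Subgroup.center G, ∃ w : Kˣ, w ∈ W ∧ (ι (z : G) : Matrix (Fin n) (Fin n) K) = Matrix.scalar (Fin n) (w : K) :=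
    fun z => (hcen z).1 z.2
  choose w hw hwι using hval
  have winj : Function.Injective w := fun a b h => Subtype.ext (hinj (Units.ext (by rw [hwι, hwι, h])))
  have wmul : ∀ a b, w (a * b) = w a * w b := fun a b => Units.ext (Matrix.scalar_inj.1 (by
    rw [← hwι, Subgroup.coe_mul, map_mul, Units.val_mul, hwι, hwι, ← map_mul, Units.val_mul]))
  let φ : Subgroup.center G →* Kˣ := MonoidHom.mk' w wmul
  have hwsurj : ∀ x ∈ W, ∃ z, w z = x := by
    intro x hx
    obtain ⟨g, hg⟩ := hscal x hx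
    refine ⟨⟨g, (hcen g).2 ⟨x, hx, hg⟩⟩, Units.ext ((Matrix.scalar_inj (n := Fin n)).1 ?_)⟩
    rw [← hwι, hg]
  have wpow : ∀ (z : Subgroup.center G) (k : ℕ), w (z ^ k) = w z ^ k := fun z k => map_pow φ z k
  have wone : w 1 = 1 := map_one φ
  have hker : Nat.card {z : Subgroup.center G // z ^ r = 1} = r := by
    refine Eq.trans (Nat.card_eq_of_bijective
      (fun z => (⟨w z.1, MonoidHom.mem_ker.2 (by rw [powMonoidHom_apply, ← wpow, z.2, wone])⟩ : (powMonoidHom r : Kˣ →* Kˣ).ker)) ⟨?_, ?_⟩) hμ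
    · intro a b h
      exact Subtype.ext (winj (congrArg Subtype.val h))
    · intro u
      have hu : (u : Kˣ) ^ r = 1 := MonoidHom.mem_ker.1 u.2
      obtain ⟨z, hz⟩ := hwsurj u (hroot _ (by rw [hu]; exact one_mem W))
      exact ⟨⟨z, winj (by rw [wpow, hz, hu, wone])⟩, Subtype.ext hz⟩
  -- classes and families
  have hsq : ∀ a : Kˣ, Squarefree (X ^ r - C (a : K)) := fun a => (separable_X_pow_sub_C _ hr0 a.ne_zero).squarefree
  have hfam : ∀ (c : Subgroup.center G) (g : G), g ^ r = (c : G) ↔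
      ∀ y ∈ matInv (ι g : Matrix (Fin n) (Fin n) K), y.2 = 1 ∧ y.1.Monic ∧ Irreducible y.1 ∧ y.1 ∣ X ^ r - C ((w c : Kˣ) : K) := by
    intro c g
    obtain ⟨h1, -⟩ := matInv_spec (ι g)
    have e : g ^ r = (c : G) ↔ aeval (toEnd (ι g : Matrix (Fin n) (Fin n) K)) (X ^ r - C ((w c : Kˣ) : K)) = 0 := by
      rw [← hinj.eq_iff, Units.ext_iff, map_pow, Units.val_pow_eq_pow_val, hwι,
        show toEnd (ι g : Matrix (Fin n) (Fin n) K) = Matrix.toLinAlgEquiv' (ι g : Matrix (Fin n) (Fin n) K) from rfl,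
        Polynomial.aeval_algHom_apply, map_eq_zero_iff _ (Matrix.toLinAlgEquiv' (R := K) (n := Fin n)).injective,
        map_sub, map_pow, aeval_X, aeval_C, sub_eq_zero, Matrix.algebraMap_eq_diagonal, Matrix.scalar_apply]
      rfl
    rw [e, aeval_eq_zero_iff_matInv]
    refine forall₂_congr fun y hy => ⟨fun hd => ?_, fun h => by rw [h.1, pow_one]; exact h.2.2.2⟩
    obtain ⟨k1, k2, -, k4⟩ := h1 y hy
    have he : y.2 = 1 := by
      by_contra hne
      refine k2.not_isUnit (hsq (w c) _ (dvd_trans ?_ hd))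
      rw [← pow_two]
      exact pow_dvd_pow _ (by omega)
    exact ⟨he, k1, k2, by rwa [he, pow_one] at hd⟩
  let key : ConjClasses G → Multiset (K[X] × ℕ) := fun C => classInv (C.map ι)
  have hkey : ∀ g, key (ConjClasses.mk g) = matInv (ι g : Matrix (Fin n) (Fin n) K) := fun g => rfl
  have hex : ∀ c : Subgroup.center G, ∃ e : Pw r (c : G) ≃ RootFam K n r ((w c : Kˣ) : K), ∀ C, (e C).1 = key C.1 := by
    intro c
    refine ⟨Equiv.ofBijective (fun C => ⟨key C.1, ?_⟩) ⟨?_, ?_⟩, fun C => rfl⟩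
    · obtain ⟨g, hg, hgc⟩ := C.2
      rw [← hg, hkey]
      exact ⟨(hfam c g).1 hgc, by rw [(matInv_spec (ι g)).2, Fintype.card_fin]⟩
    · intro C D h
      obtain ⟨a, ha, -⟩ := C.2
      obtain ⟨b, hb, -⟩ := D.2
      have h' : matInv (ι a : Matrix (Fin n) (Fin n) K) = matInv (ι b : Matrix (Fin n) (Fin n) K) := by
        rw [← hkey, ← hkey, ha, hb]
        exact congrArg Subtype.val h
      refine Subtype.ext ?_
      rw [← ha, ← hb, ConjClasses.mk_eq_mk_iff_isConj]
      exact hconj a b (ConjClasses.mk_eq_mk_iff_isConj.1 (classInv_injective (by rw [classInv_mk, classInv_mk, h'])))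
    · intro m
      obtain ⟨g, hg⟩ := hreal (w c) (hw c) m
      exact ⟨⟨ConjClasses.mk g, g, rfl, (hfam c g).2 (hg ▸ m.2.1)⟩, Subtype.ext hg⟩
  choose e he using hex
  have hscale : ∀ (c z : Subgroup.center G), Nat.card {C : Pw r (c : G) // cmul z C.1 = C.1} =
      Nat.card {m : RootFam K n r ((w c : Kˣ) : K) // scaleM ((w z : Kˣ) : K) m.1 = m.1} := by
    intro c z
    refine Nat.card_congr (Equiv.subtypeEquiv (e c) fun C => ?_)
    rw [he]
    obtain ⟨g, hg, -⟩ := C.2
    rw [← hg, hkey, cmul_mk]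
    have h := matInv_smul (ι g) (ι ((z : G) * g)) (w z).ne_zero (by
      rw [map_mul, Units.val_mul, hwι, Matrix.scalar_apply, Matrix.smul_eq_diagonal_mul])
    rw [scaleM, ← h]
    refine ⟨fun hh => by rw [← hkey, hh, hkey], fun hh => ConjClasses.mk_eq_mk_iff_isConj.2 (hconj _ _ ?_)⟩
    exact ConjClasses.mk_eq_mk_iff_isConj.1 (classInv_injective (by rw [classInv_mk, classInv_mk, hh]))
  have hirr : ∀ c : Subgroup.center G, (¬ ∃ x : Subgroup.center G, x ^ r = c) → Irreducible (X ^ r - C ((w c : Kˣ) : K)) := by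
    intro c hc
    refine X_pow_sub_C_irreducible_of_prime hr fun b hb => ?_
    have hb0 : b ≠ 0 := fun h => (w c).ne_zero (by rw [← hb, h, zero_pow hr.ne_zero])
    have hb' : Units.mk0 b hb0 ^ r = w c := Units.ext (by rw [Units.val_pow_eq_pow_val]; exact hb)
    obtain ⟨x, hx⟩ := hwsurj _ (hroot (Units.mk0 b hb0) (hb' ▸ hw c))
    exact hc ⟨x, winj (by rw [wpow, hx, hb'])⟩
  refine card_proj_classes hr (by split_ifs <;> omega) hker (fun c hc => ?_) (fun c hc => ?_) fun c z hz hz1 => ?_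
  · obtain ⟨x, rfl⟩ := hc
    rw [Nat.card_congr (e _), wpow, Units.val_pow_eq_pow_val]
    exact (card_split hr hζ (w x).ne_zero).1
  · rw [Nat.card_congr (e _)]
    exact (card_irred hr.pos (hirr c hc)).1
  · rw [hscale]
    have h1 : ((w z : Kˣ) : K) ^ r = 1 := by rw [← Units.val_pow_eq_pow_val, ← wpow, hz, wone, Units.val_one]
    by_cases hc : ∃ x : Subgroup.center G, x ^ r = c
    · obtain ⟨x, rfl⟩ := hc
      rw [wpow x, Units.val_pow_eq_pow_val]
      exact (card_split hr hζ (w x).ne_zero).2 _ h1 fun h => hz1 (winj (by rw [wone]; exact Units.ext h))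
    · exact (card_irred hr.pos (hirr c hc)).2 _ h1

end Cfsg.Agent.Lib.Similar.Proj
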