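import Mathlib

/-!
# Two conjugates of a semisimple element cover the non-scalar part of `SL₃`
-/

set_option autoImplicit false

open Matrix

namespace Cfsg.Agent.Lib.SLThreeCover

variable {F : Type*} [Field F]

/-- `A` is a product of two conjugates of `X`. -/
def Good (X A : Matrix (Fin 3) (Fin 3) F) : Prop :=
  ∃ U U' V V' : Matrix (Fin 3) (Fin 3) F, U * U' = 1 ∧ V * V' = 1 ∧ A = U * X * U' * (V * X * V')

theorem mul_inv_of_det {P : Matrix (Fin 3) (Fin 3) F} (h : P.det ≠ 0) :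
    P * P⁻¹ = 1 ∧ P⁻¹ * P = 1 :=
  ⟨Matrix.mul_nonsing_inv P (isUnit_iff_ne_zero.2 h),
    Matrix.nonsing_inv_mul P (isUnit_iff_ne_zero.2 h)⟩

theorem good_of_similar {X A B P : Matrix (Fin 3) (Fin 3) F} (hP : P.det ≠ 0)
    (h : A * P = P * B) (hB : Good X B) : Good X A := by
  obtain ⟨U, U', V, V', hU, hV, rfl⟩ := hB
  obtain ⟨h1, h2⟩ := mul_inv_of_det hP
  refine ⟨P * U, U' * P⁻¹, P * V, V' * P⁻¹, ?_, ?_, ?_⟩
  · rw [mul_assoc, ← mul_assoc U, hU, one_mul, h1]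
  · rw [mul_assoc, ← mul_assoc V, hV, one_mul, h1]
  · calc A = A * (P * P⁻¹) := by rw [h1, mul_one]
      _ = P * (U * X * U' * (V * X * V')) * P⁻¹ := by rw [← mul_assoc, h]
      _ = P * (U * X * U') * (P⁻¹ * P) * (V * X * V') * P⁻¹ := by
            rw [h2, mul_one]; simp [mul_assoc]
      _ = P * U * X * (U' * P⁻¹) * (P * V * X * (V' * P⁻¹)) := by simp [mul_assoc]

/-- The companion matrix of `X³ - c₂X² - c₁X - 1`. -/
def C (c1 c2 : F) : Matrix (Fin 3) (Fin 3) F := !![0, 0, 1; 1, 0, c1; 0, 1, c2]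

/-- The representative of the classes without a cyclic vector. -/
def N (l : F) : Matrix (Fin 3) (Fin 3) F :=
  !![0, -(l * (l ^ 2)⁻¹), 0; 1, l + (l ^ 2)⁻¹, 0; 0, 0, l]

theorem cyclic_of_det (K : Matrix (Fin 3) (Fin 3) F) (hK : K.det = 1) (u : Fin 3 → F)
    (h : (Matrix.of fun i j => ![u, K *ᵥ u, K *ᵥ (K *ᵥ u)] j i).det ≠ 0) :
    ∃ P : Matrix (Fin 3) (Fin 3) F, P.det ≠ 0 ∧ ∃ c1 c2, K * P = P * C c1 c2 := by
  set P : Matrix (Fin 3) (Fin 3) F := Matrix.of fun i j => ![u, K *ᵥ u, K *ᵥ (K *ᵥ u)] j i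
    with hPdef
  obtain ⟨h1, h2⟩ := mul_inv_of_det h
  set M := P⁻¹ * (K * P) with hM
  have hKP : K * P = P * M := by rw [hM, ← mul_assoc P, h1, one_mul]
  have col : ∀ j : Fin 3, (fun i => M i j) = P⁻¹ *ᵥ (K *ᵥ (fun i => P i j)) := by
    intro j
    funext i
    rw [Matrix.mulVec_mulVec, hM, ← mul_assoc]
    rfl
  have pc : ∀ j : Fin 3, P⁻¹ *ᵥ (fun i => P i j) = fun i => (1 : Matrix (Fin 3) (Fin 3) F) i j := by
    intro j
    rw [← h2]
    rfl
  have c0 : ∀ i, M i 0 = (1 : Matrix (Fin 3) (Fin 3) F) i 1 := by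
    intro i
    exact congrFun ((col 0).trans (pc 1)) i
  have c1 : ∀ i, M i 1 = (1 : Matrix (Fin 3) (Fin 3) F) i 2 := by
    intro i
    exact congrFun ((col 1).trans (pc 2)) i
  have hMdet : M.det = 1 := by
    rw [hM, Matrix.det_mul, Matrix.det_mul, hK, one_mul, ← Matrix.det_mul, h2, Matrix.det_one]
  refine ⟨P, h, M 1 2, M 2 2, ?_⟩
  rw [hKP]
  congr 1
  have e02 : M 0 2 = 1 := by
    rw [Matrix.det_fin_three] at hMdet
    simpa [c0, c1] using hMdet
  ext i j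
  fin_cases i <;> fin_cases j <;> simp [C, c0, c1, e02]

theorem exists_normal_form (A : Matrix (Fin 3) (Fin 3) F) (hA : A.det = 1)
    (hns : ¬ ∃ c : F, A = Matrix.scalar (Fin 3) c) :
    ∃ P : Matrix (Fin 3) (Fin 3) F, P.det ≠ 0 ∧
      ((∃ c1 c2, A * P = P * C c1 c2) ∨ ∃ l : F, l ≠ 0 ∧ A * P = P * N l) := by
  -- a vector that is not an eigenvector
  have hv : ∃ v : Fin 3 → F, ∀ c : F, A *ᵥ v ≠ c • v := by
    by_contra hc
    push Not at hc
    have hd : ∀ i, ∃ c : F, ∀ k, A k i = c * (Pi.single i 1 : Fin 3 → F) k := by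
      intro i
      obtain ⟨c, hc⟩ := hc (Pi.single i 1)
      exact ⟨c, fun k => by simpa using congrFun hc k⟩
    apply hns
    refine ⟨A 0 0, ?_⟩
    have off : ∀ i j, i ≠ j → A i j = 0 := by
      intro i j hij
      obtain ⟨c, hc⟩ := hd j
      rw [hc i, Pi.single_eq_of_ne hij, mul_zero]
    have eq : ∀ i, A i i = A 0 0 := by
      intro i
      by_cases hi : i = 0
      · rw [hi]
      obtain ⟨c, hc⟩ := hc (Pi.single i 1 + Pi.single 0 1)
      have e1 := congrFun hc i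
      have e2 := congrFun hc 0
      rw [Matrix.mulVec_add] at e1 e2
      simp [Pi.single_eq_of_ne hi, Pi.single_eq_of_ne (Ne.symm hi), off i 0 hi,
        off 0 i (Ne.symm hi)] at e1 e2
      rw [e1, e2]
    ext i j
    by_cases hij : i = j
    · subst hij
      simp [eq i]
    · simp [off i j hij, hij]
  obtain ⟨v, hv⟩ := hv
  -- extend to a basis
  have hk : ∃ w : Fin 3 → F, (Matrix.of fun i j => ![v, A *ᵥ v, w] j i).det ≠ 0 := by
    by_contra hc
    push Not at hc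
    have h0 := hc ![1, 0, 0]
    have h1 := hc ![0, 1, 0]
    have h2 := hc ![0, 0, 1]
    simp [Matrix.det_fin_three] at h0 h1 h2
    have hx : ∀ i j : Fin 3, (A *ᵥ v) j * v i = (A *ᵥ v) i * v j := by
      intro i j
      fin_cases i <;> fin_cases j <;> simp only [Fin.zero_eta, Fin.mk_one, Fin.reduceFinMk] <;>
        grind
    obtain ⟨i, hi⟩ : ∃ i, v i ≠ 0 := by
      by_contra hn
      push Not at hn
      apply hv 0
      simp [show v = 0 from funext hn]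
    apply hv ((A *ᵥ v) i / v i)
    funext j
    rw [Pi.smul_apply, smul_eq_mul, div_mul_eq_mul_div, eq_div_iff hi, hx i j]
  obtain ⟨w, hw⟩ := hk
  set P₀ : Matrix (Fin 3) (Fin 3) F := Matrix.of fun i j => ![v, A *ᵥ v, w] j i with hP₀
  obtain ⟨h1, h2⟩ := mul_inv_of_det hw
  set K := P₀⁻¹ * (A * P₀) with hKdef
  have hAP : A * P₀ = P₀ * K := by rw [hKdef, ← mul_assoc P₀, h1, one_mul]
  have hKdet : K.det = 1 := by
    rw [hKdef, Matrix.det_mul, Matrix.det_mul, hA, one_mul, ← Matrix.det_mul, h2, Matrix.det_one]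
  have hK0 : ∀ i, K i 0 = (1 : Matrix (Fin 3) (Fin 3) F) i 1 := by
    intro i
    have : K i 0 = (P₀⁻¹ * P₀) i 1 := rfl
    rw [this, h2]
  obtain ⟨p, q, r, e, f, l, hK⟩ :
      ∃ p q r e f l : F, K = !![0, p, e; 1, q, f; 0, r, l] :=
    ⟨K 0 1, K 1 1, K 2 1, K 0 2, K 1 2, K 2 2, by
      ext i j; fin_cases i <;> fin_cases j <;> simp [hK0]⟩
  suffices h : ∃ P : Matrix (Fin 3) (Fin 3) F, P.det ≠ 0 ∧
      ((∃ c1 c2, K * P = P * C c1 c2) ∨ ∃ l : F, l ≠ 0 ∧ K * P = P * N l) by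
    obtain ⟨P, hP, h⟩ := h
    refine ⟨P₀ * P, by rw [Matrix.det_mul]; exact mul_ne_zero hw hP, ?_⟩
    rcases h with ⟨c1, c2, h⟩ | ⟨l, hl, h⟩
    · exact Or.inl ⟨c1, c2, by rw [← mul_assoc A, hAP, mul_assoc P₀ K, h, ← mul_assoc]⟩
    · exact Or.inr ⟨l, hl, by rw [← mul_assoc A, hAP, mul_assoc P₀ K, h, ← mul_assoc]⟩
  clear_value K
  subst hK
  have cyc : ∀ (u : Fin 3 → F),
      (Matrix.of fun i j => ![u, !![0, p, e; 1, q, f; 0, r, l] *ᵥ u,
        !![0, p, e; 1, q, f; 0, r, l] *ᵥ (!![0, p, e; 1, q, f; 0, r, l] *ᵥ u)] j i).det ≠ 0 →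
      ∃ P : Matrix (Fin 3) (Fin 3) F, P.det ≠ 0 ∧
      ((∃ c1 c2, !![0, p, e; 1, q, f; 0, r, l] * P = P * C c1 c2) ∨
        ∃ m : F, m ≠ 0 ∧ !![0, p, e; 1, q, f; 0, r, l] * P = P * N m) := by
    intro u hu
    obtain ⟨P, hP, h⟩ := cyclic_of_det _ hKdet u hu
    exact ⟨P, hP, Or.inl h⟩
  by_cases hr : r = 0
  swap
  · apply cyc ![1, 0, 0]
    simpa [Matrix.det_fin_three, Matrix.mulVec, dotProduct, Fin.sum_univ_three] using hr
  subst hr
  by_cases he : e + l * f = 0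
  swap
  · apply cyc ![-f, 0, 1]
    have : (e + l * f) ^ 2 ≠ 0 := pow_ne_zero 2 he
    convert this using 1
    simp [Matrix.det_fin_three, Matrix.mulVec, dotProduct, Fin.sum_univ_three]
    ring
  obtain rfl : e = -(l * f) := eq_neg_of_add_eq_zero_left he
  have hd : -(p * l) = 1 := by
    simpa [Matrix.det_fin_three] using hKdet
  have hl : l ≠ 0 := by
    rintro rfl; simp at hd
  -- change the third basis vector
  by_cases hq : l ^ 2 - q * l - p = 0
  · refine ⟨!![1, 0, -f; 0, 1, 0; 0, 0, 1], by simp [Matrix.det_fin_three], Or.inr ⟨l, hl, ?_⟩⟩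
    have hp : p = -(l * (l ^ 2)⁻¹) := by
      field_simp
      linear_combination -hd
    have hq' : q = l + (l ^ 2)⁻¹ := by
      field_simp
      linear_combination (-l) * hq + hd
    ext i j
    fin_cases i <;> fin_cases j <;> simp [N, Matrix.mul_apply, Fin.sum_univ_three, ← hp, ← hq'] <;>
      ring
  · obtain ⟨P, hP, h⟩ := cyclic_of_det _ hKdet ![1 - f, 0, 1] (by
      convert hq using 1
      simp [Matrix.det_fin_three, Matrix.mulVec, dotProduct, Fin.sum_univ_three]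
      ring)
    exact ⟨P, hP, Or.inl h⟩

/-- A lower triangular matrix with distinct diagonal is similar to its diagonal. -/
theorem lower_similar {a c b : F} (l1 l2 l3 : F) (h1 : a ≠ c) (h2 : a ≠ b) (h3 : c ≠ b) :
    ∃ P : Matrix (Fin 3) (Fin 3) F, P.det ≠ 0 ∧
      !![a, 0, 0; l1, c, 0; l2, l3, b] * P = P * Matrix.diagonal ![a, c, b] := by
  have h1' := sub_ne_zero.2 h1
  have h2' := sub_ne_zero.2 h2
  have h3' := sub_ne_zero.2 h3
  refine ⟨!![1, 0, 0; l1 / (a - c), 1, 0; (l2 + l3 * (l1 / (a - c))) / (a - b), l3 / (c - b), 1],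
    by simp [Matrix.det_fin_three], ?_⟩
  ext i j
  fin_cases i <;> fin_cases j <;>
    simp [Matrix.mul_apply, Fin.sum_univ_three] <;> field_simp <;> ring

/-- An upper triangular matrix with distinct diagonal is similar to its diagonal. -/
theorem upper_similar {a c b : F} (u1 u2 u3 : F) (h1 : a ≠ c) (h2 : a ≠ b) (h3 : c ≠ b) :
    ∃ P : Matrix (Fin 3) (Fin 3) F, P.det ≠ 0 ∧
      !![a, u1, u2; 0, c, u3; 0, 0, b] * P = P * Matrix.diagonal ![a, c, b] := by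
  have h1' := sub_ne_zero.2 h1.symm
  have h2' := sub_ne_zero.2 h2.symm
  have h3' := sub_ne_zero.2 h3.symm
  refine ⟨!![1, u1 / (c - a), (u2 + u1 * (u3 / (b - c))) / (b - a); 0, 1, u3 / (b - c); 0, 0, 1],
    by simp [Matrix.det_fin_three], ?_⟩
  ext i j
  fin_cases i <;> fin_cases j <;>
    simp [Matrix.mul_apply, Fin.sum_univ_three] <;> field_simp <;> ring

theorem good_mul {X L U P Q : Matrix (Fin 3) (Fin 3) F} (hP : P.det ≠ 0) (hQ : Q.det ≠ 0)
    (hL : L * P = P * X) (hU : U * Q = Q * X) : Good X (L * U) := by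
  obtain ⟨p1, -⟩ := mul_inv_of_det hP
  obtain ⟨q1, -⟩ := mul_inv_of_det hQ
  refine ⟨P, P⁻¹, Q, Q⁻¹, p1, q1, ?_⟩
  rw [← hL, ← hU, mul_assoc L, p1, mul_one, mul_assoc U, q1, mul_one]

theorem good_lu {a b : F} (l1 l2 l3 u1 u2 u3 : F) (h1 : a ≠ 1) (h2 : a ≠ b) (h3 : 1 ≠ b) :
    Good (Matrix.diagonal ![a, 1, b])
      (!![a, 0, 0; l1, 1, 0; l2, l3, b] * !![a, u1, u2; 0, 1, u3; 0, 0, b]) := by
  obtain ⟨P, hP, hL⟩ := lower_similar l1 l2 l3 h1 h2 h3
  obtain ⟨Q, hQ, hU⟩ := upper_similar u1 u2 u3 h1 h2 h3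
  exact good_mul hP hQ hL hU

section Large

variable {a b : F} (hab : a * b = 1) (h1 : a ≠ 1) (h2 : a ≠ b) (h3 : 1 ≠ b)

include hab h1 h2 h3

theorem good_companion (c1 c2 : F) : Good (Matrix.diagonal ![a, 1, b]) (C c1 c2) := by
  set w := c2 - a ^ 2 - 1 with hw
  set z := w - b ^ 2 with hz
  set y := a ^ 2 * w + a ^ 2 + w - z + c1 with hy
  have ha : a ≠ 0 := left_ne_zero_of_mul_eq_one hab
  have hb : b = a⁻¹ := eq_inv_of_mul_eq_one_right hab
  set M := !![a, 0, 0; 1, 1, 0; 0, 1, b] * !![a, 0, y; 0, 1, z; 0, 0, b]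
  have hM : M = !![a ^ 2, 0, a * y; a, 1, y + z; 0, 1, w] := by
    ext i j
    fin_cases i <;> fin_cases j <;>
      simp [M, hz, Matrix.mul_apply, Fin.sum_univ_three, sq]
  set R : Matrix (Fin 3) (Fin 3) F := !![1, a ^ 2, a ^ 4; 0, a, a ^ 3 + a; 0, 0, a]
  have hR : R.det ≠ 0 := by simp [R, Matrix.det_fin_three, ha]
  have hMR : M * R = R * C c1 c2 := by
    rw [hM]
    ext i j
    fin_cases i <;> fin_cases j <;>
      simp [R, C, Matrix.mul_apply, Fin.sum_univ_three, hy, hz, hw, hb] <;> field_simp <;> ring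
  obtain ⟨r1, r2⟩ := mul_inv_of_det hR
  refine good_of_similar (P := R⁻¹) ?_ ?_ (good_lu (b := b) _ _ _ _ _ _ h1 h2 h3 :
    Good (Matrix.diagonal ![a, 1, b]) M)
  · exact fun h => by simpa [h] using congrArg Matrix.det r1
  · calc C c1 c2 * R⁻¹ = R⁻¹ * (R * C c1 c2) * R⁻¹ := by rw [← mul_assoc R⁻¹, r2, one_mul]
      _ = R⁻¹ * M := by rw [← hMR, mul_assoc, mul_assoc M, r1, mul_one]

theorem good_noncyclic (l : F) (hl : l ≠ 0) : Good (Matrix.diagonal ![a, 1, b]) (N l) := by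
  set m := (l ^ 2)⁻¹ with hm
  set d1 := a ^ 2 - l with hd1
  set d2 := a ^ 2 / l - a ^ 2 with hd2
  set d3 := m - l - d1 - d2 with hd3
  have ha : a ≠ 0 := left_ne_zero_of_mul_eq_one hab
  have hb : b = a⁻¹ := eq_inv_of_mul_eq_one_right hab
  set M := !![a, 0, 0; d1 * b, 1, 0; d1 * b, d2 - d1 * d2 * b ^ 2, b] *
    !![a, d2 * b, d3 * b; 0, 1, d3 - d1 * d3 * b ^ 2; 0, 0, b]
  have hM : M = !![l + d1, d2, d3; d1, l + d2, d3; d1, d2, l + d3] := by
    ext i j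
    fin_cases i <;> fin_cases j <;>
      simp [M, hm, hd1, hd2, hd3, hb, Matrix.mul_apply, Fin.sum_univ_three] <;> field_simp <;> ring
  obtain ⟨R, hR, hMR⟩ : ∃ R : Matrix (Fin 3) (Fin 3) F, R.det ≠ 0 ∧ M * R = R * N l := by
    rw [hM]
    by_cases hd : d1 = 0
    · have hd2' : d2 ≠ 0 := by
        have e : a ^ 2 = l := sub_eq_zero.1 hd
        rw [hd2, e, div_self hl]
        intro h
        apply h2
        have : a * a = a * b := by rw [hab, ← sq, e]; linear_combination -h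
        exact mul_left_cancel₀ ha this
      have hd3' : d3 = m - l - d2 := by rw [hd3, hd, sub_zero]
      refine ⟨!![0, d2, 1; 1, l + d2, 0; 0, d2, 0], by simp [Matrix.det_fin_three, hd2'], ?_⟩
      ext i j
      fin_cases i <;> fin_cases j <;>
        simp [N, ← hm, hd, hd3', Matrix.mul_apply, Fin.sum_univ_three] <;> ring
    · refine ⟨!![1, l + d1, -d2 / d1; 0, d1, 1; 0, d1, 0], by simp [Matrix.det_fin_three, hd], ?_⟩
      ext i j
      fin_cases i <;> fin_cases j <;>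
        simp [N, ← hm, hd3, Matrix.mul_apply, Fin.sum_univ_three] <;> field_simp <;> ring
  obtain ⟨r1, r2⟩ := mul_inv_of_det hR
  refine good_of_similar (P := R⁻¹) ?_ ?_ (good_lu (b := b) _ _ _ _ _ _ h1 h2 h3 :
    Good (Matrix.diagonal ![a, 1, b]) M)
  · exact fun h => by simpa [h] using congrArg Matrix.det r1
  · calc N l * R⁻¹ = R⁻¹ * (R * N l) * R⁻¹ := by rw [← mul_assoc R⁻¹, r2, one_mul]
      _ = R⁻¹ * M := by rw [← hMR, mul_assoc, mul_assoc M, r1, mul_one]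

end Large

/-- The element of order `8` used over the field with three elements. -/
def X3 : Matrix (Fin 3) (Fin 3) F := !![0, 0, 1; 0, 1, 1; 2, 1, 0]

theorem good3_companion : ∀ c1 c2 : ZMod 3, ∃ U U' V V' : Matrix (Fin 3) (Fin 3) (ZMod 3),
    U * U' = 1 ∧ V * V' = 1 ∧ C c1 c2 = U * X3 * U' * (V * X3 * V') := by
  intro c1 c2
  fin_cases c1 <;> fin_cases c2
  · exact ⟨!![0, 0, 1; 0, 1, 0; 2, 0, 1], !![1, 0, 2; 0, 1, 0; 1, 0, 0],
      !![0, 0, 1; 1, 0, 2; 0, 1, 2], !![1, 1, 0; 1, 0, 1; 1, 0, 0], by decide⟩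
  · exact ⟨!![0, 0, 1; 0, 2, 0; 1, 1, 1], !![2, 1, 1; 0, 2, 0; 1, 0, 0],
      !![0, 1, 2; 1, 2, 2; 1, 1, 2], !![2, 0, 1; 0, 1, 2; 2, 1, 2], by decide⟩
  · exact ⟨!![0, 0, 1; 0, 2, 0; 1, 0, 0], !![0, 0, 1; 0, 2, 0; 1, 0, 0],
      !![0, 0, 2; 2, 0, 2; 1, 1, 2], !![1, 2, 0; 1, 1, 1; 2, 0, 0], by decide⟩
  · exact ⟨!![0, 0, 1; 0, 1, 0; 2, 0, 2], !![2, 0, 2; 0, 1, 0; 1, 0, 0],
      !![0, 0, 2; 1, 1, 0; 1, 0, 0], !![0, 0, 1; 0, 1, 2; 2, 0, 0], by decide⟩
  · exact ⟨!![0, 0, 1; 0, 1, 0; 2, 0, 1], !![1, 0, 2; 0, 1, 0; 1, 0, 0],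
      !![0, 0, 2; 2, 1, 0; 1, 0, 1], !![1, 0, 1; 1, 1, 1; 2, 0, 0], by decide⟩
  · exact ⟨!![0, 0, 1; 0, 1, 0; 2, 2, 2], !![2, 2, 2; 0, 1, 0; 1, 0, 0],
      !![0, 1, 2; 1, 0, 0; 1, 2, 0], !![0, 1, 0; 0, 1, 2; 2, 1, 2], by decide⟩
  · exact ⟨!![0, 0, 1; 0, 1, 1; 2, 1, 1], !![0, 1, 2; 2, 1, 0; 1, 0, 0],
      !![0, 0, 1; 1, 1, 0; 0, 1, 1], !![1, 1, 2; 2, 0, 1; 1, 0, 0], by decide⟩
  · exact ⟨!![0, 0, 1; 0, 1, 1; 2, 2, 1], !![2, 2, 2; 2, 1, 0; 1, 0, 0],
      !![0, 1, 2; 0, 1, 1; 2, 1, 2], !![1, 0, 2; 2, 2, 0; 1, 2, 0], by decide⟩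
  · exact ⟨!![0, 0, 1; 0, 1, 0; 2, 0, 0], !![0, 0, 2; 0, 1, 0; 1, 0, 0],
      !![0, 1, 2; 1, 2, 0; 2, 2, 1], !![2, 0, 2; 2, 2, 2; 1, 2, 2], by decide⟩

theorem good3_noncyclic : ∀ l : ZMod 3, l ≠ 0 → ∃ U U' V V' : Matrix (Fin 3) (Fin 3) (ZMod 3),
    U * U' = 1 ∧ V * V' = 1 ∧
      !![0, -l, 0; 1, l + 1, 0; 0, 0, l] = U * X3 * U' * (V * X3 * V') := by
  intro l hl
  fin_cases l
  · exact absurd rfl hl
  · exact ⟨!![0, 0, 1; 0, 1, 0; 2, 0, 0], !![0, 0, 2; 0, 1, 0; 1, 0, 0],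
      !![0, 1, 2; 1, 1, 2; 2, 0, 2], !![2, 1, 0; 2, 2, 2; 1, 2, 2], by decide⟩
  · exact ⟨!![0, 0, 1; 0, 1, 0; 2, 0, 2], !![2, 0, 2; 0, 1, 0; 1, 0, 0],
      !![0, 0, 1; 1, 0, 2; 0, 1, 2], !![1, 1, 0; 1, 0, 1; 1, 0, 0], by decide⟩

theorem good_map {K : Type*} [Field K] (f : F →+* K) {X A : Matrix (Fin 3) (Fin 3) F}
    (h : ∃ U U' V V' : Matrix (Fin 3) (Fin 3) F,
      U * U' = 1 ∧ V * V' = 1 ∧ A = U * X * U' * (V * X * V')) :
    Good (X.map f) (A.map f) := by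
  obtain ⟨U, U', V, V', hU, hV, rfl⟩ := h
  refine ⟨U.map f, U'.map f, V.map f, V'.map f, ?_, ?_, ?_⟩
  · rw [← Matrix.map_mul, hU, Matrix.map_one f (map_zero f) (map_one f)]
  · rw [← Matrix.map_mul, hV, Matrix.map_one f (map_zero f) (map_one f)]
  · simp [Matrix.map_mul]

theorem exists_good [Fintype F] (p : ℕ) [Fact p.Prime] [CharP F p] (h3 : 3 ≤ Fintype.card F) :
    ∃ X : Matrix (Fin 3) (Fin 3) F, ∃ n : ℕ, X.det = 1 ∧ X ^ n = 1 ∧ ¬ p ∣ n ∧
      (∀ d : F, d ≠ 0 → ∃ D : Matrix (Fin 3) (Fin 3) F, D.det = d ∧ D * X = X * D) ∧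
      ∀ A : Matrix (Fin 3) (Fin 3) F, A.det = 1 → (¬ ∃ c : F, A = Matrix.scalar (Fin 3) c) →
        Good X A := by
  classical
  obtain ⟨k, hp, hk⟩ := FiniteField.card F p
  by_cases h4 : 4 ≤ Fintype.card F
  · obtain ⟨a, -, ha⟩ := Finset.exists_mem_notMem_of_card_lt_card
      (s := ({0, 1, -1} : Finset F)) (t := Finset.univ)
      (lt_of_le_of_lt Finset.card_le_three (by rw [Finset.card_univ]; omega))
    simp only [Finset.mem_insert, Finset.mem_singleton, not_or] at ha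
    obtain ⟨ha0, ha1, ha2⟩ := ha
    set b := a⁻¹ with hb
    have hab : a * b = 1 := mul_inv_cancel₀ ha0
    have h2 : a ≠ b := by
      intro h
      rw [← h] at hab
      rcases mul_self_eq_one_iff.1 hab with h | h
      · exact ha1 h
      · exact ha2 h
    have h3' : 1 ≠ b := by
      intro h; rw [hb, eq_comm, inv_eq_one] at h; exact ha1 h
    refine ⟨Matrix.diagonal ![a, 1, b], Fintype.card F - 1, ?_, ?_, ?_, ?_, ?_⟩
    · simp [Matrix.det_diagonal, Fin.prod_univ_three, hab]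
    · rw [Matrix.diagonal_pow, ← Matrix.diagonal_one]
      congr 1
      funext i
      fin_cases i <;> simp [FiniteField.pow_card_sub_one_eq_one a ha0, hb]
    · intro hd
      have hpq : p ∣ Fintype.card F := hk ▸ dvd_pow_self p k.ne_zero
      have := Nat.dvd_sub hpq hd
      rw [show Fintype.card F - (Fintype.card F - 1) = 1 by omega] at this
      exact hp.ne_one (Nat.dvd_one.1 this)
    · intro d _
      refine ⟨Matrix.diagonal ![d, 1, 1], by simp [Matrix.det_diagonal, Fin.prod_univ_three], ?_⟩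
      rw [Matrix.diagonal_mul_diagonal, Matrix.diagonal_mul_diagonal]
      simp only [mul_comm]
    · intro A hA hns
      obtain ⟨P, hP, ⟨c1, c2, h⟩ | ⟨l, hl, h⟩⟩ := exists_normal_form A hA hns
      · exact good_of_similar hP h (good_companion hab ha1 h2 h3' c1 c2)
      · exact good_of_similar hP h (good_noncyclic hab ha1 h2 h3' l hl)
  · have hc : Fintype.card F = 3 := by omega
    let e : ZMod 3 ≃+* F := ZMod.ringEquivOfPrime F Nat.prime_three hc
    have hp3 : p = 3 := by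
      have : p ∣ 3 := hc ▸ hk ▸ dvd_pow_self p k.ne_zero
      exact (Nat.prime_dvd_prime_iff_eq hp Nat.prime_three).1 this
    have hX : (X3 : Matrix (Fin 3) (Fin 3) (ZMod 3)).map e.toRingHom =
        (X3 : Matrix (Fin 3) (Fin 3) F) := by
      ext i j; fin_cases i <;> fin_cases j <;> simp [X3, map_ofNat]
    refine ⟨X3, 8, ?_, ?_, by rw [hp3]; norm_num, ?_, ?_⟩
    · rw [← hX, ← RingHom.mapMatrix_apply, ← RingHom.map_det,
        show (X3 : Matrix (Fin 3) (Fin 3) (ZMod 3)).det = 1 by decide, map_one]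
    · rw [← hX, ← RingHom.mapMatrix_apply, ← map_pow,
        show (X3 : Matrix (Fin 3) (Fin 3) (ZMod 3)) ^ 8 = 1 by decide, map_one]
    · intro d hd
      refine ⟨Matrix.scalar (Fin 3) d, ?_, Matrix.scalar_commute _ (fun x => Commute.all _ x) _⟩
      have : ∀ d : ZMod 3, d ≠ 0 → d ^ 3 = d := by decide
      have h := congrArg e (this (e.symm d) (by simpa using hd))
      rw [map_pow, e.apply_symm_apply] at h
      simpa [Matrix.scalar_apply, Matrix.det_diagonal, Fin.prod_univ_three, pow_succ] using h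
    · intro A hA hns
      obtain ⟨P, hP, ⟨c1, c2, h⟩ | ⟨l, hl, h⟩⟩ := exists_normal_form A hA hns
      · refine good_of_similar hP h ?_
        have := good_map e.toRingHom (good3_companion (e.symm c1) (e.symm c2))
        rw [hX] at this
        convert this using 1
        ext i j
        fin_cases i <;> fin_cases j <;> simp [C]
      · refine good_of_similar hP h ?_
        have := good_map e.toRingHom (good3_noncyclic (e.symm l) (by simpa using hl))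
        rw [hX] at this
        have hl2 : l ^ 2 = 1 := by
          have := FiniteField.pow_card_sub_one_eq_one l hl
          rwa [hc] at this
        convert this using 1
        ext i j
        fin_cases i <;> fin_cases j <;> simp [N, hl2]

end Cfsg.Agent.Lib.SLThreeCover
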