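import Mathlib
import Cfsg.Agent.Lib.Similar.UFam

/-!
Numerical bounds for the weighted count of fixed families.
-/

set_option autoImplicit false

namespace Cfsg.Agent.Lib.FamCount

open Cfsg.Agent.Lib.Classical (two_le_q)

variable {F : Type*} [Field F] [Fintype F] [DecidableEq F] {q : ℕ} (hF : Fintype.card F = q ^ 2)

/-- Cumulative count. -/
noncomputable def PU (b N : ℕ) : ℕ := ∑ m ∈ Finset.range (N + 1), U hF b m * q ^ (N - m)

/-- Cumulative splitting count. -/
noncomputable def MU (b N : ℕ) : ℕ := ∑ m ∈ Finset.range (N + 1), LU hF b m * q ^ (N - m)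

theorem MU_of_lt {b N : ℕ} (h : N < b) : MU hF b N = 0 :=
  Finset.sum_eq_zero fun m hm => by
    rw [Finset.mem_range] at hm
    rw [LU_of_lt hF (show m < b by omega), zero_mul]

theorem MU_rec {b : ℕ} (hb : 1 ≤ b) (l : ℕ) : MU hF b (l + b) = PU hF (b + 1) l + q * MU hF b l := by
  rw [MU, show l + b + 1 = b + (l + 1) by omega, Finset.sum_range_add, Finset.sum_eq_zero, zero_add, PU, MU, Finset.mul_sum,
    ← Finset.sum_add_distrib]
  · refine Finset.sum_congr rfl fun j _ => ?_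
    rw [LU_rec hF hb (by omega), show b + j - b = j by omega, show l + b - (b + j) = l - j by omega]
    ring
  · intro m hm
    rw [Finset.mem_range] at hm
    rw [LU_of_lt hF hm, zero_mul]

theorem PU_rec {b : ℕ} (hb : 1 ≤ b) (N : ℕ) : PU hF b N ≤ PU hF (b + 1) N + (q + 1) * MU hF b N := by
  rw [PU, PU, MU, Finset.mul_sum, ← Finset.sum_add_distrib]
  refine Finset.sum_le_sum fun m _ => ?_
  rw [← mul_assoc, ← add_mul]
  exact Nat.mul_le_mul_right _ (U_rec hF hb)

theorem MU_bound {b D c : ℕ} (hb : 2 ≤ b) (h : ∀ N, D * PU hF (b + 1) N ≤ c * q ^ N) (N : ℕ) :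
    D * MU hF b N * (q ^ b - q) ≤ c * q ^ N := by
  induction N using Nat.strong_induction_on with
  | _ N ih =>
  rcases Nat.lt_or_ge N b with hN | hN
  · rw [MU_of_lt hF hN]; simp
  obtain ⟨l, rfl⟩ : ∃ l, N = l + b := ⟨N - b, by omega⟩
  rw [MU_rec hF (by omega)]
  have hq := two_le_q hF
  have hle : q ≤ q ^ b := Nat.le_self_pow (by omega) q
  calc D * (PU hF (b + 1) l + q * MU hF b l) * (q ^ b - q)
      = (D * PU hF (b + 1) l) * (q ^ b - q) + q * (D * MU hF b l * (q ^ b - q)) := by ring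
    _ ≤ c * q ^ l * (q ^ b - q) + q * (c * q ^ l) :=
        add_le_add (Nat.mul_le_mul_right _ (h l)) (Nat.mul_le_mul_left _ (ih l (by omega)))
    _ = c * q ^ (l + b) := by
        rw [pow_add, mul_comm q, ← mul_add, Nat.sub_add_cancel hle, mul_assoc]

theorem mono_factor {b : ℕ} (hq : 2 ≤ q) (hb : 2 ≤ b) : 2 * (2 ^ (b - 1) - 1) * (q + 1) ≤ 3 * (q ^ b - q) := by
  obtain ⟨k, rfl⟩ : ∃ k, b = k + 1 := ⟨b - 1, by omega⟩
  rw [Nat.add_sub_cancel, pow_succ', show q * q ^ k - q = q * (q ^ k - 1) by rw [Nat.mul_sub, mul_one], ← mul_assoc,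
    mul_right_comm]
  exact Nat.mul_le_mul (by omega) (Nat.sub_le_sub_right (Nat.pow_le_pow_left hq k) 1)

theorem PU_step {b D c : ℕ} (hb : 2 ≤ b) (h : ∀ N, D * PU hF (b + 1) N ≤ c * q ^ N) (N : ℕ) :
    2 * (2 ^ (b - 1) - 1) * D * PU hF b N ≤ (2 * (2 ^ (b - 1) - 1) + 3) * c * q ^ N := by
  have h1 := MU_bound hF hb h N
  have h2 := mono_factor (q := q) (two_le_q hF) hb
  calc 2 * (2 ^ (b - 1) - 1) * D * PU hF b N
      ≤ 2 * (2 ^ (b - 1) - 1) * D * (PU hF (b + 1) N + (q + 1) * MU hF b N) :=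
        Nat.mul_le_mul_left _ (PU_rec hF (by omega) N)
    _ = 2 * (2 ^ (b - 1) - 1) * (D * PU hF (b + 1) N) + (D * MU hF b N) * (2 * (2 ^ (b - 1) - 1) * (q + 1)) := by ring
    _ ≤ 2 * (2 ^ (b - 1) - 1) * (c * q ^ N) + (D * MU hF b N) * (3 * (q ^ b - q)) :=
        add_le_add (Nat.mul_le_mul_left _ (h N)) (Nat.mul_le_mul_left _ h2)
    _ = 2 * (2 ^ (b - 1) - 1) * (c * q ^ N) + 3 * (D * MU hF b N * (q ^ b - q)) := by ring
    _ ≤ 2 * (2 ^ (b - 1) - 1) * (c * q ^ N) + 3 * (c * q ^ N) := add_le_add le_rfl (Nat.mul_le_mul_left _ h1)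
    _ = (2 * (2 ^ (b - 1) - 1) + 3) * c * q ^ N := by ring

theorem PU_tail : ∀ (k b : ℕ), 5 ≤ b → ∀ N, N < b + k → 2 ^ (b - 1) * PU hF b N ≤ (2 ^ (b - 1) + 4) * q ^ N := by
  intro k
  induction k with
  | zero =>
    intro b _ N hN
    refine Nat.mul_le_mul (Nat.le_add_right _ _) ?_
    rw [PU, Finset.sum_range_succ', Finset.sum_eq_zero, zero_add, Nat.sub_zero]
    · exact le_trans (Nat.mul_le_mul_right _ (U_zero_le hF b)) (le_of_eq (one_mul _))
    · intro m hm
      rw [Finset.mem_range] at hm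
      rw [U_of_lt hF (by omega) (by omega), zero_mul]
  | succ k ih =>
    intro b hb N hN
    have hh : 16 ≤ 2 ^ (b - 1) := le_trans (show 16 ≤ 2 ^ 4 by norm_num) (Nat.pow_le_pow_right (by omega) (by omega))
    have e : 2 ^ (b + 1 - 1) = 2 * 2 ^ (b - 1) := by rw [← pow_succ']; congr 1; omega
    have key : ∀ M, M ≤ N → (2 * 2 ^ (b - 1)) * PU hF (b + 1) M ≤ (2 * 2 ^ (b - 1) + 4) * q ^ M := fun M hM => by
      rw [← e]; exact ih (b + 1) (by omega) M (by omega)
    -- the step only uses arguments up to `N`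
    have h1 : 2 * 2 ^ (b - 1) * MU hF b N * (q ^ b - q) ≤ (2 * 2 ^ (b - 1) + 4) * q ^ N := by
      clear hN
      induction N using Nat.strong_induction_on with
      | _ N ihN =>
      rcases Nat.lt_or_ge N b with hN | hN
      · rw [MU_of_lt hF hN]; simp
      obtain ⟨l, rfl⟩ : ∃ l, N = l + b := ⟨N - b, by omega⟩
      rw [MU_rec hF (by omega)]
      have hle : q ≤ q ^ b := Nat.le_self_pow (by omega) q
      calc 2 * 2 ^ (b - 1) * (PU hF (b + 1) l + q * MU hF b l) * (q ^ b - q)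
          = (2 * 2 ^ (b - 1) * PU hF (b + 1) l) * (q ^ b - q) + q * (2 * 2 ^ (b - 1) * MU hF b l * (q ^ b - q)) := by ring
        _ ≤ (2 * 2 ^ (b - 1) + 4) * q ^ l * (q ^ b - q) + q * ((2 * 2 ^ (b - 1) + 4) * q ^ l) :=
            add_le_add (Nat.mul_le_mul_right _ (key l (by omega)))
              (Nat.mul_le_mul_left _ (ihN l (by omega) fun M hM => key M (by omega)))
        _ = (2 * 2 ^ (b - 1) + 4) * q ^ (l + b) := by
            rw [pow_add, mul_comm q, ← mul_add, Nat.sub_add_cancel hle, mul_assoc]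
    have h2 := mono_factor (q := q) (two_le_q hF) (show 2 ≤ b by omega)
    have h3 := PU_rec hF (show 1 ≤ b by omega) N
    obtain ⟨h, hhd⟩ : ∃ h, 2 ^ (b - 1) = h + 1 := ⟨2 ^ (b - 1) - 1, by omega⟩
    rw [hhd] at hh h1 h2 key ⊢
    rw [Nat.add_sub_cancel] at h2
    refine Nat.le_of_mul_le_mul_left (?_ : 4 * h * _ ≤ 4 * h * _) (by omega)
    have k1 := key N le_rfl
    have k2 := Nat.mul_le_mul_left (2 * (h + 1) * MU hF b N) h2
    have k3 : (2 * h + 3) * (2 * (h + 1) + 4) ≤ 4 * h * (h + 1 + 4) := by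
      have := Nat.mul_le_mul hh (le_refl h)
      nlinarith
    have k4 := Nat.mul_le_mul_right (q ^ N) k3
    have k5 := Nat.mul_le_mul_left (4 * h * (h + 1)) h3
    have k6 := Nat.mul_le_mul_left (2 * h) k1
    nlinarith

theorem PU_two (N : ℕ) : 672 * PU hF 2 N ≤ 3825 * q ^ N := by
  have h5 : ∀ N, 4 * PU hF 5 N ≤ 5 * q ^ N := fun N => by
    have h : 16 * PU hF 5 N ≤ 20 * q ^ N := PU_tail hF (N + 1) 5 le_rfl N (by omega)
    omega
  have h4 : ∀ N, 56 * PU hF 4 N ≤ 85 * q ^ N := fun N => by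
    have h : 2 * (8 - 1) * 4 * PU hF 4 N ≤ (2 * (8 - 1) + 3) * 5 * q ^ N := PU_step hF (b := 4) (by omega) h5 N
    norm_num at h ⊢
    exact h
  have h3 : ∀ N, 336 * PU hF 3 N ≤ 765 * q ^ N := fun N => by
    have h : 2 * (4 - 1) * 56 * PU hF 3 N ≤ (2 * (4 - 1) + 3) * 85 * q ^ N := PU_step hF (b := 3) (by omega) h4 N
    norm_num at h ⊢
    exact h
  have h : 2 * (2 - 1) * 336 * PU hF 2 N ≤ (2 * (2 - 1) + 3) * 765 * q ^ N := PU_step hF (b := 2) (by omega) h3 N
  norm_num at h ⊢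
  exact h

theorem LU_one (N : ℕ) : LU hF 1 (N + 1) = PU hF 2 N := by
  induction N with
  | zero =>
    rw [LU_rec hF le_rfl le_rfl, Nat.sub_self, LU_of_lt hF (by omega), mul_zero, add_zero, PU]
    simp
  | succ N ih =>
    rw [LU_rec hF le_rfl (by omega), Nat.add_sub_cancel, ih, PU, PU, Finset.sum_range_succ (n := N + 1),
      Nat.sub_self, pow_zero, mul_one, add_comm, Finset.mul_sum]
    refine congrArg (· + _) (Finset.sum_congr rfl fun m hm => ?_)
    rw [Finset.mem_range] at hm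
    rw [show N + 1 - m = (N - m) + 1 by omega, pow_succ]
    ring

theorem LU_one_bound {n : ℕ} (hn : 1 ≤ n) : 672 * (LU hF 1 n * q) ≤ 3825 * q ^ n := by
  obtain ⟨N, rfl⟩ : ∃ N, n = N + 1 := ⟨n - 1, by omega⟩
  rw [LU_one, ← mul_assoc, pow_succ, ← mul_assoc]
  exact Nat.mul_le_mul_right _ (PU_two hF N)

theorem invariants : ∀ n : ℕ, (∀ b, 3 ≤ b → 1 ≤ n → U hF b n * q ^ b ≤ 2 * (q + 1) * q ^ n) ∧
    (∀ a, 3 ≤ a → LU hF a n * q ^ a ≤ q ^ n) := by
  intro n
  induction n using Nat.strong_induction_on with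
  | _ n ih =>
  have hq := two_le_q hF
  have hL : ∀ a, 3 ≤ a → LU hF a n * q ^ a ≤ q ^ n := by
    intro a ha
    rcases Nat.lt_or_ge n a with h | h
    · rw [LU_of_lt hF h]; simp
    obtain ⟨l, rfl⟩ : ∃ l, n = l + a := ⟨n - a, by omega⟩
    rw [LU_rec hF (by omega) (by omega), Nat.add_sub_cancel, pow_add]
    refine Nat.mul_le_mul_right _ ?_
    rcases Nat.eq_zero_or_pos l with rfl | hl
    · rw [LU_of_lt hF (by omega), mul_zero, add_zero, pow_zero]
      exact U_zero_le hF _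
    have h1 := (ih l (by omega)).1 (a + 1) (by omega) hl
    have h2 := (ih l (by omega)).2 a ha
    have h3 : 2 * (q + 1) + q * q ≤ q ^ (a + 1) := by
      refine le_trans ?_ (Nat.pow_le_pow_right (by omega) (show 4 ≤ a + 1 by omega))
      have := Nat.mul_le_mul hq hq
      have e : q ^ 4 = q * q * (q * q) := by ring
      rw [e]
      nlinarith
    refine Nat.le_of_mul_le_mul_right (?_ : _ * q ^ (a + 1) ≤ _ * q ^ (a + 1)) (pow_pos (by omega) _)
    have k1 := Nat.mul_le_mul_left (q * q) h2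
    have k2 := Nat.mul_le_mul_left (q ^ l) h3
    rw [pow_succ] at h1 k2 ⊢
    nlinarith
  refine ⟨?_, hL⟩
  intro b hb hn
  induction h : n + 1 - b generalizing b with
  | zero => rw [U_of_lt hF (by omega) hn]; simp
  | succ k ihk =>
    have h1 := ihk (b + 1) (by omega) (by omega)
    have h2 := hL b hb
    refine Nat.le_of_mul_le_mul_right (?_ : _ * q ≤ _ * q) (by omega)
    have h3 := Nat.mul_le_mul_right (q ^ b * q) (U_rec hF (n := n) (show 1 ≤ b by omega))
    rw [pow_succ] at h1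
    have k1 := Nat.mul_le_mul_left ((q + 1) * q) h2
    have k2 := Nat.mul_le_mul_left ((q + 1) * q ^ n) hq
    nlinarith

theorem LU_two_bound {e : ℕ} (he : 2 ≤ e) (h : 4 * (q + 1) + e * (q * q) ≤ e * (q * q * q)) (n : ℕ) :
    2 * (LU hF 2 n * (q * q)) ≤ e * q ^ n := by
  induction n using Nat.strong_induction_on with
  | _ n ih =>
  rcases Nat.lt_or_ge n 2 with hn | hn
  · rw [LU_of_lt hF hn]; simp
  obtain ⟨l, rfl⟩ : ∃ l, n = l + 2 := ⟨n - 2, by omega⟩
  rw [LU_rec hF (by omega) (by omega), Nat.add_sub_cancel, pow_succ, pow_succ]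
  rcases Nat.eq_zero_or_pos l with rfl | hl
  · rw [LU_of_lt hF (by omega), mul_zero, add_zero, pow_zero, one_mul]
    have h0 := Nat.mul_le_mul_right (q * q) (U_zero_le hF (2 + 1))
    have h0' := Nat.mul_le_mul_right (q * q) he
    simp only [zero_add, Nat.reduceAdd, pow_zero, one_mul] at h0 h0' ⊢
    nlinarith
  have h1 := (invariants hF l).1 3 (by omega) hl
  have h2 := ih l (by omega)
  refine Nat.le_of_mul_le_mul_right (?_ : _ * q ≤ _ * q) (by have := two_le_q hF; omega)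
  have k1 := Nat.mul_le_mul_left (q * q) h2
  have k2 := Nat.mul_le_mul_left (q ^ l) h
  rw [show q ^ 3 = q * q * q by ring] at h1
  nlinarith

theorem tail_geom {n k G c : ℕ} (hn : 1 ≤ n) (v : F) (hk : 3 ≤ k) (hG : ∀ a, Nat.gcd a (q + 1) * Nat.gcd a (q + 1) ≤ G)
    (hc : G * q + c ≤ c * q) : ∀ j a, n + 1 - a = j → k ≤ a → SvU hF a n v * q ^ a ≤ c * q ^ n := by
  intro j
  induction j with
  | zero => intro a ha _; rw [SvU_of_lt hF (by omega) hn]; simp
  | succ j ih =>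
    intro a ha hka
    have h1 := ih (a + 1) (by omega) (by omega)
    have h2 := (invariants hF n).2 a (by omega)
    have h3 := SvU_step hF (n := n) (show 1 ≤ a by omega) v
    have hq := two_le_q hF
    refine Nat.le_of_mul_le_mul_right (?_ : _ * q ≤ _ * q) (by omega)
    have k1 := Nat.mul_le_mul_right (q ^ a * q) h3
    have k2 := Nat.mul_le_mul (hG a) h2
    have k3 := Nat.mul_le_mul_right q k2
    have k4 := Nat.mul_le_mul_right (q ^ n) hc
    rw [pow_succ] at h1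
    nlinarith

theorem tail_sq (hq : 4 ≤ q) {n : ℕ} (hn : 1 ≤ n) (v : F) :
    ∀ j a, n + 1 - a = j → 3 ≤ a → SvU hF a n v * q ^ a ≤ 2 * (a * a) * q ^ n := by
  intro j
  induction j with
  | zero => intro a ha _; rw [SvU_of_lt hF (by omega) hn]; simp
  | succ j ih =>
    intro a ha hka
    have h1 := ih (a + 1) (by omega) (by omega)
    have h2 := (invariants hF n).2 a (by omega)
    have h3 := SvU_step hF (n := n) (show 1 ≤ a by omega) v
    have hg : Nat.gcd a (q + 1) ≤ a := Nat.gcd_le_left _ (by omega)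
    refine Nat.le_of_mul_le_mul_right (?_ : _ * q ≤ _ * q) (by omega)
    have k1 := Nat.mul_le_mul_right (q ^ a * q) h3
    have k2 := Nat.mul_le_mul (Nat.mul_le_mul hg hg) h2
    have k3 := Nat.mul_le_mul_right q k2
    have k4 : 2 * ((a + 1) * (a + 1)) ≤ q * (a * a) := le_trans (by nlinarith) (Nat.mul_le_mul_right _ hq)
    have k5 := Nat.mul_le_mul_right (q ^ n) k4
    rw [pow_succ] at h1
    nlinarith

theorem SvU_four (hq : 4 ≤ q) {n : ℕ} (hn : 1 ≤ n) (v : F) : 100 * (SvU hF 1 n v * q) ≤ 826 * q ^ n := by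
  have h1 := LU_one_bound hF hn
  have h2 := LU_two_bound hF (e := 2) le_rfl (by
    have := Nat.mul_le_mul hq hq
    have := Nat.mul_le_mul_right (q * q) hq
    nlinarith) n
  have h3 := tail_sq hF hq hn v _ 3 rfl le_rfl
  have s1 := SvU_step hF (n := n) (le_refl 1) v
  have s2 := SvU_step hF (n := n) (show 1 ≤ 2 by omega) v
  have g1 : Nat.gcd 1 (q + 1) = 1 := Nat.gcd_one_left _
  have g2 : Nat.gcd 2 (q + 1) ≤ 2 := Nat.gcd_le_left _ (by omega)
  rw [g1] at s1
  have hs : SvU hF 1 n v ≤ LU hF 1 n + 4 * LU hF 2 n + SvU hF 3 n v := by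
    have := Nat.mul_le_mul_right (LU hF 2 n) (Nat.mul_le_mul g2 g2)
    simp only [Nat.reduceAdd, Nat.reduceMul, one_mul] at *
    omega
  have k1 := Nat.mul_le_mul_right q hs
  have k2 : 4 * (LU hF 2 n * q) ≤ LU hF 2 n * (q * q) := by
    have := Nat.mul_le_mul_left (LU hF 2 n * q) hq
    nlinarith
  have k3 : 16 * (SvU hF 3 n v * q) ≤ 18 * q ^ n := by
    refine le_trans ?_ h3
    have e : q ^ 3 = q * q * q := by ring
    rw [e]
    have := Nat.mul_le_mul_left (SvU hF 3 n v * q) (Nat.mul_le_mul hq hq)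
    nlinarith
  nlinarith

theorem SvU_three (hq : q = 3) {n : ℕ} (hn : 1 ≤ n) (v : F) : 100 * (SvU hF 1 n v * q) ≤ 826 * q ^ n := by
  subst hq
  have h1 := LU_one_bound hF hn
  have h2 := LU_two_bound hF (e := 2) le_rfl (by norm_num) n
  have i3 := (invariants hF n).2 3 le_rfl
  have i4 := (invariants hF n).2 4 (by omega)
  have i5 := (invariants hF n).2 5 (by omega)
  have t6 := tail_geom hF (k := 6) (G := 16) (c := 24) hn v (by omega)
    (fun a => Nat.mul_le_mul (Nat.gcd_le_right _ (by omega)) (Nat.gcd_le_right _ (by omega))) (by norm_num) _ 6 rfl le_rfl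
  have s1 := SvU_step hF (n := n) (le_refl 1) v
  have s2 := SvU_step hF (n := n) (show 1 ≤ 2 by omega) v
  have s3 := SvU_step hF (n := n) (show 1 ≤ 3 by omega) v
  have s4 := SvU_step hF (n := n) (show 1 ≤ 4 by omega) v
  have s5 := SvU_step hF (n := n) (show 1 ≤ 5 by omega) v
  norm_num at h1 h2 i3 i4 i5 t6 s1 s2 s3 s4 s5 ⊢
  omega

/-- Upper bounds for the number of fixed families over the field with four elements. -/
def tbl (a n : ℕ) : ℕ :=
  ([[1, 0, 3, 3, 9, 12, 30, 39, 87], [1, 0, 0, 3, 3, 3, 9, 12, 18], [1, 0, 0, 0, 3, 3, 3, 3, 9], [1, 0, 0, 0, 0, 3, 3, 3, 3],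
    [1, 0, 0, 0, 0, 0, 3, 3, 3], [1, 0, 0, 0, 0, 0, 0, 3, 3], [1, 0, 0, 0, 0, 0, 0, 0, 3], [1, 0, 0, 0, 0, 0, 0, 0, 0]].getD (a - 2) []).getD n 0

/-- The splitting-off sum of the table. -/
def tblL (a n : ℕ) : ℕ :=
  ∑ e ∈ Finset.range n, if a * (e + 1) ≤ n then 2 ^ e * tbl (a + 1) (n - a * (e + 1)) else 0

theorem tbl_check : ∀ a < 9, 2 ≤ a → ∀ n < 9, tbl (a + 1) n + 3 * tblL a n ≤ tbl a n := by decide

theorem U_le_tbl (hq : q = 2) (a n : ℕ) (ha : 2 ≤ a) (ha9 : a ≤ 9) (hn : n < 9) : U hF a n ≤ tbl a n := by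
  subst hq
  induction h : 9 - a generalizing a n with
  | zero =>
    obtain rfl : a = 9 := by omega
    rcases Nat.eq_zero_or_pos n with rfl | hn1
    · exact U_zero_le hF 9
    · rw [U_of_lt hF (by omega) hn1]; exact Nat.zero_le _
  | succ k ih =>
    refine le_trans (U_rec hF (by omega)) (le_trans ?_ (tbl_check a (by omega) ha n hn))
    refine add_le_add (ih (a + 1) n (by omega) (by omega) hn (by omega)) (Nat.mul_le_mul_left _ ?_)
    refine Finset.sum_le_sum fun e _ => ?_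
    split_ifs with he
    · exact Nat.mul_le_mul_left _ (ih (a + 1) _ (by omega) (by omega) (by omega) (by omega))
    · exact le_rfl

theorem LU_le_tbl (hq : q = 2) (a n : ℕ) (ha : 1 ≤ a) (ha8 : a ≤ 8) (hn : n < 9) : LU hF a n ≤ tblL a n := by
  subst hq
  refine Finset.sum_le_sum fun e _ => ?_
  split_ifs with he
  · exact Nat.mul_le_mul_left _ (U_le_tbl hF rfl (a + 1) _ (by omega) (by omega) (by omega))
  · exact le_rfl

theorem small_check : ∀ n < 9, 1 ≤ n → 100 * (tblL 1 n + tblL 2 n + 9 * tblL 3 n + tblL 4 n + tblL 5 n + 9 * tblL 6 n +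
    tblL 7 n + tblL 8 n) * 2 ≤ 826 * 2 ^ n := by decide

theorem SvU_two (hq : q = 2) {n : ℕ} (hn : 1 ≤ n) (v : F) : 100 * (SvU hF 1 n v * q) ≤ 826 * q ^ n := by
  subst hq
  have s1 := SvU_step hF (n := n) (le_refl 1) v
  have s2 := SvU_step hF (n := n) (show 1 ≤ 2 by omega) v
  have s3 := SvU_step hF (n := n) (show 1 ≤ 3 by omega) v
  have s4 := SvU_step hF (n := n) (show 1 ≤ 4 by omega) v
  have s5 := SvU_step hF (n := n) (show 1 ≤ 5 by omega) v
  have s6 := SvU_step hF (n := n) (show 1 ≤ 6 by omega) v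
  have s7 := SvU_step hF (n := n) (show 1 ≤ 7 by omega) v
  have s8 := SvU_step hF (n := n) (show 1 ≤ 8 by omega) v
  norm_num at s1 s2 s3 s4 s5 s6 s7 s8
  rcases Nat.lt_or_ge n 9 with h9 | h9
  · have t9 := SvU_of_lt hF (show n < 9 from h9) hn v
    have b : ∀ a, 1 ≤ a → a ≤ 8 → LU hF a n ≤ tblL a n := fun a ha ha8 => LU_le_tbl hF rfl a n ha ha8 h9
    have := b 1 (by omega) (by omega); have := b 2 (by omega) (by omega); have := b 3 (by omega) (by omega)
    have := b 4 (by omega) (by omega); have := b 5 (by omega) (by omega); have := b 6 (by omega) (by omega)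
    have := b 7 (by omega) (by omega); have := b 8 (by omega) (by omega)
    have := small_check n h9 hn
    omega
  · obtain ⟨l, rfl⟩ : ∃ l, n = l + 9 := ⟨n - 9, by omega⟩
    have h1 := LU_one_bound hF hn
    have h2 := LU_two_bound hF (e := 3) (by omega) (by norm_num) (l + 9)
    have e3 := LU_rec hF (show 1 ≤ 3 by omega) (show 3 ≤ l + 9 by omega)
    have e6 := LU_rec hF (show 1 ≤ 3 by omega) (show 3 ≤ l + 6 by omega)
    rw [show l + 9 - 3 = l + 6 by omega] at e3
    rw [show l + 6 - 3 = l + 3 by omega] at e6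
    have u6 := (invariants hF (l + 6)).1 4 (by omega) (by omega)
    have u3 := (invariants hF (l + 3)).1 4 (by omega) (by omega)
    have l3 := (invariants hF (l + 3)).2 3 le_rfl
    have i4 := (invariants hF (l + 9)).2 4 (by omega)
    have i5 := (invariants hF (l + 9)).2 5 (by omega)
    have i6 := (invariants hF (l + 9)).2 6 (by omega)
    have i7 := (invariants hF (l + 9)).2 7 (by omega)
    have i8 := (invariants hF (l + 9)).2 8 (by omega)
    have t9 := tail_geom hF (k := 9) (G := 9) (c := 18) hn v (by omega)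
      (fun a => Nat.mul_le_mul (Nat.gcd_le_right _ (by omega)) (Nat.gcd_le_right _ (by omega))) (by norm_num) _ 9 rfl le_rfl
    simp only [pow_add] at h1 h2 u6 u3 l3 i4 i5 i6 i7 i8 t9 ⊢
    norm_num at h1 h2 e3 e6 u6 u3 l3 i4 i5 i6 i7 i8 t9 ⊢
    omega

theorem SvU_bound {n : ℕ} (hn : 1 ≤ n) (v : F) : 100 * SvU hF 1 n v ≤ 826 * q ^ (n - 1) := by
  have hq := two_le_q hF
  have h : 100 * (SvU hF 1 n v * q) ≤ 826 * q ^ n := by
    rcases (show q = 2 ∨ q = 3 ∨ 4 ≤ q by omega) with h | h | h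
    · exact SvU_two hF h hn v
    · exact SvU_three hF h hn v
    · exact SvU_four hF h hn v
  obtain ⟨N, rfl⟩ : ∃ N, n = N + 1 := ⟨n - 1, by omega⟩
  rw [pow_succ, ← mul_assoc, ← mul_assoc] at h
  exact Nat.le_of_mul_le_mul_right h (by omega)

end Cfsg.Agent.Lib.FamCount
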